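import Mathlib

set_option autoImplicit false

namespace Cfsg.Agent.Helper43

open Module QuadraticMap

section Basic

variable {F V : Type*} [Field F] [AddCommGroup V] [Module F V]

/-- The restriction of a quadratic form to a submodule. -/
def qrestrict (Q : QuadraticForm F V) (W : Submodule F V) : QuadraticForm F W := Q.comp W.subtype

@[simp] theorem qrestrict_apply (Q : QuadraticForm F V) (W : Submodule F V) (w : W) :
    qrestrict Q W w = Q (w : V) := rfl

theorem polar_qrestrict (Q : QuadraticForm F V) (W : Submodule F V) (x y : W) :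
    polar (qrestrict Q W) x y = polar Q (x : V) (y : V) := rfl

theorem polarBilin_isSymm (Q : QuadraticForm F V) :
    LinearMap.BilinForm.IsSymm (polarBilin Q) :=
  ⟨fun x y => by
    rw [polarBilin_apply_apply, polarBilin_apply_apply, polar_comm]⟩

theorem polarBilin_isRefl (Q : QuadraticForm F V) : LinearMap.IsRefl (polarBilin Q) :=
  (polarBilin_isSymm Q).isRefl

theorem polarBilin_qrestrict (Q : QuadraticForm F V) (W : Submodule F V) :
    polarBilin (qrestrict Q W) = LinearMap.BilinForm.restrict (polarBilin Q) W := by
  ext x y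
  rfl

theorem map_add_eq (Q : QuadraticForm F V) (x y : V) : Q (x + y) = Q x + Q y + polar Q x y := by
  unfold polar; ring

/-- nondegeneracy gives a vector pairing to 1 -/
theorem exists_polar_eq_one (Q : QuadraticForm F V) (hQ : (polarBilin Q).Nondegenerate) (v : V)
    (hv : v ≠ 0) : ∃ u, polar Q v u = 1 := by
  have : ∃ u, polar Q v u ≠ 0 := by
    by_contra h
    push Not at h
    exact hv (hQ.1 v (fun y => by rw [polarBilin_apply_apply]; exact h y))
  obtain ⟨u, hu⟩ := this
  refine ⟨(polar Q v u)⁻¹ • u, ?_⟩
  rw [polar_smul_right, smul_eq_mul, inv_mul_cancel₀ hu]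

/-- hyperbolic partner of a singular vector -/
theorem exists_hyperbolic_partner (Q : QuadraticForm F V) (hQ : (polarBilin Q).Nondegenerate)
    (v : V) (hv : v ≠ 0) (hQv : Q v = 0) : ∃ w, Q w = 0 ∧ polar Q v w = 1 := by
  obtain ⟨u, hu⟩ := exists_polar_eq_one Q hQ v hv
  refine ⟨u - Q u • v, ?_, ?_⟩
  · have h1 : Q (u - Q u • v) = Q u + Q (-(Q u • v)) + polar Q u (-(Q u • v)) := by
      rw [sub_eq_add_neg, map_add_eq]
    rw [h1, QuadraticMap.map_neg, QuadraticMap.map_smul, hQv, polar_neg_right, polar_smul_right,
      polar_comm Q u v, hu]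
    simp
  · rw [polar_sub_right, polar_smul_right, polar_self, hQv, hu]
    simp

end Basic

section FiniteDim

variable {F V : Type*} [Field F] [AddCommGroup V] [Module F V] [FiniteDimensional F V]

/-- If `H` meets its orthogonal trivially then the form restricted to `H^⊥` is nondegenerate and
`H`, `H^⊥` are complementary. -/
theorem orthogonal_props (Q : QuadraticForm F V) (hQ : (polarBilin Q).Nondegenerate)
    (H : Submodule F V) (hH : Disjoint H (LinearMap.BilinForm.orthogonal (polarBilin Q) H)) :
    IsCompl H (LinearMap.BilinForm.orthogonal (polarBilin Q) H) ∧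
    (polarBilin (qrestrict Q (LinearMap.BilinForm.orthogonal (polarBilin Q) H))).Nondegenerate ∧
    finrank F (LinearMap.BilinForm.orthogonal (polarBilin Q) H) = finrank F V - finrank F H := by
  have hrefl := polarBilin_isRefl Q
  have hc : IsCompl H (LinearMap.BilinForm.orthogonal (polarBilin Q) H) :=
    (LinearMap.BilinForm.isCompl_orthogonal_iff_disjoint hrefl).mpr hH
  refine ⟨hc, ?_, LinearMap.BilinForm.finrank_orthogonal hQ H⟩
  rw [polarBilin_qrestrict]
  apply LinearMap.BilinForm.nondegenerate_restrict_of_disjoint_orthogonal _ hrefl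
  rw [LinearMap.BilinForm.orthogonal_orthogonal hQ hrefl]
  exact hH.symm

end FiniteDim

end Cfsg.Agent.Helper43
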