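import Mathlib
import Cfsg.Agent.Lib.Helper43.QuadBasic

set_option autoImplicit false

namespace Cfsg.Agent.Helper43

open Module QuadraticMap Polynomial

/-- Over a finite field of odd order, `a x² + b y² + c = 0` is solvable when `a, b ≠ 0`. -/
theorem exists_sq_add_sq_add {F : Type*} [Field F] [Finite F] (h2 : (2 : F) ≠ 0) (a b c : F)
    (ha : a ≠ 0) (hb : b ≠ 0) : ∃ x y : F, a * x ^ 2 + b * y ^ 2 + c = 0 := by
  classical
  cases nonempty_fintype F
  have hodd : Fintype.card F % 2 = 1 := by
    by_contra h
    have h0 : Fintype.card F % 2 = 0 := by omega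
    have hc := FiniteField.even_card_iff_char_two.mpr h0
    have : CharP F 2 := ringChar.of_eq hc
    exact h2 (CharTwo.two_eq_zero)
  have hf : degree (C a * X ^ 2 : F[X]) = 2 := by
    rw [degree_C_mul_X_pow 2 ha]; rfl
  have hg : degree (C b * X ^ 2 + C c : F[X]) = 2 := by
    rw [degree_add_C (by rw [degree_C_mul_X_pow 2 hb]; norm_num), degree_C_mul_X_pow 2 hb]; rfl
  obtain ⟨x, y, hxy⟩ := FiniteField.exists_root_sum_quadratic hf hg hodd
  refine ⟨x, y, ?_⟩
  simp only [eval_mul, eval_C, eval_pow, eval_X, eval_add] at hxy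
  linear_combination hxy

section Iso

variable {F V : Type*} [Field F] [AddCommGroup V] [Module F V] [FiniteDimensional F V]

theorem finrank_ker_functional_ge (φ : V →ₗ[F] F) : finrank F V ≤ finrank F (LinearMap.ker φ) + 1 := by
  have h1 := φ.finrank_range_add_finrank_ker
  have h2 : finrank F (LinearMap.range φ) ≤ 1 := by
    have := Submodule.finrank_le (LinearMap.range φ)
    rwa [finrank_self] at this
  omega

theorem finrank_ker_functional₂_ge (φ ψ : V →ₗ[F] F) :
    finrank F V ≤ finrank F (LinearMap.ker (φ.prod ψ)) + 2 := by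
  have h1 := (φ.prod ψ).finrank_range_add_finrank_ker
  have h2 : finrank F (LinearMap.range (φ.prod ψ)) ≤ 2 := by
    have := Submodule.finrank_le (LinearMap.range (φ.prod ψ))
    rwa [finrank_prod, finrank_self] at this
  omega

theorem exists_ne_zero_of_finrank_pos (W : Submodule F V) (h : 0 < finrank F W) :
    ∃ w ∈ W, w ≠ 0 := by
  have : Nontrivial W := finrank_pos_iff.mp h
  obtain ⟨⟨w, hw⟩, hne⟩ := exists_ne (0 : W)
  exact ⟨w, hw, fun h0 => hne (Subtype.ext h0)⟩

/-- A nondegenerate quadratic form in dimension at least 3 over a finite field has a nonzero singular vector. -/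
theorem exists_singular [Finite F] (Q : QuadraticForm F V) (hQ : (polarBilin Q).Nondegenerate)
    (hdim : 3 ≤ finrank F V) : ∃ v : V, v ≠ 0 ∧ Q v = 0 := by
  by_contra hcon
  push Not at hcon
  -- hcon : ∀ v ≠ 0, Q v ≠ 0
  have hpos : 0 < finrank F V := by omega
  have : Nontrivial V := finrank_pos_iff.mp hpos
  obtain ⟨v1, hv1⟩ := exists_ne (0 : V)
  by_cases h2 : (2 : F) = 0
  · -- characteristic two
    have hchar : ringChar F = 2 := by
      have : CharP F 2 := by
        apply CharTwo.of_one_ne_zero_of_two_eq_zero one_ne_zero h2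
      exact ringChar.eq F 2
    -- pick w in v1^⊥ outside span v1
    have hk := finrank_ker_functional_ge (polarBilin Q v1)
    have hnot : ¬ (LinearMap.ker (polarBilin Q v1) ≤ Submodule.span F {v1}) := by
      intro hle
      have := Submodule.finrank_mono hle
      rw [finrank_span_singleton hv1] at this
      omega
    obtain ⟨w, hw, hwn⟩ := Set.not_subset.mp hnot
    have hvw : polar Q v1 w = 0 := by
      have : polarBilin Q v1 w = 0 := hw
      rwa [polarBilin_apply_apply] at this
    obtain ⟨s, hs⟩ := FiniteField.isSquare_of_char_two hchar (Q v1)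
    obtain ⟨t, ht⟩ := FiniteField.isSquare_of_char_two hchar (Q w)
    have hs0 : s ≠ 0 := by
      rintro rfl
      exact hcon v1 hv1 (by rw [hs]; ring)
    have hz : Q (t • v1 + s • w) = 0 := by
      rw [map_add_eq, QuadraticMap.map_smul, QuadraticMap.map_smul, polar_smul_left,
        polar_smul_right, hvw, hs, ht]
      simp only [smul_eq_mul, mul_zero, add_zero]
      linear_combination (t * t * s * s) * h2
    apply hcon _ _ hz
    intro h0
    apply hwn
    rw [SetLike.mem_coe, Submodule.mem_span_singleton]
    refine ⟨-(t / s), ?_⟩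
    have : s • w = -(t • v1) := eq_neg_of_add_eq_zero_right h0
    have h3 : w = s⁻¹ • (s • w) := by rw [smul_smul, inv_mul_cancel₀ hs0, one_smul]
    rw [h3, this, smul_neg, smul_smul, neg_smul]
    congr 2
    field_simp
  · -- odd characteristic
    have ha : Q v1 ≠ 0 := hcon v1 hv1
    have hk1 := finrank_ker_functional_ge (polarBilin Q v1)
    obtain ⟨v2, hv2mem, hv2⟩ := exists_ne_zero_of_finrank_pos (LinearMap.ker (polarBilin Q v1))
      (by omega)
    have h12 : polar Q v1 v2 = 0 := by
      have : polarBilin Q v1 v2 = 0 := hv2mem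
      rwa [polarBilin_apply_apply] at this
    have hb : Q v2 ≠ 0 := hcon v2 hv2
    have hk2 := finrank_ker_functional₂_ge (polarBilin Q v1) (polarBilin Q v2)
    obtain ⟨v3, hv3mem, hv3⟩ := exists_ne_zero_of_finrank_pos
      (LinearMap.ker ((polarBilin Q v1).prod (polarBilin Q v2))) (by omega)
    have h13 : polar Q v1 v3 = 0 := by
      have : ((polarBilin Q v1).prod (polarBilin Q v2)) v3 = 0 := hv3mem
      have := congrArg Prod.fst this
      simpa using this
    have h23 : polar Q v2 v3 = 0 := by
      have : ((polarBilin Q v1).prod (polarBilin Q v2)) v3 = 0 := hv3mem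
      have := congrArg Prod.snd this
      simpa using this
    have hc : Q v3 ≠ 0 := hcon v3 hv3
    obtain ⟨x, y, hxy⟩ := exists_sq_add_sq_add h2 (Q v1) (Q v2) (Q v3) ha hb
    have hz : Q (x • v1 + y • v2 + v3) = 0 := by
      rw [map_add_eq, map_add_eq, QuadraticMap.map_smul, QuadraticMap.map_smul, polar_add_left,
        polar_smul_left, polar_smul_left, polar_smul_left, polar_smul_right, h12, h13, h23]
      simp only [smul_eq_mul, mul_zero, add_zero]
      linear_combination hxy
    apply hcon _ _ hz
    intro h0
    have h4 : polar Q v3 (x • v1 + y • v2 + v3) = 0 := by rw [h0]; simp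
    rw [polar_add_right, polar_add_right, polar_smul_right, polar_smul_right, polar_comm Q v3 v1,
      polar_comm Q v3 v2, h13, h23, polar_self, nsmul_eq_mul] at h4
    simp only [smul_eq_mul, mul_zero, zero_add, Nat.cast_ofNat] at h4
    rcases mul_eq_zero.mp h4 with h5 | h5
    · exact h2 h5
    · exact hc h5

end Iso

end Cfsg.Agent.Helper43
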