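import Mathlib
import Cfsg.Agent.Lib.Helper43.QuadFinite

set_option autoImplicit false

namespace Cfsg.Agent.Helper43

open Module QuadraticMap

universe u

section Hyp

variable {F : Type*} {V : Type u} [Field F] [AddCommGroup V] [Module F V]

/-- A hyperbolic family `e, f : Fin k → V` for the quadratic form `Q`. -/
structure IsHypFamily (Q : QuadraticForm F V) {k : ℕ} (e f : Fin k → V) : Prop where
  qe : ∀ i, Q (e i) = 0
  qf : ∀ i, Q (f i) = 0
  ef : ∀ i j, polar Q (e i) (f j) = if i = j then 1 else 0
  ee : ∀ i j, polar Q (e i) (e j) = 0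
  ff : ∀ i j, polar Q (f i) (f j) = 0

theorem IsHypFamily.gram {Q : QuadraticForm F V} {k : ℕ} {e f : Fin k → V}
    (h : IsHypFamily Q e f) (a b : Fin k ⊕ Fin k) :
    polar Q (Sum.elim e f a) (Sum.elim e f b) = if a = Sum.swap b then 1 else 0 := by
  rcases a with i | i <;> rcases b with j | j
  · simp [h.ee]
  · simp [h.ef]
  · simp only [Sum.elim_inr, Sum.elim_inl, Sum.swap_inl, Sum.inr.injEq]
    rw [polar_comm, h.ef]
    simp [eq_comm]
  · simp [h.ff]

/-- pairing a linear combination of a hyperbolic family against a member extracts a coefficient -/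
theorem IsHypFamily.polar_sum {Q : QuadraticForm F V} {k : ℕ} {e f : Fin k → V}
    (h : IsHypFamily Q e f) (c : Fin k ⊕ Fin k → F) (b : Fin k ⊕ Fin k) :
    polar Q (∑ a, c a • Sum.elim e f a) (Sum.elim e f b) = c (Sum.swap b) := by
  have : polar Q (∑ a, c a • Sum.elim e f a) (Sum.elim e f b)
      = ∑ a, c a * polar Q (Sum.elim e f a) (Sum.elim e f b) := by
    have h1 : polar Q (∑ a, c a • Sum.elim e f a) (Sum.elim e f b)
        = polarBilin Q (∑ a, c a • Sum.elim e f a) (Sum.elim e f b) := rfl
    rw [h1, map_sum, LinearMap.sum_apply]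
    apply Finset.sum_congr rfl
    intro a _
    rw [map_smul, LinearMap.smul_apply, smul_eq_mul]
    rfl
  rw [this]
  simp only [h.gram, mul_ite, mul_one, mul_zero]
  rw [Finset.sum_ite_eq' Finset.univ (Sum.swap b) c]
  simp

theorem IsHypFamily.linearIndependent {Q : QuadraticForm F V} {k : ℕ} {e f : Fin k → V}
    (h : IsHypFamily Q e f) : LinearIndependent F (Sum.elim e f) := by
  rw [Fintype.linearIndependent_iff]
  intro c hc a
  have := h.polar_sum c (Sum.swap a)
  rw [hc, Sum.swap_swap] at this
  rw [← this]
  simp

/-- the span of a hyperbolic family -/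
def hypSpan {k : ℕ} (e f : Fin k → V) : Submodule F V := Submodule.span F (Set.range (Sum.elim e f))

theorem mem_orthogonal_hypSpan_iff (Q : QuadraticForm F V) {k : ℕ} (e f : Fin k → V) (v : V) :
    v ∈ LinearMap.BilinForm.orthogonal (polarBilin Q) (hypSpan (F := F) e f) ↔
      (∀ i, polar Q (e i) v = 0) ∧ (∀ i, polar Q (f i) v = 0) := by
  rw [LinearMap.BilinForm.mem_orthogonal_iff]
  constructor
  · intro hv
    refine ⟨fun i => ?_, fun i => ?_⟩
    · have := hv (e i) (Submodule.subset_span ⟨Sum.inl i, rfl⟩)
      exact this
    · have := hv (f i) (Submodule.subset_span ⟨Sum.inr i, rfl⟩)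
      exact this
  · rintro ⟨h1, h2⟩ n hn
    show polarBilin Q n v = 0
    induction hn using Submodule.span_induction with
    | mem x hx =>
      obtain ⟨(i | i), rfl⟩ := hx
      · exact h1 i
      · exact h2 i
    | zero => simp
    | add x y _ _ hx hy => rw [map_add, LinearMap.add_apply, hx, hy, add_zero]
    | smul c x _ hx => rw [map_smul, LinearMap.smul_apply, hx, smul_zero]

theorem IsHypFamily.disjoint {Q : QuadraticForm F V} {k : ℕ} {e f : Fin k → V}
    (h : IsHypFamily Q e f) :
    Disjoint (hypSpan (F := F) e f)
      (LinearMap.BilinForm.orthogonal (polarBilin Q) (hypSpan (F := F) e f)) := by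
  rw [Submodule.disjoint_def]
  intro x hx hx'
  obtain ⟨c, rfl⟩ := (Submodule.mem_span_range_iff_exists_fun F).mp hx
  rw [mem_orthogonal_hypSpan_iff] at hx'
  have hc : ∀ a, c a = 0 := by
    intro a
    have := h.polar_sum c (Sum.swap a)
    rw [Sum.swap_swap] at this
    rw [← this, polar_comm]
    rcases a with i | i
    · exact hx'.2 i
    · exact hx'.1 i
  simp [hc]

theorem IsHypFamily.finrank_hypSpan {Q : QuadraticForm F V} {k : ℕ} {e f : Fin k → V}
    (h : IsHypFamily Q e f) : finrank F (hypSpan (F := F) e f) = 2 * k := by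
  unfold hypSpan
  rw [finrank_span_eq_card h.linearIndependent]
  simp; ring

end Hyp

section Witt

variable {F : Type*} [Field F]

theorem pair_disjoint_orthogonal {V : Type u} [AddCommGroup V] [Module F V]
    (Q : QuadraticForm F V) (v w : V) (hQv : Q v = 0) (hQw : Q w = 0) (hvw : polar Q v w = 1) :
    Disjoint (Submodule.span F {v, w})
      (LinearMap.BilinForm.orthogonal (polarBilin Q) (Submodule.span F {v, w})) ∧
    LinearIndependent F ![v, w] := by
  have hcoef : ∀ a b : F, polar Q v (a • v + b • w) = b ∧ polar Q w (a • v + b • w) = a := by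
    intro a b
    constructor
    · rw [polar_add_right, polar_smul_right, polar_smul_right, polar_self, hQv, hvw]; simp
    · rw [polar_add_right, polar_smul_right, polar_smul_right, polar_self, hQw, polar_comm Q w v,
        hvw]; simp
  constructor
  · rw [Submodule.disjoint_def]
    intro x hx hx'
    obtain ⟨a, b, rfl⟩ := Submodule.mem_span_pair.mp hx
    rw [LinearMap.BilinForm.mem_orthogonal_iff] at hx'
    have h1 : polar Q v (a • v + b • w) = 0 :=
      hx' v (Submodule.subset_span (by simp))
    have h2 : polar Q w (a • v + b • w) = 0 :=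
      hx' w (Submodule.subset_span (by simp))
    rw [(hcoef a b).1] at h1
    rw [(hcoef a b).2] at h2
    rw [h1, h2]; simp
  · rw [LinearIndependent.pair_iff]
    intro a b hab
    have h1 := (hcoef a b).1
    have h2 := (hcoef a b).2
    rw [hab] at h1 h2
    simp only [polar_zero_right] at h1 h2
    exact ⟨h2.symm, h1.symm⟩

/-- Witt decomposition: a maximal hyperbolic family whose orthogonal complement is anisotropic. -/
theorem witt_decomp : ∀ (n : ℕ) (V : Type u) [AddCommGroup V] [Module F V] [FiniteDimensional F V]
    (Q : QuadraticForm F V), finrank F V = n → (polarBilin Q).Nondegenerate →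
    ∃ (k : ℕ) (e f : Fin k → V), IsHypFamily Q e f ∧
      ∀ v, (∀ i, polar Q (e i) v = 0) → (∀ i, polar Q (f i) v = 0) → v ≠ 0 → Q v ≠ 0 := by
  intro n
  induction n using Nat.strong_induction_on with
  | _ n ih =>
    intro V _ _ _ Q hn hQ
    by_cases hsing : ∃ v : V, v ≠ 0 ∧ Q v = 0
    · obtain ⟨v, hv0, hQv⟩ := hsing
      obtain ⟨w, hQw, hvw⟩ := exists_hyperbolic_partner Q hQ v hv0 hQv
      obtain ⟨hdisj, hli⟩ := pair_disjoint_orthogonal Q v w hQv hQw hvw
      set H := Submodule.span F {v, w} with hH
      set W := LinearMap.BilinForm.orthogonal (polarBilin Q) H with hW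
      obtain ⟨hcompl, hWnd, hWdim⟩ := orthogonal_props Q hQ H hdisj
      have hHdim : finrank F H = 2 := by
        have : ({v, w} : Set V) = Set.range ![v, w] := by
          ext x; simp [eq_comm, or_comm]
        rw [hH, this, finrank_span_eq_card hli]; simp
      have hle : finrank F H ≤ finrank F V := Submodule.finrank_le H
      obtain ⟨k', e', f', hfam, haniso⟩ := ih (n - 2) (by omega) W (qrestrict Q W)
        (by rw [hWdim, hHdim, hn]) hWnd
      have hvW : ∀ x : W, polar Q v (x : V) = 0 := by
        intro x
        exact (LinearMap.BilinForm.mem_orthogonal_iff.mp x.2) v (Submodule.subset_span (by simp))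
      have hwW : ∀ x : W, polar Q w (x : V) = 0 := by
        intro x
        exact (LinearMap.BilinForm.mem_orthogonal_iff.mp x.2) w (Submodule.subset_span (by simp))
      refine ⟨k' + 1, Fin.cons v (fun i => (e' i : V)), Fin.cons w (fun i => (f' i : V)), ?_, ?_⟩
      · refine ⟨?_, ?_, ?_, ?_, ?_⟩
        · intro i
          refine Fin.cases ?_ (fun i => ?_) i
          · simpa using hQv
          · simpa using hfam.qe i
        · intro i
          refine Fin.cases ?_ (fun i => ?_) i
          · simpa using hQw
          · simpa using hfam.qf i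
        · intro i j
          refine Fin.cases ?_ (fun i => ?_) i <;> refine Fin.cases ?_ (fun j => ?_) j
          · simpa using hvw
          · simp only [Fin.cons_zero, Fin.cons_succ]
            rw [hvW, if_neg (Fin.succ_ne_zero j).symm]
          · simp only [Fin.cons_zero, Fin.cons_succ]
            rw [polar_comm, hwW, if_neg (Fin.succ_ne_zero i)]
          · simp only [Fin.cons_succ, Fin.succ_inj]
            exact hfam.ef i j
        · intro i j
          refine Fin.cases ?_ (fun i => ?_) i <;> refine Fin.cases ?_ (fun j => ?_) j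
          · simp [polar_self, hQv]
          · simp only [Fin.cons_zero, Fin.cons_succ]
            exact hvW _
          · simp only [Fin.cons_zero, Fin.cons_succ]
            rw [polar_comm]; exact hvW _
          · simp only [Fin.cons_succ]
            exact hfam.ee i j
        · intro i j
          refine Fin.cases ?_ (fun i => ?_) i <;> refine Fin.cases ?_ (fun j => ?_) j
          · simp [polar_self, hQw]
          · simp only [Fin.cons_zero, Fin.cons_succ]
            exact hwW _
          · simp only [Fin.cons_zero, Fin.cons_succ]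
            rw [polar_comm]; exact hwW _
          · simp only [Fin.cons_succ]
            exact hfam.ff i j
      · intro u hue huf hu0
        have huW : u ∈ W := by
          rw [hW, LinearMap.BilinForm.mem_orthogonal_iff]
          intro x hx
          obtain ⟨a, b, rfl⟩ := Submodule.mem_span_pair.mp hx
          show polarBilin Q (a • v + b • w) u = 0
          rw [map_add, LinearMap.add_apply, map_smul, map_smul, LinearMap.smul_apply,
            LinearMap.smul_apply]
          have h1 : polarBilin Q v u = 0 := by simpa using hue 0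
          have h2 : polarBilin Q w u = 0 := by simpa using huf 0
          rw [h1, h2]; simp
        have := haniso ⟨u, huW⟩
          (fun i => by
            rw [polar_qrestrict]
            simpa using hue i.succ)
          (fun i => by
            rw [polar_qrestrict]
            simpa using huf i.succ) (fun h0 => hu0 (congrArg Subtype.val h0))
        simpa using this
    · push Not at hsing
      refine ⟨0, Fin.elim0, Fin.elim0, ⟨?_, ?_, ?_, ?_, ?_⟩, ?_⟩
      · intro i; exact i.elim0
      · intro i; exact i.elim0
      · intro i; exact i.elim0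
      · intro i; exact i.elim0
      · intro i; exact i.elim0
      · intro v _ _ hv
        exact hsing v hv

/-- Witt decomposition over a finite field, with the dimension bound on the anisotropic part. -/
theorem witt_decomp_finite [Finite F] {V : Type u} [AddCommGroup V] [Module F V]
    [FiniteDimensional F V] (Q : QuadraticForm F V) (hQ : (polarBilin Q).Nondegenerate) :
    ∃ (k : ℕ) (e f : Fin k → V), IsHypFamily Q e f ∧
      (∀ v ∈ LinearMap.BilinForm.orthogonal (polarBilin Q) (hypSpan (F := F) e f),
        v ≠ 0 → Q v ≠ 0) ∧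
      (polarBilin (qrestrict Q
        (LinearMap.BilinForm.orthogonal (polarBilin Q) (hypSpan (F := F) e f)))).Nondegenerate ∧
      finrank F (LinearMap.BilinForm.orthogonal (polarBilin Q) (hypSpan (F := F) e f)) + 2 * k
        = finrank F V ∧
      finrank F (LinearMap.BilinForm.orthogonal (polarBilin Q) (hypSpan (F := F) e f)) ≤ 2 ∧
      Disjoint (hypSpan (F := F) e f)
        (LinearMap.BilinForm.orthogonal (polarBilin Q) (hypSpan (F := F) e f)) := by
  obtain ⟨k, e, f, hfam, haniso⟩ := witt_decomp (F := F) (finrank F V) V Q rfl hQ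
  refine ⟨k, e, f, hfam, ?_⟩
  set W := LinearMap.BilinForm.orthogonal (polarBilin Q) (hypSpan (F := F) e f) with hW
  obtain ⟨hcompl, hWnd, hWdim⟩ := orthogonal_props Q hQ (hypSpan (F := F) e f) hfam.disjoint
  have hHle : finrank F (hypSpan (F := F) e f) ≤ finrank F V := Submodule.finrank_le _
  have haniso' : ∀ v ∈ W, v ≠ 0 → Q v ≠ 0 := by
    intro v hv hv0
    rw [hW, mem_orthogonal_hypSpan_iff] at hv
    exact haniso v hv.1 hv.2 hv0
  refine ⟨haniso', hWnd, ?_, ?_, hfam.disjoint⟩
  · rw [hWdim, hfam.finrank_hypSpan]
    rw [hfam.finrank_hypSpan] at hHle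
    omega
  · by_contra hgt
    push Not at hgt
    obtain ⟨⟨v, hvW⟩, hv0, hQv⟩ := exists_singular (qrestrict Q W) hWnd (by omega)
    exact haniso' v hvW (fun h => hv0 (Subtype.ext h)) hQv

/-- A nondegenerate quadratic form of dimension at least two over a finite field represents `1`. -/
theorem exists_eq_one [Finite F] {V : Type u} [AddCommGroup V] [Module F V]
    [FiniteDimensional F V] (Q : QuadraticForm F V) (hQ : (polarBilin Q).Nondegenerate)
    (hdim : 2 ≤ finrank F V) : ∃ x : V, Q x = 1 := by
  by_cases hsing : ∃ v : V, v ≠ 0 ∧ Q v = 0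
  · obtain ⟨v, hv0, hQv⟩ := hsing
    obtain ⟨w, hQw, hvw⟩ := exists_hyperbolic_partner Q hQ v hv0 hQv
    exact ⟨v + w, by rw [map_add_eq, hQv, hQw, hvw]; ring⟩
  · push Not at hsing
    have hpos : 0 < finrank F V := by omega
    have : Nontrivial V := finrank_pos_iff.mp hpos
    obtain ⟨x0, hx0⟩ := exists_ne (0 : V)
    have ha := hsing x0 hx0
    by_cases h2 : (2 : F) = 0
    · have hchar : ringChar F = 2 := by
        have : CharP F 2 := CharTwo.of_one_ne_zero_of_two_eq_zero one_ne_zero h2
        exact ringChar.eq F 2
      obtain ⟨s, hs⟩ := FiniteField.isSquare_of_char_two hchar (Q x0)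
      have hs0 : s ≠ 0 := by
        rintro rfl
        exact ha (by rw [hs]; ring)
      refine ⟨s⁻¹ • x0, ?_⟩
      rw [QuadraticMap.map_smul, hs, smul_eq_mul]
      field_simp
    · have hk1 := finrank_ker_functional_ge (polarBilin Q x0)
      obtain ⟨y0, hy0mem, hy0⟩ := exists_ne_zero_of_finrank_pos (LinearMap.ker (polarBilin Q x0))
        (by omega)
      have h12 : polar Q x0 y0 = 0 := by
        have : polarBilin Q x0 y0 = 0 := hy0mem
        rwa [polarBilin_apply_apply] at this
      have hb := hsing y0 hy0
      obtain ⟨s, t, hst⟩ := exists_sq_add_sq_add h2 (Q x0) (Q y0) (-1) ha hb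
      refine ⟨s • x0 + t • y0, ?_⟩
      rw [map_add_eq, QuadraticMap.map_smul, QuadraticMap.map_smul, polar_smul_left,
        polar_smul_right, h12]
      simp only [smul_eq_mul, mul_zero, add_zero]
      linear_combination hst

/-- In a nondegenerate plane, a nonzero vector `x` has a partner `y` independent of `x` with
`polar x y = 1`. -/
theorem exists_indep_partner {V : Type u} [AddCommGroup V] [Module F V]
    [FiniteDimensional F V] (Q : QuadraticForm F V) (hQ : (polarBilin Q).Nondegenerate)
    (hdim : 2 ≤ finrank F V) (x : V) (hx : x ≠ 0) :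
    ∃ y : V, polar Q x y = 1 ∧ ∀ a : F, a • x ≠ y := by
  obtain ⟨u, hu⟩ := exists_polar_eq_one Q hQ x hx
  by_cases hind : ∀ a : F, a • x ≠ u
  · exact ⟨u, hu, hind⟩
  · push Not at hind
    obtain ⟨a0, ha0⟩ := hind
    -- some vector outside span x
    have hne : Submodule.span F {x} ≠ ⊤ := by
      intro h
      have h1 := finrank_span_singleton (K := F) hx
      rw [h, finrank_top] at h1
      omega
    obtain ⟨y1, hy1⟩ : ∃ y1 : V, y1 ∉ Submodule.span F {x} := by
      by_contra hall
      push Not at hall
      exact hne (Submodule.eq_top_iff'.mpr hall)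
    by_cases hp : polar Q x y1 = 0
    · refine ⟨u + y1, by rw [polar_add_right, hu, hp, add_zero], ?_⟩
      intro a ha
      apply hy1
      rw [Submodule.mem_span_singleton]
      refine ⟨a - a0, ?_⟩
      rw [sub_smul, ha, ha0]; abel
    · refine ⟨(polar Q x y1)⁻¹ • y1, by
        rw [polar_smul_right, smul_eq_mul, inv_mul_cancel₀ hp], ?_⟩
      intro a ha
      apply hy1
      rw [Submodule.mem_span_singleton]
      refine ⟨polar Q x y1 * a, ?_⟩
      rw [mul_smul, ha, smul_smul, mul_inv_cancel₀ hp, one_smul]

end Witt

end Cfsg.Agent.Helper43
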