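import Mathlib
import Cfsg.Agent.Lib.Helper43.QuadWitt

set_option autoImplicit false

namespace Cfsg.Agent.Helper43

section Concrete

variable {F : Type*} [Field F]

/-- The binary form `z₁² + a z₁ z₂ + b z₂²` is anisotropic. -/
def AnisoPair (a b : F) : Prop :=
  ∀ z₁ z₂ : F, z₁ ^ 2 + a * z₁ * z₂ + b * z₂ ^ 2 = 0 → z₁ = 0 ∧ z₂ = 0

/-- The norm form. -/
def nrm (a b : F) (p : F × F) : F := p.1 ^ 2 + a * p.1 * p.2 + b * p.2 ^ 2

/-- The polar form of the norm form. -/
def nrmPolar (a b : F) (p p' : F × F) : F :=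
  2 * p.1 * p'.1 + a * (p.1 * p'.2 + p'.1 * p.2) + 2 * b * p.2 * p'.2

/-- Multiplication in the quadratic algebra. -/
def nmul (a b : F) (u p : F × F) : F × F :=
  (u.1 * p.1 - b * u.2 * p.2, u.1 * p.2 + u.2 * p.1 + a * u.2 * p.2)

theorem nrm_nmul (a b : F) (u p : F × F) :
    nrm a b (nmul a b u p) = nrm a b u * nrm a b p := by
  simp only [nrm, nmul]
  ring

theorem nrmPolar_nmul (a b : F) (u p p' : F × F) :
    nrmPolar a b (nmul a b u p) (nmul a b u p') = nrm a b u * nrmPolar a b p p' := by
  simp only [nrm, nmul, nrmPolar]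
  ring

theorem nmul_one (a b : F) (u : F × F) : nmul a b u (1, 0) = u := by
  ext <;> simp [nmul]

theorem nmul_sub (a b : F) (u p p' : F × F) :
    nmul a b u (p - p') = nmul a b u p - nmul a b u p' := by
  ext
  · simp only [nmul, Prod.fst_sub, Prod.snd_sub]; ring
  · simp only [nmul, Prod.fst_sub, Prod.snd_sub]; ring

theorem nrm_zero (a b : F) : nrm a b (0 : F × F) = 0 := by simp [nrm]

theorem AnisoPair.nrm_eq_zero {a b : F} (h : AnisoPair a b) (p : F × F) :
    nrm a b p = 0 ↔ p = 0 :=
  ⟨fun hp => by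
    obtain ⟨h1, h2⟩ := h p.1 p.2 hp
    exact Prod.ext h1 h2, fun hp => by subst hp; exact nrm_zero a b⟩

theorem AnisoPair.no_root {a b : F} (h : AnisoPair a b) (t : F) : t ^ 2 + a * t + b ≠ 0 := by
  intro ht
  have := h t 1 (by linear_combination ht)
  exact one_ne_zero this.2

theorem AnisoPair.nmul_bijective [Finite F] {a b : F} (h : AnisoPair a b) (u : F × F)
    (hu : u ≠ 0) : Function.Bijective (nmul a b u) := by
  apply Finite.injective_iff_bijective.mp
  intro p p' hpp'
  have hsub : nmul a b u (p - p') = 0 := by rw [nmul_sub, hpp', sub_self]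
  have := nrm_nmul a b u (p - p')
  rw [hsub, nrm_zero] at this
  rcases mul_eq_zero.mp this.symm with h1 | h1
  · exact absurd ((h.nrm_eq_zero u).mp h1) hu
  · exact sub_eq_zero.mp ((h.nrm_eq_zero _).mp h1)

theorem AnisoPair.disc_ne_zero {a b : F} (h : AnisoPair a b) (h2 : (2 : F) ≠ 0) :
    ¬ IsSquare (a ^ 2 - 4 * b) := by
  rintro ⟨r, hr⟩
  apply h.no_root ((r - a) / 2)
  field_simp
  linear_combination -hr

theorem AnisoPair.disc_ne_zero' [Finite F] {a b : F} (h : AnisoPair a b) :
    a ^ 2 - 4 * b ≠ 0 := by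
  by_cases h2 : (2 : F) = 0
  · have hchar : ringChar F = 2 := by
      have : CharP F 2 := CharTwo.of_one_ne_zero_of_two_eq_zero one_ne_zero h2
      exact ringChar.eq F 2
    intro h0
    have ha : a = 0 := by
      have h4 : (4 : F) = 0 := by
        have : (4 : F) = 2 * 2 := by norm_num
        rw [this, h2, zero_mul]
      rw [h4, zero_mul, sub_zero] at h0
      exact pow_eq_zero_iff (by norm_num) |>.mp h0
    obtain ⟨s, hs⟩ := FiniteField.isSquare_of_char_two hchar b
    have := h s 1 (by
      rw [ha, hs]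
      linear_combination (s * s) * h2)
    exact one_ne_zero this.2
  · intro h0
    exact h.disc_ne_zero h2 ⟨0, by rw [h0]; ring⟩

theorem AnisoPair.exists_nrm_eq [Finite F] {a b : F} (h : AnisoPair a b) (c : F) :
    ∃ u, nrm a b u = c := by
  by_cases h2 : (2 : F) = 0
  · have hchar : ringChar F = 2 := by
      have : CharP F 2 := CharTwo.of_one_ne_zero_of_two_eq_zero one_ne_zero h2
      exact ringChar.eq F 2
    obtain ⟨s, hs⟩ := FiniteField.isSquare_of_char_two hchar c
    refine ⟨(s, 0), ?_⟩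
    simp only [nrm]
    rw [hs]
    ring
  · have h4 : (4 : F) ≠ 0 := by
      have : (4 : F) = 2 * 2 := by norm_num
      rw [this]
      exact mul_ne_zero h2 h2
    have hD : b - a ^ 2 / 4 ≠ 0 := by
      intro h0
      apply h.disc_ne_zero h2
      refine ⟨0, ?_⟩
      field_simp at h0
      linear_combination -h0
    obtain ⟨X, y, hXy⟩ := exists_sq_add_sq_add h2 1 (b - a ^ 2 / 4) (-c) one_ne_zero hD
    refine ⟨(X - a * y / 2, y), ?_⟩
    simp only [nrm]
    field_simp
    field_simp at hXy
    linear_combination hXy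

theorem AnisoPair.card_nrm_eq_one [Fintype F] {a b : F} (h : AnisoPair a b) :
    Nat.card {p : F × F // nrm a b p = 1} = Fintype.card F + 1 := by
  classical
  have hc : ∀ c : F, c ≠ 0 →
      Nat.card {p : F × F // nrm a b p = c} = Nat.card {p : F × F // nrm a b p = 1} := by
    intro c hc0
    obtain ⟨u, hu⟩ := h.exists_nrm_eq c
    have hu0 : u ≠ 0 := by
      rintro rfl
      rw [nrm_zero] at hu
      exact hc0 hu.symm
    symm
    refine Nat.card_congr ((Equiv.ofBijective _ (h.nmul_bijective u hu0)).subtypeEquiv ?_)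
    intro p
    show nrm a b p = 1 ↔ nrm a b (nmul a b u p) = c
    rw [nrm_nmul, hu]
    constructor
    · intro h1; rw [h1, mul_one]
    · intro h1
      exact mul_left_cancel₀ hc0 (by rw [h1, mul_one])
  have h0 : Nat.card {p : F × F // nrm a b p = 0} = 1 := by
    rw [Nat.card_eq_one_iff_unique]
    refine ⟨⟨?_⟩, ⟨⟨0, nrm_zero a b⟩⟩⟩
    rintro ⟨p, hp⟩ ⟨p', hp'⟩
    apply Subtype.ext
    show p = p'
    rw [(h.nrm_eq_zero p).mp hp, (h.nrm_eq_zero p').mp hp']
  have htot : Nat.card (F × F) = ∑ c : F, Nat.card {p : F × F // nrm a b p = c} := by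
    rw [← Nat.card_congr (Equiv.sigmaFiberEquiv (nrm a b)), Nat.card_sigma]
  rw [Nat.card_eq_fintype_card, Fintype.card_prod,
    ← Finset.add_sum_erase Finset.univ _ (Finset.mem_univ (0 : F)), h0] at htot
  rw [Finset.sum_congr rfl (fun c hc' => hc c (Finset.ne_of_mem_erase hc')), Finset.sum_const,
    Finset.card_erase_of_mem (Finset.mem_univ _), Finset.card_univ, smul_eq_mul] at htot
  have hq : 2 ≤ Fintype.card F := Fintype.one_lt_card
  obtain ⟨r, hr⟩ : ∃ r, Fintype.card F = r + 2 := ⟨Fintype.card F - 2, by omega⟩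
  rw [hr] at htot ⊢
  have e : r + 2 - 1 = r + 1 := by omega
  rw [e] at htot
  have h3 : (r + 1) * Nat.card {p : F × F // nrm a b p = 1} = (r + 1) * (r + 2 + 1) := by
    have : (r + 2) * (r + 2) = 1 + (r + 1) * (r + 2 + 1) := by ring
    omega
  exact Nat.eq_of_mul_eq_mul_left (by omega) h3

/-- Artin–Schreier: in characteristic two, two non-values of `x ↦ x² + a x` add up to a value. -/
theorem exists_artin_schreier [Finite F] (h2 : (2 : F) = 0) (a : F) (ha : a ≠ 0) (c₁ c₂ : F)
    (h1 : ∀ x, x ^ 2 + a * x ≠ c₁) (h1' : ∀ x, x ^ 2 + a * x ≠ c₂) :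
    ∃ x, x ^ 2 + a * x = c₁ + c₂ := by
  let φ : F →+ F :=
    { toFun := fun x => x ^ 2 + a * x
      map_zero' := by simp
      map_add' := fun x y => by
        have : (x + y) ^ 2 + a * (x + y) = x ^ 2 + a * x + (y ^ 2 + a * y) + 2 * (x * y) := by ring
        rw [this, h2, zero_mul, add_zero] }
  have hneg : ∀ x : F, -x = x := by
    intro x
    have : x + x = 0 := by
      have : x + x = 2 * x := by ring
      rw [this, h2, zero_mul]
    exact neg_eq_of_add_eq_zero_left this
  have hker : Nat.card φ.ker = 2 := by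
    rw [Nat.card_eq_two_iff]
    refine ⟨⟨0, φ.ker.zero_mem⟩, ⟨a, ?_⟩, ?_, ?_⟩
    · rw [AddMonoidHom.mem_ker]
      show a ^ 2 + a * a = 0
      have : a ^ 2 + a * a = 2 * (a * a) := by ring
      rw [this, h2, zero_mul]
    · intro h
      exact ha (congrArg Subtype.val h).symm
    · rw [Set.eq_univ_iff_forall]
      rintro ⟨x, hx⟩
      rw [AddMonoidHom.mem_ker] at hx
      have hx' : x ^ 2 + a * x = 0 := hx
      have : x * (x + a) = 0 := by linear_combination hx'
      rcases mul_eq_zero.mp this with h3 | h3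
      · left
        exact Subtype.ext h3
      · right
        apply Subtype.ext
        show x = a
        have : x = -a := eq_neg_of_add_eq_zero_left h3
        rw [this, hneg]
  have hidx : φ.range.index = 2 := by
    rw [AddSubgroup.index_range, hker]
  obtain ⟨a₀, ha₀⟩ := AddSubgroup.index_eq_two_iff.mp hidx
  have hn1 : c₁ ∉ φ.range := by
    rintro ⟨x, hx⟩
    exact h1 x hx
  have hn2 : c₂ ∉ φ.range := by
    rintro ⟨x, hx⟩
    exact h1' x hx
  have m1 : c₁ + a₀ ∈ φ.range := by
    rcases ha₀ c₁ with ⟨h3, _⟩ | ⟨h3, _⟩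
    · exact h3
    · exact absurd h3 hn1
  have m2 : c₂ + a₀ ∈ φ.range := by
    rcases ha₀ c₂ with ⟨h3, _⟩ | ⟨h3, _⟩
    · exact h3
    · exact absurd h3 hn2
  have m3 := φ.range.add_mem m1 m2
  have e : c₁ + a₀ + (c₂ + a₀) = c₁ + c₂ := by
    have : c₁ + a₀ + (c₂ + a₀) = c₁ + c₂ + 2 * a₀ := by ring
    rw [this, h2, zero_mul, add_zero]
  rw [e] at m3
  obtain ⟨x, hx⟩ := m3
  exact ⟨x, hx⟩

theorem isSquare_mul_of_not_isSquare [Fintype F] {x y : F} (hx : ¬ IsSquare x) (hy : ¬ IsSquare y) :
    IsSquare (x * y) := by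
  classical
  have hx0 : x ≠ 0 := by
    rintro rfl
    exact hx ⟨0, by simp⟩
  have hy0 : y ≠ 0 := by
    rintro rfl
    exact hy ⟨0, by simp⟩
  rw [← quadraticChar_one_iff_isSquare (mul_ne_zero hx0 hy0), map_mul,
    quadraticChar_neg_one_iff_not_isSquare.mpr hx, quadraticChar_neg_one_iff_not_isSquare.mpr hy]
  norm_num

theorem nrmPolar_one (a' b' : F) (p : F × F) : nrmPolar a' b' (1, 0) p = 2 * p.1 + a' * p.2 := by
  simp [nrmPolar]

/-- For two anisotropic pairs, the "second basis vector" problem has exactly two solutions. -/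
theorem AnisoPair.card_second [Fintype F] {a' b' a b : F} (h' : AnisoPair a' b')
    (h : AnisoPair a b) :
    Nat.card {p : F × F // nrmPolar a' b' (1, 0) p = a ∧ nrm a' b' p = b} = 2 := by
  classical
  simp only [nrmPolar_one, nrm]
  by_cases h2 : (2 : F) = 0
  · have hchar : ringChar F = 2 := by
      have : CharP F 2 := CharTwo.of_one_ne_zero_of_two_eq_zero one_ne_zero h2
      exact ringChar.eq F 2
    have hneg : ∀ x : F, -x = x := by
      intro x
      have : x + x = 0 := by
        have : x + x = 2 * x := by ring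
        rw [this, h2, zero_mul]
      exact neg_eq_of_add_eq_zero_left this
    have hne : ∀ {c d : F}, AnisoPair c d → c ≠ 0 := by
      intro c d hcd h0
      obtain ⟨s, hs⟩ := FiniteField.isSquare_of_char_two hchar d
      have := hcd s 1 (by
        rw [h0, hs]
        linear_combination (s * s) * h2)
      exact one_ne_zero this.2
    have ha' : a' ≠ 0 := hne h'
    have ha : a ≠ 0 := hne h
    have e : a' * (a / a') = a := by field_simp
    have hy₀ : a / a' ≠ 0 := div_ne_zero ha ha'
    have hn1 : ∀ x, x ^ 2 + a * x ≠ b := by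
      intro x hx
      apply h.no_root x
      linear_combination hx + b * h2
    have hn2 : ∀ x, x ^ 2 + a * x ≠ b' * (a / a') ^ 2 := by
      intro x hx
      apply h'.no_root (x / (a / a'))
      have h3 : (x / (a / a')) ^ 2 + a' * (x / (a / a')) + b' =
          (x ^ 2 + a' * (a / a') * x + b' * (a / a') ^ 2) / (a / a') ^ 2 := by
        field_simp
      rw [h3, div_eq_zero_iff]
      left
      linear_combination hx + x * e + (b' * (a / a') ^ 2) * h2
    obtain ⟨x₀, hx₀⟩ := exists_artin_schreier h2 a ha b (b' * (a / a') ^ 2) hn1 hn2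
    rw [Nat.card_eq_two_iff]
    refine ⟨⟨(x₀, a / a'), ?_, ?_⟩, ⟨(x₀ + a, a / a'), ?_, ?_⟩, ?_, ?_⟩
    · show 2 * x₀ + a' * (a / a') = a
      linear_combination x₀ * h2 + e
    · show x₀ ^ 2 + a' * x₀ * (a / a') + b' * (a / a') ^ 2 = b
      linear_combination hx₀ + x₀ * e + (b' * (a / a') ^ 2) * h2
    · show 2 * (x₀ + a) + a' * (a / a') = a
      linear_combination (x₀ + a) * h2 + e
    · show (x₀ + a) ^ 2 + a' * (x₀ + a) * (a / a') + b' * (a / a') ^ 2 = b
      linear_combination hx₀ + (x₀ + a) * e + (a * x₀ + a ^ 2 + b' * (a / a') ^ 2) * h2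
    · intro heq
      have h3 := congrArg (fun p : {p : F × F // 2 * p.1 + a' * p.2 = a ∧
        p.1 ^ 2 + a' * p.1 * p.2 + b' * p.2 ^ 2 = b} => p.1.1) heq
      simp only at h3
      apply ha
      linear_combination -h3
    · rw [Set.eq_univ_iff_forall]
      rintro ⟨⟨x, y⟩, h3, h4⟩
      simp only at h3 h4
      have hy : y = a / a' := by
        rw [eq_div_iff ha']
        linear_combination h3 - x * h2
      subst hy
      have h5 : (x - x₀) * (x + x₀ + a) = 0 := by
        linear_combination h4 - hx₀ - x * e - (b' * (a / a') ^ 2) * h2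
      rcases mul_eq_zero.mp h5 with h6 | h6
      · left
        apply Subtype.ext
        show (x, a / a') = (x₀, a / a')
        rw [sub_eq_zero.mp h6]
      · right
        apply Subtype.ext
        show (x, a / a') = (x₀ + a, a / a')
        have : x = -(x₀ + a) := by linear_combination h6
        rw [this, hneg]
  · have h4 : (4 : F) ≠ 0 := by
      have : (4 : F) = 2 * 2 := by norm_num
      rw [this]
      exact mul_ne_zero h2 h2
    have hD' := h'.disc_ne_zero h2
    have hD := h.disc_ne_zero h2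
    have hD'0 : a' ^ 2 - 4 * b' ≠ 0 := by
      intro h0
      exact hD' ⟨0, by rw [h0]; ring⟩
    have hD0 : a ^ 2 - 4 * b ≠ 0 := by
      intro h0
      exact hD ⟨0, by rw [h0]; ring⟩
    obtain ⟨s, hs⟩ := isSquare_mul_of_not_isSquare hD hD'
    have hy : (a' ^ 2 - 4 * b') * (s / (a' ^ 2 - 4 * b')) ^ 2 = a ^ 2 - 4 * b := by
      field_simp
      linear_combination -hs
    generalize s / (a' ^ 2 - 4 * b') = y₀ at hy
    have hy₀ : y₀ ≠ 0 := by
      rintro rfl
      apply hD0
      rw [← hy]
      ring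
    have hx₁ : 2 * ((a - a' * y₀) / 2) = a - a' * y₀ := by field_simp
    have hx₂ : 2 * ((a + a' * y₀) / 2) = a + a' * y₀ := by field_simp
    generalize (a - a' * y₀) / 2 = x₁ at hx₁
    generalize (a + a' * y₀) / 2 = x₂ at hx₂
    rw [Nat.card_eq_two_iff]
    refine ⟨⟨(x₁, y₀), ?_, ?_⟩, ⟨(x₂, -y₀), ?_, ?_⟩, ?_, ?_⟩
    · show 2 * x₁ + a' * y₀ = a
      linear_combination hx₁
    · show x₁ ^ 2 + a' * x₁ * y₀ + b' * y₀ ^ 2 = b
      apply mul_left_cancel₀ h4
      linear_combination (2 * x₁ + a + a' * y₀) * hx₁ - hy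
    · show 2 * x₂ + a' * (-y₀) = a
      linear_combination hx₂
    · show x₂ ^ 2 + a' * x₂ * (-y₀) + b' * (-y₀) ^ 2 = b
      apply mul_left_cancel₀ h4
      linear_combination (2 * x₂ + a - a' * y₀) * hx₂ - hy
    · intro heq
      have h3 := congrArg (fun p : {p : F × F // 2 * p.1 + a' * p.2 = a ∧
        p.1 ^ 2 + a' * p.1 * p.2 + b' * p.2 ^ 2 = b} => p.1.2) heq
      simp only at h3
      apply hy₀
      apply mul_left_cancel₀ h2
      linear_combination h3
    · rw [Set.eq_univ_iff_forall]
      rintro ⟨⟨x, y⟩, h3, h5⟩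
      simp only at h3 h5
      have h6 : (a' ^ 2 - 4 * b') * ((y - y₀) * (y + y₀)) = 0 := by
        linear_combination (-4) * h5 + (a + 2 * x + a' * y) * h3 - hy
      rcases mul_eq_zero.mp h6 with h7 | h7
      · exact absurd h7 hD'0
      · rcases mul_eq_zero.mp h7 with h8 | h8
        · left
          apply Subtype.ext
          show (x, y) = (x₁, y₀)
          have hyy : y = y₀ := sub_eq_zero.mp h8
          subst hyy
          have : x = x₁ := by
            apply mul_left_cancel₀ h2
            linear_combination h3 - hx₁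
          rw [this]
        · right
          apply Subtype.ext
          show (x, y) = (x₂, -y₀)
          have hyy : y = -y₀ := by linear_combination h8
          subst hyy
          have : x = x₂ := by
            apply mul_left_cancel₀ h2
            linear_combination h3 - hx₂
          rw [this]

theorem AnisoPair.card_frames [Fintype F] {a' b' a b : F} (h' : AnisoPair a' b')
    (h : AnisoPair a b) :
    Nat.card {pp : (F × F) × (F × F) // nrm a' b' pp.1 = 1 ∧ nrm a' b' pp.2 = b ∧
      nrmPolar a' b' pp.1 pp.2 = a} = 2 * (Fintype.card F + 1) := by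
  classical
  have e1 : {pp : (F × F) × (F × F) // nrm a' b' pp.1 = 1 ∧ nrm a' b' pp.2 = b ∧
      nrmPolar a' b' pp.1 pp.2 = a} ≃
      Σ p1 : {p : F × F // nrm a' b' p = 1},
        {p2 : F × F // nrmPolar a' b' (p1 : F × F) p2 = a ∧ nrm a' b' p2 = b} :=
    { toFun := fun pp => ⟨⟨pp.1.1, pp.2.1⟩, ⟨pp.1.2, pp.2.2.2, pp.2.2.1⟩⟩
      invFun := fun s => ⟨(s.1.1, s.2.1), s.1.2, s.2.2.2, s.2.2.1⟩
      left_inv := fun pp => rfl
      right_inv := fun s => rfl }
  rw [Nat.card_congr e1, Nat.card_sigma]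
  have hfib : ∀ p1 : {p : F × F // nrm a' b' p = 1},
      Nat.card {p2 : F × F // nrmPolar a' b' (p1 : F × F) p2 = a ∧ nrm a' b' p2 = b} = 2 := by
    rintro ⟨p1, hp1⟩
    rw [← h'.card_second h]
    symm
    have hp10 : p1 ≠ 0 := by
      rintro rfl
      rw [nrm_zero] at hp1
      exact zero_ne_one hp1
    refine Nat.card_congr ((Equiv.ofBijective _ (h'.nmul_bijective p1 hp10)).subtypeEquiv ?_)
    intro p
    show _ ↔ nrmPolar a' b' p1 (nmul a' b' p1 p) = a ∧ nrm a' b' (nmul a' b' p1 p) = b
    have : nrmPolar a' b' p1 (nmul a' b' p1 p) = nrmPolar a' b' (1, 0) p := by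
      have h3 := nrmPolar_nmul a' b' p1 (1, 0) p
      rw [nmul_one, hp1, one_mul] at h3
      exact h3
    rw [this, nrm_nmul, hp1, one_mul]
  simp only [hfib, Finset.sum_const, Finset.card_univ, smul_eq_mul]
  rw [← Nat.card_eq_fintype_card, h'.card_nrm_eq_one, mul_comm]

end Concrete

section Abstract

open Module QuadraticMap

universe u

variable {F : Type*} [Field F] [Fintype F] {W : Type u} [AddCommGroup W] [Module F W]
  [FiniteDimensional F W]

/-- In a nondegenerate anisotropic plane over a finite field, the number of pairs with prescribed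
anisotropic Gram data `(1, a, b)` is `2 (q + 1)`. -/
theorem card_aniso_frames (Q : QuadraticForm F W) (hQ : (polarBilin Q).Nondegenerate)
    (hdim : finrank F W = 2) (haniso : ∀ w, Q w = 0 → w = 0) {a b : F} (h : AnisoPair a b) :
    Nat.card {zz : W × W // Q zz.1 = 1 ∧ Q zz.2 = b ∧ polar Q zz.1 zz.2 = a} =
      2 * (Fintype.card F + 1) := by
  obtain ⟨z1, hz1⟩ := exists_eq_one Q hQ (by omega)
  have hz10 : z1 ≠ 0 := by
    rintro rfl
    simp at hz1
  obtain ⟨w, hw1, hw2⟩ := exists_indep_partner Q hQ (by omega) z1 hz10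
  let φ : (F × F) →ₗ[F] W :=
    { toFun := fun p => p.1 • z1 + p.2 • w
      map_add' := fun p p' => by
        simp only [Prod.fst_add, Prod.snd_add, add_smul]
        abel
      map_smul' := fun c p => by
        simp only [Prod.smul_fst, Prod.smul_snd, smul_eq_mul, mul_smul, RingHom.id_apply, smul_add] }
  have hφ : ∀ p : F × F, φ p = p.1 • z1 + p.2 • w := fun p => rfl
  have hQφ : ∀ p : F × F, Q (φ p) = nrm 1 (Q w) p := by
    intro p
    rw [hφ, map_add_eq, QuadraticMap.map_smul, QuadraticMap.map_smul, polar_smul_left,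
      polar_smul_right, hz1, hw1]
    simp only [nrm, smul_eq_mul]
    ring
  have hpolφ : ∀ p p' : F × F, polar Q (φ p) (φ p') = nrmPolar 1 (Q w) p p' := by
    intro p p'
    unfold polar
    rw [← map_add, hQφ, hQφ, hQφ]
    simp only [nrm, nrmPolar, Prod.fst_add, Prod.snd_add]
    ring
  have hinj : Function.Injective φ := by
    rw [← LinearMap.ker_eq_bot, LinearMap.ker_eq_bot']
    rintro ⟨x, y⟩ hxy
    rw [hφ] at hxy
    simp only at hxy
    have hy : y = 0 := by
      by_contra hy
      apply hw2 (-x / y)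
      have : y • w = -(x • z1) := eq_neg_of_add_eq_zero_right hxy
      have h3 : w = y⁻¹ • (y • w) := by rw [smul_smul, inv_mul_cancel₀ hy, one_smul]
      rw [h3, this, smul_neg, smul_smul, ← neg_smul]
      congr 1
      field_simp
    subst hy
    rw [zero_smul, add_zero] at hxy
    have hx : x = 0 := by
      rcases smul_eq_zero.mp hxy with h3 | h3
      · exact h3
      · exact absurd h3 hz10
    rw [hx]
    rfl
  have hsurj : Function.Surjective φ := by
    apply (LinearMap.injective_iff_surjective_of_finrank_eq_finrank _).mp hinj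
    rw [hdim, Module.finrank_prod, Module.finrank_self]
  have hA : AnisoPair 1 (Q w) := by
    intro x y hxy
    have h3 : Q (φ (x, y)) = 0 := by
      rw [hQφ]
      exact hxy
    have h4 := haniso _ h3
    have h5 : φ (x, y) = φ 0 := by rw [h4, map_zero]
    have h6 := hinj h5
    exact ⟨congrArg Prod.fst h6, congrArg Prod.snd h6⟩
  rw [← hA.card_frames h]
  symm
  let ψ : (F × F) ≃ W := Equiv.ofBijective φ ⟨hinj, hsurj⟩
  refine Nat.card_congr ((Equiv.prodCongr ψ ψ).subtypeEquiv ?_)
  rintro ⟨p, p'⟩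
  show _ ↔ Q (φ p) = 1 ∧ Q (φ p') = b ∧ polar Q (φ p) (φ p') = a
  rw [hQφ, hQφ, hpolφ]

end Abstract

end Cfsg.Agent.Helper43
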