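import Mathlib
import Cfsg.Agent.Lib.Helper43.QuadWitt

set_option autoImplicit false

namespace Cfsg.Agent.Helper43

open Module QuadraticMap

universe u

section Pair

variable {F : Type*} [Field F] {V : Type u} [AddCommGroup V] [Module F V]

/-- A hyperbolic pair. -/
def IsHypPair (Q : QuadraticForm F V) (e f : V) : Prop := Q e = 0 ∧ Q f = 0 ∧ polar Q e f = 1

/-- The orthogonal complement of a pair of vectors. -/
def pairOrth (Q : QuadraticForm F V) (e f : V) : Submodule F V :=
  LinearMap.ker (polarBilin Q e) ⊓ LinearMap.ker (polarBilin Q f)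

theorem mem_pairOrth {Q : QuadraticForm F V} {e f w : V} :
    w ∈ pairOrth Q e f ↔ polar Q e w = 0 ∧ polar Q f w = 0 := by
  simp only [pairOrth, Submodule.mem_inf, LinearMap.mem_ker, polarBilin_apply_apply]

theorem IsHypPair.q_decomp {Q : QuadraticForm F V} {e f : V} (h : IsHypPair Q e f) (x y : F)
    (w : V) (hw : w ∈ pairOrth Q e f) : Q (x • e + y • f + w) = x * y + Q w := by
  obtain ⟨he, hf, hef⟩ := h
  obtain ⟨hw1, hw2⟩ := mem_pairOrth.mp hw
  rw [map_add_eq, map_add_eq, QuadraticMap.map_smul, QuadraticMap.map_smul, he, hf,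
    polar_add_left, polar_smul_left, polar_smul_left, polar_smul_left, polar_smul_right, hef,
    hw1, hw2]
  simp only [smul_eq_mul]
  ring

theorem IsHypPair.polar_e {Q : QuadraticForm F V} {e f : V} (h : IsHypPair Q e f) (x y : F)
    (w : V) (hw : w ∈ pairOrth Q e f) : polar Q e (x • e + y • f + w) = y := by
  obtain ⟨he, hf, hef⟩ := h
  obtain ⟨hw1, hw2⟩ := mem_pairOrth.mp hw
  rw [polar_add_right, polar_add_right, polar_smul_right, polar_smul_right, polar_self, he, hef,
    hw1]
  simp

theorem IsHypPair.polar_f {Q : QuadraticForm F V} {e f : V} (h : IsHypPair Q e f) (x y : F)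
    (w : V) (hw : w ∈ pairOrth Q e f) : polar Q f (x • e + y • f + w) = x := by
  obtain ⟨he, hf, hef⟩ := h
  obtain ⟨hw1, hw2⟩ := mem_pairOrth.mp hw
  rw [polar_add_right, polar_add_right, polar_smul_right, polar_smul_right, polar_self, hf,
    polar_comm Q f e, hef, hw2]
  simp

theorem IsHypPair.sub_mem {Q : QuadraticForm F V} {e f : V} (h : IsHypPair Q e f) (v : V) :
    v - polar Q f v • e - polar Q e v • f ∈ pairOrth Q e f := by
  obtain ⟨he, hf, hef⟩ := h
  rw [mem_pairOrth]
  constructor
  · rw [polar_sub_right, polar_sub_right, polar_smul_right, polar_smul_right, polar_self, he,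
      hef]
    simp
  · rw [polar_sub_right, polar_sub_right, polar_smul_right, polar_smul_right, polar_self, hf,
      polar_comm Q f e, hef]
    simp

/-- The decomposition `V = F e ⊕ F f ⊕ ⟨e, f⟩^⊥` for a hyperbolic pair. -/
def IsHypPair.decomp {Q : QuadraticForm F V} {e f : V} (h : IsHypPair Q e f) :
    (F × F × pairOrth Q e f) ≃ₗ[F] V where
  toFun p := p.1 • e + p.2.1 • f + (p.2.2 : V)
  map_add' p p' := by
    simp only [Prod.fst_add, Prod.snd_add, add_smul, Submodule.coe_add]
    abel
  map_smul' c p := by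
    simp only [Prod.smul_fst, Prod.smul_snd, smul_eq_mul, mul_smul, Submodule.coe_smul,
      RingHom.id_apply, smul_add]
  invFun v := (polar Q f v, polar Q e v, ⟨v - polar Q f v • e - polar Q e v • f, h.sub_mem v⟩)
  left_inv p := by
    obtain ⟨x, y, ⟨w, hw⟩⟩ := p
    simp only [h.polar_f x y w hw, h.polar_e x y w hw]
    refine Prod.ext rfl (Prod.ext rfl (Subtype.ext ?_))
    show x • e + y • f + w - x • e - y • f = w
    abel
  right_inv v := by
    simp

theorem IsHypPair.decomp_apply {Q : QuadraticForm F V} {e f : V} (h : IsHypPair Q e f)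
    (p : F × F × pairOrth Q e f) : h.decomp p = p.1 • e + p.2.1 • f + (p.2.2 : V) := rfl

theorem IsHypPair.q_decomp' {Q : QuadraticForm F V} {e f : V} (h : IsHypPair Q e f)
    (p : F × F × pairOrth Q e f) : Q (h.decomp p) = p.1 * p.2.1 + Q (p.2.2 : V) :=
  h.q_decomp _ _ _ p.2.2.2

theorem IsHypPair.ne_zero {Q : QuadraticForm F V} {e f : V} (h : IsHypPair Q e f) : e ≠ 0 := by
  rintro rfl
  have := h.2.2
  simp at this

theorem IsHypPair.finrank_pairOrth [FiniteDimensional F V] {Q : QuadraticForm F V} {e f : V}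
    (h : IsHypPair Q e f) : finrank F (pairOrth Q e f) + 2 = finrank F V := by
  have := h.decomp.finrank_eq
  rw [Module.finrank_prod, Module.finrank_prod, Module.finrank_self] at this
  omega

theorem IsHypPair.nondegenerate_restrict {Q : QuadraticForm F V} {e f : V}
    (h : IsHypPair Q e f) (hQ : (polarBilin Q).Nondegenerate) :
    (polarBilin (qrestrict Q (pairOrth Q e f))).Nondegenerate := by
  rw [(polarBilin_isRefl _).nondegenerate_iff_separatingLeft]
  rintro ⟨w, hw⟩ hw'
  apply Subtype.ext
  show w = 0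
  apply hQ.1 w
  intro v
  obtain ⟨⟨x, y, ⟨w', hw''⟩⟩, rfl⟩ := h.decomp.surjective v
  obtain ⟨hw1, hw2⟩ := mem_pairOrth.mp hw
  rw [h.decomp_apply, polarBilin_apply_apply, polar_add_right, polar_add_right, polar_smul_right,
    polar_smul_right, polar_comm Q w e, polar_comm Q w f, hw1, hw2]
  have := hw' ⟨w', hw''⟩
  rw [polarBilin_apply_apply, polar_qrestrict] at this
  simp only at this
  rw [this]
  simp

end Pair

section Ext

variable {F : Type*} [Field F] {V : Type u} [AddCommGroup V] [Module F V]

/-- Two quadratic forms agreeing on a spanning family (values and polar values) are equal. -/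
theorem quadraticForm_ext_of_span {ι : Type*} (Q₁ Q₂ : QuadraticForm F V) (b : ι → V)
    (hb : Submodule.span F (Set.range b) = ⊤)
    (h1 : ∀ i, Q₁ (b i) = Q₂ (b i))
    (h2 : ∀ i j, polar Q₁ (b i) (b j) = polar Q₂ (b i) (b j)) : Q₁ = Q₂ := by
  have hp : polarBilin Q₁ = polarBilin Q₂ := by
    apply LinearMap.ext_on_range hb
    intro i
    apply LinearMap.ext_on_range hb
    intro j
    exact h2 i j
  have hp' : ∀ x y, polar Q₁ x y = polar Q₂ x y := by
    intro x y
    have := LinearMap.congr_fun (LinearMap.congr_fun hp x) y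
    simpa using this
  ext v
  have hv : v ∈ Submodule.span F (Set.range b) := by rw [hb]; trivial
  induction hv using Submodule.span_induction with
  | mem x hx =>
    obtain ⟨i, rfl⟩ := hx
    exact h1 i
  | zero => simp
  | add x y _ _ hx hy => rw [map_add_eq, map_add_eq, hx, hy, hp']
  | smul c x _ hx => rw [QuadraticMap.map_smul, QuadraticMap.map_smul, hx]

end Ext

section Count

variable {F : Type*} [Field F] [Fintype F] {V : Type u} [AddCommGroup V] [Module F V]

open Classical in
/-- The number of solutions of `x * y = c`. -/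
theorem card_mul_eq (c : F) :
    Nat.card {p : F × F // p.1 * p.2 = c} =
      (Fintype.card F - 1) + if c = 0 then Fintype.card F else 0 := by
  classical
  rw [Nat.card_congr (Equiv.subtypeProdEquivSigmaSubtype (fun (x y : F) => x * y = c))]
  rw [Nat.card_eq_fintype_card, Fintype.card_sigma]
  rw [← Finset.add_sum_erase Finset.univ _ (Finset.mem_univ (0 : F)), add_comm]
  congr 1
  · rw [Finset.sum_congr rfl (g := fun _ => 1)]
    · simp [Finset.card_erase_of_mem]
    · intro x hx
      have hx0 := Finset.ne_of_mem_erase hx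
      rw [Fintype.card_eq_one_iff]
      refine ⟨⟨c / x, by field_simp⟩, ?_⟩
      rintro ⟨y, hy⟩
      apply Subtype.ext
      show y = c / x
      rw [← hy]
      field_simp
  · split_ifs with hc
    · subst hc
      rw [Fintype.card_subtype]
      simp
    · rw [Fintype.card_eq_zero_iff]
      constructor
      rintro ⟨y, hy⟩
      apply hc
      rw [← hy, zero_mul]

/-- The recursion for the number of singular vectors. -/
theorem IsHypPair.card_sing [Finite V] {Q : QuadraticForm F V} {e f : V} (h : IsHypPair Q e f) :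
    Nat.card {v : V // Q v = 0} =
      Fintype.card F * Nat.card {w : pairOrth Q e f // Q (w : V) = 0} +
        (Fintype.card F - 1) * Nat.card (pairOrth Q e f) := by
  classical
  have : Fintype (pairOrth Q e f) := Fintype.ofFinite _
  have e1 : {p : F × F × pairOrth Q e f // p.1 * p.2.1 + Q (p.2.2 : V) = 0} ≃ {v : V // Q v = 0} :=
    h.decomp.toEquiv.subtypeEquiv (fun p => by
      show _ ↔ Q (h.decomp p) = 0
      rw [h.q_decomp'])
  have e2 : {p : F × F × pairOrth Q e f // p.1 * p.2.1 + Q (p.2.2 : V) = 0} ≃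
      Σ w : pairOrth Q e f, {xy : F × F // xy.1 * xy.2 = - Q (w : V)} :=
    { toFun := fun p => ⟨p.1.2.2, ⟨(p.1.1, p.1.2.1), by
        have := p.2
        show p.1.1 * p.1.2.1 = - Q (p.1.2.2 : V)
        linear_combination this⟩⟩
      invFun := fun s => ⟨(s.2.1.1, s.2.1.2, s.1), by
        have := s.2.2
        show s.2.1.1 * s.2.1.2 + Q (s.1 : V) = 0
        linear_combination this⟩
      left_inv := fun p => rfl
      right_inv := fun s => rfl }
  rw [← Nat.card_congr e1, Nat.card_congr e2, Nat.card_sigma]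
  simp only [card_mul_eq, neg_eq_zero]
  rw [Finset.sum_add_distrib, Finset.sum_const, Finset.card_univ, smul_eq_mul]
  have h1 : Nat.card (pairOrth Q e f) = Fintype.card (pairOrth Q e f) := Nat.card_eq_fintype_card
  have h2 : Nat.card {w : pairOrth Q e f // Q (w : V) = 0} =
      (Finset.univ.filter fun w : pairOrth Q e f => Q (w : V) = 0).card := by
    rw [Nat.card_eq_fintype_card, Fintype.card_subtype]
  rw [h1, h2, ← Finset.sum_filter, Finset.sum_const, smul_eq_mul]
  ring

/-- The number of hyperbolic partners of a nonzero singular vector. -/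
theorem card_partners [FiniteDimensional F V] {Q : QuadraticForm F V}
    (hQ : (polarBilin Q).Nondegenerate) (e : V) (he : e ≠ 0) (hQe : Q e = 0) :
    Nat.card {f : V // Q f = 0 ∧ polar Q e f = 1} = Fintype.card F ^ (finrank F V - 2) := by
  obtain ⟨f₀, hf₀, hef₀⟩ := exists_hyperbolic_partner Q hQ e he hQe
  have h : IsHypPair Q e f₀ := ⟨hQe, hf₀, hef₀⟩
  have e1 : {p : F × F × pairOrth Q e f₀ // p.1 * p.2.1 + Q (p.2.2 : V) = 0 ∧ p.2.1 = 1} ≃
      {f : V // Q f = 0 ∧ polar Q e f = 1} :=
    h.decomp.toEquiv.subtypeEquiv (fun p => by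
      show _ ↔ Q (h.decomp p) = 0 ∧ polar Q e (h.decomp p) = 1
      rw [h.q_decomp', h.decomp_apply, h.polar_e _ _ _ p.2.2.2])
  have e2 : {p : F × F × pairOrth Q e f₀ // p.1 * p.2.1 + Q (p.2.2 : V) = 0 ∧ p.2.1 = 1} ≃
      pairOrth Q e f₀ :=
    { toFun := fun p => p.1.2.2
      invFun := fun w => ⟨(- Q (w : V), 1, w), by simp⟩
      left_inv := by
        rintro ⟨⟨x, y, w⟩, h1, h2⟩
        simp only at h1 h2
        subst h2
        apply Subtype.ext
        simp only [Prod.mk.injEq, and_true]
        linear_combination -h1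
      right_inv := fun w => rfl }
  rw [← Nat.card_congr e1, Nat.card_congr e2]
  have h1 := Module.natCard_eq_pow_finrank (K := F) (V := pairOrth Q e f₀)
  rw [h1, Nat.card_eq_fintype_card]
  congr 1
  have := h.finrank_pairOrth
  omega

/-- The number of hyperbolic pairs. -/
theorem card_hypPair [FiniteDimensional F V] {Q : QuadraticForm F V}
    (hQ : (polarBilin Q).Nondegenerate) :
    Nat.card {p : V × V // IsHypPair Q p.1 p.2} =
      (Nat.card {v : V // Q v = 0} - 1) * Fintype.card F ^ (finrank F V - 2) := by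
  classical
  have : Finite V := Module.finite_of_finite F
  have : Fintype V := Fintype.ofFinite _
  have e1 : {p : V × V // IsHypPair Q p.1 p.2} ≃
      Σ e : {e : V // Q e = 0 ∧ e ≠ 0}, {f : V // Q f = 0 ∧ polar Q (e : V) f = 1} :=
    { toFun := fun p => ⟨⟨p.1.1, p.2.1, p.2.ne_zero⟩, ⟨p.1.2, p.2.2.1, p.2.2.2⟩⟩
      invFun := fun s => ⟨(s.1.1, s.2.1), s.1.2.1, s.2.2.1, s.2.2.2⟩
      left_inv := fun p => rfl
      right_inv := fun s => rfl }
  rw [Nat.card_congr e1, Nat.card_sigma]
  have : ∀ e : {e : V // Q e = 0 ∧ e ≠ 0},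
      Nat.card {f : V // Q f = 0 ∧ polar Q (e : V) f = 1} = Fintype.card F ^ (finrank F V - 2) :=
    fun e => card_partners hQ e.1 e.2.2 e.2.1
  simp only [this, Finset.sum_const, Finset.card_univ, smul_eq_mul]
  congr 1
  rw [Nat.card_eq_fintype_card, Fintype.card_subtype, Fintype.card_subtype]
  have : (Finset.univ.filter fun e : V => Q e = 0 ∧ e ≠ 0) =
      (Finset.univ.filter fun e : V => Q e = 0).erase 0 := by
    ext x
    simp [and_comm]
  rw [this, Finset.card_erase_of_mem (by simp)]

end Count

section Fam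

variable {F : Type*} [Field F] {V : Type u} [AddCommGroup V] [Module F V]

/-- The head of a hyperbolic family. -/
def hypFamHead (Q : QuadraticForm F V) (k : ℕ)
    (p : {p : (Fin (k + 1) → V) × (Fin (k + 1) → V) // IsHypFamily Q p.1 p.2}) :
    {h : V × V // IsHypPair Q h.1 h.2} :=
  ⟨(p.1.1 0, p.1.2 0), p.2.qe 0, p.2.qf 0, by simpa using p.2.ef 0 0⟩

theorem hypFamHead_fst {Q : QuadraticForm F V} {k : ℕ} {h : {h : V × V // IsHypPair Q h.1 h.2}}
    (p : {p : {p : (Fin (k + 1) → V) × (Fin (k + 1) → V) // IsHypFamily Q p.1 p.2} //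
      hypFamHead Q k p = h}) : h.1.1 = p.1.1.1 0 :=
  (congrArg (fun x : {h : V × V // IsHypPair Q h.1 h.2} => x.1.1) p.2).symm

theorem hypFamHead_snd {Q : QuadraticForm F V} {k : ℕ} {h : {h : V × V // IsHypPair Q h.1 h.2}}
    (p : {p : {p : (Fin (k + 1) → V) × (Fin (k + 1) → V) // IsHypFamily Q p.1 p.2} //
      hypFamHead Q k p = h}) : h.1.2 = p.1.1.2 0 :=
  (congrArg (fun x : {h : V × V // IsHypPair Q h.1 h.2} => x.1.2) p.2).symm

/-- The fibre of the head map over a hyperbolic pair is the set of hyperbolic families of the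
orthogonal complement of the pair. -/
def hypFibreEquiv (Q : QuadraticForm F V) (k : ℕ) (h : {h : V × V // IsHypPair Q h.1 h.2}) :
    {p : {p : (Fin (k + 1) → V) × (Fin (k + 1) → V) // IsHypFamily Q p.1 p.2} //
      hypFamHead Q k p = h} ≃
    {p' : (Fin k → pairOrth Q h.1.1 h.1.2) × (Fin k → pairOrth Q h.1.1 h.1.2) //
      IsHypFamily (qrestrict Q (pairOrth Q h.1.1 h.1.2)) p'.1 p'.2} where
  toFun p := ⟨(fun i => ⟨p.1.1.1 i.succ, by
        rw [mem_pairOrth, hypFamHead_fst p, hypFamHead_snd p]
        refine ⟨p.1.2.ee 0 i.succ, ?_⟩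
        rw [polar_comm, p.1.2.ef i.succ 0]
        simp [Fin.succ_ne_zero]⟩,
      fun i => ⟨p.1.1.2 i.succ, by
        rw [mem_pairOrth, hypFamHead_fst p, hypFamHead_snd p]
        refine ⟨?_, p.1.2.ff 0 i.succ⟩
        rw [p.1.2.ef 0 i.succ]
        simp [(Fin.succ_ne_zero i).symm]⟩), by
      refine ⟨fun i => p.1.2.qe i.succ, fun i => p.1.2.qf i.succ, fun i j => ?_,
        fun i j => p.1.2.ee i.succ j.succ, fun i j => p.1.2.ff i.succ j.succ⟩
      show polar Q (p.1.1.1 i.succ) (p.1.1.2 j.succ) = _
      rw [p.1.2.ef i.succ j.succ]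
      simp [Fin.succ_inj]⟩
  invFun p' := ⟨⟨(Fin.cons h.1.1 (fun i => (p'.1.1 i : V)),
      Fin.cons h.1.2 (fun i => (p'.1.2 i : V))), by
      have he : ∀ i, polar Q h.1.1 (p'.1.1 i : V) = 0 ∧ polar Q h.1.2 (p'.1.1 i : V) = 0 :=
        fun i => mem_pairOrth.mp (p'.1.1 i).2
      have hf : ∀ i, polar Q h.1.1 (p'.1.2 i : V) = 0 ∧ polar Q h.1.2 (p'.1.2 i : V) = 0 :=
        fun i => mem_pairOrth.mp (p'.1.2 i).2
      have hh := h.2
      refine ⟨fun i => ?_, fun i => ?_, fun i j => ?_, fun i j => ?_, fun i j => ?_⟩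
      · refine Fin.cases ?_ (fun i => ?_) i
        · simpa using hh.1
        · simpa using p'.2.qe i
      · refine Fin.cases ?_ (fun i => ?_) i
        · simpa using hh.2.1
        · simpa using p'.2.qf i
      · refine Fin.cases ?_ (fun i => ?_) i <;> refine Fin.cases ?_ (fun j => ?_) j
        · simpa using hh.2.2
        · simpa [(Fin.succ_ne_zero j).symm] using (hf j).1
        · have := (he i).2
          rw [polar_comm] at this
          simpa [Fin.succ_ne_zero] using this
        · have := p'.2.ef i j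
          rw [polar_qrestrict] at this
          simpa [Fin.succ_inj] using this
      · refine Fin.cases ?_ (fun i => ?_) i <;> refine Fin.cases ?_ (fun j => ?_) j
        · simp [polar_self, hh.1]
        · simpa using (he j).1
        · have := (he i).1
          rw [polar_comm] at this
          simpa using this
        · have := p'.2.ee i j
          rw [polar_qrestrict] at this
          simpa using this
      · refine Fin.cases ?_ (fun i => ?_) i <;> refine Fin.cases ?_ (fun j => ?_) j
        · simp [polar_self, hh.2.1]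
        · simpa using (hf j).2
        · have := (hf i).2
          rw [polar_comm] at this
          simpa using this
        · have := p'.2.ff i j
          rw [polar_qrestrict] at this
          simpa using this⟩, by
      apply Subtype.ext
      simp [hypFamHead]⟩
  left_inv p := by
    apply Subtype.ext
    apply Subtype.ext
    have h1 : p.1.1.1 0 = h.1.1 := (hypFamHead_fst p).symm
    have h2 : p.1.1.2 0 = h.1.2 := (hypFamHead_snd p).symm
    apply Prod.ext
    · funext i
      refine Fin.cases ?_ (fun i => ?_) i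
      · simp [h1]
      · simp
    · funext i
      refine Fin.cases ?_ (fun i => ?_) i
      · simp [h2]
      · simp
  right_inv p' := by
    apply Subtype.ext
    apply Prod.ext
    · funext i
      apply Subtype.ext
      simp
    · funext i
      apply Subtype.ext
      simp

end Fam

section Induction

variable {F : Type*} [Field F] [Fintype F]

/-- The number of hyperbolic families of size `k` in a nondegenerate quadratic space whose number
of singular vectors follows the sequence `nS`. -/
theorem card_hypFam (d₀ : ℕ) (nS : ℕ → ℕ)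
    (hS : ∀ j, nS (j + 1) = Fintype.card F * nS j +
      (Fintype.card F - 1) * Fintype.card F ^ (d₀ + 2 * j)) (k : ℕ) :
    ∀ (j : ℕ) (V : Type u) [AddCommGroup V] [Module F V] [FiniteDimensional F V]
      (Q : QuadraticForm F V), (polarBilin Q).Nondegenerate → finrank F V = d₀ + 2 * (j + k) →
      Nat.card {v : V // Q v = 0} = nS (j + k) →
      Nat.card {p : (Fin k → V) × (Fin k → V) // IsHypFamily Q p.1 p.2} =
        ∏ i ∈ Finset.range k, ((nS (j + i + 1) - 1) * Fintype.card F ^ (d₀ + 2 * (j + i))) := by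
  induction k with
  | zero =>
    intro j V _ _ _ Q _ _ _
    have : Unique {p : (Fin 0 → V) × (Fin 0 → V) // IsHypFamily Q p.1 p.2} :=
      { default := ⟨(Fin.elim0, Fin.elim0), ⟨fun i => i.elim0, fun i => i.elim0,
          fun i => i.elim0, fun i => i.elim0, fun i => i.elim0⟩⟩
        uniq := fun p => by
          apply Subtype.ext
          apply Prod.ext <;> (funext i; exact i.elim0) }
    simp
  | succ k ih =>
    intro j V _ _ _ Q hQ hd hN
    have : Finite V := Module.finite_of_finite F
    classical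
    have : Fintype V := Fintype.ofFinite V
    have hq : 0 < Fintype.card F := Fintype.card_pos
    rw [← Nat.card_congr (Equiv.sigmaFiberEquiv (hypFamHead Q k)), Nat.card_sigma]
    have hfib : ∀ h : {h : V × V // IsHypPair Q h.1 h.2},
        Nat.card {p : {p : (Fin (k + 1) → V) × (Fin (k + 1) → V) // IsHypFamily Q p.1 p.2} //
          hypFamHead Q k p = h} =
        ∏ i ∈ Finset.range k, ((nS (j + i + 1) - 1) * Fintype.card F ^ (d₀ + 2 * (j + i))) := by
      intro h
      rw [Nat.card_congr (hypFibreEquiv Q k h)]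
      have hfr := h.2.finrank_pairOrth
      have hfr' : finrank F (pairOrth Q h.1.1 h.1.2) = d₀ + 2 * (j + k) := by omega
      apply ih j (pairOrth Q h.1.1 h.1.2) (qrestrict Q (pairOrth Q h.1.1 h.1.2))
        (h.2.nondegenerate_restrict hQ) hfr'
      -- the number of singular vectors of the complement
      have h1 := h.2.card_sing
      have h2 := Module.natCard_eq_pow_finrank (K := F) (V := pairOrth Q h.1.1 h.1.2)
      rw [hfr', Nat.card_eq_fintype_card (α := F)] at h2
      rw [hN, h2] at h1
      have h3 := hS (j + k)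
      have h4 : j + (k + 1) = j + k + 1 := by ring
      rw [h4, h3] at h1
      have h5 := Nat.add_right_cancel h1
      have h6 := Nat.eq_of_mul_eq_mul_left hq h5
      exact h6.symm
    simp only [hfib, Finset.sum_const, Finset.card_univ, smul_eq_mul]
    rw [← Nat.card_eq_fintype_card, card_hypPair hQ, hd, hN, Finset.prod_range_succ]
    have e1 : d₀ + 2 * (j + (k + 1)) - 2 = d₀ + 2 * (j + k) := by omega
    have e2 : j + (k + 1) = j + k + 1 := by ring
    rw [e1, e2]
    ring

/-- Passing to the orthogonal complement of a hyperbolic pair lowers the level by one. -/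
theorem IsHypPair.level_down (d₀ : ℕ) (nS : ℕ → ℕ)
    (hS : ∀ j, nS (j + 1) = Fintype.card F * nS j +
      (Fintype.card F - 1) * Fintype.card F ^ (d₀ + 2 * j))
    {V : Type u} [AddCommGroup V] [Module F V] [FiniteDimensional F V]
    {Q : QuadraticForm F V} {e₀ f₀ : V} (h : IsHypPair Q e₀ f₀) (n : ℕ)
    (hd : finrank F V = d₀ + 2 * (n + 1)) (hN : Nat.card {v : V // Q v = 0} = nS (n + 1)) :
    finrank F (pairOrth Q e₀ f₀) = d₀ + 2 * n ∧
      Nat.card {w : pairOrth Q e₀ f₀ // qrestrict Q (pairOrth Q e₀ f₀) w = 0} = nS n := by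
  have : Finite V := Module.finite_of_finite F
  have hq : 0 < Fintype.card F := Fintype.card_pos
  have hfr := h.finrank_pairOrth
  have hfr' : finrank F (pairOrth Q e₀ f₀) = d₀ + 2 * n := by omega
  refine ⟨hfr', ?_⟩
  have h1 := h.card_sing
  have h2 := Module.natCard_eq_pow_finrank (K := F) (V := pairOrth Q e₀ f₀)
  rw [hfr', Nat.card_eq_fintype_card (α := F)] at h2
  rw [hN, h2, hS n] at h1
  have h5 := Nat.add_right_cancel h1
  have h6 := Nat.eq_of_mul_eq_mul_left hq h5
  exact h6.symm

/-- The number of singular vectors in the orthogonal complement of a hyperbolic family. -/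
theorem card_sing_compl (d₀ : ℕ) (nS : ℕ → ℕ)
    (hS : ∀ j, nS (j + 1) = Fintype.card F * nS j +
      (Fintype.card F - 1) * Fintype.card F ^ (d₀ + 2 * j)) (k : ℕ) :
    ∀ (j : ℕ) (V : Type u) [AddCommGroup V] [Module F V] [FiniteDimensional F V]
      (Q : QuadraticForm F V), (polarBilin Q).Nondegenerate → finrank F V = d₀ + 2 * (j + k) →
      Nat.card {v : V // Q v = 0} = nS (j + k) → ∀ (e f : Fin k → V), IsHypFamily Q e f →
      Nat.card {z : V // ((∀ i, polar Q (e i) z = 0) ∧ (∀ i, polar Q (f i) z = 0)) ∧ Q z = 0} =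
        nS j := by
  induction k with
  | zero =>
    intro j V _ _ _ Q _ _ hN e f _
    rw [add_zero] at hN
    rw [← hN]
    exact Nat.card_congr (Equiv.subtypeEquivRight (fun z =>
      ⟨fun h => h.2, fun h => ⟨⟨fun i => i.elim0, fun i => i.elim0⟩, h⟩⟩))
  | succ k ih =>
    intro j V _ _ _ Q hQ hd hN e f h
    have hp : IsHypPair Q (e 0) (f 0) := ⟨h.qe 0, h.qf 0, by simpa using h.ef 0 0⟩
    obtain ⟨hfr, hN'⟩ := hp.level_down d₀ nS hS (j + k) hd hN
    let p : {p : (Fin (k + 1) → V) × (Fin (k + 1) → V) // IsHypFamily Q p.1 p.2} := ⟨(e, f), h⟩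
    let p' := hypFibreEquiv Q k (hypFamHead Q k p) ⟨p, rfl⟩
    have key := ih j (pairOrth Q (e 0) (f 0)) (qrestrict Q (pairOrth Q (e 0) (f 0)))
      (hp.nondegenerate_restrict hQ) hfr hN' p'.1.1 p'.1.2 p'.2
    rw [← key]
    refine Nat.card_congr
      { toFun := fun z => ⟨⟨z.1, mem_pairOrth.mpr ⟨z.2.1.1 0, z.2.1.2 0⟩⟩,
          ⟨⟨fun i => z.2.1.1 i.succ, fun i => z.2.1.2 i.succ⟩, z.2.2⟩⟩
        invFun := fun z' => ⟨z'.1.1,
          ⟨⟨fun i => Fin.cases (motive := fun i => polar Q (e i) z'.1.1 = 0)
              (mem_pairOrth.mp z'.1.2).1 (fun i' => z'.2.1.1 i') i,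
            fun i => Fin.cases (motive := fun i => polar Q (f i) z'.1.1 = 0)
              (mem_pairOrth.mp z'.1.2).2 (fun i' => z'.2.1.2 i') i⟩, z'.2.2⟩⟩
        left_inv := fun z => rfl
        right_inv := fun z' => rfl }

end Induction

end Cfsg.Agent.Helper43
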