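import Mathlib
import Cfsg.Prelude.Def_Classical
import Cfsg.Agent.Lib.Helper43.OrthCard

set_option autoImplicit false

namespace Cfsg.Agent.Helper43

open Module QuadraticMap Matrix

section Frame

variable {F : Type*} [Field F] {ι : Type} [Fintype ι] [DecidableEq ι]

theorem mem_isometryGroup_iff (Q : (ι → F) → F) (g : GL ι F) :
    g ∈ Cfsg.isometryGroup F Q ↔ ∀ u, Q ((g : Matrix ι ι F) *ᵥ u) = Q u :=
  ⟨fun h u => h u u, fun h u _ => h u⟩

/-- Frames with the same Gram data as the standard basis. -/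
def GramFrame (Q₀ : QuadraticForm F (ι → F)) : Type _ :=
  {c : ι → (ι → F) // (∀ a, Q₀ (c a) = Q₀ (Pi.single a 1)) ∧
    ∀ a b, polar Q₀ (c a) (c b) = polar Q₀ (Pi.single a 1) (Pi.single b 1)}

theorem preserves_of_gramFrame (Q₀ : QuadraticForm F (ι → F)) (c : GramFrame Q₀) (u : ι → F) :
    Q₀ ((Matrix.of fun r a => c.1 a r) *ᵥ u) = Q₀ u := by
  have hcol : ∀ a, (Matrix.of fun r a => c.1 a r : Matrix ι ι F) *ᵥ Pi.single a 1 = c.1 a := by
    intro a
    ext r
    simp
  have key : Q₀.comp (Matrix.toLin' (Matrix.of fun r a => c.1 a r : Matrix ι ι F)) = Q₀ := by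
    apply quadraticForm_ext_of_span _ _ (fun a : ι => (Pi.single a 1 : ι → F))
    · have h := (Pi.basisFun F ι).span_eq
      have e : (fun a : ι => (Pi.single a 1 : ι → F)) = ⇑(Pi.basisFun F ι) := by
        funext a
        rw [Pi.basisFun_apply]
      rw [e]
      exact h
    · intro a
      rw [QuadraticMap.comp_apply, Matrix.toLin'_apply, hcol]
      exact c.2.1 a
    · intro a b
      unfold polar
      simp only [QuadraticMap.comp_apply, Matrix.toLin'_apply, Matrix.mulVec_add, hcol]
      exact c.2.2 a b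
  have := congrArg (fun Q : QuadraticForm F (ι → F) => Q u) key
  simpa using this

theorem injective_of_preserves (Q₀ : QuadraticForm F (ι → F))
    (hQ₀ : (polarBilin Q₀).Nondegenerate) (M : Matrix ι ι F)
    (hM : ∀ u, Q₀ (M *ᵥ u) = Q₀ u) : IsUnit M := by
  rw [← Matrix.mulVec_injective_iff_isUnit]
  have hlin : ∀ u v, M *ᵥ u = M *ᵥ v → u = v := by
    intro u v huv
    have h0 : M *ᵥ (u - v) = 0 := by rw [Matrix.mulVec_sub, huv, sub_self]
    have : u - v = 0 := by
      apply hQ₀.1
      intro w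
      rw [polarBilin_apply_apply]
      unfold polar
      rw [← hM (u - v + w), ← hM (u - v), ← hM w, Matrix.mulVec_add, h0]
      simp
    exact sub_eq_zero.mp this
  exact fun u v huv => hlin u v huv

/-- The isometry group is in bijection with the frames. -/
noncomputable def isometryEquivFrame (Q₀ : QuadraticForm F (ι → F))
    (hQ₀ : (polarBilin Q₀).Nondegenerate) : Cfsg.isometryGroup F ⇑Q₀ ≃ GramFrame Q₀ where
  toFun g := ⟨fun a => ((g : GL ι F) : Matrix ι ι F) *ᵥ Pi.single a 1, by
    have hg := (mem_isometryGroup_iff _ _).mp g.2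
    refine ⟨fun a => hg _, fun a b => ?_⟩
    unfold polar
    rw [← Matrix.mulVec_add, hg, hg, hg]⟩
  invFun c := ⟨(injective_of_preserves Q₀ hQ₀ _ (preserves_of_gramFrame Q₀ c)).unit, by
    rw [mem_isometryGroup_iff]
    intro u
    rw [IsUnit.unit_spec]
    exact preserves_of_gramFrame Q₀ c u⟩
  left_inv g := by
    apply Subtype.ext
    apply Units.ext
    rw [IsUnit.unit_spec]
    ext r a
    simp
  right_inv c := by
    apply Subtype.ext
    funext a
    show ((injective_of_preserves Q₀ hQ₀ _ (preserves_of_gramFrame Q₀ c)).unit : Matrix ι ι F) *ᵥ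
      Pi.single a 1 = c.1 a
    rw [IsUnit.unit_spec]
    ext r
    simp

end Frame

end Cfsg.Agent.Helper43
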