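import Mathlib
import Cfsg.Prelude.Def_Classical
import Cfsg.Agent.Lib.Helper43.OrthFrame
import Cfsg.Agent.Lib.Helper43.AnisoPlane

set_option autoImplicit false

namespace Cfsg.Agent.Helper43

open Module QuadraticMap Matrix

section Minus

variable (F : Type*) [Field F] (k : ℕ) (a b : F)

/-- The bilinear form whose diagonal is the minus-type form. -/
noncomputable def minusBilin : LinearMap.BilinForm F ((Fin k ⊕ Fin k) ⊕ Fin 2 → F) :=
  LinearMap.mk₂ F (fun u v => (∑ i, u (Sum.inl (Sum.inl i)) * v (Sum.inl (Sum.inr i))) +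
      (u (Sum.inr 0) * v (Sum.inr 0) + a * u (Sum.inr 0) * v (Sum.inr 1) +
        b * u (Sum.inr 1) * v (Sum.inr 1)))
    (by intro u u' v; simp [add_mul, Finset.sum_add_distrib, mul_add]; ring)
    (by intro c u v; simp [Finset.mul_sum, mul_assoc, mul_add]; ring)
    (by intro u v v'; simp [mul_add, Finset.sum_add_distrib]; ring)
    (by intro c u v; simp [Finset.mul_sum, mul_left_comm, mul_add])

/-- The standard minus-type quadratic form. -/
noncomputable def stdMinus : QuadraticForm F ((Fin k ⊕ Fin k) ⊕ Fin 2 → F) :=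
  LinearMap.BilinMap.toQuadraticMap (minusBilin F k a b)

theorem stdMinus_apply (v : (Fin k ⊕ Fin k) ⊕ Fin 2 → F) :
    stdMinus F k a b v = Cfsg.quadFormMinus k F a b v := by
  show (∑ i, v (Sum.inl (Sum.inl i)) * v (Sum.inl (Sum.inr i))) +
      (v (Sum.inr 0) * v (Sum.inr 0) + a * v (Sum.inr 0) * v (Sum.inr 1) +
        b * v (Sum.inr 1) * v (Sum.inr 1)) = _
  unfold Cfsg.quadFormMinus
  ring

theorem coe_stdMinus : ⇑(stdMinus F k a b) = Cfsg.quadFormMinus k F a b :=
  funext (stdMinus_apply F k a b)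

theorem polar_stdMinus (u v : (Fin k ⊕ Fin k) ⊕ Fin 2 → F) :
    polar (stdMinus F k a b) u v =
      (∑ i, (u (Sum.inl (Sum.inl i)) * v (Sum.inl (Sum.inr i)) +
        v (Sum.inl (Sum.inl i)) * u (Sum.inl (Sum.inr i)))) +
      (2 * u (Sum.inr 0) * v (Sum.inr 0) +
        a * (u (Sum.inr 0) * v (Sum.inr 1) + v (Sum.inr 0) * u (Sum.inr 1)) +
        2 * b * u (Sum.inr 1) * v (Sum.inr 1)) := by
  rw [stdMinus, LinearMap.BilinMap.polar_toQuadraticMap]
  simp [minusBilin, Finset.sum_add_distrib]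
  ring

theorem stdMinus_isHypFamily :
    IsHypFamily (stdMinus F k a b)
      (fun i => (Pi.single (Sum.inl (Sum.inl i)) 1 : (Fin k ⊕ Fin k) ⊕ Fin 2 → F))
      (fun i => (Pi.single (Sum.inl (Sum.inr i)) 1 : (Fin k ⊕ Fin k) ⊕ Fin 2 → F)) where
  qe i := by
    rw [stdMinus_apply]
    unfold Cfsg.quadFormMinus
    simp
  qf i := by
    rw [stdMinus_apply]
    unfold Cfsg.quadFormMinus
    simp
  ef i j := by
    rw [polar_stdMinus]
    simp [Pi.single_apply, eq_comm]
  ee i j := by
    rw [polar_stdMinus]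
    simp [Pi.single_apply]
  ff i j := by
    rw [polar_stdMinus]
    simp [Pi.single_apply]

theorem stdMinus_single_zero :
    stdMinus F k a b (Pi.single (Sum.inr 0) 1 : (Fin k ⊕ Fin k) ⊕ Fin 2 → F) = 1 := by
  rw [stdMinus_apply]
  unfold Cfsg.quadFormMinus
  simp

theorem stdMinus_single_one :
    stdMinus F k a b (Pi.single (Sum.inr 1) 1 : (Fin k ⊕ Fin k) ⊕ Fin 2 → F) = b := by
  rw [stdMinus_apply]
  unfold Cfsg.quadFormMinus
  simp

theorem stdMinus_polar_zero_one :
    polar (stdMinus F k a b) (Pi.single (Sum.inr 0) 1 : (Fin k ⊕ Fin k) ⊕ Fin 2 → F)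
      (Pi.single (Sum.inr 1) 1) = a := by
  rw [polar_stdMinus]
  simp [Pi.single_apply]

theorem stdMinus_polar_cross (x : Fin k ⊕ Fin k) (t : Fin 2) :
    polar (stdMinus F k a b) (Pi.single (Sum.inl x) 1 : (Fin k ⊕ Fin k) ⊕ Fin 2 → F)
      (Pi.single (Sum.inr t) 1) = 0 := by
  rw [polar_stdMinus]
  rcases x with i | i <;> simp [Pi.single_apply]

variable {F a b}

theorem stdMinus_nondegenerate [Finite F] (hab : AnisoPair a b) :
    (polarBilin (stdMinus F k a b)).Nondegenerate := by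
  rw [(polarBilin_isRefl _).nondegenerate_iff_separatingLeft]
  intro v hv
  have h0 := hv (Pi.single (Sum.inr 0) 1)
  rw [polarBilin_apply_apply, polar_stdMinus] at h0
  have h1 := hv (Pi.single (Sum.inr 1) 1)
  rw [polarBilin_apply_apply, polar_stdMinus] at h1
  simp [Pi.single_apply] at h0 h1
  have hd := hab.disc_ne_zero'
  have hv1 : v (Sum.inr 1) = 0 := by
    have : (a ^ 2 - 4 * b) * v (Sum.inr 1) = 0 := by
      linear_combination a * h0 - 2 * h1
    rcases mul_eq_zero.mp this with h3 | h3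
    · exact absurd h3 hd
    · exact h3
  have hv0 : v (Sum.inr 0) = 0 := by
    have : (a ^ 2 - 4 * b) * v (Sum.inr 0) = 0 := by
      linear_combination a * h1 - 2 * b * h0
    rcases mul_eq_zero.mp this with h3 | h3
    · exact absurd h3 hd
    · exact h3
  funext x
  rcases x with (i | i) | t
  · have := hv (Pi.single (Sum.inl (Sum.inr i)) 1)
    rw [polarBilin_apply_apply, polar_stdMinus] at this
    simpa [Pi.single_apply] using this
  · have := hv (Pi.single (Sum.inl (Sum.inl i)) 1)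
    rw [polarBilin_apply_apply, polar_stdMinus] at this
    simpa [Pi.single_apply] using this
  · fin_cases t
    · exact hv0
    · exact hv1

end Minus

section MinusFrame

variable (F : Type*) [Field F] (k : ℕ) (a b : F)

theorem minusStd_inl (x : Fin k ⊕ Fin k) :
    Sum.elim (fun i => (Pi.single (Sum.inl (Sum.inl i)) 1 : (Fin k ⊕ Fin k) ⊕ Fin 2 → F))
      (fun i => (Pi.single (Sum.inl (Sum.inr i)) 1 : (Fin k ⊕ Fin k) ⊕ Fin 2 → F)) x =
      Pi.single (Sum.inl x) 1 := by
  rcases x with i | i <;> rfl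

/-- Frames of the minus-type form: a hyperbolic family together with a pair of vectors orthogonal
to it with the Gram data of the anisotropic part. -/
noncomputable def minusFrameEquiv : GramFrame (stdMinus F k a b) ≃
    Σ p : {p : (Fin k → ((Fin k ⊕ Fin k) ⊕ Fin 2 → F)) × (Fin k → ((Fin k ⊕ Fin k) ⊕ Fin 2 → F)) //
        IsHypFamily (stdMinus F k a b) p.1 p.2},
      {zz : ((Fin k ⊕ Fin k) ⊕ Fin 2 → F) × ((Fin k ⊕ Fin k) ⊕ Fin 2 → F) //
        (((∀ i, polar (stdMinus F k a b) (p.1.1 i) zz.1 = 0) ∧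
            (∀ i, polar (stdMinus F k a b) (p.1.2 i) zz.1 = 0)) ∧
          ((∀ i, polar (stdMinus F k a b) (p.1.1 i) zz.2 = 0) ∧
            (∀ i, polar (stdMinus F k a b) (p.1.2 i) zz.2 = 0))) ∧
        (stdMinus F k a b zz.1 = 1 ∧ stdMinus F k a b zz.2 = b ∧
          polar (stdMinus F k a b) zz.1 zz.2 = a)} where
  toFun c := ⟨⟨(fun i => c.1 (Sum.inl (Sum.inl i)), fun i => c.1 (Sum.inl (Sum.inr i))), by
      have hs := stdMinus_isHypFamily F k a b
      refine ⟨fun i => ?_, fun i => ?_, fun i j => ?_, fun i j => ?_, fun i j => ?_⟩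
      · rw [c.2.1]; exact hs.qe i
      · rw [c.2.1]; exact hs.qf i
      · rw [c.2.2]; exact hs.ef i j
      · rw [c.2.2]; exact hs.ee i j
      · rw [c.2.2]; exact hs.ff i j⟩,
    ⟨(c.1 (Sum.inr 0), c.1 (Sum.inr 1)), by
      refine ⟨⟨⟨fun i => ?_, fun i => ?_⟩, ⟨fun i => ?_, fun i => ?_⟩⟩, ?_, ?_, ?_⟩
      · show polar (stdMinus F k a b) (c.1 (Sum.inl (Sum.inl i))) (c.1 (Sum.inr 0)) = 0
        rw [c.2.2]; exact stdMinus_polar_cross F k a b (Sum.inl i) 0
      · show polar (stdMinus F k a b) (c.1 (Sum.inl (Sum.inr i))) (c.1 (Sum.inr 0)) = 0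
        rw [c.2.2]; exact stdMinus_polar_cross F k a b (Sum.inr i) 0
      · show polar (stdMinus F k a b) (c.1 (Sum.inl (Sum.inl i))) (c.1 (Sum.inr 1)) = 0
        rw [c.2.2]; exact stdMinus_polar_cross F k a b (Sum.inl i) 1
      · show polar (stdMinus F k a b) (c.1 (Sum.inl (Sum.inr i))) (c.1 (Sum.inr 1)) = 0
        rw [c.2.2]; exact stdMinus_polar_cross F k a b (Sum.inr i) 1
      · show stdMinus F k a b (c.1 (Sum.inr 0)) = 1
        rw [c.2.1]; exact stdMinus_single_zero F k a b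
      · show stdMinus F k a b (c.1 (Sum.inr 1)) = b
        rw [c.2.1]; exact stdMinus_single_one F k a b
      · show polar (stdMinus F k a b) (c.1 (Sum.inr 0)) (c.1 (Sum.inr 1)) = a
        rw [c.2.2]; exact stdMinus_polar_zero_one F k a b⟩⟩
  invFun s := ⟨Sum.elim (Sum.elim s.1.1.1 s.1.1.2) ![s.2.1.1, s.2.1.2], by
    have hs := stdMinus_isHypFamily F k a b
    obtain ⟨⟨⟨e, f⟩, hp⟩, ⟨⟨z1, z2⟩, ⟨⟨h1e, h1f⟩, ⟨h2e, h2f⟩⟩, hq1, hq2, hpol⟩⟩ := s
    simp only at h1e h1f h2e h2f hq1 hq2 hpol ⊢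
    have hcross : ∀ (x : Fin k ⊕ Fin k) (t : Fin 2),
        polar (stdMinus F k a b) (Sum.elim e f x) (![z1, z2] t) = 0 := by
      intro x t
      rcases x with i | i <;> fin_cases t
      · exact h1e i
      · exact h2e i
      · exact h1f i
      · exact h2f i
    refine ⟨fun x => ?_, fun x y => ?_⟩
    · rcases x with (i | i) | t
      · simp only [Sum.elim_inl]; rw [hp.qe, hs.qe]
      · simp only [Sum.elim_inl, Sum.elim_inr]; rw [hp.qf, hs.qf]
      · fin_cases t
        · show stdMinus F k a b z1 = _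
          rw [hq1]; exact (stdMinus_single_zero F k a b).symm
        · show stdMinus F k a b z2 = _
          rw [hq2]; exact (stdMinus_single_one F k a b).symm
    · rcases x with x | t <;> rcases y with y | t'
      · simp only [Sum.elim_inl]
        rw [hp.gram, ← minusStd_inl F k x, ← minusStd_inl F k y, hs.gram]
      · simp only [Sum.elim_inl, Sum.elim_inr]
        rw [hcross x t', stdMinus_polar_cross]
      · simp only [Sum.elim_inl, Sum.elim_inr]
        rw [polar_comm, hcross y t, polar_comm, stdMinus_polar_cross]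
      · simp only [Sum.elim_inr]
        fin_cases t <;> fin_cases t'
        · show polar (stdMinus F k a b) z1 z1 = _
          rw [polar_self, polar_self, hq1]
          congr 1
          exact (stdMinus_single_zero F k a b).symm
        · show polar (stdMinus F k a b) z1 z2 = _
          rw [hpol]; exact (stdMinus_polar_zero_one F k a b).symm
        · show polar (stdMinus F k a b) z2 z1 = _
          rw [polar_comm, hpol, polar_comm]; exact (stdMinus_polar_zero_one F k a b).symm
        · show polar (stdMinus F k a b) z2 z2 = _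
          rw [polar_self, polar_self, hq2]
          congr 1
          exact (stdMinus_single_one F k a b).symm⟩
  left_inv c := by
    apply Subtype.ext
    funext x
    rcases x with (i | i) | t
    · rfl
    · rfl
    · fin_cases t <;> rfl
  right_inv s := rfl

end MinusFrame

section MinusCore

variable {F : Type*} [Field F] [Fintype F] (k : ℕ) {a b : F}

/-- In the orthogonal complement of a full hyperbolic family of the minus-type form there are
exactly `2 (q + 1)` pairs with the Gram data of the anisotropic part. -/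
theorem card_core_minus (hab : AnisoPair a b) (nS : ℕ → ℕ)
    (hS : ∀ j, nS (j + 1) = Fintype.card F * nS j +
      (Fintype.card F - 1) * Fintype.card F ^ (2 + 2 * j))
    (h0 : nS 0 = 1)
    (hN : Nat.card {v : (Fin k ⊕ Fin k) ⊕ Fin 2 → F // stdMinus F k a b v = 0} = nS k)
    (e f : Fin k → ((Fin k ⊕ Fin k) ⊕ Fin 2 → F)) (hp : IsHypFamily (stdMinus F k a b) e f) :
    Nat.card {zz : ((Fin k ⊕ Fin k) ⊕ Fin 2 → F) × ((Fin k ⊕ Fin k) ⊕ Fin 2 → F) //
        (((∀ i, polar (stdMinus F k a b) (e i) zz.1 = 0) ∧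
            (∀ i, polar (stdMinus F k a b) (f i) zz.1 = 0)) ∧
          ((∀ i, polar (stdMinus F k a b) (e i) zz.2 = 0) ∧
            (∀ i, polar (stdMinus F k a b) (f i) zz.2 = 0))) ∧
        (stdMinus F k a b zz.1 = 1 ∧ stdMinus F k a b zz.2 = b ∧
          polar (stdMinus F k a b) zz.1 zz.2 = a)} = 2 * (Fintype.card F + 1) := by
  classical
  have hQ₀ := stdMinus_nondegenerate k hab
  obtain ⟨_, hnd, hfr⟩ := orthogonal_props (stdMinus F k a b) hQ₀ (hypSpan (F := F) e f) hp.disjoint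
  rw [hp.finrank_hypSpan] at hfr
  have hfV : finrank F ((Fin k ⊕ Fin k) ⊕ Fin 2 → F) = 2 + 2 * (0 + k) := by
    simp
    ring
  rw [hfV] at hfr
  have hfr2 : finrank F (LinearMap.BilinForm.orthogonal (polarBilin (stdMinus F k a b))
      (hypSpan (F := F) e f)) = 2 := by omega
  have hcard := card_sing_compl (F := F) 2 nS hS k 0 ((Fin k ⊕ Fin k) ⊕ Fin 2 → F)
    (stdMinus F k a b) hQ₀ hfV (by rw [zero_add]; exact hN) e f hp
  rw [h0, Nat.card_eq_one_iff_unique] at hcard
  obtain ⟨hsub, _⟩ := hcard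
  have haniso : ∀ w : LinearMap.BilinForm.orthogonal (polarBilin (stdMinus F k a b))
      (hypSpan (F := F) e f), qrestrict (stdMinus F k a b) _ w = 0 → w = 0 := by
    rintro ⟨w, hw⟩ hQw
    have hw' := (mem_orthogonal_hypSpan_iff (stdMinus F k a b) e f w).mp hw
    have h1 : (⟨w, hw', hQw⟩ : {z : (Fin k ⊕ Fin k) ⊕ Fin 2 → F //
        ((∀ i, polar (stdMinus F k a b) (e i) z = 0) ∧
          (∀ i, polar (stdMinus F k a b) (f i) z = 0)) ∧ stdMinus F k a b z = 0}) =
        ⟨0, ⟨fun i => by simp, fun i => by simp⟩, by simp⟩ := Subsingleton.elim _ _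
    apply Subtype.ext
    show w = 0
    exact congrArg (fun z : {z : (Fin k ⊕ Fin k) ⊕ Fin 2 → F //
        ((∀ i, polar (stdMinus F k a b) (e i) z = 0) ∧
          (∀ i, polar (stdMinus F k a b) (f i) z = 0)) ∧ stdMinus F k a b z = 0} => z.1) h1
  rw [← card_aniso_frames (qrestrict (stdMinus F k a b) _) hnd hfr2 haniso hab]
  refine Nat.card_congr
    { toFun := fun zz => ⟨(⟨zz.1.1, (mem_orthogonal_hypSpan_iff _ e f _).mpr zz.2.1.1⟩,
        ⟨zz.1.2, (mem_orthogonal_hypSpan_iff _ e f _).mpr zz.2.1.2⟩), zz.2.2⟩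
      invFun := fun zz' => ⟨(zz'.1.1.1, zz'.1.2.1),
        ⟨⟨(mem_orthogonal_hypSpan_iff _ e f _).mp zz'.1.1.2,
          (mem_orthogonal_hypSpan_iff _ e f _).mp zz'.1.2.2⟩, zz'.2⟩⟩
      left_inv := fun zz => rfl
      right_inv := fun zz' => rfl }

/-- The order of the minus-type orthogonal group as a product. -/
theorem card_isometryGroup_minus (hab : AnisoPair a b) (nS : ℕ → ℕ)
    (hS : ∀ j, nS (j + 1) = Fintype.card F * nS j +
      (Fintype.card F - 1) * Fintype.card F ^ (2 + 2 * j))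
    (h0 : nS 0 = 1)
    (hN : Nat.card {v : (Fin k ⊕ Fin k) ⊕ Fin 2 → F // Cfsg.quadFormMinus k F a b v = 0} = nS k) :
    Nat.card (Cfsg.isometryGroup F (Cfsg.quadFormMinus k F a b)) =
      2 * (Fintype.card F + 1) *
        ∏ i ∈ Finset.range k, ((nS (i + 1) - 1) * Fintype.card F ^ (2 + 2 * i)) := by
  classical
  have hN' : Nat.card {v : (Fin k ⊕ Fin k) ⊕ Fin 2 → F // stdMinus F k a b v = 0} = nS k := by
    rw [← hN]
    exact Nat.card_congr (Equiv.subtypeEquivRight (fun v => by rw [stdMinus_apply]))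
  rw [← coe_stdMinus F k a b,
    Nat.card_congr (isometryEquivFrame (stdMinus F k a b) (stdMinus_nondegenerate k hab)),
    Nat.card_congr (minusFrameEquiv F k a b)]
  have : Fintype {p : (Fin k → ((Fin k ⊕ Fin k) ⊕ Fin 2 → F)) ×
      (Fin k → ((Fin k ⊕ Fin k) ⊕ Fin 2 → F)) // IsHypFamily (stdMinus F k a b) p.1 p.2} :=
    Fintype.ofFinite _
  rw [Nat.card_sigma]
  simp only [fun p : {p : (Fin k → ((Fin k ⊕ Fin k) ⊕ Fin 2 → F)) ×
      (Fin k → ((Fin k ⊕ Fin k) ⊕ Fin 2 → F)) // IsHypFamily (stdMinus F k a b) p.1 p.2} =>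
      card_core_minus k hab nS hS h0 hN' p.1.1 p.1.2 p.2, Finset.sum_const, Finset.card_univ,
    smul_eq_mul]
  have := card_hypFam (F := F) 2 nS hS k 0 ((Fin k ⊕ Fin k) ⊕ Fin 2 → F) (stdMinus F k a b)
    (stdMinus_nondegenerate k hab) (by simp; ring) (by rw [zero_add]; exact hN')
  rw [← Nat.card_eq_fintype_card, this, mul_comm]
  congr 1
  apply Finset.prod_congr rfl
  intro i _
  simp

end MinusCore

end Cfsg.Agent.Helper43
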