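import Mathlib
import Cfsg.Agent.Lib.Helper43.OrthMinus
import Cfsg.Agent.Lib.Helper14.WittQuad

set_option autoImplicit false

/-!
# The minus-type space of dimension 8 has no totally singular 4-space
-/

namespace Cfsg.Agent.Helper43.OSemi

open QuadraticMap Cfsg.Agent.Helper43

section Gen

variable {F V : Type*} [Field F] [AddCommGroup V] [Module F V] (Q : QuadraticForm F V)

theorem polar_span_right {ι : Type*} (w : ι → V) (z : V) (hz : ∀ j, polar Q z (w j) = 0) :
    ∀ y ∈ Submodule.span F (Set.range w), polar Q z y = 0 := by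
  intro y hy
  induction hy using Submodule.span_induction with
  | mem y hy => obtain ⟨j, rfl⟩ := hy; exact hz j
  | zero => exact polar_zero_right _ _
  | add x y _ _ hx hy => rw [polar_add_right, hx, hy, add_zero]
  | smul c x _ hx => rw [polar_smul_right, hx, smul_zero]

theorem Q_span_eq_zero {ι : Type*} (w : ι → V) (hq : ∀ i, Q (w i) = 0)
    (hp : ∀ i j, polar Q (w i) (w j) = 0) :
    ∀ y ∈ Submodule.span F (Set.range w), Q y = 0 := by
  have h1 : ∀ y ∈ Submodule.span F (Set.range w), ∀ y' ∈ Submodule.span F (Set.range w),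
      polar Q y y' = 0 := by
    intro y hy y' hy'
    apply polar_span_right Q w y _ y' hy'
    intro j
    rw [polar_comm]
    exact polar_span_right Q w (w j) (fun i => hp j i) y hy
  intro y hy
  induction hy using Submodule.span_induction with
  | mem y hy => obtain ⟨j, rfl⟩ := hy; exact hq j
  | zero => exact map_zero Q
  | add x y hx hy hqx hqy =>
    rw [QuadraticMap.map_add Q, hqx, hqy, h1 x hx y hy]; simp
  | smul c x _ hx => rw [QuadraticMap.map_smul, hx, smul_zero]

theorem polar_map_of_isom (g : V →ₗ[F] V) (hg : ∀ v, Q (g v) = Q v) (u v : V) :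
    polar Q (g u) (g v) = polar Q u v := by
  unfold polar
  rw [← map_add, hg, hg, hg]

end Gen

theorem no_ts4_stdMinus3 {F : Type*} [Field F] [Fintype F] (a b : F) (hab : AnisoPair a b)
    (x : Fin 4 → ((Fin 3 ⊕ Fin 3) ⊕ Fin 2 → F)) (hli : LinearIndependent F x)
    (hq : ∀ i, stdMinus F 3 a b (x i) = 0)
    (hp : ∀ i j, polar (⇑(stdMinus F 3 a b)) (x i) (x j) = 0) : False := by
  have hQ : (polarBilin (stdMinus F 3 a b)).Nondegenerate := stdMinus_nondegenerate 3 hab
  have hH := stdMinus_isHypFamily F 3 a b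
  set e : Fin 3 → ((Fin 3 ⊕ Fin 3) ⊕ Fin 2 → F) :=
    fun i => (Pi.single (Sum.inl (Sum.inl i)) 1 : (Fin 3 ⊕ Fin 3) ⊕ Fin 2 → F) with he
  set x' : Fin 3 → ((Fin 3 ⊕ Fin 3) ⊕ Fin 2 → F) := fun i => x (Fin.castSucc i) with hx'
  have hlie : LinearIndependent F e := by
    have := hH.linearIndependent.comp (Sum.inl : Fin 3 → Fin 3 ⊕ Fin 3) Sum.inl_injective
    exact this
  have hlix' : LinearIndependent F x' := hli.comp _ (Fin.castSucc_injective 3)
  set bE := Module.Basis.span hlie with hbE
  set bX := Module.Basis.span hlix' with hbX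
  set φ := bE.equiv bX (Equiv.refl _) with hφdef
  have hE : ∀ i, ((bE i : Submodule.span F (Set.range e)) : _) = e i := by
    intro i
    rw [hbE, Module.Basis.span_apply]
  have hX : ∀ i, ((bX i : Submodule.span F (Set.range x')) : _) = x' i := by
    intro i
    rw [hbX, Module.Basis.span_apply]
  have hφi : ∀ i, φ (bE i) = bX i := by
    intro i
    rw [hφdef, Module.Basis.equiv_apply]; rfl
  have hφ : ∀ z : Submodule.span F (Set.range e),
      stdMinus F 3 a b ((φ z : _) : _) = stdMinus F 3 a b (z : _) := by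
    intro z
    rw [Q_span_eq_zero (stdMinus F 3 a b) x' (fun i => hq _) (fun i j => hp _ _) _ (φ z).2,
      Q_span_eq_zero (stdMinus F 3 a b) e (fun i => hH.qe i) (fun i j => hH.ee i j) _ z.2]
  obtain ⟨g, hg, hgx⟩ := Cfsg.Agent.Helper14.Witt.witt (stdMinus F 3 a b) hQ _ _ φ hφ
  have hge : ∀ i, g (e i) = x' i := by
    intro i
    have := hgx (bE i)
    rw [hφi, hE, hX] at this
    exact this
  -- the preimage of the fourth vector
  set y := g.symm (x 3) with hy
  have hgy : g y = x 3 := by rw [hy, LinearEquiv.apply_symm_apply]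
  have hQy : stdMinus F 3 a b y = 0 := by rw [← hg y, hgy]; exact hq 3
  have hpy : ∀ i, polar (⇑(stdMinus F 3 a b)) y (e i) = 0 := by
    intro i
    rw [← polar_map_of_isom (stdMinus F 3 a b) g.toLinearMap hg y (e i)]
    show polar (⇑(stdMinus F 3 a b)) (g y) (g (e i)) = 0
    rw [hgy, hge]
    exact hp _ _
  -- coordinates of `y`
  have hr : ∀ i, y (Sum.inl (Sum.inr i)) = 0 := by
    intro i
    have := hpy i
    rw [polar_stdMinus] at this
    simpa [he, Pi.single_apply] using this
  have hz : y (Sum.inr 0) = 0 ∧ y (Sum.inr 1) = 0 := by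
    apply hab
    have := hQy
    rw [stdMinus_apply] at this
    unfold Cfsg.quadFormMinus at this
    simp only [hr, mul_zero, Finset.sum_const_zero, zero_add] at this
    exact this
  have hyE : y = ∑ i, y (Sum.inl (Sum.inl i)) • e i := by
    funext t
    rw [Finset.sum_apply]
    rcases t with (i | i) | t
    · simp [he, Pi.single_apply]
    · simp [he, hr]
    · fin_cases t
      · simp [he, hz.1]
      · simp [he, hz.2]
  have hx3 : x 3 = ∑ i, y (Sum.inl (Sum.inl i)) • x' i := by
    rw [← hgy, hyE, map_sum]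
    apply Finset.sum_congr rfl
    intro i _
    rw [map_smul, hge]
    congr 1
    rw [← hyE]
  rw [Fintype.linearIndependent_iff] at hli
  have := hli (fun j => if h : (j : ℕ) < 3 then y (Sum.inl (Sum.inl ⟨j, h⟩)) else -1) (by
    rw [Fin.sum_univ_four]
    rw [Fin.sum_univ_three] at hx3
    simp only [hx'] at hx3
    simp
    rw [hx3]
    have e0 : (Fin.castSucc (0 : Fin 3) : Fin 4) = 0 := rfl
    have e1 : (Fin.castSucc (1 : Fin 3) : Fin 4) = 1 := rfl
    have e2 : (Fin.castSucc (2 : Fin 3) : Fin 4) = 2 := rfl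
    rw [e0, e1, e2]
    have f0 : (⟨0, by norm_num⟩ : Fin 3) = 0 := rfl
    abel_nf) 3
  simp at this

end Cfsg.Agent.Helper43.OSemi
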