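import Mathlib

set_option autoImplicit false

namespace Cfsg.Agent.Helper43

open Module Matrix

/-- Gram determinant of the bilinear form `u ⬝ᵥ G0 *ᵥ v` in an arbitrary basis equals a nonzero square times
`det G0`. -/
theorem gram_det_eq {F : Type*} [Field F] {n ι : Type*} [Fintype n] [DecidableEq n] [Fintype ι]
    [DecidableEq ι] (G0 : Matrix n n F) (b : Basis ι F (n → F)) :
    ∃ d : F, d ≠ 0 ∧
      (Matrix.of (fun i j : ι => (b i) ⬝ᵥ (G0 *ᵥ (b j)))).det = d * d * G0.det := by
  let e : ι ≃ n := b.indexEquiv (Pi.basisFun F n)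
  let b' : Basis n F (n → F) := b.reindex e
  let B' : Matrix n n F := Matrix.of (fun k => b' k)
  have h1 : (Matrix.of (fun i j : ι => (b i) ⬝ᵥ (G0 *ᵥ (b j)))).det
      = (Matrix.of (fun k l : n => (b' k) ⬝ᵥ (G0 *ᵥ (b' l)))).det := by
    rw [← Matrix.det_submatrix_equiv_self e.symm
      (Matrix.of (fun i j : ι => (b i) ⬝ᵥ (G0 *ᵥ (b j))))]
    congr 1
    ext k l
    simp [b', Basis.reindex_apply]
  have h2 : Matrix.of (fun k l : n => (b' k) ⬝ᵥ (G0 *ᵥ (b' l))) = B' * G0 * B'ᵀ := by
    ext k l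
    rw [Matrix.mul_apply]
    simp only [Matrix.of_apply, Matrix.transpose_apply]
    rw [Matrix.dotProduct_mulVec]
    unfold dotProduct
    apply Finset.sum_congr rfl
    intro r _
    congr 1
  have hunit : IsUnit B'.det := by
    have hli : LinearIndependent F (fun k => B' k) := b'.linearIndependent
    have := (Matrix.linearIndependent_rows_iff_isUnit (A := B')).mp hli
    exact (Matrix.isUnit_iff_isUnit_det B').mp this
  refine ⟨B'.det, hunit.ne_zero, ?_⟩
  rw [h1, h2, Matrix.det_mul, Matrix.det_mul, Matrix.det_transpose]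
  ring

theorem isSquare_sq_mul_iff {F : Type*} [Field F] (d c : F) (hd : d ≠ 0) :
    IsSquare (d * d * c) ↔ IsSquare c := by
  constructor
  · rintro ⟨s, hs⟩
    refine ⟨s / d, ?_⟩
    field_simp
    linear_combination hs
  · rintro ⟨s, hs⟩
    refine ⟨d * s, ?_⟩
    rw [hs]; ring

theorem isSquare_neg_one_pow_iff {F : Type*} [Field F] (m : ℕ) :
    IsSquare ((-1 : F) ^ m) ↔ (Even m ∨ IsSquare (-1 : F)) := by
  constructor
  · intro h
    rcases Nat.even_or_odd m with hm | hm
    · exact Or.inl hm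
    · right
      rwa [hm.neg_one_pow] at h
  · rintro (hm | h)
    · rw [hm.neg_one_pow]; exact ⟨1, by ring⟩
    · exact h.pow m

/-- det of the block swap matrix -/
theorem det_swap_blocks {F : Type*} [Field F] (m : ℕ) :
    (Matrix.fromBlocks (0 : Matrix (Fin m) (Fin m) F) (1 : Matrix (Fin m) (Fin m) F)
      (1 : Matrix (Fin m) (Fin m) F) (0 : Matrix (Fin m) (Fin m) F)).det = (-1) ^ m := by
  have h : Matrix.fromBlocks (0 : Matrix (Fin m) (Fin m) F) (1 : Matrix (Fin m) (Fin m) F)
      (1 : Matrix (Fin m) (Fin m) F) (0 : Matrix (Fin m) (Fin m) F) *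
      Matrix.fromBlocks (1 : Matrix (Fin m) (Fin m) F) (0 : Matrix (Fin m) (Fin m) F)
        (1 : Matrix (Fin m) (Fin m) F) (1 : Matrix (Fin m) (Fin m) F)
      = Matrix.fromBlocks (1 : Matrix (Fin m) (Fin m) F) (1 : Matrix (Fin m) (Fin m) F)
        (1 : Matrix (Fin m) (Fin m) F) (0 : Matrix (Fin m) (Fin m) F) := by
    rw [Matrix.fromBlocks_multiply]
    simp
  have h2 := congrArg Matrix.det h
  rw [Matrix.det_mul, Matrix.det_fromBlocks_zero₁₂, Matrix.det_fromBlocks_one₁₁] at h2
  simp only [Matrix.det_one, mul_one, zero_sub] at h2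
  rw [h2, Matrix.det_neg, Matrix.det_one, mul_one, Fintype.card_fin]

/-- parity bookkeeping -/
theorem even_mul_half_iff (m q : ℕ) (hq : Odd q) :
    Even (m * (q - 1) / 2) ↔ (Even m ∨ q % 4 ≠ 3) := by
  obtain ⟨t, rfl⟩ := hq
  have h1 : m * (2 * t + 1 - 1) / 2 = m * t := by
    have : 2 * t + 1 - 1 = t * 2 := by omega
    rw [this, ← mul_assoc, Nat.mul_div_cancel _ (by norm_num)]
  rw [h1, Nat.even_mul]
  constructor
  · rintro (h | h)
    · exact Or.inl h
    · right
      obtain ⟨s, rfl⟩ := h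
      omega
  · rintro (h | h)
    · exact Or.inl h
    · right
      rw [Nat.even_iff]
      omega

end Cfsg.Agent.Helper43
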