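import Mathlib
import Cfsg.Prelude.Def_Classical
import Cfsg.Agent.Lib.Helper43.OrthFrame
import Cfsg.Agent.Lib.Helper43.GramDet

set_option autoImplicit false

namespace Cfsg.Agent.Helper43

open Module QuadraticMap Matrix

section Gram

variable {F : Type*} [Field F] {ι : Type*} [Fintype ι] [DecidableEq ι]

/-- The Gram determinant of an arbitrary family is a square multiple of the standard one. -/
theorem gram_det_family (Q₀ : QuadraticForm F (ι → F)) (b : ι → (ι → F)) :
    (Matrix.of fun a a' => polar Q₀ (b a) (b a')).det =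
      (Matrix.of b).det ^ 2 *
        (Matrix.of fun a a' => polar Q₀ (Pi.single a 1 : ι → F) (Pi.single a' 1)).det := by
  have h : (Matrix.of fun a a' => polar Q₀ (b a) (b a')) =
      Matrix.of b * (Matrix.of fun a a' => polar Q₀ (Pi.single a 1 : ι → F) (Pi.single a' 1)) *
        (Matrix.of b)ᵀ := by
    ext a a'
    rw [Matrix.mul_apply]
    simp only [Matrix.mul_apply, Matrix.of_apply, Matrix.transpose_apply]
    have := Matrix.toBilin'_apply (LinearMap.BilinForm.toMatrix' (polarBilin Q₀)) (b a) (b a')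
    rw [Matrix.toBilin'_toMatrix'] at this
    simp only [LinearMap.BilinForm.toMatrix'_apply, polarBilin_apply_apply] at this
    rw [this, Finset.sum_comm]
    apply Finset.sum_congr rfl
    intro j _
    rw [Finset.sum_mul]
  rw [h, det_mul, det_mul, det_transpose]
  ring

end Gram

section TwoSol

variable {F : Type*} [Field F] [Fintype F]

theorem card_sq_mul_eq_one (h2 : (2 : F) ≠ 0) (c : F) (hc : IsSquare c) (hc0 : c ≠ 0) :
    Nat.card {t : F // t ^ 2 * c = 1} = 2 := by
  classical
  obtain ⟨s, rfl⟩ := hc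
  have hs : s ≠ 0 := by
    rintro rfl
    simp at hc0
  rw [Nat.card_eq_fintype_card, Fintype.card_subtype]
  have : (Finset.univ.filter fun t : F => t ^ 2 * (s * s) = 1) = {s⁻¹, -s⁻¹} := by
    ext t
    simp only [Finset.mem_filter, Finset.mem_univ, true_and, Finset.mem_insert,
      Finset.mem_singleton]
    constructor
    · intro h
      have h1 : (t * s - 1) * (t * s + 1) = 0 := by linear_combination h
      rcases mul_eq_zero.mp h1 with h3 | h3
      · left
        field_simp
        linear_combination h3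
      · right
        field_simp
        linear_combination h3
    · rintro (rfl | rfl)
      · field_simp
      · field_simp
  rw [this, Finset.card_pair]
  intro h
  have : (2 : F) * s⁻¹ = 0 := by linear_combination h
  rcases mul_eq_zero.mp this with h3 | h3
  · exact h2 h3
  · exact hs (inv_eq_zero.mp h3)

end TwoSol

section Odd

variable (F : Type*) [Field F] (m : ℕ)

/-- The bilinear form `u, v ↦ u₀ v₀ + Σ u(x i) v(y i)`. -/
noncomputable def oddBilin : LinearMap.BilinForm F (Unit ⊕ (Fin m ⊕ Fin m) → F) :=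
  LinearMap.mk₂ F (fun u v => u (Sum.inl ()) * v (Sum.inl ()) +
      ∑ i, u (Sum.inr (Sum.inl i)) * v (Sum.inr (Sum.inr i)))
    (by intro u u' v; simp [add_mul, Finset.sum_add_distrib]; ring)
    (by intro c u v; simp [Finset.mul_sum, mul_assoc, mul_add])
    (by intro u v v'; simp [mul_add, Finset.sum_add_distrib]; ring)
    (by intro c u v; simp [Finset.mul_sum, mul_left_comm, mul_add])

/-- The standard odd-dimensional quadratic form. -/
noncomputable def stdOdd : QuadraticForm F (Unit ⊕ (Fin m ⊕ Fin m) → F) :=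
  LinearMap.BilinMap.toQuadraticMap (oddBilin F m)

theorem stdOdd_apply (v : Unit ⊕ (Fin m ⊕ Fin m) → F) :
    stdOdd F m v = Cfsg.quadFormOdd m F v := by
  show v (Sum.inl ()) * v (Sum.inl ()) + _ = v (Sum.inl ()) ^ 2 + _
  rw [_root_.sq]

theorem coe_stdOdd : ⇑(stdOdd F m) = Cfsg.quadFormOdd m F := funext (stdOdd_apply F m)

theorem polar_stdOdd (u v : Unit ⊕ (Fin m ⊕ Fin m) → F) :
    polar (stdOdd F m) u v = 2 * u (Sum.inl ()) * v (Sum.inl ()) +
      ∑ i, (u (Sum.inr (Sum.inl i)) * v (Sum.inr (Sum.inr i)) +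
        v (Sum.inr (Sum.inl i)) * u (Sum.inr (Sum.inr i))) := by
  rw [stdOdd, LinearMap.BilinMap.polar_toQuadraticMap]
  simp [oddBilin, Finset.sum_add_distrib]
  ring

theorem stdOdd_isHypFamily :
    IsHypFamily (stdOdd F m)
      (fun i => (Pi.single (Sum.inr (Sum.inl i)) 1 : Unit ⊕ (Fin m ⊕ Fin m) → F))
      (fun i => (Pi.single (Sum.inr (Sum.inr i)) 1 : Unit ⊕ (Fin m ⊕ Fin m) → F)) where
  qe i := by
    rw [stdOdd_apply]
    unfold Cfsg.quadFormOdd
    simp
  qf i := by
    rw [stdOdd_apply]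
    unfold Cfsg.quadFormOdd
    simp
  ef i j := by
    rw [polar_stdOdd]
    simp [Pi.single_apply, eq_comm]
  ee i j := by
    rw [polar_stdOdd]
    simp [Pi.single_apply]
  ff i j := by
    rw [polar_stdOdd]
    simp [Pi.single_apply]

theorem stdOdd_single_zero :
    stdOdd F m (Pi.single (Sum.inl ()) 1 : Unit ⊕ (Fin m ⊕ Fin m) → F) = 1 := by
  rw [stdOdd_apply]
  unfold Cfsg.quadFormOdd
  simp

theorem stdOdd_polar_zero_e (i : Fin m) :
    polar (stdOdd F m) (Pi.single (Sum.inl ()) 1 : Unit ⊕ (Fin m ⊕ Fin m) → F)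
      (Pi.single (Sum.inr (Sum.inl i)) 1) = 0 := by
  rw [polar_stdOdd]
  simp [Pi.single_apply]

theorem stdOdd_polar_zero_f (i : Fin m) :
    polar (stdOdd F m) (Pi.single (Sum.inl ()) 1 : Unit ⊕ (Fin m ⊕ Fin m) → F)
      (Pi.single (Sum.inr (Sum.inr i)) 1) = 0 := by
  rw [polar_stdOdd]
  simp [Pi.single_apply]

theorem stdOdd_nondegenerate (h2 : (2 : F) ≠ 0) : (polarBilin (stdOdd F m)).Nondegenerate := by
  rw [(polarBilin_isRefl _).nondegenerate_iff_separatingLeft]
  intro v hv
  funext a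
  rcases a with ⟨⟩ | i | i
  · have := hv (Pi.single (Sum.inl ()) 1)
    rw [polarBilin_apply_apply, polar_stdOdd] at this
    simpa [Pi.single_apply, h2] using this
  · have := hv (Pi.single (Sum.inr (Sum.inr i)) 1)
    rw [polarBilin_apply_apply, polar_stdOdd] at this
    simpa [Pi.single_apply] using this
  · have := hv (Pi.single (Sum.inr (Sum.inl i)) 1)
    rw [polarBilin_apply_apply, polar_stdOdd] at this
    simpa [Pi.single_apply] using this

end Odd

section OddFrame

variable (F : Type*) [Field F] (m : ℕ)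

theorem oddStd_eq (a : Unit ⊕ (Fin m ⊕ Fin m)) :
    Sum.elim (fun _ : Unit => (Pi.single (Sum.inl ()) 1 : Unit ⊕ (Fin m ⊕ Fin m) → F))
      (Sum.elim (fun i => (Pi.single (Sum.inr (Sum.inl i)) 1 : Unit ⊕ (Fin m ⊕ Fin m) → F))
        (fun i => (Pi.single (Sum.inr (Sum.inr i)) 1 : Unit ⊕ (Fin m ⊕ Fin m) → F))) a =
      Pi.single a 1 := by
  rcases a with ⟨⟩ | i | i <;> rfl

/-- Frames of the odd-dimensional form: a hyperbolic family together with a vector of norm one
orthogonal to it. -/
noncomputable def oddFrameEquiv : GramFrame (stdOdd F m) ≃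
    Σ p : {p : (Fin m → (Unit ⊕ (Fin m ⊕ Fin m) → F)) × (Fin m → (Unit ⊕ (Fin m ⊕ Fin m) → F)) //
        IsHypFamily (stdOdd F m) p.1 p.2},
      {z : Unit ⊕ (Fin m ⊕ Fin m) → F // ((∀ i, polar (stdOdd F m) (p.1.1 i) z = 0) ∧
        (∀ i, polar (stdOdd F m) (p.1.2 i) z = 0)) ∧ stdOdd F m z = 1} where
  toFun c := ⟨⟨(fun i => c.1 (Sum.inr (Sum.inl i)), fun i => c.1 (Sum.inr (Sum.inr i))), by
      have hs := stdOdd_isHypFamily F m
      refine ⟨fun i => ?_, fun i => ?_, fun i j => ?_, fun i j => ?_, fun i j => ?_⟩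
      · rw [c.2.1]; exact hs.qe i
      · rw [c.2.1]; exact hs.qf i
      · rw [c.2.2]; exact hs.ef i j
      · rw [c.2.2]; exact hs.ee i j
      · rw [c.2.2]; exact hs.ff i j⟩,
    ⟨c.1 (Sum.inl ()), by
      refine ⟨⟨fun i => ?_, fun i => ?_⟩, ?_⟩
      · show polar (stdOdd F m) (c.1 (Sum.inr (Sum.inl i))) (c.1 (Sum.inl ())) = 0
        rw [c.2.2, polar_comm, stdOdd_polar_zero_e]
      · show polar (stdOdd F m) (c.1 (Sum.inr (Sum.inr i))) (c.1 (Sum.inl ())) = 0
        rw [c.2.2, polar_comm, stdOdd_polar_zero_f]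
      · rw [c.2.1, stdOdd_single_zero]⟩⟩
  invFun s := ⟨Sum.elim (fun _ => s.2.1) (Sum.elim s.1.1.1 s.1.1.2), by
    have hs := stdOdd_isHypFamily F m
    obtain ⟨⟨⟨e, f⟩, hp⟩, ⟨z, ⟨hz1, hz2⟩, hz3⟩⟩ := s
    simp only at hz1 hz2 hz3 ⊢
    refine ⟨fun a => ?_, fun a b => ?_⟩
    · rcases a with ⟨⟩ | i | i
      · simp only [Sum.elim_inl]; rw [hz3, stdOdd_single_zero]
      · simp only [Sum.elim_inr, Sum.elim_inl]; rw [hp.qe, hs.qe]
      · simp only [Sum.elim_inr]; rw [hp.qf, hs.qf]
    · rcases a with ⟨⟩ | a <;> rcases b with ⟨⟩ | b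
      · simp only [Sum.elim_inl]
        rw [polar_self, polar_self, hz3, stdOdd_single_zero]
      · simp only [Sum.elim_inl, Sum.elim_inr]
        rcases b with j | j
        · simp only [Sum.elim_inl]
          rw [polar_comm, hz1, stdOdd_polar_zero_e]
        · simp only [Sum.elim_inr]
          rw [polar_comm, hz2, stdOdd_polar_zero_f]
      · simp only [Sum.elim_inl, Sum.elim_inr]
        rcases a with j | j
        · simp only [Sum.elim_inl]
          rw [hz1, polar_comm, stdOdd_polar_zero_e]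
        · simp only [Sum.elim_inr]
          rw [hz2, polar_comm, stdOdd_polar_zero_f]
      · simp only [Sum.elim_inr]
        rw [hp.gram]
        have := hs.gram a b
        rw [← this]
        rcases a with i | i <;> rcases b with j | j <;> rfl⟩
  left_inv c := by
    apply Subtype.ext
    funext a
    rcases a with ⟨⟩ | i | i <;> rfl
  right_inv s := rfl

end OddFrame

section OddCore

variable {F : Type*} [Field F] [Fintype F] (m : ℕ)

/-- In the orthogonal complement of a full hyperbolic family of the odd-dimensional form there are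
exactly two vectors of norm one. -/
theorem card_core_odd (h2 : (2 : F) ≠ 0)
    (e f : Fin m → (Unit ⊕ (Fin m ⊕ Fin m) → F)) (hp : IsHypFamily (stdOdd F m) e f) :
    Nat.card {z : Unit ⊕ (Fin m ⊕ Fin m) → F // ((∀ i, polar (stdOdd F m) (e i) z = 0) ∧
        (∀ i, polar (stdOdd F m) (f i) z = 0)) ∧ stdOdd F m z = 1} = 2 := by
  classical
  have hQ₀ := stdOdd_nondegenerate F m h2
  obtain ⟨_, hnd, hfr⟩ := orthogonal_props (stdOdd F m) hQ₀ (hypSpan (F := F) e f) hp.disjoint
  rw [hp.finrank_hypSpan] at hfr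
  have hfV : finrank F (Unit ⊕ (Fin m ⊕ Fin m) → F) = 2 * m + 1 := by
    simp
    ring
  rw [hfV] at hfr
  have hfr1 : finrank F (LinearMap.BilinForm.orthogonal (polarBilin (stdOdd F m))
      (hypSpan (F := F) e f)) = 1 := by omega
  obtain ⟨w, hwW, hw0⟩ := exists_ne_zero_of_finrank_pos _ (by rw [hfr1]; exact Nat.one_pos)
  have hwW' := (mem_orthogonal_hypSpan_iff (stdOdd F m) e f w).mp hwW
  have hspan : ∀ z, z ∈ LinearMap.BilinForm.orthogonal (polarBilin (stdOdd F m))
      (hypSpan (F := F) e f) → ∃ t : F, t • w = z := by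
    intro z hz
    have h1 := (finrank_eq_one_iff_of_nonzero' (⟨w, hwW⟩ : LinearMap.BilinForm.orthogonal
      (polarBilin (stdOdd F m)) (hypSpan (F := F) e f)) (fun h => hw0 (congrArg Subtype.val h))).mp
      hfr1 ⟨z, hz⟩
    obtain ⟨t, ht⟩ := h1
    exact ⟨t, congrArg Subtype.val ht⟩
  have hQw : stdOdd F m w ≠ 0 := by
    intro h0
    apply hw0
    have : (⟨w, hwW⟩ : LinearMap.BilinForm.orthogonal (polarBilin (stdOdd F m))
        (hypSpan (F := F) e f)) = 0 := by
      apply hnd.1
      rintro ⟨z, hz⟩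
      obtain ⟨t, rfl⟩ := hspan z hz
      rw [polarBilin_apply_apply, polar_qrestrict]
      simp only
      rw [polar_smul_right, polar_self, h0]
      simp
    exact congrArg Subtype.val this
  -- the discriminant argument
  have hsq : IsSquare (stdOdd F m w) := by
    let b : Unit ⊕ (Fin m ⊕ Fin m) → (Unit ⊕ (Fin m ⊕ Fin m) → F) :=
      Sum.elim (fun _ => w) (Sum.elim e f)
    have hgd := gram_det_family (stdOdd F m) b
    have hG : (Matrix.of fun a a' => polar (stdOdd F m) (b a) (b a')) =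
        Matrix.fromBlocks (Matrix.of fun _ _ => 2 * stdOdd F m w) 0 0
          (Matrix.fromBlocks 0 1 1 0) := by
      ext a a'
      rcases a with ⟨⟩ | i | i <;> rcases a' with ⟨⟩ | j | j
      · simp [b, polar_self]
      · simp only [b, Matrix.of_apply, Sum.elim_inl, Sum.elim_inr, Matrix.fromBlocks_apply₁₂,
          Matrix.zero_apply]
        rw [polar_comm]; exact hwW'.1 j
      · simp only [b, Matrix.of_apply, Sum.elim_inl, Sum.elim_inr, Matrix.fromBlocks_apply₁₂,
          Matrix.zero_apply]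
        rw [polar_comm]; exact hwW'.2 j
      · simp only [b, Matrix.of_apply, Sum.elim_inl, Sum.elim_inr, Matrix.fromBlocks_apply₂₁,
          Matrix.zero_apply]
        exact hwW'.1 i
      · simp [b, hp.ee]
      · simp [b, hp.ef, Matrix.one_apply]
      · simp only [b, Matrix.of_apply, Sum.elim_inl, Sum.elim_inr, Matrix.fromBlocks_apply₂₁,
          Matrix.zero_apply]
        exact hwW'.2 i
      · simp only [b, Matrix.of_apply, Sum.elim_inl, Sum.elim_inr, Matrix.fromBlocks_apply₂₂,
          Matrix.fromBlocks_apply₂₁, Matrix.one_apply]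
        rw [polar_comm, hp.ef]
        simp [eq_comm]
      · simp [b, hp.ff]
    have hG0 : (Matrix.of fun a a' => polar (stdOdd F m)
        (Pi.single a 1 : Unit ⊕ (Fin m ⊕ Fin m) → F) (Pi.single a' 1)) =
        Matrix.fromBlocks (Matrix.of fun _ _ => 2) 0 0 (Matrix.fromBlocks 0 1 1 0) := by
      have hs := stdOdd_isHypFamily F m
      ext a a'
      rcases a with ⟨⟩ | i | i <;> rcases a' with ⟨⟩ | j | j
      · simp only [Matrix.of_apply, Matrix.fromBlocks_apply₁₁, polar_self]
        rw [stdOdd_single_zero]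
        simp
      · simp only [Matrix.of_apply, Matrix.fromBlocks_apply₁₂, Matrix.zero_apply]
        exact stdOdd_polar_zero_e F m j
      · simp only [Matrix.of_apply, Matrix.fromBlocks_apply₁₂, Matrix.zero_apply]
        exact stdOdd_polar_zero_f F m j
      · simp only [Matrix.of_apply, Matrix.fromBlocks_apply₂₁, Matrix.zero_apply]
        rw [polar_comm]; exact stdOdd_polar_zero_e F m i
      · simp only [Matrix.of_apply, Matrix.fromBlocks_apply₂₂, Matrix.fromBlocks_apply₁₁,
          Matrix.zero_apply]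
        exact hs.ee i j
      · simp only [Matrix.of_apply, Matrix.fromBlocks_apply₂₂, Matrix.fromBlocks_apply₁₂,
          Matrix.one_apply]
        exact hs.ef i j
      · simp only [Matrix.of_apply, Matrix.fromBlocks_apply₂₁, Matrix.zero_apply]
        rw [polar_comm]; exact stdOdd_polar_zero_f F m i
      · simp only [Matrix.of_apply, Matrix.fromBlocks_apply₂₂, Matrix.fromBlocks_apply₂₁,
          Matrix.one_apply]
        rw [polar_comm, hs.ef]
        simp [eq_comm]
      · simp only [Matrix.of_apply, Matrix.fromBlocks_apply₂₂, Matrix.zero_apply]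
        exact hs.ff i j
    have d1 : (Matrix.of fun (_ _ : Unit) => 2 * stdOdd F m w).det = 2 * stdOdd F m w := by
      rw [Matrix.det_unique]; rfl
    have d2 : (Matrix.of fun (_ _ : Unit) => (2 : F)).det = 2 := by
      rw [Matrix.det_unique]; rfl
    rw [hG, hG0, Matrix.det_fromBlocks_zero₂₁, Matrix.det_fromBlocks_zero₂₁, det_swap_blocks,
      d1, d2] at hgd
    have hne : (2 : F) * (-1) ^ m ≠ 0 := mul_ne_zero h2 (pow_ne_zero _ (by simp))
    refine ⟨(Matrix.of b).det, ?_⟩
    apply mul_left_cancel₀ hne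
    linear_combination hgd
  -- the bijection with the solutions of `t ^ 2 * Q w = 1`
  rw [← card_sq_mul_eq_one h2 (stdOdd F m w) hsq hQw]
  symm
  refine Nat.card_congr (Equiv.ofBijective (fun t => ⟨t.1 • w, ?_⟩) ⟨?_, ?_⟩)
  · refine ⟨⟨fun i => ?_, fun i => ?_⟩, ?_⟩
    · rw [polar_smul_right, hwW'.1 i, smul_zero]
    · rw [polar_smul_right, hwW'.2 i, smul_zero]
    · rw [QuadraticMap.map_smul, smul_eq_mul]
      have := t.2
      linear_combination this
  · intro t t' h
    have h1 : t.1 • w = t'.1 • w := congrArg Subtype.val h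
    exact Subtype.ext (smul_left_injective F hw0 h1)
  · rintro ⟨z, hz1, hz2⟩
    obtain ⟨t, rfl⟩ := hspan z ((mem_orthogonal_hypSpan_iff (stdOdd F m) e f z).mpr hz1)
    refine ⟨⟨t, ?_⟩, rfl⟩
    rw [QuadraticMap.map_smul, smul_eq_mul] at hz2
    linear_combination hz2

/-- The order of the odd-dimensional orthogonal group as a product. -/
theorem card_isometryGroup_odd (h2 : (2 : F) ≠ 0) (nS : ℕ → ℕ)
    (hS : ∀ j, nS (j + 1) = Fintype.card F * nS j +
      (Fintype.card F - 1) * Fintype.card F ^ (1 + 2 * j))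
    (hN : Nat.card {v : Unit ⊕ (Fin m ⊕ Fin m) → F // Cfsg.quadFormOdd m F v = 0} = nS m) :
    Nat.card (Cfsg.isometryGroup F (Cfsg.quadFormOdd m F)) =
      2 * ∏ i ∈ Finset.range m, ((nS (i + 1) - 1) * Fintype.card F ^ (1 + 2 * i)) := by
  classical
  rw [← coe_stdOdd F m,
    Nat.card_congr (isometryEquivFrame (stdOdd F m) (stdOdd_nondegenerate F m h2)),
    Nat.card_congr (oddFrameEquiv F m)]
  have : Fintype {p : (Fin m → (Unit ⊕ (Fin m ⊕ Fin m) → F)) ×
      (Fin m → (Unit ⊕ (Fin m ⊕ Fin m) → F)) // IsHypFamily (stdOdd F m) p.1 p.2} :=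
    Fintype.ofFinite _
  rw [Nat.card_sigma]
  simp only [fun p : {p : (Fin m → (Unit ⊕ (Fin m ⊕ Fin m) → F)) ×
      (Fin m → (Unit ⊕ (Fin m ⊕ Fin m) → F)) // IsHypFamily (stdOdd F m) p.1 p.2} =>
      card_core_odd m h2 p.1.1 p.1.2 p.2, Finset.sum_const, Finset.card_univ, smul_eq_mul]
  have := card_hypFam (F := F) 1 nS hS m 0 (Unit ⊕ (Fin m ⊕ Fin m) → F) (stdOdd F m)
    (stdOdd_nondegenerate F m h2) (by simp; ring)
    (by rw [zero_add, coe_stdOdd]; exact hN)
  rw [← Nat.card_eq_fintype_card, this, mul_comm]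
  congr 1
  apply Finset.prod_congr rfl
  intro i _
  simp

end OddCore

end Cfsg.Agent.Helper43
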