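import Mathlib
import Cfsg.Prelude.Def_Classical
import Cfsg.Agent.Lib.Helper43.OrthFrame

set_option autoImplicit false

namespace Cfsg.Agent.Helper43

open Module QuadraticMap Matrix

section Plus

variable (F : Type*) [Field F] (m : ℕ)

/-- The bilinear form `u, v ↦ Σ u(inl i) v(inr i)`. -/
noncomputable def plusBilin : LinearMap.BilinForm F (Fin m ⊕ Fin m → F) :=
  LinearMap.mk₂ F (fun u v => ∑ i, u (Sum.inl i) * v (Sum.inr i))
    (by intro u u' v; simp [add_mul, Finset.sum_add_distrib])
    (by intro c u v; simp [Finset.mul_sum, mul_assoc])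
    (by intro u v v'; simp [mul_add, Finset.sum_add_distrib])
    (by intro c u v; simp [Finset.mul_sum, mul_left_comm])

/-- The standard plus-type quadratic form. -/
noncomputable def stdPlus : QuadraticForm F (Fin m ⊕ Fin m → F) :=
  LinearMap.BilinMap.toQuadraticMap (plusBilin F m)

theorem stdPlus_apply (v : Fin m ⊕ Fin m → F) : stdPlus F m v = Cfsg.quadFormPlus m F v := rfl

theorem coe_stdPlus : ⇑(stdPlus F m) = Cfsg.quadFormPlus m F := rfl

theorem polar_stdPlus (u v : Fin m ⊕ Fin m → F) :
    polar (stdPlus F m) u v =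
      ∑ i, (u (Sum.inl i) * v (Sum.inr i) + v (Sum.inl i) * u (Sum.inr i)) := by
  rw [stdPlus, LinearMap.BilinMap.polar_toQuadraticMap]
  simp [plusBilin, Finset.sum_add_distrib]

theorem stdPlus_isHypFamily :
    IsHypFamily (stdPlus F m) (fun i => (Pi.single (Sum.inl i) 1 : Fin m ⊕ Fin m → F))
      (fun i => (Pi.single (Sum.inr i) 1 : Fin m ⊕ Fin m → F)) where
  qe i := by
    rw [stdPlus_apply]
    unfold Cfsg.quadFormPlus
    simp
  qf i := by
    rw [stdPlus_apply]
    unfold Cfsg.quadFormPlus
    simp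
  ef i j := by
    rw [polar_stdPlus]
    simp [Pi.single_apply, eq_comm]
  ee i j := by
    rw [polar_stdPlus]
    simp [Pi.single_apply]
  ff i j := by
    rw [polar_stdPlus]
    simp [Pi.single_apply]

theorem stdPlus_nondegenerate : (polarBilin (stdPlus F m)).Nondegenerate := by
  rw [(polarBilin_isRefl _).nondegenerate_iff_separatingLeft]
  intro v hv
  funext a
  rcases a with i | i
  · have := hv (Pi.single (Sum.inr i) 1)
    rw [polarBilin_apply_apply, polar_stdPlus] at this
    simpa [Pi.single_apply] using this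
  · have := hv (Pi.single (Sum.inl i) 1)
    rw [polarBilin_apply_apply, polar_stdPlus] at this
    simpa [Pi.single_apply] using this

theorem elim_single (a : Fin m ⊕ Fin m) :
    Sum.elim (fun i => (Pi.single (Sum.inl i) 1 : Fin m ⊕ Fin m → F))
      (fun i => (Pi.single (Sum.inr i) 1 : Fin m ⊕ Fin m → F)) a = Pi.single a 1 := by
  rcases a with i | i <;> rfl

/-- Frames of the plus-type form are hyperbolic families. -/
noncomputable def plusFrameEquiv : GramFrame (stdPlus F m) ≃
    {p : (Fin m → (Fin m ⊕ Fin m → F)) × (Fin m → (Fin m ⊕ Fin m → F)) //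
      IsHypFamily (stdPlus F m) p.1 p.2} where
  toFun c := ⟨(fun i => c.1 (Sum.inl i), fun i => c.1 (Sum.inr i)), by
    have hs := stdPlus_isHypFamily F m
    refine ⟨fun i => ?_, fun i => ?_, fun i j => ?_, fun i j => ?_, fun i j => ?_⟩
    · rw [c.2.1]; exact hs.qe i
    · rw [c.2.1]; exact hs.qf i
    · rw [c.2.2]; exact hs.ef i j
    · rw [c.2.2]; exact hs.ee i j
    · rw [c.2.2]; exact hs.ff i j⟩
  invFun p := ⟨Sum.elim p.1.1 p.1.2, by
    have hs := stdPlus_isHypFamily F m
    refine ⟨fun a => ?_, fun a b => ?_⟩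
    · rw [← elim_single F m a]
      rcases a with i | i
      · simp only [Sum.elim_inl]; rw [p.2.qe, hs.qe]
      · simp only [Sum.elim_inr]; rw [p.2.qf, hs.qf]
    · rw [← elim_single F m a, ← elim_single F m b, p.2.gram, hs.gram]⟩
  left_inv c := by
    apply Subtype.ext
    funext a
    rcases a with i | i <;> rfl
  right_inv p := rfl

end Plus

section PlusCard

variable {F : Type*} [Field F] [Fintype F]

/-- The order of the plus-type orthogonal group as a product, given the number of singular
vectors. -/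
theorem card_isometryGroup_plus (m : ℕ) (nS : ℕ → ℕ)
    (hS : ∀ j, nS (j + 1) = Fintype.card F * nS j +
      (Fintype.card F - 1) * Fintype.card F ^ (0 + 2 * j))
    (hN : Nat.card {v : Fin m ⊕ Fin m → F // Cfsg.quadFormPlus m F v = 0} = nS m) :
    Nat.card (Cfsg.isometryGroup F (Cfsg.quadFormPlus m F)) =
      ∏ i ∈ Finset.range m, ((nS (i + 1) - 1) * Fintype.card F ^ (2 * i)) := by
  rw [← coe_stdPlus F m, Nat.card_congr (isometryEquivFrame (stdPlus F m) (stdPlus_nondegenerate F m)),
    Nat.card_congr (plusFrameEquiv F m)]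
  have := card_hypFam (F := F) 0 nS hS m 0 (Fin m ⊕ Fin m → F) (stdPlus F m)
    (stdPlus_nondegenerate F m) (by simp; ring) (by rw [zero_add]; exact hN)
  rw [this]
  apply Finset.prod_congr rfl
  intro i _
  simp

end PlusCard

end Cfsg.Agent.Helper43
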