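import Mathlib

set_option autoImplicit false

/-!
# Reflections of a quadratic space and the sign of their action on a level set

For a quadratic space `(V, Q)` over a finite field of odd characteristic, the reflection `r_w`
in an anisotropic vector `w` permutes each level set `{x | Q x = c}`.  We show that for `c ≠ 0`
the sign of this permutation only depends on the square class of `Q w`, and that the two square
classes give opposite signs when orthogonal representatives exist.  This gives an elementary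
construction of the spinor norm over finite fields.
-/

namespace Cfsg.Agent.Helper43

open QuadraticMap

section ReflLin

variable {F : Type*} [Field F] {V : Type*} [AddCommGroup V] [Module F V]

/-- The reflection `x ↦ x - Q(w)⁻¹ f(w, x) w` as a linear map. -/
noncomputable def reflLin (Q : QuadraticForm F V) (w : V) : V →ₗ[F] V :=
  LinearMap.id - ((Q w)⁻¹ • polarBilin Q w).smulRight w

theorem reflLin_apply (Q : QuadraticForm F V) (w x : V) :
    reflLin Q w x = x - ((Q w)⁻¹ * polar Q w x) • w := by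
  simp [reflLin]

theorem Q_reflLin (Q : QuadraticForm F V) {w : V} (hw : Q w ≠ 0) (x : V) :
    Q (reflLin Q w x) = Q x := by
  rw [reflLin_apply, sub_eq_add_neg, ← neg_smul, QuadraticMap.map_add Q, QuadraticMap.map_smul,
    polar_smul_right, polar_comm Q x w]
  simp only [smul_eq_mul]
  field_simp
  ring

theorem polar_reflLin (Q : QuadraticForm F V) {w : V} (hw : Q w ≠ 0) (x y : V) :
    polar Q (reflLin Q w x) (reflLin Q w y) = polar Q x y := by
  unfold polar
  rw [← map_add, Q_reflLin Q hw, Q_reflLin Q hw, Q_reflLin Q hw]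

theorem reflLin_reflLin (Q : QuadraticForm F V) {w : V} (hw : Q w ≠ 0) (x : V) :
    reflLin Q w (reflLin Q w x) = x := by
  rw [reflLin_apply, reflLin_apply, polar_sub_right, polar_smul_right, polar_self]
  simp only [smul_eq_mul, nsmul_eq_mul, Nat.cast_ofNat]
  rw [sub_sub, ← add_smul]
  have : (Q w)⁻¹ * polar (⇑Q) w x +
      (Q w)⁻¹ * (polar (⇑Q) w x - (Q w)⁻¹ * polar (⇑Q) w x * (2 * Q w)) = 0 := by
    field_simp
    ring
  rw [this, zero_smul, sub_zero]

theorem reflLin_self (Q : QuadraticForm F V) {w : V} (hw : Q w ≠ 0) :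
    reflLin Q w w = -w := by
  rw [reflLin_apply, polar_self]
  simp only [nsmul_eq_mul, Nat.cast_ofNat]
  have : (Q w)⁻¹ * (2 * Q w) = 2 := by field_simp
  rw [this, two_smul]
  abel

theorem reflLin_of_polar_eq_zero (Q : QuadraticForm F V) {w x : V} (h : polar Q w x = 0) :
    reflLin Q w x = x := by
  rw [reflLin_apply, h, mul_zero, zero_smul, sub_zero]

theorem reflLin_eq_self_iff (Q : QuadraticForm F V) {w : V} (hw : Q w ≠ 0) (x : V) :
    reflLin Q w x = x ↔ polar Q w x = 0 := by
  constructor
  · intro h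
    rw [reflLin_apply, sub_eq_self, smul_eq_zero] at h
    rcases h with h | h
    · rcases mul_eq_zero.1 h with h | h
      · exact absurd (inv_eq_zero.1 h) hw
      · exact h
    · rw [h, map_zero] at hw
      exact absurd rfl hw
  · exact reflLin_of_polar_eq_zero Q

theorem reflLin_sub_of_eq (Q : QuadraticForm F V) {x y : V} (hxy : Q x = Q y)
    (h : Q (x - y) ≠ 0) : reflLin Q (x - y) x = y := by
  have hq : Q (x - y) = polar Q (x - y) x := by
    rw [polar_sub_left, polar_self, polar_comm Q y x, sub_eq_add_neg x y, QuadraticMap.map_add Q,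
      QuadraticMap.map_neg, polar_neg_right, hxy]
    simp only [nsmul_eq_mul, Nat.cast_ofNat]
    ring
  rw [reflLin_apply, ← hq, inv_mul_cancel₀ h, one_smul]
  abel

theorem reflLin_smul (Q : QuadraticForm F V) {c : F} (hc : c ≠ 0) (w : V) :
    reflLin Q (c • w) = reflLin Q w := by
  ext x
  rw [reflLin_apply, reflLin_apply, QuadraticMap.map_smul, polar_smul_left, smul_smul]
  simp only [smul_eq_mul]
  congr 2
  by_cases hw : Q w = 0
  · simp [hw]
  · field_simp

theorem reflLin_neg (Q : QuadraticForm F V) (w : V) : reflLin Q (-w) = reflLin Q w := by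
  have := reflLin_smul Q (c := (-1 : F)) (by simp) w
  rwa [neg_one_smul] at this

/-- Conjugating a reflection by a reflection. -/
theorem reflLin_conj (Q : QuadraticForm F V) {z : V} (hz : Q z ≠ 0) (w x : V) :
    reflLin Q z (reflLin Q w (reflLin Q z x)) = reflLin Q (reflLin Q z w) x := by
  have key : ∀ y, reflLin Q (reflLin Q z w) (reflLin Q z y) = reflLin Q z (reflLin Q w y) := by
    intro y
    rw [reflLin_apply, Q_reflLin Q hz, polar_reflLin Q hz, reflLin_apply Q w y, map_sub, map_smul]
  rw [← key, reflLin_reflLin Q hz]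

end ReflLin

section SignInvolution

open Equiv

theorem sign_of_sq_eq_one {X : Type*} [Fintype X] [DecidableEq X] (σ : Perm X) (h : σ ^ 2 = 1) :
    ∃ k : ℕ, σ.support.card = 2 * k ∧ Perm.sign σ = (-1) ^ k := by
  have : Fact (Nat.Prime 2) := ⟨Nat.prime_two⟩
  have h1 := Perm.cycleType_of_pow_prime_eq_one h
  have h2 := σ.sum_cycleType
  rw [h1, Multiset.sum_replicate, smul_eq_mul] at h2
  refine ⟨Multiset.card σ.cycleType, by rw [← h2, mul_comm], ?_⟩
  rw [Perm.sign_of_cycleType, h1, Multiset.sum_replicate, Multiset.card_replicate, smul_eq_mul,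
    pow_add, pow_mul]
  rw [← pow_mul, mul_comm, pow_mul]
  simp

theorem sign_eq_neg_of_card_fixedPoints {X : Type*} [Fintype X] [DecidableEq X] (σ τ : Perm X)
    (hσ : σ ^ 2 = 1) (hτ : τ ^ 2 = 1) (a b : ℕ)
    (ha : Fintype.card (Function.fixedPoints σ) = a)
    (hb : Fintype.card (Function.fixedPoints τ) = b)
    (hab : ((a : ℤ) - b) % 4 = 2) : Perm.sign σ = - Perm.sign τ := by
  obtain ⟨k, hk, hsk⟩ := sign_of_sq_eq_one σ hσ
  obtain ⟨l, hl, hsl⟩ := sign_of_sq_eq_one τ hτ
  have h1 := Perm.card_fixedPoints σ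
  have h2 := Perm.card_fixedPoints τ
  rw [Perm.sum_cycleType, ha, hk] at h1
  rw [Perm.sum_cycleType, hb, hl] at h2
  have h3 : 2 * k ≤ Fintype.card X := by rw [← hk]; exact Finset.card_le_univ _
  have h4 : 2 * l ≤ Fintype.card X := by rw [← hl]; exact Finset.card_le_univ _
  have hodd : Odd (k + l) := by
    rw [Nat.odd_iff]
    omega
  have h5 : ((-1 : ℤˣ)) ^ k = (-1) ^ (k + l) * (-1) ^ l := by
    rw [← pow_add, add_assoc, ← two_mul, pow_add, pow_mul]
    simp
  rw [hsk, hsl, h5, hodd.neg_one_pow, neg_one_mul]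

end SignInvolution

section ReflPerm

variable {F : Type*} [Field F] {V : Type*} [AddCommGroup V] [Module F V]

/-- The permutation of the level set `{x | Q x = c}` induced by a reflection. -/
noncomputable def reflPerm (Q : QuadraticForm F V) (c : F) (w : V) (hw : Q w ≠ 0) :
    Equiv.Perm {x : V // Q x = c} :=
  Function.Involutive.toPerm
    (fun x => ⟨reflLin Q w x.1, by rw [Q_reflLin Q hw]; exact x.2⟩)
    (fun x => Subtype.ext (reflLin_reflLin Q hw x.1))

theorem reflPerm_apply (Q : QuadraticForm F V) (c : F) (w : V) (hw : Q w ≠ 0)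
    (x : {x : V // Q x = c}) : ((reflPerm Q c w hw x : {x : V // Q x = c}) : V) = reflLin Q w x.1 :=
  rfl

theorem reflPerm_sq (Q : QuadraticForm F V) (c : F) (w : V) (hw : Q w ≠ 0) :
    (reflPerm Q c w hw) ^ 2 = 1 := by
  ext x
  rw [pow_two, Equiv.Perm.mul_apply, reflPerm_apply, reflPerm_apply, reflLin_reflLin Q hw]
  rfl

theorem reflPerm_congr (Q : QuadraticForm F V) (c : F) {w w' : V} (hw : Q w ≠ 0) (hw' : Q w' ≠ 0)
    (h : reflLin Q w = reflLin Q w') : reflPerm Q c w hw = reflPerm Q c w' hw' := by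
  ext x
  rw [reflPerm_apply, reflPerm_apply, h]

theorem reflPerm_conj (Q : QuadraticForm F V) (c : F) {z w : V} (hz : Q z ≠ 0) (hw : Q w ≠ 0) :
    reflPerm Q c z hz * reflPerm Q c w hw * reflPerm Q c z hz =
      reflPerm Q c (reflLin Q z w) (by rw [Q_reflLin Q hz]; exact hw) := by
  ext x
  rw [Equiv.Perm.mul_apply, Equiv.Perm.mul_apply, reflPerm_apply, reflPerm_apply, reflPerm_apply,
    reflPerm_apply, reflLin_conj Q hz]

variable [DecidableEq V]

/-- Vectors of the same non-zero norm give reflections with the same sign on a level set. -/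
theorem sign_reflPerm_eq_of_eq (Q : QuadraticForm F V) (h2 : (2 : F) ≠ 0) (c : F)
    [Fintype {x : V // Q x = c}]
    {x y : V} (hx : Q x ≠ 0) (hxy : Q x = Q y) :
    Equiv.Perm.sign (reflPerm Q c x hx) = Equiv.Perm.sign (reflPerm Q c y (hxy ▸ hx)) := by
  have hy : Q y ≠ 0 := hxy ▸ hx
  have hsq : ∀ (z : V) (hz : Q z ≠ 0), Equiv.Perm.sign (reflPerm Q c z hz) *
      Equiv.Perm.sign (reflPerm Q c z hz) = 1 := by
    intro z hz
    rw [← map_mul, ← pow_two, reflPerm_sq, map_one]
  by_cases h : Q (x - y) = 0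
  · -- use x + y
    have h' : Q (x + y) ≠ 0 := by
      intro h'
      have e1 : Q (x + y) = Q x + Q y + polar Q x y := QuadraticMap.map_add Q x y
      have e2 : Q (x - y) = Q x + Q y - polar Q x y := by
        rw [sub_eq_add_neg, QuadraticMap.map_add Q, QuadraticMap.map_neg, polar_neg_right]
        ring
      have : (2 : F) * (2 * Q x) = 0 := by
        have : Q (x + y) + Q (x - y) = 0 := by rw [h, h', add_zero]
        rw [e1, e2, ← hxy] at this
        linear_combination this
      rcases mul_eq_zero.1 this with h0 | h0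
      · exact h2 h0
      · rcases mul_eq_zero.1 h0 with h0 | h0
        · exact h2 h0
        · exact hx h0
    have hmap : reflLin Q (x + y) x = -y := by
      have := reflLin_sub_of_eq Q (x := x) (y := -y) (by rw [QuadraticMap.map_neg]; exact hxy)
        (by rwa [sub_neg_eq_add])
      rwa [sub_neg_eq_add] at this
    have hc := reflPerm_conj Q c h' hx
    have hcongr : reflPerm Q c (reflLin Q (x + y) x) (by rw [Q_reflLin Q h']; exact hx) =
        reflPerm Q c y hy := by
      apply reflPerm_congr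
      rw [hmap, reflLin_neg]
    rw [hcongr] at hc
    rw [← hc, map_mul, map_mul, mul_comm (Equiv.Perm.sign (reflPerm Q c (x + y) h')), mul_assoc,
      hsq, mul_one]
  · have hmap := reflLin_sub_of_eq Q hxy h
    have hc := reflPerm_conj Q c h hx
    have hcongr : reflPerm Q c (reflLin Q (x - y) x) (by rw [Q_reflLin Q h]; exact hx) =
        reflPerm Q c y hy := by
      apply reflPerm_congr
      rw [hmap]
    rw [hcongr] at hc
    rw [← hc, map_mul, map_mul, mul_comm (Equiv.Perm.sign (reflPerm Q c (x - y) h)), mul_assoc,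
      hsq, mul_one]

end ReflPerm

section Counting

variable {F : Type*} [Field F] [Fintype F] [DecidableEq F]
  {V : Type*} [AddCommGroup V] [Module F V] [Fintype V] [DecidableEq V]

theorem card_sqrts (h2 : (2 : F) ≠ 0) (a : F) :
    (Fintype.card {β : F // β ^ 2 = a} : ℤ) = quadraticChar F a + 1 := by
  have hF : ringChar F ≠ 2 := by
    intro h
    apply h2
    have := ringChar.Nat.cast_ringChar (R := F)
    rw [h] at this
    exact_mod_cast this
  rw [← quadraticChar_card_sqrts hF a, Set.toFinset_card]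
  rfl

/-- Decomposing `u^⊥ ∩ {Q = c}` along an anisotropic vector `v ⊥ u`. -/
noncomputable def perpLevelEquiv (Q : QuadraticForm F V) (h2 : (2 : F) ≠ 0) {u v : V}
    (huv : polar Q u v = 0) (hv : Q v ≠ 0) (c : F) :
    {x : V // polar Q u x = 0 ∧ Q x = c} ≃
      {p : {y : V // polar Q u y = 0 ∧ polar Q v y = 0} × F //
        p.2 ^ 2 = (c - Q p.1.1) * (Q v)⁻¹} where
  toFun x := ⟨(⟨x.1 - ((2 * Q v)⁻¹ * polar Q v x.1) • v, by
      constructor
      · rw [polar_sub_right, polar_smul_right, huv, x.2.1, smul_zero, sub_zero]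
      · rw [polar_sub_right, polar_smul_right, polar_self]
        simp only [smul_eq_mul, nsmul_eq_mul, Nat.cast_ofNat]
        field_simp
        ring⟩, (2 * Q v)⁻¹ * polar Q v x.1), by
      show ((2 * Q v)⁻¹ * polar Q v x.1) ^ 2 =
        (c - Q (x.1 - ((2 * Q v)⁻¹ * polar Q v x.1) • v)) * (Q v)⁻¹
      rw [sub_eq_add_neg x.1, ← neg_smul, QuadraticMap.map_add Q, QuadraticMap.map_smul,
        polar_smul_right, x.2.2, polar_comm Q x.1 v]
      simp only [smul_eq_mul]
      field_simp
      ring⟩
  invFun p := ⟨p.1.1.1 + p.1.2 • v, by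
      constructor
      · rw [polar_add_right, polar_smul_right, huv, p.1.1.2.1, smul_zero, add_zero]
      · have h := p.2
        have hi : Q v * (Q v)⁻¹ = 1 := mul_inv_cancel₀ hv
        rw [QuadraticMap.map_add Q, QuadraticMap.map_smul, polar_smul_right, polar_comm Q _ v,
          p.1.1.2.2, smul_zero, add_zero]
        simp only [smul_eq_mul]
        linear_combination (Q v) * h + (c - Q p.1.1.1) * hi⟩
  left_inv x := by
    apply Subtype.ext
    show x.1 - ((2 * Q v)⁻¹ * polar Q v x.1) • v + ((2 * Q v)⁻¹ * polar Q v x.1) • v = x.1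
    abel
  right_inv p := by
    have hb : (2 * Q v)⁻¹ * polar Q v (p.1.1.1 + p.1.2 • v) = p.1.2 := by
      rw [polar_add_right, polar_smul_right, p.1.1.2.2, polar_self]
      simp only [smul_eq_mul, nsmul_eq_mul, Nat.cast_ofNat]
      field_simp
      ring
    apply Subtype.ext
    apply Prod.ext
    · apply Subtype.ext
      show p.1.1.1 + p.1.2 • v - ((2 * Q v)⁻¹ * polar Q v (p.1.1.1 + p.1.2 • v)) • v = p.1.1.1
      rw [hb]
      abel
    · exact hb

theorem card_perp_level (Q : QuadraticForm F V) (h2 : (2 : F) ≠ 0) {u v : V}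
    (huv : polar Q u v = 0) (hv : Q v ≠ 0) (c : F) :
    (Fintype.card {x : V // polar Q u x = 0 ∧ Q x = c} : ℤ) =
      ∑ y : {y : V // polar Q u y = 0 ∧ polar Q v y = 0},
        (quadraticChar F ((c - Q y.1) * (Q v)⁻¹) + 1) := by
  rw [Fintype.card_congr (perpLevelEquiv Q h2 huv hv c),
    Fintype.card_congr (Equiv.subtypeProdEquivSigmaSubtype
      (fun (y : {y : V // polar Q u y = 0 ∧ polar Q v y = 0}) (β : F) =>
        β ^ 2 = (c - Q y.1) * (Q v)⁻¹)),
    Fintype.card_sigma, Nat.cast_sum]
  apply Finset.sum_congr rfl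
  intro y _
  exact card_sqrts h2 _

theorem quadraticChar_inv_add (h2 : (2 : F) ≠ 0) {a b : F} (hab : ¬ IsSquare (a * b)) (d : F) :
    quadraticChar F (d * b⁻¹) + quadraticChar F (d * a⁻¹) = 0 := by
  have hab0 : a * b ≠ 0 := by
    intro h
    apply hab
    rw [h]
    exact ⟨0, by simp⟩
  have ha : a ≠ 0 := left_ne_zero_of_mul hab0
  have hb : b ≠ 0 := right_ne_zero_of_mul hab0
  have h1 : quadraticChar F (a * b) = -1 := quadraticChar_neg_one_iff_not_isSquare.2 hab
  rw [map_mul] at h1
  have hinv : ∀ x : F, x ≠ 0 → quadraticChar F x⁻¹ = quadraticChar F x := by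
    intro x hx
    have e : quadraticChar F x⁻¹ * quadraticChar F x = 1 := by
      rw [← map_mul, inv_mul_cancel₀ hx, map_one]
    rcases quadraticChar_dichotomy hx with h | h
    · rw [h, mul_one] at e
      rw [e, h]
    · rw [h] at e ⊢
      linarith
  rw [map_mul, map_mul, hinv a ha, hinv b hb]
  rcases quadraticChar_dichotomy ha with h | h <;> rcases quadraticChar_dichotomy hb with h' | h'
  · rw [h, h'] at h1
    norm_num at h1
  · rw [h, h']
    ring
  · rw [h, h']
    ring
  · rw [h, h'] at h1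
    norm_num at h1

theorem card_perp_level_add (Q : QuadraticForm F V) (h2 : (2 : F) ≠ 0) {u v : V}
    (huv : polar Q u v = 0) (hns : ¬ IsSquare (Q u * Q v)) (c : F) :
    (Fintype.card {x : V // polar Q u x = 0 ∧ Q x = c} : ℤ) +
      Fintype.card {x : V // polar Q v x = 0 ∧ Q x = c} =
      2 * Fintype.card {y : V // polar Q u y = 0 ∧ polar Q v y = 0} := by
  have hab0 : Q u * Q v ≠ 0 := by
    intro h
    apply hns
    rw [h]
    exact ⟨0, by simp⟩
  have hu : Q u ≠ 0 := left_ne_zero_of_mul hab0
  have hv : Q v ≠ 0 := right_ne_zero_of_mul hab0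
  have hvu : polar Q v u = 0 := by rw [polar_comm]; exact huv
  rw [card_perp_level Q h2 huv hv c, card_perp_level Q h2 hvu hu c]
  let e : {y : V // polar Q u y = 0 ∧ polar Q v y = 0} ≃ {y : V // polar Q v y = 0 ∧ polar Q u y = 0} :=
    Equiv.subtypeEquivRight (fun y => and_comm)
  rw [← Equiv.sum_comp e, ← Finset.sum_add_distrib]
  have : ∀ y : {y : V // polar Q u y = 0 ∧ polar Q v y = 0},
      (quadraticChar F ((c - Q y.1) * (Q v)⁻¹) + 1) +
        (quadraticChar F ((c - Q (e y).1) * (Q u)⁻¹) + 1) = 2 := by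
    intro y
    have h := quadraticChar_inv_add h2 hns (c - Q y.1)
    have he : (e y).1 = y.1 := rfl
    rw [he]
    linarith
  rw [Finset.sum_congr rfl (fun y _ => this y)]
  simp [mul_comm]

theorem even_card_of_involution_no_fixed {α : Type*} [Fintype α] [DecidableEq α] (f : α → α)
    (hf : ∀ x, f (f x) = x) (hfix : ∀ x, f x ≠ x) : Even (Fintype.card α) := by
  have : Fact (Nat.Prime 2) := ⟨Nat.prime_two⟩
  let g : Function.End α := f
  have h : g ^ 2 ^ 1 = 1 := by
    rw [pow_one, pow_two]
    funext x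
    exact hf x
  have h1 := Equiv.Perm.card_fixedPoints_modEq (f := g) (p := 2) (n := 1) h
  have h0 : Fintype.card (Function.fixedPoints f) = 0 := by
    rw [Fintype.card_eq_zero_iff]
    exact ⟨fun x => hfix x.1 x.2⟩
  rw [h0] at h1
  exact Nat.even_iff.2 h1

theorem odd_card_of_involution_one_fixed {α : Type*} [Fintype α] [DecidableEq α] (f : α → α)
    (hf : ∀ x, f (f x) = x) (x₀ : α) (hfix : ∀ x, f x = x ↔ x = x₀) : Odd (Fintype.card α) := by
  have : Fact (Nat.Prime 2) := ⟨Nat.prime_two⟩
  let g : Function.End α := f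
  have h : g ^ 2 ^ 1 = 1 := by
    rw [pow_one, pow_two]
    funext x
    exact hf x
  have h1 := Equiv.Perm.card_fixedPoints_modEq (f := g) (p := 2) (n := 1) h
  have h0 : Fintype.card (Function.fixedPoints f) = 1 := by
    rw [Fintype.card_eq_one_iff]
    exact ⟨⟨x₀, (hfix x₀).2 rfl⟩, fun y => Subtype.ext ((hfix y.1).1 y.2)⟩
  rw [h0] at h1
  exact Nat.odd_iff.2 h1

theorem neg_ne_self_of_ne_zero (h2 : (2 : F) ≠ 0) {x : V} (hx : x ≠ 0) : -x ≠ x := by
  intro h
  have : (2 : F) • x = 0 := by
    rw [two_smul]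
    nth_rewrite 1 [← h]
    exact neg_add_cancel x
  rcases smul_eq_zero.1 this with h' | h'
  · exact h2 h'
  · exact hx h'

theorem card_perp_level_mod_four (Q : QuadraticForm F V) (h2 : (2 : F) ≠ 0) {u v : V}
    (huv : polar Q u v = 0) (hns : ¬ IsSquare (Q u * Q v)) {c : F} (hc : c ≠ 0) :
    ((Fintype.card {x : V // polar Q u x = 0 ∧ Q x = c} : ℤ) -
      Fintype.card {x : V // polar Q v x = 0 ∧ Q x = c}) % 4 = 2 := by
  have hadd := card_perp_level_add Q h2 huv hns c
  have heven : Even (Fintype.card {x : V // polar Q v x = 0 ∧ Q x = c}) := by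
    apply even_card_of_involution_no_fixed
      (fun x => ⟨-x.1, by rw [polar_neg_right, x.2.1, neg_zero], by rw [QuadraticMap.map_neg]; exact x.2.2⟩)
    · intro x
      apply Subtype.ext
      exact neg_neg x.1
    · intro x h
      have hx : x.1 ≠ 0 := by
        intro h0
        have := x.2.2
        rw [h0, map_zero] at this
        exact hc this.symm
      exact neg_ne_self_of_ne_zero h2 hx (congrArg Subtype.val h)
  have hodd : Odd (Fintype.card {y : V // polar Q u y = 0 ∧ polar Q v y = 0}) := by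
    apply odd_card_of_involution_one_fixed
      (fun x => ⟨-x.1, by rw [polar_neg_right, x.2.1, neg_zero], by rw [polar_neg_right, x.2.2, neg_zero]⟩)
      _ ⟨0, by simp, by simp⟩
    · intro x
      constructor
      · intro h
        by_contra hne
        have hx : x.1 ≠ 0 := fun h0 => hne (Subtype.ext h0)
        exact neg_ne_self_of_ne_zero h2 hx (congrArg Subtype.val h)
      · intro h
        rw [h]
        apply Subtype.ext
        simp
    · intro x
      apply Subtype.ext
      exact neg_neg x.1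
  obtain ⟨m, hm⟩ := heven
  obtain ⟨l, hl⟩ := hodd
  rw [hm, hl] at hadd
  rw [hm]
  push_cast at hadd ⊢
  omega

/-- Fixed points of a reflection on a level set. -/
noncomputable def fixedPointsReflEquiv (Q : QuadraticForm F V) (c : F) (w : V) (hw : Q w ≠ 0) :
    Function.fixedPoints (reflPerm Q c w hw) ≃ {x : V // polar Q w x = 0 ∧ Q x = c} where
  toFun x := ⟨x.1.1, (reflLin_eq_self_iff Q hw x.1.1).1 (congrArg Subtype.val x.2), x.1.2⟩
  invFun x := ⟨⟨x.1, x.2.2⟩, Subtype.ext ((reflLin_eq_self_iff Q hw x.1).2 x.2.1)⟩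
  left_inv x := rfl
  right_inv x := rfl

/-- Orthogonal anisotropic vectors whose norms lie in different square classes give reflections
of opposite sign on every level set `Q = c`, `c ≠ 0`. -/
theorem sign_reflPerm_orth (Q : QuadraticForm F V) (h2 : (2 : F) ≠ 0) {u v : V}
    (huv : polar Q u v = 0) (hu : Q u ≠ 0) (hv : Q v ≠ 0) (hns : ¬ IsSquare (Q u * Q v))
    {c : F} (hc : c ≠ 0) :
    Equiv.Perm.sign (reflPerm Q c u hu) = - Equiv.Perm.sign (reflPerm Q c v hv) := by
  apply sign_eq_neg_of_card_fixedPoints _ _ (reflPerm_sq Q c u hu) (reflPerm_sq Q c v hv) _ _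
    (Fintype.card_congr (fixedPointsReflEquiv Q c u hu))
    (Fintype.card_congr (fixedPointsReflEquiv Q c v hv))
  exact card_perp_level_mod_four Q h2 huv hns hc

/-- The general comparison: if some vector orthogonal to `u` has the norm of `v`. -/
theorem sign_reflPerm_neg (Q : QuadraticForm F V) (h2 : (2 : F) ≠ 0) {u v v' : V}
    (huv : polar Q u v' = 0) (hvv' : Q v' = Q v) (hu : Q u ≠ 0) (hv : Q v ≠ 0)
    (hns : ¬ IsSquare (Q u * Q v)) {c : F} (hc : c ≠ 0) :
    Equiv.Perm.sign (reflPerm Q c u hu) = - Equiv.Perm.sign (reflPerm Q c v hv) := by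
  have hv' : Q v' ≠ 0 := by rw [hvv']; exact hv
  rw [sign_reflPerm_orth Q h2 huv hu hv' (by rw [hvv']; exact hns) hc,
    sign_reflPerm_eq_of_eq Q h2 c hv' hvv']

/-- Same square class gives the same sign. -/
theorem sign_reflPerm_eq_of_isSquare (Q : QuadraticForm F V) (h2 : (2 : F) ≠ 0) {u v : V}
    (hu : Q u ≠ 0) (hv : Q v ≠ 0) (hs : IsSquare (Q u * Q v)) (c : F) :
    Equiv.Perm.sign (reflPerm Q c u hu) = Equiv.Perm.sign (reflPerm Q c v hv) := by
  obtain ⟨r, hr⟩ := hs
  have hr0 : r ≠ 0 := by
    intro h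
    rw [h, mul_zero] at hr
    exact mul_ne_zero hu hv hr
  have hcoef : r * (Q v)⁻¹ ≠ 0 := mul_ne_zero hr0 (inv_ne_zero hv)
  have hq : Q u = Q ((r * (Q v)⁻¹) • v) := by
    rw [QuadraticMap.map_smul]
    simp only [smul_eq_mul]
    field_simp
    rw [hr]
    ring
  rw [sign_reflPerm_eq_of_eq Q h2 c hu hq]
  congr 1
  apply reflPerm_congr
  exact reflLin_smul Q hcoef v

end Counting

end Cfsg.Agent.Helper43
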