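import Mathlib
import Cfsg.Prelude.Def_Classical
import Cfsg.Prelude.Def_ClassicalGeometry
import Cfsg.Agent.Lib.Helper13.QuadMat
import Cfsg.Agent.Lib.Helper43.ReflSign
import Cfsg.Agent.Lib.Helper43.OrthFrame
import Cfsg.Agent.Lib.Helper43.QuadFinite

set_option autoImplicit false

/-!
# The spinor norm criterion for `Ω` over finite fields of odd order

`g = r_{v₁} ⋯ r_{v_k}` lies in the commutator subgroup of `O(Q)` iff `k` is even and
`Q v₁ ⋯ Q v_k` is a square.
-/

namespace Cfsg.Agent.Helper43

open Matrix QuadraticMap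
open scoped commutatorElement

section Refl

variable {F : Type*} [Field F] {ι : Type} [Fintype ι] [DecidableEq ι]

theorem matrix_ext_mulVec {M N : Matrix ι ι F} (h : ∀ x, M *ᵥ x = N *ᵥ x) : M = N := by
  apply Matrix.toLin'.injective
  apply LinearMap.ext
  intro x
  rw [Matrix.toLin'_apply, Matrix.toLin'_apply, h]

variable (Q : QuadraticForm F (ι → F))

theorem reflectionMatrix_mulVec_eq (v x : ι → F) :
    Cfsg.reflectionMatrix (⇑Q) v *ᵥ x = reflLin Q v x := by
  rw [Cfsg.Agent.Helper13.reflectionMatrix_mulVec, reflLin_apply]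

theorem reflectionMatrix_mul_self {v : ι → F} (hv : Q v ≠ 0) :
    Cfsg.reflectionMatrix (⇑Q) v * Cfsg.reflectionMatrix (⇑Q) v = 1 := by
  apply matrix_ext_mulVec
  intro x
  rw [← Matrix.mulVec_mulVec, reflectionMatrix_mulVec_eq, reflectionMatrix_mulVec_eq,
    reflLin_reflLin Q hv, Matrix.one_mulVec]

theorem reflectionMatrix_det {v : ι → F} (hv : Q v ≠ 0) :
    (Cfsg.reflectionMatrix (⇑Q) v).det = -1 := by
  unfold Cfsg.reflectionMatrix
  rw [sub_eq_add_neg, ← neg_smul, ← Matrix.smul_vecMulVec,
    Cfsg.Agent.Helper13.det_one_add_vecMulVec, dotProduct_smul,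
    Cfsg.Agent.Helper13.polarVec_dotProduct, polar_self]
  simp only [smul_eq_mul, nsmul_eq_mul, Nat.cast_ofNat]
  field_simp
  ring

/-- The reflection in an anisotropic vector as an element of the isometry group. -/
noncomputable def reflIso {v : ι → F} (hv : Q v ≠ 0) : ↥(Cfsg.isometryGroup F ⇑Q) :=
  ⟨⟨Cfsg.reflectionMatrix (⇑Q) v, Cfsg.reflectionMatrix (⇑Q) v, reflectionMatrix_mul_self Q hv,
    reflectionMatrix_mul_self Q hv⟩, (mem_isometryGroup_iff _ _).2 (fun u => by
      show Q (Cfsg.reflectionMatrix (⇑Q) v *ᵥ u) = Q u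
      rw [reflectionMatrix_mulVec_eq, Q_reflLin Q hv])⟩

theorem reflIso_coe {v : ι → F} (hv : Q v ≠ 0) :
    (((reflIso Q hv : ↥(Cfsg.isometryGroup F ⇑Q)) : GL ι F) : Matrix ι ι F) =
      Cfsg.reflectionMatrix (⇑Q) v := rfl

theorem isoGroup_ext {g h : ↥(Cfsg.isometryGroup F ⇑Q)}
    (e : ((g : GL ι F) : Matrix ι ι F) = ((h : GL ι F) : Matrix ι ι F)) : g = h :=
  Subtype.ext (Units.ext e)

theorem reflIso_mul_self {v : ι → F} (hv : Q v ≠ 0) : reflIso Q hv * reflIso Q hv = 1 := by
  apply isoGroup_ext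
  exact reflectionMatrix_mul_self Q hv

theorem reflIso_inv {v : ι → F} (hv : Q v ≠ 0) : (reflIso Q hv)⁻¹ = reflIso Q hv :=
  inv_eq_of_mul_eq_one_right (reflIso_mul_self Q hv)

theorem reflIso_congr {v w : ι → F} (hv : Q v ≠ 0) (hw : Q w ≠ 0)
    (h : reflLin Q v = reflLin Q w) : reflIso Q hv = reflIso Q hw := by
  apply isoGroup_ext
  apply matrix_ext_mulVec
  intro x
  rw [reflIso_coe, reflIso_coe, reflectionMatrix_mulVec_eq, reflectionMatrix_mulVec_eq, h]

theorem reflIso_conj {z w : ι → F} (hz : Q z ≠ 0) (hw : Q w ≠ 0) :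
    reflIso Q hz * reflIso Q hw * reflIso Q hz =
      reflIso Q (v := reflLin Q z w) (by rw [Q_reflLin Q hz]; exact hw) := by
  apply isoGroup_ext
  apply matrix_ext_mulVec
  intro x
  show (Cfsg.reflectionMatrix (⇑Q) z * Cfsg.reflectionMatrix (⇑Q) w *
    Cfsg.reflectionMatrix (⇑Q) z) *ᵥ x = Cfsg.reflectionMatrix (⇑Q) (reflLin Q z w) *ᵥ x
  rw [← Matrix.mulVec_mulVec, ← Matrix.mulVec_mulVec, reflectionMatrix_mulVec_eq,
    reflectionMatrix_mulVec_eq, reflectionMatrix_mulVec_eq, reflectionMatrix_mulVec_eq,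
    reflLin_conj Q hz]

/-- Reflections in vectors of the same norm are conjugate in the isometry group. -/
theorem exists_conj_reflIso (h2 : (2 : F) ≠ 0) {x y : ι → F} (hx : Q x ≠ 0) (hxy : Q x = Q y) :
    ∃ h : ↥(Cfsg.isometryGroup F ⇑Q), h * reflIso Q hx * h⁻¹ = reflIso Q (v := y) (hxy ▸ hx) := by
  have hy : Q y ≠ 0 := hxy ▸ hx
  by_cases h : Q (x - y) = 0
  · have h' : Q (x + y) ≠ 0 := by
      intro h'
      have e1 : Q (x + y) = Q x + Q y + polar Q x y := QuadraticMap.map_add Q x y
      have e2 : Q (x - y) = Q x + Q y - polar Q x y := by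
        rw [sub_eq_add_neg, QuadraticMap.map_add Q, QuadraticMap.map_neg, polar_neg_right]
        ring
      have : (2 : F) * (2 * Q x) = 0 := by
        have : Q (x + y) + Q (x - y) = 0 := by rw [h, h', add_zero]
        rw [e1, e2, ← hxy] at this
        linear_combination this
      rcases mul_eq_zero.1 this with h0 | h0
      · exact h2 h0
      · rcases mul_eq_zero.1 h0 with h0 | h0
        · exact h2 h0
        · exact hx h0
    have hmap : reflLin Q (x + y) x = -y := by
      have := reflLin_sub_of_eq Q (x := x) (y := -y) (by rw [QuadraticMap.map_neg]; exact hxy)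
        (by rwa [sub_neg_eq_add])
      rwa [sub_neg_eq_add] at this
    refine ⟨reflIso Q h', ?_⟩
    rw [reflIso_inv, reflIso_conj]
    apply reflIso_congr
    rw [hmap, reflLin_neg]
  · have hmap := reflLin_sub_of_eq Q hxy h
    refine ⟨reflIso Q h, ?_⟩
    rw [reflIso_inv, reflIso_conj]
    apply reflIso_congr
    rw [hmap]

/-- The product of two reflections whose norms lie in the same square class is a commutator. -/
theorem reflIso_mul_mem_commutator (h2 : (2 : F) ≠ 0) {u v : ι → F} (hu : Q u ≠ 0) (hv : Q v ≠ 0)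
    (hs : IsSquare (Q u * Q v)) : reflIso Q hu * reflIso Q hv ∈ commutator ↥(Cfsg.isometryGroup F ⇑Q) := by
  obtain ⟨r, hr⟩ := hs
  have hr0 : r ≠ 0 := by
    intro h
    rw [h, mul_zero] at hr
    exact mul_ne_zero hu hv hr
  have hcoef : r * (Q v)⁻¹ ≠ 0 := mul_ne_zero hr0 (inv_ne_zero hv)
  have hq : Q u = Q ((r * (Q v)⁻¹) • v) := by
    rw [QuadraticMap.map_smul]
    simp only [smul_eq_mul]
    field_simp
    rw [hr]
    ring
  obtain ⟨h, hh⟩ := exists_conj_reflIso Q h2 hu hq
  have hv' : reflIso Q (v := (r * (Q v)⁻¹) • v) (hq ▸ hu) = reflIso Q hv :=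
    reflIso_congr Q _ _ (reflLin_smul Q hcoef v)
  rw [hv'] at hh
  have : reflIso Q hu * reflIso Q hv = ⁅reflIso Q hu, h⁆ := by
    rw [commutatorElement_def, reflIso_inv, ← hh]
    group
  rw [this, commutator_def]
  exact Subgroup.commutator_mem_commutator (Subgroup.mem_top _) (Subgroup.mem_top _)

/-- In a non-degenerate space of dimension at least two, the orthogonal complement of an
anisotropic vector contains an anisotropic vector. -/
theorem exists_aniso_perp (h2 : (2 : F) ≠ 0) (hn : 2 ≤ Fintype.card ι)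
    (hQ : (polarBilin Q).Nondegenerate) {u : ι → F} (hu : Q u ≠ 0) :
    ∃ w : ι → F, polar Q u w = 0 ∧ Q w ≠ 0 := by
  have h2u : 2 * Q u ≠ 0 := mul_ne_zero h2 hu
  -- a non-zero vector orthogonal to u
  have hker := finrank_ker_functional_ge (polarBilin Q u)
  rw [Module.finrank_fintype_fun_eq_card] at hker
  obtain ⟨y, hyk, hy0⟩ := exists_ne_zero_of_finrank_pos (LinearMap.ker (polarBilin Q u)) (by omega)
  have hy : polar Q u y = 0 := by
    have := LinearMap.mem_ker.1 hyk
    rwa [polarBilin_apply_apply] at this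
  -- a partner
  have : ∃ z, polar Q y z ≠ 0 := by
    by_contra hcon
    push Not at hcon
    apply hy0
    apply hQ.1
    intro z
    rw [polarBilin_apply_apply]
    exact hcon z
  obtain ⟨z, hz⟩ := this
  set z' := z - ((2 * Q u)⁻¹ * polar Q u z) • u with hz'
  have huz' : polar Q u z' = 0 := by
    rw [hz', polar_sub_right, polar_smul_right, polar_self]
    simp only [smul_eq_mul, nsmul_eq_mul, Nat.cast_ofNat]
    field_simp
    ring
  have hyz' : polar Q y z' ≠ 0 := by
    rw [hz', polar_sub_right, polar_smul_right, polar_comm Q y u, hy, smul_zero, sub_zero]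
    exact hz
  by_cases h1 : Q y = 0
  · by_cases h3 : Q z' = 0
    · refine ⟨y + z', ?_, ?_⟩
      · rw [polar_add_right, hy, huz', add_zero]
      · rw [QuadraticMap.map_add Q, h1, h3, zero_add, zero_add]
        exact hyz'
    · exact ⟨z', huz', h3⟩
  · exact ⟨y, hy, h1⟩

end Refl

section Theta

variable {F : Type*} [Field F] [Fintype F] [DecidableEq F] {ι : Type} [Fintype ι] [DecidableEq ι]
variable (Q : QuadraticForm F (ι → F))

/-- The form `Q(x) + t²` on `F^ι × F`. -/
noncomputable def extForm : QuadraticForm F ((ι → F) × F) := Q.prod QuadraticMap.sq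

theorem extForm_apply (p : (ι → F) × F) : extForm Q p = Q p.1 + p.2 * p.2 := rfl

theorem polar_extForm (p p' : (ι → F) × F) :
    polar (extForm Q) p p' = polar Q p.1 p'.1 + 2 * (p.2 * p'.2) := by
  unfold polar
  rw [extForm_apply, extForm_apply, extForm_apply]
  simp only [Prod.fst_add, Prod.snd_add]
  ring

/-- The isometry group permutes the level set `Q(x) + t² = 1`. -/
noncomputable def lvlPerm (g : ↥(Cfsg.isometryGroup F ⇑Q)) :
    Equiv.Perm {p : (ι → F) × F // extForm Q p = 1} where
  toFun p := ⟨(((g : GL ι F) : Matrix ι ι F) *ᵥ p.1.1, p.1.2), by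
    have := p.2
    rw [extForm_apply] at this
    show Q (((g : GL ι F) : Matrix ι ι F) *ᵥ p.1.1) + p.1.2 * p.1.2 = 1
    rw [(mem_isometryGroup_iff (⇑Q) g.1).1 g.2 p.1.1]
    exact this⟩
  invFun p := ⟨((((g⁻¹ : ↥(Cfsg.isometryGroup F ⇑Q)) : GL ι F) : Matrix ι ι F) *ᵥ p.1.1, p.1.2), by
    have := p.2
    rw [extForm_apply] at this
    show Q ((((g⁻¹ : ↥(Cfsg.isometryGroup F ⇑Q)) : GL ι F) : Matrix ι ι F) *ᵥ p.1.1) +
      p.1.2 * p.1.2 = 1
    rw [(mem_isometryGroup_iff (⇑Q) (g⁻¹).1).1 (g⁻¹).2 p.1.1]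
    exact this⟩
  left_inv p := by
    apply Subtype.ext
    apply Prod.ext
    · show (((g⁻¹ : ↥(Cfsg.isometryGroup F ⇑Q)) : GL ι F) : Matrix ι ι F) *ᵥ
        (((g : GL ι F) : Matrix ι ι F) *ᵥ p.1.1) = p.1.1
      rw [Matrix.mulVec_mulVec, ← Units.val_mul, ← Subgroup.coe_mul, inv_mul_cancel]
      simp
    · rfl
  right_inv p := by
    apply Subtype.ext
    apply Prod.ext
    · show ((g : GL ι F) : Matrix ι ι F) *ᵥ
        ((((g⁻¹ : ↥(Cfsg.isometryGroup F ⇑Q)) : GL ι F) : Matrix ι ι F) *ᵥ p.1.1) = p.1.1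
      rw [Matrix.mulVec_mulVec, ← Units.val_mul, ← Subgroup.coe_mul, mul_inv_cancel]
      simp
    · rfl

theorem lvlPerm_apply_fst (g : ↥(Cfsg.isometryGroup F ⇑Q))
    (p : {p : (ι → F) × F // extForm Q p = 1}) :
    (lvlPerm Q g p).1.1 = ((g : GL ι F) : Matrix ι ι F) *ᵥ p.1.1 := rfl

theorem lvlPerm_apply_snd (g : ↥(Cfsg.isometryGroup F ⇑Q))
    (p : {p : (ι → F) × F // extForm Q p = 1}) :
    (lvlPerm Q g p).1.2 = p.1.2 := rfl

/-- The permutation representation on the level set. -/
noncomputable def lvlHom :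
    ↥(Cfsg.isometryGroup F ⇑Q) →* Equiv.Perm {p : (ι → F) × F // extForm Q p = 1} where
  toFun := lvlPerm Q
  map_one' := by
    apply Equiv.ext
    intro p
    apply Subtype.ext
    apply Prod.ext
    · rw [lvlPerm_apply_fst]
      simp
    · rfl
  map_mul' g h := by
    apply Equiv.ext
    intro p
    apply Subtype.ext
    apply Prod.ext
    · rw [Equiv.Perm.mul_apply, lvlPerm_apply_fst, lvlPerm_apply_fst, lvlPerm_apply_fst,
        Matrix.mulVec_mulVec]
      rfl
    · rfl

/-- The spinor character: the sign of the action on the level set `Q(x) + t² = 1`. -/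
noncomputable def theta : ↥(Cfsg.isometryGroup F ⇑Q) →* ℤˣ :=
  Equiv.Perm.sign.comp (lvlHom Q)

theorem extForm_inl (v : ι → F) : extForm Q (v, 0) = Q v := by
  rw [extForm_apply]
  simp

theorem lvlHom_reflIso {v : ι → F} (hv : Q v ≠ 0) :
    lvlHom Q (reflIso Q hv) =
      reflPerm (extForm Q) 1 (v, 0) (by rw [extForm_inl]; exact hv) := by
  apply Equiv.ext
  intro p
  apply Subtype.ext
  apply Prod.ext
  · show Cfsg.reflectionMatrix (⇑Q) v *ᵥ p.1.1 = (reflLin (extForm Q) (v, 0) p.1).1
    rw [reflectionMatrix_mulVec_eq, reflLin_apply, reflLin_apply, extForm_inl, polar_extForm]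
    simp
  · show p.1.2 = (reflLin (extForm Q) (v, 0) p.1).2
    rw [reflLin_apply]
    simp

theorem theta_reflIso_eq_iff (h2 : (2 : F) ≠ 0) (hn : 2 ≤ Fintype.card ι)
    (hQ : (polarBilin Q).Nondegenerate) {u v : ι → F} (hu : Q u ≠ 0) (hv : Q v ≠ 0) :
    theta Q (reflIso Q hu) = theta Q (reflIso Q hv) ↔ IsSquare (Q u * Q v) := by
  have hu' : extForm Q (u, 0) ≠ 0 := by rw [extForm_inl]; exact hu
  have hv' : extForm Q (v, 0) ≠ 0 := by rw [extForm_inl]; exact hv
  have e1 : theta Q (reflIso Q hu) = Equiv.Perm.sign (reflPerm (extForm Q) 1 (u, 0) hu') := by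
    show Equiv.Perm.sign (lvlHom Q (reflIso Q hu)) = _
    rw [lvlHom_reflIso]
  have e2 : theta Q (reflIso Q hv) = Equiv.Perm.sign (reflPerm (extForm Q) 1 (v, 0) hv') := by
    show Equiv.Perm.sign (lvlHom Q (reflIso Q hv)) = _
    rw [lvlHom_reflIso]
  rw [e1, e2]
  constructor
  · intro h
    by_contra hns
    obtain ⟨w, hw1, hw2⟩ := exists_aniso_perp Q h2 hn hQ hu
    obtain ⟨s, t, hst⟩ := exists_sq_add_sq_add h2 (Q w) 1 (-(Q v)) hw2 one_ne_zero
    have hpol : polar (extForm Q) (u, 0) (s • w, t) = 0 := by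
      rw [polar_extForm]
      simp only [polar_smul_right, hw1, smul_zero, zero_mul, mul_zero, add_zero]
    have hnorm : extForm Q (s • w, t) = extForm Q (v, 0) := by
      rw [extForm_inl, extForm_apply]
      simp only [QuadraticMap.map_smul, smul_eq_mul]
      linear_combination hst
    have hns' : ¬ IsSquare (extForm Q (u, 0) * extForm Q (v, 0)) := by
      rw [extForm_inl, extForm_inl]
      exact hns
    have := sign_reflPerm_neg (extForm Q) h2 hpol hnorm hu' hv' hns' (c := 1) one_ne_zero
    rw [h] at this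
    have h3 := units_ne_neg_self (Equiv.Perm.sign (reflPerm (extForm Q) 1 (v, 0) hv'))
    exact h3 this
  · intro hs
    apply sign_reflPerm_eq_of_isSquare (extForm Q) h2 hu' hv'
    rw [extForm_inl, extForm_inl]
    exact hs

end Theta

section Main

variable {F : Type*} [Field F] [Fintype F] [DecidableEq F] {ι : Type} [Fintype ι] [DecidableEq ι]
variable (Q : QuadraticForm F (ι → F))

/-- The reflection in `v`, or `1` if `v` is singular. -/
noncomputable def reflIso' (v : ι → F) : ↥(Cfsg.isometryGroup F ⇑Q) :=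
  if h : Q v ≠ 0 then reflIso Q h else 1

theorem reflIso'_of_ne {v : ι → F} (hv : Q v ≠ 0) : reflIso' Q v = reflIso Q hv := dif_pos hv

theorem reflIso'_coe {v : ι → F} (hv : Q v ≠ 0) :
    (((reflIso' Q v : ↥(Cfsg.isometryGroup F ⇑Q)) : GL ι F) : Matrix ι ι F) =
      Cfsg.reflectionMatrix (⇑Q) v := by
  rw [reflIso'_of_ne Q hv]
  rfl

theorem theta_mul_reflIso' (h2 : (2 : F) ≠ 0) (hn : 2 ≤ Fintype.card ι)
    (hQ : (polarBilin Q).Nondegenerate) {u v : ι → F} (hu : Q u ≠ 0) (hv : Q v ≠ 0) :
    ((theta Q (reflIso' Q u) * theta Q (reflIso' Q v) : ℤˣ) : ℤ) = quadraticChar F (Q u * Q v) := by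
  rw [reflIso'_of_ne Q hu, reflIso'_of_ne Q hv]
  have hiff := theta_reflIso_eq_iff Q h2 hn hQ hu hv
  by_cases hs : IsSquare (Q u * Q v)
  · rw [hiff.2 hs, Int.units_mul_self, (quadraticChar_one_iff_isSquare (mul_ne_zero hu hv)).2 hs]
    rfl
  · have hne : theta Q (reflIso Q hu) ≠ theta Q (reflIso Q hv) := fun h => hs (hiff.1 h)
    rw [Int.units_ne_iff_eq_neg] at hne
    rw [hne, neg_mul, Int.units_mul_self, quadraticChar_neg_one_iff_not_isSquare.2 hs]
    rfl

theorem theta_list_prod (h2 : (2 : F) ≠ 0) (hn : 2 ≤ Fintype.card ι)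
    (hQ : (polarBilin Q).Nondegenerate) :
    ∀ (n : ℕ) (vs : List (ι → F)), vs.length = 2 * n → (∀ v ∈ vs, Q v ≠ 0) →
      ((theta Q (vs.map (reflIso' Q)).prod : ℤˣ) : ℤ) = quadraticChar F (vs.map Q).prod := by
  intro n
  induction n with
  | zero =>
    intro vs hlen _
    have : vs = [] := List.length_eq_zero_iff.1 (by omega)
    subst this
    simp
  | succ n ih =>
    intro vs hlen hvs
    match vs, hlen, hvs with
    | a :: b :: rest, hlen, hvs =>
      have ha : Q a ≠ 0 := hvs a (by simp)
      have hb : Q b ≠ 0 := hvs b (by simp)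
      have hrest : ∀ v ∈ rest, Q v ≠ 0 := fun v hv => hvs v (by simp [hv])
      have hl : rest.length = 2 * n := by
        simp only [List.length_cons] at hlen
        omega
      have := ih rest hl hrest
      have e : (List.map (reflIso' Q) (a :: b :: rest)).prod =
          (reflIso' Q a * reflIso' Q b) * (rest.map (reflIso' Q)).prod := by
        simp [mul_assoc]
      have e' : (List.map (⇑Q) (a :: b :: rest)).prod = (Q a * Q b) * (rest.map (⇑Q)).prod := by
        simp [mul_assoc]
      rw [e, e', map_mul (theta Q), map_mul (theta Q) (reflIso' Q a), Units.val_mul, this,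
        theta_mul_reflIso' Q h2 hn hQ ha hb, map_mul (quadraticChar F) (Q a * Q b)]

theorem det_list_reflection (vs : List (ι → F)) (hvs : ∀ v ∈ vs, Q v ≠ 0) :
    ((vs.map (fun v => Cfsg.reflectionMatrix (⇑Q) v)).prod).det = (-1) ^ vs.length := by
  induction vs with
  | nil => simp
  | cons a rest ih =>
    have ha : Q a ≠ 0 := hvs a (by simp)
    have hrest : ∀ v ∈ rest, Q v ≠ 0 := fun v hv => hvs v (by simp [hv])
    simp only [List.map_cons, List.prod_cons, List.length_cons]
    rw [Matrix.det_mul, reflectionMatrix_det Q ha, ih hrest, pow_succ]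
    ring

/-- Image of a reflection in the abelianisation. -/
noncomputable def rho (v : ι → F) : Abelianization ↥(Cfsg.isometryGroup F ⇑Q) :=
  Abelianization.of (reflIso' Q v)

theorem rho_mul_self {v : ι → F} (hv : Q v ≠ 0) : rho Q v * rho Q v = 1 := by
  unfold rho
  rw [← map_mul, reflIso'_of_ne Q hv, reflIso_mul_self, map_one]

theorem rho_eq_of_char_eq (h2 : (2 : F) ≠ 0) {u v : ι → F} (hu : Q u ≠ 0) (hv : Q v ≠ 0)
    (h : quadraticChar F (Q u) = quadraticChar F (Q v)) : rho Q u = rho Q v := by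
  have hs : IsSquare (Q u * Q v) := by
    rw [← quadraticChar_one_iff_isSquare (mul_ne_zero hu hv), map_mul, h, ← pow_two,
      quadraticChar_sq_one hv]
  have hmem := reflIso_mul_mem_commutator Q h2 hu hv hs
  rw [← Abelianization.ker_of, MonoidHom.mem_ker, map_mul] at hmem
  have h1 : rho Q u * rho Q v = 1 := by
    unfold rho
    rw [reflIso'_of_ne Q hu, reflIso'_of_ne Q hv]
    exact hmem
  have h2' := rho_mul_self Q hv
  calc rho Q u = rho Q u * (rho Q v * rho Q v) := by rw [h2', mul_one]
    _ = (rho Q u * rho Q v) * rho Q v := by rw [mul_assoc]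
    _ = rho Q v := by rw [h1, one_mul]

theorem rho_list_prod (h2 : (2 : F) ≠ 0) :
    ∀ (n : ℕ) (vs : List (ι → F)), vs.length = 2 * n → (∀ v ∈ vs, Q v ≠ 0) →
      (quadraticChar F (vs.map Q).prod = 1 → (vs.map (rho Q)).prod = 1) ∧
      (quadraticChar F (vs.map Q).prod = -1 → ∀ u w : ι → F, Q u ≠ 0 → Q w ≠ 0 →
        quadraticChar F (Q u) ≠ quadraticChar F (Q w) → (vs.map (rho Q)).prod = rho Q u * rho Q w) := by
  intro n
  induction n with
  | zero =>
    intro vs hlen _
    have : vs = [] := List.length_eq_zero_iff.1 (by omega)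
    subst this
    constructor
    · intro _
      simp
    · intro h
      simp at h
  | succ n ih =>
    intro vs hlen hvs
    match vs, hlen, hvs with
    | a :: b :: rest, hlen, hvs =>
      have ha : Q a ≠ 0 := hvs a (by simp)
      have hb : Q b ≠ 0 := hvs b (by simp)
      have hrest : ∀ v ∈ rest, Q v ≠ 0 := fun v hv => hvs v (by simp [hv])
      have hl : rest.length = 2 * n := by
        simp only [List.length_cons] at hlen
        omega
      obtain ⟨iha, ihb⟩ := ih rest hl hrest
      have hP0 : (rest.map Q).prod ≠ 0 := by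
        apply List.prod_ne_zero
        intro h0
        obtain ⟨v, hv, hv0⟩ := List.mem_map.1 h0
        exact hrest v hv hv0
      simp only [List.map_cons, List.prod_cons]
      rw [map_mul, map_mul, ← mul_assoc, ← mul_assoc]
      by_cases hab : quadraticChar F (Q a) = quadraticChar F (Q b)
      · have e1 : rho Q a * rho Q b = 1 := by
          rw [rho_eq_of_char_eq Q h2 ha hb hab, rho_mul_self Q hb]
        have e2 : quadraticChar F (Q a) * quadraticChar F (Q b) = 1 := by
          rw [hab, ← pow_two, quadraticChar_sq_one hb]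
        rw [e1, e2, one_mul, one_mul]
        exact ⟨iha, ihb⟩
      · have e2 : quadraticChar F (Q a) * quadraticChar F (Q b) = -1 := by
          rcases quadraticChar_dichotomy ha with h | h <;>
            rcases quadraticChar_dichotomy hb with h' | h' <;> rw [h, h'] at hab ⊢ <;>
            first | rfl | exact absurd rfl hab
        rw [e2]
        constructor
        · intro h
          have hP : quadraticChar F (rest.map Q).prod = -1 := by linarith
          rw [ihb hP a b ha hb hab]
          calc rho Q a * rho Q b * (rho Q a * rho Q b)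
              = (rho Q a * rho Q a) * (rho Q b * rho Q b) := by
                rw [mul_mul_mul_comm]
            _ = 1 := by rw [rho_mul_self Q ha, rho_mul_self Q hb, one_mul]
        · intro h u w hu hw huw
          have hP : quadraticChar F (rest.map Q).prod = 1 := by linarith
          rw [iha hP, mul_one]
          have hda := quadraticChar_dichotomy ha
          have hdb := quadraticChar_dichotomy hb
          have hdu := quadraticChar_dichotomy hu
          have hdw := quadraticChar_dichotomy hw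
          by_cases hua : quadraticChar F (Q u) = quadraticChar F (Q a)
          · have hwb : quadraticChar F (Q w) = quadraticChar F (Q b) := by omega
            rw [rho_eq_of_char_eq Q h2 hu ha hua, rho_eq_of_char_eq Q h2 hw hb hwb]
          · have hub : quadraticChar F (Q u) = quadraticChar F (Q b) := by omega
            have hwa : quadraticChar F (Q w) = quadraticChar F (Q a) := by omega
            rw [rho_eq_of_char_eq Q h2 hu hb hub, rho_eq_of_char_eq Q h2 hw ha hwa, mul_comm]

/-- Coercion of isometries to matrices as a monoid homomorphism. -/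
noncomputable def coeMatHom : ↥(Cfsg.isometryGroup F ⇑Q) →* Matrix ι ι F :=
  (Units.coeHom _).comp (Subgroup.subtype _)

theorem coeMatHom_apply (g : ↥(Cfsg.isometryGroup F ⇑Q)) :
    coeMatHom Q g = ((g : GL ι F) : Matrix ι ι F) := rfl

theorem eq_list_prod_of_coe (g : ↥(Cfsg.isometryGroup F ⇑Q)) (vs : List (ι → F))
    (hvs : ∀ v ∈ vs, Q v ≠ 0)
    (hg : ((g : GL ι F) : Matrix ι ι F) =
      (vs.map (fun v => Cfsg.reflectionMatrix (⇑Q) v)).prod) :
    g = (vs.map (reflIso' Q)).prod := by
  apply isoGroup_ext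
  rw [hg, ← coeMatHom_apply Q (vs.map (reflIso' Q)).prod, map_list_prod, List.map_map]
  congr 1
  apply List.map_congr_left
  intro v hv
  rw [Function.comp_apply, coeMatHom_apply, reflIso'_coe Q (hvs v hv)]

/-- **Spinor norm criterion.** Over a finite field of odd order, a product of `k` reflections
`r_{v₁} ⋯ r_{v_k}` lies in the commutator subgroup of the orthogonal group iff `k` is even and
`Q v₁ ⋯ Q v_k` is a square. -/
theorem mem_Omega_iff_of_list (h2 : (2 : F) ≠ 0) (hn : 2 ≤ Fintype.card ι)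
    (hQ : (polarBilin Q).Nondegenerate) (g : ↥(Cfsg.isometryGroup F ⇑Q)) (vs : List (ι → F))
    (hvs : ∀ v ∈ vs, Q v ≠ 0)
    (hg : ((g : GL ι F) : Matrix ι ι F) =
      (vs.map (fun v => Cfsg.reflectionMatrix (⇑Q) v)).prod) :
    g ∈ Cfsg.Omega F ⇑Q ↔ (Even vs.length ∧ IsSquare (vs.map (fun v => Q v)).prod) := by
  have hg' := eq_list_prod_of_coe Q g vs hvs hg
  have hP0 : (vs.map (fun v => Q v)).prod ≠ 0 := by
    apply List.prod_ne_zero
    intro h0
    obtain ⟨v, hv, hv0⟩ := List.mem_map.1 h0
    exact hvs v hv hv0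
  show g ∈ commutator ↥(Cfsg.isometryGroup F ⇑Q) ↔ _
  constructor
  · intro hmem
    -- determinant
    have hdet : ((g : GL ι F) : Matrix ι ι F).det = 1 := by
      have h1 := Abelianization.commutator_subset_ker
        (Matrix.GeneralLinearGroup.det.comp (Subgroup.subtype (Cfsg.isometryGroup F ⇑Q))) hmem
      rw [MonoidHom.mem_ker] at h1
      have h3 := congrArg (fun u : Fˣ => (u : F)) h1
      exact h3
    rw [hg, det_list_reflection Q vs hvs] at hdet
    have hneg : (-1 : F) ≠ 1 := by
      intro h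
      apply h2
      have : (1 : F) + 1 = 0 := by
        nth_rewrite 1 [← h]
        exact neg_add_cancel 1
      rw [← one_add_one_eq_two]
      exact this
    have heven : Even vs.length := (neg_one_pow_eq_one_iff_even hneg).1 hdet
    refine ⟨heven, ?_⟩
    obtain ⟨n, hn'⟩ := heven
    have hth : theta Q g = 1 := by
      have h1 := Abelianization.commutator_subset_ker (theta Q) hmem
      rwa [MonoidHom.mem_ker] at h1
    have hlist := theta_list_prod Q h2 hn hQ n vs (by omega) hvs
    rw [← hg', hth] at hlist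
    rw [← quadraticChar_one_iff_isSquare hP0]
    exact hlist.symm
  · rintro ⟨⟨n, hn'⟩, hs⟩
    have hχ : quadraticChar F (vs.map (fun v => Q v)).prod = 1 :=
      (quadraticChar_one_iff_isSquare hP0).2 hs
    have hrho := (rho_list_prod Q h2 n vs (by omega) hvs).1 hχ
    rw [← Abelianization.ker_of, MonoidHom.mem_ker, hg', map_list_prod, List.map_map]
    exact hrho

end Main

end Cfsg.Agent.Helper43
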