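import Mathlib
import Cfsg.Agent.Lib.Helper43.SpinorNorm

set_option autoImplicit false

/-!
# Products of reflections in pairwise orthogonal vectors and membership in `Ω`
-/

namespace Cfsg.Agent.Helper43

open Matrix QuadraticMap

section OrthFamily

variable {F : Type*} [Field F] {ι : Type} [Fintype ι] [DecidableEq ι]
variable (Q : QuadraticForm F (ι → F))

/-- The product of the reflections in a list of pairwise orthogonal vectors. -/
theorem list_reflection_mulVec {κ : Type*} (w : κ → ι → F)
    (horth : ∀ a b, a ≠ b → polar Q (w a) (w b) = 0) :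
    ∀ (l : List κ), l.Nodup → ∀ x : ι → F,
      ((l.map (fun a => Cfsg.reflectionMatrix (⇑Q) (w a))).prod) *ᵥ x =
        x - (l.map (fun a => ((Q (w a))⁻¹ * polar Q (w a) x) • w a)).sum := by
  intro l
  induction l with
  | nil =>
    intro _ x
    simp
  | cons a rest ih =>
    intro hnd x
    have hnd' := List.nodup_cons.1 hnd
    simp only [List.map_cons, List.prod_cons, List.sum_cons]
    rw [← Matrix.mulVec_mulVec, ih hnd'.2 x, reflectionMatrix_mulVec_eq, reflLin_apply,
      polar_sub_right]
    have hzero : polar Q (w a)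
        (rest.map (fun b => ((Q (w b))⁻¹ * polar Q (w b) x) • w b)).sum = 0 := by
      have : ∀ (l' : List κ), (∀ b ∈ l', b ≠ a) →
          polar Q (w a) (l'.map (fun b => ((Q (w b))⁻¹ * polar Q (w b) x) • w b)).sum = 0 := by
        intro l'
        induction l' with
        | nil =>
          intro _
          simp
        | cons b l'' ih' =>
          intro hb
          simp only [List.map_cons, List.sum_cons]
          rw [polar_add_right, polar_smul_right, horth a b (hb b (by simp)).symm, smul_zero,
            zero_add]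
          exact ih' (fun c hc => hb c (by simp [hc]))
      apply this
      intro b hb hba
      exact hnd'.1 (hba ▸ hb)
    rw [hzero, sub_zero]
    abel

end OrthFamily

section Criterion

variable {F : Type*} [Field F] [Fintype F] {ι : Type} [Fintype ι] [DecidableEq ι]
variable (Q : QuadraticForm F (ι → F))

/-- Membership in `Ω` for an isometry that is the product of the reflections in a finite family
of pairwise orthogonal anisotropic vectors. -/
theorem exists_mem_Omega_iff_of_orthogonal_family (h2 : (2 : F) ≠ 0) (hn : 2 ≤ Fintype.card ι)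
    (hQ : (polarBilin Q).Nondegenerate) {κ : Type*} [Fintype κ] (w : κ → ι → F)
    (hw : ∀ a, Q (w a) ≠ 0) (horth : ∀ a b, a ≠ b → polar Q (w a) (w b) = 0)
    (M : Matrix ι ι F)
    (hM : ∀ x, M *ᵥ x = x - ∑ a, ((Q (w a))⁻¹ * polar Q (w a) x) • w a) :
    (∃ g : ↥(Cfsg.isometryGroup F ⇑Q), g ∈ Cfsg.Omega F ⇑Q ∧
      ((g : GL ι F) : Matrix ι ι F) = M) ↔
    (Even (Fintype.card κ) ∧ IsSquare (∏ a, Q (w a))) := by
  classical
  set L : List (ι → F) := (Finset.univ : Finset κ).toList.map w with hL
  have hLne : ∀ v ∈ L, Q v ≠ 0 := by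
    intro v hv
    obtain ⟨a, _, rfl⟩ := List.mem_map.1 hv
    exact hw a
  have hMprod : M = (L.map (fun v => Cfsg.reflectionMatrix (⇑Q) v)).prod := by
    apply matrix_ext_mulVec
    intro x
    rw [hM x, hL, List.map_map]
    have := list_reflection_mulVec Q w horth (Finset.univ : Finset κ).toList
      (Finset.nodup_toList _) x
    rw [show ((fun v => Cfsg.reflectionMatrix (⇑Q) v) ∘ w) =
      (fun a => Cfsg.reflectionMatrix (⇑Q) (w a)) from rfl, this, Finset.sum_map_toList]
  have hlen : L.length = Fintype.card κ := by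
    rw [hL, List.length_map, Finset.length_toList, Finset.card_univ]
  have hprod : (L.map (fun v => Q v)).prod = ∏ a, Q (w a) := by
    rw [hL, List.map_map]
    exact Finset.prod_map_toList _ _
  constructor
  · rintro ⟨g, hg, hgM⟩
    have := (mem_Omega_iff_of_list Q h2 hn hQ g L hLne (hgM.trans hMprod)).1 hg
    rwa [hlen, hprod] at this
  · intro h
    set g₀ : ↥(Cfsg.isometryGroup F ⇑Q) := (L.map (reflIso' Q)).prod with hg₀
    have hcoe : ((g₀ : GL ι F) : Matrix ι ι F) =
        (L.map (fun v => Cfsg.reflectionMatrix (⇑Q) v)).prod := by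
      rw [← coeMatHom_apply Q g₀, hg₀, map_list_prod, List.map_map]
      congr 1
      apply List.map_congr_left
      intro v hv
      rw [Function.comp_apply, coeMatHom_apply, reflIso'_coe Q (hLne v hv)]
    refine ⟨g₀, ?_, hcoe.trans hMprod.symm⟩
    rw [mem_Omega_iff_of_list Q h2 hn hQ g₀ L hLne hcoe, hlen, hprod]
    exact h

/-- Membership in `Ω` for the isometry negating the span of a hyperbolic family and fixing its
orthogonal complement. -/
theorem exists_mem_Omega_iff_of_hypFamily (h2 : (2 : F) ≠ 0) (hn : 2 ≤ Fintype.card ι)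
    (hQ : (polarBilin Q).Nondegenerate) {k : ℕ} {e f : Fin k → ι → F} (hef : IsHypFamily Q e f)
    (M : Matrix ι ι F)
    (hM : ∀ x, M *ᵥ x =
      x - ∑ j, ((2 * polar Q (f j) x) • e j + (2 * polar Q (e j) x) • f j)) :
    (∃ g : ↥(Cfsg.isometryGroup F ⇑Q), g ∈ Cfsg.Omega F ⇑Q ∧
      ((g : GL ι F) : Matrix ι ι F) = M) ↔ IsSquare ((-1 : F) ^ k) := by
  have hfe : ∀ i j, polar Q (f i) (e j) = if i = j then 1 else 0 := by
    intro i j
    rw [polar_comm, hef.ef j i]
    simp only [eq_comm]
  have hq1 : ∀ j, Q (e j + f j) = 1 := by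
    intro j
    rw [QuadraticMap.map_add Q, hef.qe, hef.qf, hef.ef, if_pos rfl]
    ring
  have hq2 : ∀ j, Q (e j - f j) = -1 := by
    intro j
    rw [sub_eq_add_neg, QuadraticMap.map_add Q, QuadraticMap.map_neg, polar_neg_right, hef.qe,
      hef.qf, hef.ef, if_pos rfl]
    ring
  have key := exists_mem_Omega_iff_of_orthogonal_family Q h2 hn hQ
    (κ := Fin k ⊕ Fin k) (Sum.elim (fun j => e j + f j) (fun j => e j - f j))
    (by
      rintro (j | j)
      · simp only [Sum.elim_inl, hq1]
        exact one_ne_zero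
      · simp only [Sum.elim_inr, hq2]
        exact neg_ne_zero.2 one_ne_zero)
    (by
      rintro (i | i) (j | j) hij
      · have hne : i ≠ j := fun h => hij (by rw [h])
        simp only [Sum.elim_inl, polar_add_left, polar_add_right, hef.ee, hef.ff, hef.ef, hfe,
          if_neg hne]
        ring
      · simp only [Sum.elim_inl, Sum.elim_inr, polar_add_left, polar_sub_right, hef.ee, hef.ff,
          hef.ef, hfe]
        ring
      · simp only [Sum.elim_inl, Sum.elim_inr, polar_sub_left, polar_add_right, hef.ee, hef.ff,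
          hef.ef, hfe]
        ring
      · have hne : i ≠ j := fun h => hij (by rw [h])
        simp only [Sum.elim_inr, polar_sub_left, polar_sub_right, hef.ee, hef.ff, hef.ef, hfe,
          if_neg hne]
        ring)
    M
    (by
      intro x
      rw [hM x, Fintype.sum_sum_type, ← Finset.sum_add_distrib]
      congr 1
      apply Finset.sum_congr rfl
      intro j _
      simp only [Sum.elim_inl, Sum.elim_inr, hq1, hq2, polar_add_left, polar_sub_left]
      rw [inv_one, inv_neg, inv_one]
      module)
  rw [key, Fintype.card_sum, Fintype.card_fin, Fintype.prod_sum_type]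
  simp only [Sum.elim_inl, Sum.elim_inr, hq1, hq2, Finset.prod_const_one, one_mul,
    Finset.prod_const, Finset.card_univ, Fintype.card_fin]
  constructor
  · exact fun h => h.2
  · exact fun h => ⟨⟨k, rfl⟩, h⟩

/-- Membership in `Ω` for the isometry negating the span of a hyperbolic family and of a family
of further pairwise orthogonal anisotropic vectors. -/
theorem exists_mem_Omega_iff_of_hypFamily_add (h2 : (2 : F) ≠ 0) (hn : 2 ≤ Fintype.card ι)
    (hQ : (polarBilin Q).Nondegenerate) {k : ℕ} {e f : Fin k → ι → F} (hef : IsHypFamily Q e f)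
    {κ' : Type*} [Fintype κ'] (p : κ' → ι → F) (hp : ∀ t, Q (p t) ≠ 0)
    (hpp : ∀ s t, s ≠ t → polar Q (p s) (p t) = 0)
    (hep : ∀ j t, polar Q (e j) (p t) = 0) (hfp : ∀ j t, polar Q (f j) (p t) = 0)
    (M : Matrix ι ι F)
    (hM : ∀ x, M *ᵥ x =
      x - ∑ j, ((2 * polar Q (f j) x) • e j + (2 * polar Q (e j) x) • f j)
        - ∑ t, ((Q (p t))⁻¹ * polar Q (p t) x) • p t) :
    (∃ g : ↥(Cfsg.isometryGroup F ⇑Q), g ∈ Cfsg.Omega F ⇑Q ∧
      ((g : GL ι F) : Matrix ι ι F) = M) ↔
      (Even (Fintype.card κ') ∧ IsSquare ((-1 : F) ^ k * ∏ t, Q (p t))) := by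
  have hfe : ∀ i j, polar Q (f i) (e j) = if i = j then 1 else 0 := by
    intro i j
    rw [polar_comm, hef.ef j i]
    simp only [eq_comm]
  have hq1 : ∀ j, Q (e j + f j) = 1 := by
    intro j
    rw [QuadraticMap.map_add Q, hef.qe, hef.qf, hef.ef, if_pos rfl]
    ring
  have hq2 : ∀ j, Q (e j - f j) = -1 := by
    intro j
    rw [sub_eq_add_neg, QuadraticMap.map_add Q, QuadraticMap.map_neg, polar_neg_right, hef.qe,
      hef.qf, hef.ef, if_pos rfl]
    ring
  have hpe : ∀ t j, polar Q (p t) (e j) = 0 := fun t j => by rw [polar_comm]; exact hep j t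
  have hpf : ∀ t j, polar Q (p t) (f j) = 0 := fun t j => by rw [polar_comm]; exact hfp j t
  have key := exists_mem_Omega_iff_of_orthogonal_family Q h2 hn hQ
    (κ := (Fin k ⊕ Fin k) ⊕ κ')
    (Sum.elim (Sum.elim (fun j => e j + f j) (fun j => e j - f j)) p)
    (by
      rintro ((j | j) | t)
      · simp only [Sum.elim_inl, hq1]
        exact one_ne_zero
      · simp only [Sum.elim_inl, Sum.elim_inr, hq2]
        exact neg_ne_zero.2 one_ne_zero
      · simp only [Sum.elim_inr]
        exact hp t)
    (by
      rintro ((i | i) | s) ((j | j) | t) hij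
      · have hne : i ≠ j := fun h => hij (by rw [h])
        simp only [Sum.elim_inl, polar_add_left, polar_add_right, hef.ee, hef.ff, hef.ef, hfe,
          if_neg hne]
        ring
      · simp only [Sum.elim_inl, Sum.elim_inr, polar_add_left, polar_sub_right, hef.ee, hef.ff,
          hef.ef, hfe]
        ring
      · simp only [Sum.elim_inl, Sum.elim_inr, polar_add_left, hep, hfp]
        ring
      · simp only [Sum.elim_inl, Sum.elim_inr, polar_sub_left, polar_add_right, hef.ee, hef.ff,
          hef.ef, hfe]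
        ring
      · have hne : i ≠ j := fun h => hij (by rw [h])
        simp only [Sum.elim_inl, Sum.elim_inr, polar_sub_left, polar_sub_right, hef.ee, hef.ff,
          hef.ef, hfe, if_neg hne]
        ring
      · simp only [Sum.elim_inl, Sum.elim_inr, polar_sub_left, hep, hfp]
        ring
      · simp only [Sum.elim_inl, Sum.elim_inr, polar_add_right, hpe, hpf]
        ring
      · simp only [Sum.elim_inl, Sum.elim_inr, polar_sub_right, hpe, hpf]
        ring
      · have hne : s ≠ t := fun h => hij (by rw [h])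
        simp only [Sum.elim_inr]
        exact hpp s t hne)
    M
    (by
      intro x
      rw [hM x, Fintype.sum_sum_type, Fintype.sum_sum_type, ← Finset.sum_add_distrib, sub_sub]
      congr 2
      apply Finset.sum_congr rfl
      intro j _
      simp only [Sum.elim_inl, Sum.elim_inr, hq1, hq2, polar_add_left, polar_sub_left]
      rw [inv_one, inv_neg, inv_one]
      module)
  rw [key, Fintype.card_sum, Fintype.card_sum, Fintype.card_fin, Fintype.prod_sum_type,
    Fintype.prod_sum_type]
  simp only [Sum.elim_inl, Sum.elim_inr, hq1, hq2, Finset.prod_const_one, one_mul,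
    Finset.prod_const, Finset.card_univ, Fintype.card_fin]
  have : Even (k + k + Fintype.card κ') ↔ Even (Fintype.card κ') := by
    rw [Nat.even_add]
    simp [← two_mul]
  rw [this]

theorem two_ne_zero_of_odd_card {q : ℕ} (hF : Fintype.card F = q) (hq : Odd q) : (2 : F) ≠ 0 := by
  intro h
  have h1 : ringChar F = 2 := CharP.ringChar_of_prime_eq_zero Nat.prime_two (by exact_mod_cast h)
  have h2 := FiniteField.even_card_of_char_two h1
  rw [hF] at h2
  rcases hq with ⟨k, hk⟩
  omega

/-- Over a field with `q` elements, `q` odd, `(-1)^k` is a square iff `q^k ≡ 1 (mod 4)`. -/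
theorem isSquare_neg_one_pow_iff_card {q : ℕ} (hF : Fintype.card F = q) (hq : Odd q) (k : ℕ) :
    IsSquare ((-1 : F) ^ k) ↔ q ^ k % 4 = 1 := by
  have hq4 : q % 4 = 1 ∨ q % 4 = 3 := by
    obtain ⟨t, ht⟩ := hq
    omega
  have hsq : q ^ 2 % 4 = 1 := by
    rw [Nat.pow_mod]
    rcases hq4 with h | h <;> rw [h]
  rcases Nat.even_or_odd' k with ⟨l, hl | hl⟩
  · rw [hl, pow_mul, pow_mul]
    simp only [even_two, Even.neg_pow, one_pow]
    constructor
    · intro _
      rw [Nat.pow_mod, hsq]
      simp
    · intro _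
      exact ⟨1, by simp⟩
  · have e1 : (-1 : F) ^ (2 * l + 1) = -1 := by
      rw [pow_succ, pow_mul]
      simp
    have e2 : q ^ (2 * l + 1) = (q ^ 2) ^ l * q := by rw [pow_succ, pow_mul]
    rw [hl, e1, e2, FiniteField.isSquare_neg_one_iff, hF]
    have : (q ^ 2) ^ l * q % 4 = q % 4 := by
      rw [Nat.mul_mod, Nat.pow_mod, hsq]
      simp
    rw [this]
    omega

end Criterion

section DiagHelper

variable {F : Type*} [Field F] {ι : Type} [Fintype ι] [DecidableEq ι]

/-- The diagonal matrix negating the coordinates `α j`, `β j` is the negation on the span of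
the hyperbolic pairs `(e_{α j}, e_{β j})`. -/
theorem diagonal_mulVec_eq_of_pairs (Q : QuadraticForm F (ι → F)) {i : ℕ} (α β : Fin i → ι)
    (hα : Function.Injective α) (hβ : Function.Injective β) (hαβ : ∀ a b, α a ≠ β b)
    (hpe : ∀ j x, polar Q (Pi.single (α j) 1) x = x (β j))
    (hpf : ∀ j x, polar Q (Pi.single (β j) 1) x = x (α j))
    (d : ι → F) (hd1 : ∀ j, d (α j) = -1) (hd2 : ∀ j, d (β j) = -1)
    (hd3 : ∀ k, (∀ j, k ≠ α j) → (∀ j, k ≠ β j) → d k = 1) (x : ι → F) :
    Matrix.diagonal d *ᵥ x = x - ∑ j, ((2 * polar Q (Pi.single (β j) 1) x) •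
      (Pi.single (α j) 1 : ι → F) + (2 * polar Q (Pi.single (α j) 1) x) •
      (Pi.single (β j) 1 : ι → F)) := by
  funext k
  rw [Matrix.mulVec_diagonal]
  simp only [hpe, hpf, Pi.sub_apply, Finset.sum_apply, Pi.add_apply, Pi.smul_apply, smul_eq_mul,
    Pi.single_apply]
  by_cases h1 : ∃ j, k = α j
  · obtain ⟨j₀, rfl⟩ := h1
    rw [hd1, Finset.sum_eq_single j₀]
    · rw [if_pos rfl, if_neg (hαβ j₀ j₀)]
      ring
    · intro b _ hb
      rw [if_neg (fun h => hb (hα h).symm), if_neg (hαβ j₀ b)]
      ring
    · intro h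
      exact absurd (Finset.mem_univ _) h
  · by_cases h2 : ∃ j, k = β j
    · obtain ⟨j₀, rfl⟩ := h2
      rw [hd2, Finset.sum_eq_single j₀]
      · rw [if_pos rfl, if_neg (fun h => hαβ j₀ j₀ h.symm)]
        ring
      · intro b _ hb
        rw [if_neg (fun h => hb (hβ h).symm), if_neg (fun h => hαβ b j₀ h.symm)]
        ring
      · intro h
        exact absurd (Finset.mem_univ _) h
    · push Not at h1 h2
      rw [hd3 k h1 h2, Finset.sum_eq_zero]
      · ring
      · intro b _
        rw [if_neg (h1 b), if_neg (h2 b)]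
        ring

end DiagHelper

end Cfsg.Agent.Helper43
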