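import Mathlib
import Cfsg.Agent.Lib.Helper16.OSemiAut

set_option autoImplicit false
set_option linter.unusedSectionVars false

/-!
# The group `ΓO(Q)` of semisimilarities and its action on `PΩ(Q)`

`GamO Q` is the group of additive bijections `L` of `ι → F` which are `σ`-semilinear for some field
automorphism `σ` and satisfy `Q (L x) = μ σ(Q x)`.  `Theta Q : GamO Q →* MulAut (PΩ(Q))` is the
action by conjugation; its range is `gammaPOmega F Q`.
-/

namespace Cfsg.Agent.Helper43.OGam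

open Matrix Cfsg.Agent.Helper16.OSemiAut

variable {F : Type*} [Field F] {ι : Type} [Fintype ι] [DecidableEq ι] (Q : (ι → F) → F)

theorem perm_inv_apply {α : Type*} (L : Equiv.Perm α) (x : α) : L⁻¹ (L x) = x :=
  L.symm_apply_apply x

theorem perm_apply_inv {α : Type*} (L : Equiv.Perm α) (x : α) : L (L⁻¹ x) = x :=
  L.apply_symm_apply x

/-- `L` is a semisimilarity of `Q`. -/
def IsSemi (L : Equiv.Perm (ι → F)) : Prop :=
  ∃ (σ : F ≃+* F) (μ : Fˣ), (∀ x y : ι → F, L (x + y) = L x + L y) ∧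
    (∀ (c : F) (x : ι → F), L (c • x) = σ c • L x) ∧
    ∀ x, Q (L x) = (μ : F) * σ (Q x)

/-- The group of semisimilarities of `Q`. -/
def GamO : Subgroup (Equiv.Perm (ι → F)) where
  carrier := {L | IsSemi Q L}
  mul_mem' := by
    rintro L₁ L₂ ⟨σ₁, μ₁, a₁, h₁, q₁⟩ ⟨σ₂, μ₂, a₂, h₂, q₂⟩
    refine ⟨σ₂.trans σ₁, μ₁ * Units.map σ₁.toMulEquiv.toMonoidHom μ₂, ?_, ?_, ?_⟩
    · intro x y
      rw [Equiv.Perm.mul_apply, Equiv.Perm.mul_apply, Equiv.Perm.mul_apply, a₂, a₁]
    · intro c x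
      rw [Equiv.Perm.mul_apply, Equiv.Perm.mul_apply, h₂, h₁]
      rfl
    · intro x
      rw [Equiv.Perm.mul_apply, q₁, q₂, map_mul]
      simp [mul_assoc]
  one_mem' := ⟨RingEquiv.refl F, 1, fun x y => rfl, fun c x => rfl, fun x => by simp⟩
  inv_mem' := by
    rintro L ⟨σ, μ, a, h, q⟩
    refine ⟨σ.symm, Units.map σ.symm.toMulEquiv.toMonoidHom μ⁻¹, ?_, ?_, ?_⟩
    · intro y y'
      obtain ⟨x, rfl⟩ := L.surjective y
      obtain ⟨x', rfl⟩ := L.surjective y'
      rw [← a, perm_inv_apply, perm_inv_apply, perm_inv_apply]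
    · intro c y
      obtain ⟨x, rfl⟩ := L.surjective y
      have : c • L x = L (σ.symm c • x) := by rw [h, σ.apply_symm_apply]
      rw [this, perm_inv_apply, perm_inv_apply]
    · intro y
      obtain ⟨x, rfl⟩ := L.surjective y
      rw [perm_inv_apply, q]
      simp

theorem mem_GamO (L : Equiv.Perm (ι → F)) : L ∈ GamO Q ↔ IsSemi Q L := Iff.rfl

/-- A field automorphism attached to a semisimilarity. -/
noncomputable def sig (L : GamO Q) : F ≃+* F := Classical.choose L.2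

/-- A multiplier attached to a semisimilarity. -/
noncomputable def mu (L : GamO Q) : Fˣ := Classical.choose (Classical.choose_spec L.2)

theorem add_spec (L : GamO Q) (x y : ι → F) :
    (L : Equiv.Perm (ι → F)) (x + y) = (L : Equiv.Perm (ι → F)) x + (L : Equiv.Perm (ι → F)) y :=
  (Classical.choose_spec (Classical.choose_spec L.2)).1 x y

/-- A semisimilarity as an additive equivalence. -/
def toAdd (L : GamO Q) : (ι → F) ≃+ (ι → F) :=
  AddEquiv.mk' (L : Equiv.Perm (ι → F)) (add_spec Q L)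

theorem toAdd_apply (L : GamO Q) (x : ι → F) : toAdd Q L x = (L : Equiv.Perm (ι → F)) x := rfl

theorem sig_spec (L : GamO Q) (c : F) (x : ι → F) :
    toAdd Q L (c • x) = sig Q L c • toAdd Q L x :=
  (Classical.choose_spec (Classical.choose_spec L.2)).2.1 c x

theorem mu_spec (L : GamO Q) (x : ι → F) :
    Q (toAdd Q L x) = (mu Q L : F) * sig Q L (Q x) :=
  (Classical.choose_spec (Classical.choose_spec L.2)).2.2 x

/-- The automorphism of `PΩ(Q)` induced by a semisimilarity. -/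
noncomputable def theta (L : GamO Q) : MulAut (Cfsg.POmega F Q) :=
  semiAut Q (sig Q L) (toAdd Q L) (sig_spec Q L) (mu Q L) (mu_spec Q L)

theorem theta_spec (L : GamO Q) (s s' : ↥(Cfsg.Omega F Q))
    (h : ∀ x : ι → F,
      (((s' : ↥(Cfsg.isometryGroup F Q)) : GL ι F) : Matrix ι ι F) *ᵥ ((L : Equiv.Perm (ι → F)) x) =
        (L : Equiv.Perm (ι → F)) ((((s : ↥(Cfsg.isometryGroup F Q)) : GL ι F) : Matrix ι ι F) *ᵥ x)) :
    theta Q L (QuotientGroup.mk s) = QuotientGroup.mk s' :=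
  semiAut_spec Q (sig Q L) (toAdd Q L) (sig_spec Q L) (mu Q L) (mu_spec Q L) s s' h

theorem theta_exists (L : GamO Q) (s : ↥(Cfsg.Omega F Q)) :
    ∃ s' : ↥(Cfsg.Omega F Q),
      (∀ x : ι → F,
        (((s' : ↥(Cfsg.isometryGroup F Q)) : GL ι F) : Matrix ι ι F) *ᵥ
            ((L : Equiv.Perm (ι → F)) x) =
          (L : Equiv.Perm (ι → F))
            ((((s : ↥(Cfsg.isometryGroup F Q)) : GL ι F) : Matrix ι ι F) *ᵥ x)) ∧
      theta Q L (QuotientGroup.mk s) = QuotientGroup.mk s' := by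
  refine ⟨commEquiv (isoEquiv Q (sig Q L) (toAdd Q L) (sig_spec Q L) (mu Q L)
    (mu_spec Q L)) s, ?_, rfl⟩
  intro x
  exact semiGL_mulVec (sig Q L) (toAdd Q L) (sig_spec Q L) _ x

/-- The action of the semisimilarity group on `PΩ(Q)`. -/
noncomputable def Theta : GamO Q →* MulAut (Cfsg.POmega F Q) where
  toFun := theta Q
  map_one' := by
    apply MulEquiv.ext
    intro t
    obtain ⟨s, rfl⟩ := QuotientGroup.mk_surjective t
    rw [MulAut.one_apply]
    apply theta_spec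
    intro x
    rfl
  map_mul' L₁ L₂ := by
    apply MulEquiv.ext
    intro t
    obtain ⟨s, rfl⟩ := QuotientGroup.mk_surjective t
    obtain ⟨s₂, h₂, e₂⟩ := theta_exists Q L₂ s
    obtain ⟨s₁, h₁, e₁⟩ := theta_exists Q L₁ s₂
    rw [MulAut.mul_apply, e₂, e₁]
    apply theta_spec
    intro x
    show _ *ᵥ ((L₁ : Equiv.Perm (ι → F)) ((L₂ : Equiv.Perm (ι → F)) x)) =
      (L₁ : Equiv.Perm (ι → F)) ((L₂ : Equiv.Perm (ι → F)) _)
    rw [h₁, h₂]

theorem Theta_apply (L : GamO Q) : Theta Q L = theta Q L := rfl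

theorem Theta_spec (L : GamO Q) (s s' : ↥(Cfsg.Omega F Q))
    (h : ∀ x : ι → F,
      (((s' : ↥(Cfsg.isometryGroup F Q)) : GL ι F) : Matrix ι ι F) *ᵥ ((L : Equiv.Perm (ι → F)) x) =
        (L : Equiv.Perm (ι → F)) ((((s : ↥(Cfsg.isometryGroup F Q)) : GL ι F) : Matrix ι ι F) *ᵥ x)) :
    Theta Q L (QuotientGroup.mk s) = QuotientGroup.mk s' := theta_spec Q L s s' h

theorem Theta_exists (L : GamO Q) (s : ↥(Cfsg.Omega F Q)) :
    ∃ s' : ↥(Cfsg.Omega F Q),
      (∀ x : ι → F,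
        (((s' : ↥(Cfsg.isometryGroup F Q)) : GL ι F) : Matrix ι ι F) *ᵥ
            ((L : Equiv.Perm (ι → F)) x) =
          (L : Equiv.Perm (ι → F))
            ((((s : ↥(Cfsg.isometryGroup F Q)) : GL ι F) : Matrix ι ι F) *ᵥ x)) ∧
      Theta Q L (QuotientGroup.mk s) = QuotientGroup.mk s' := theta_exists Q L s

/-- The automorphism of `Ω(Q)` induced by a semisimilarity. -/
noncomputable def omEquiv (L : GamO Q) : ↥(Cfsg.Omega F Q) ≃* ↥(Cfsg.Omega F Q) :=
  commEquiv (isoEquiv Q (sig Q L) (toAdd Q L) (sig_spec Q L) (mu Q L) (mu_spec Q L))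

theorem omEquiv_mulVec (L : GamO Q) (s : ↥(Cfsg.Omega F Q)) (x : ι → F) :
    (((omEquiv Q L s : ↥(Cfsg.isometryGroup F Q)) : GL ι F) : Matrix ι ι F) *ᵥ
        ((L : Equiv.Perm (ι → F)) x) =
      (L : Equiv.Perm (ι → F))
        ((((s : ↥(Cfsg.isometryGroup F Q)) : GL ι F) : Matrix ι ι F) *ᵥ x) :=
  semiGL_mulVec (sig Q L) (toAdd Q L) (sig_spec Q L) _ x

theorem Theta_mk (L : GamO Q) (s : ↥(Cfsg.Omega F Q)) :
    Theta Q L (QuotientGroup.mk s) = QuotientGroup.mk (omEquiv Q L s) := rfl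

theorem Theta_mem_gamma (L : GamO Q) : Theta Q L ∈ Cfsg.gammaPOmega F Q :=
  semiAut_mem_gamma Q (sig Q L) (toAdd Q L) (sig_spec Q L) (mu Q L) (mu_spec Q L)

/-! ### The semisimilarity attached to a pair `(g, σ)` -/

/-- The bijection `x ↦ g σ(x)`. -/
def pairL (g : GL ι F) (σ : F ≃+* F) : Equiv.Perm (ι → F) where
  toFun x := (g : Matrix ι ι F) *ᵥ (fun i => σ (x i))
  invFun y := fun i => σ.symm ((((g⁻¹ : GL ι F) : Matrix ι ι F) *ᵥ y) i)
  left_inv x := by
    funext i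
    simp only
    rw [Matrix.mulVec_mulVec, ← Units.val_mul, inv_mul_cancel, Units.val_one, Matrix.one_mulVec,
      σ.symm_apply_apply]
  right_inv y := by
    simp only [σ.apply_symm_apply]
    rw [Matrix.mulVec_mulVec, ← Units.val_mul, mul_inv_cancel, Units.val_one, Matrix.one_mulVec]

theorem pairL_apply (g : GL ι F) (σ : F ≃+* F) (x : ι → F) :
    pairL g σ x = (g : Matrix ι ι F) *ᵥ (fun i => σ (x i)) := rfl

theorem pairL_smul (g : GL ι F) (σ : F ≃+* F) (c : F) (x : ι → F) :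
    pairL g σ (c • x) = σ c • pairL g σ x := by
  rw [pairL_apply, pairL_apply, ← Matrix.mulVec_smul]
  congr 1
  funext i
  simp

theorem pairL_add (g : GL ι F) (σ : F ≃+* F) (x y : ι → F) :
    pairL g σ (x + y) = pairL g σ x + pairL g σ y := by
  rw [pairL_apply, pairL_apply, pairL_apply, ← Matrix.mulVec_add]
  congr 1
  funext i
  simp

theorem pairL_mem {g : GL ι F} {σ : F ≃+* F} (h : Cfsg.IsSemisimilarityPair Q g σ) :
    pairL g σ ∈ GamO Q := by
  obtain ⟨c, hc⟩ := h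
  exact ⟨σ, c, pairL_add g σ, pairL_smul g σ, fun x => hc x⟩

theorem induced_eq_Theta {g : GL ι F} {σ : F ≃+* F} (h : Cfsg.IsSemisimilarityPair Q g σ)
    {β : Cfsg.POmega F Q ≃* Cfsg.POmega F Q}
    (hβ : Cfsg.IsInducedBySemilinearPOmega Q g σ β) :
    β = Theta Q ⟨pairL g σ, pairL_mem Q h⟩ := by
  apply MulEquiv.ext
  intro t
  obtain ⟨s, rfl⟩ := QuotientGroup.mk_surjective t
  obtain ⟨s', h', e'⟩ := Theta_exists Q ⟨pairL g σ, pairL_mem Q h⟩ s
  rw [e']
  apply hβ s s'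
  have key : (((s' : ↥(Cfsg.isometryGroup F Q)) : GL ι F) : Matrix ι ι F) * (g : Matrix ι ι F) =
      (g : Matrix ι ι F) *
        ((((s : ↥(Cfsg.isometryGroup F Q)) : GL ι F) : Matrix ι ι F)).map σ := by
    apply Matrix.mulVec_injective
    funext y
    have hy := h' (fun i => σ.symm (y i))
    simp only [pairL_apply] at hy
    have e1 : (fun i => σ ((fun i => σ.symm (y i)) i)) = y := by
      funext i; simp
    rw [e1] at hy
    rw [← Matrix.mulVec_mulVec, hy, ← Matrix.mulVec_mulVec]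
    congr 1
    rw [← map_mulVec_sigma, e1]
  calc (((s' : ↥(Cfsg.isometryGroup F Q)) : GL ι F) : Matrix ι ι F)
      = (((s' : ↥(Cfsg.isometryGroup F Q)) : GL ι F) : Matrix ι ι F) *
          ((g : Matrix ι ι F) * ((g⁻¹ : GL ι F) : Matrix ι ι F)) := by
        rw [← Units.val_mul, mul_inv_cancel, Units.val_one, Matrix.mul_one]
    _ = _ := by rw [← Matrix.mul_assoc, key]

/-- The range of `Theta` is the image of the projective semisimilarity group. -/
theorem range_Theta : (Theta Q).range = Cfsg.gammaPOmega F Q := by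
  apply le_antisymm
  · rintro β ⟨L, rfl⟩
    exact Theta_mem_gamma Q L
  · unfold Cfsg.gammaPOmega Cfsg.autSubgroupOf
    rw [Subgroup.closure_le]
    rintro β ⟨g, σ, h, hβ⟩
    exact ⟨_, (induced_eq_Theta Q h hβ).symm⟩

theorem Theta_surjective (h : Cfsg.gammaPOmega F Q = ⊤) : Function.Surjective (Theta Q) := by
  rw [← MonoidHom.range_eq_top, range_Theta, h]

end Cfsg.Agent.Helper43.OGam
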