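import Mathlib
import Cfsg.Agent.Lib.Helper43.OGam1
import Cfsg.Agent.Lib.Helper13.OrthSimple
import Cfsg.Agent.Lib.Helper5.OrthAut

set_option autoImplicit false
set_option linter.unusedSectionVars false

/-!
# Rigidity: the kernel of `Theta` consists of scalars
-/

namespace Cfsg.Agent.Helper43.OGam

open Matrix QuadraticMap Cfsg.Agent.Helper13 Cfsg.Agent.Helper43
open scoped commutatorElement

section perfect

variable {F : Type*} [Field F] {ι : Type} [Fintype ι] [DecidableEq ι] (Q : (ι → F) → F)

/-- If `Ω` is perfect, a semisimilarity acting trivially on `PΩ` centralises `Ω`. -/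
theorem omEquiv_eq_self (hperf : commutator ↥(Cfsg.Omega F Q) = ⊤) (L : GamO Q)
    (hL : Theta Q L = 1) (s : ↥(Cfsg.Omega F Q)) : omEquiv Q L s = s := by
  have hc : ∀ s : ↥(Cfsg.Omega F Q), s⁻¹ * omEquiv Q L s ∈ Subgroup.center ↥(Cfsg.Omega F Q) := by
    intro s
    have h1 : Theta Q L (QuotientGroup.mk s) = QuotientGroup.mk s := by rw [hL]; rfl
    rw [Theta_mk] at h1
    exact QuotientGroup.eq.1 h1.symm
  have hK : (⊤ : Subgroup ↥(Cfsg.Omega F Q)) ≤
      MonoidHom.eqLocus (omEquiv Q L).toMonoidHom (MonoidHom.id _) := by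
    rw [← hperf, commutator_def, Subgroup.commutator_le]
    intro a _ b _
    change omEquiv Q L ⁅a, b⁆ = ⁅a, b⁆
    rw [map_commutatorElement]
    have ha : omEquiv Q L a = a * (a⁻¹ * omEquiv Q L a) := by group
    have hb : omEquiv Q L b = b * (b⁻¹ * omEquiv Q L b) := by group
    rw [ha, hb, Cfsg.Agent.Helper5.OrthAut.commutatorElement_mul_central_left _ _ _
      (fun x => (Subgroup.mem_center_iff.1 (hc a) x).symm),
      Cfsg.Agent.Helper5.OrthAut.commutatorElement_mul_central_right _ _ _
      (fun x => (Subgroup.mem_center_iff.1 (hc b) x).symm)]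
  exact hK (Subgroup.mem_top s)

theorem commute_of_Theta_eq_one (hperf : commutator ↥(Cfsg.Omega F Q) = ⊤) (L : GamO Q)
    (hL : Theta Q L = 1) (s : ↥(Cfsg.Omega F Q)) (x : ι → F) :
    (((s : ↥(Cfsg.isometryGroup F Q)) : GL ι F) : Matrix ι ι F) *ᵥ
        ((L : Equiv.Perm (ι → F)) x) =
      (L : Equiv.Perm (ι → F))
        ((((s : ↥(Cfsg.isometryGroup F Q)) : GL ι F) : Matrix ι ι F) *ᵥ x) := by
  have := omEquiv_mulVec Q L s x
  rwa [omEquiv_eq_self Q hperf L hL s] at this

end perfect

section rigid

variable {F : Type*} [Field F] {ι : Type} [Fintype ι] [DecidableEq ι]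
  (Q : QuadraticForm F (ι → F))

theorem li_pair_of_polar {u w u' w' : ι → F} (h1 : polar (⇑Q) u u' = 1)
    (h2 : polar (⇑Q) w u' = 0) (h3 : polar (⇑Q) u w' = 0) (h4 : polar (⇑Q) w w' = 1) :
    LinearIndependent F ![u, w] := by
  rw [LinearIndependent.pair_iff]
  intro s t hst
  have e1 := congrArg (fun z => polar (⇑Q) z u') hst
  have e2 := congrArg (fun z => polar (⇑Q) z w') hst
  simp only [polar_add_left, polar_smul_left, h1, h2, h3, h4, polar_zero_left, smul_eq_mul,
    mul_one, mul_zero, add_zero, zero_add] at e1 e2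
  exact ⟨e1, e2⟩

/-- A semilinear additive injection commuting with all Eichler transformations is a scalar, and
the field automorphism is trivial. -/
theorem scalar_of_commute (hQ : (polarBilin Q).Nondegenerate) {k : ℕ}
    (e f : Fin k → (ι → F)) (hef : IsHypFamily Q e f) (hk : 3 ≤ k)
    (L : (ι → F) → (ι → F)) (σ : F ≃+* F) (hadd : ∀ x y, L (x + y) = L x + L y)
    (hsmul : ∀ (c : F) (x : ι → F), L (c • x) = σ c • L x) (hinj : Function.Injective L)
    (hcomm : ∀ g : ↥(Cfsg.isometryGroup F ⇑Q), g ∈ EK Q → ∀ x, g • L x = L (g • x)) :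
    ∃ a : F, a ≠ 0 ∧ (∀ x, L x = a • x) ∧ ∀ c, σ c = c := by
  have hL0 : L 0 = 0 := by
    have := hadd 0 0
    rw [add_zero] at this
    exact left_eq_add.mp this
  have hsub : ∀ x y, L (x - y) = L x - L y := by
    intro x y
    have := hadd (x - y) y
    rw [sub_add_cancel] at this
    rw [this, add_sub_cancel_right]
  set e0 := e ⟨0, by omega⟩ with he0
  set e1 := e ⟨1, by omega⟩ with he1
  set e2 := e ⟨2, by omega⟩ with he2
  set f0 := f ⟨0, by omega⟩ with hf0
  set f1 := f ⟨1, by omega⟩ with hf1
  set f2 := f ⟨2, by omega⟩ with hf2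
  have hq0 : Q e0 = 0 := hef.qe _
  have hq1 : Q e1 = 0 := hef.qe _
  have hq2 : Q e2 = 0 := hef.qe _
  have h01 : polar (⇑Q) e0 e1 = 0 := hef.ee _ _
  have h02 : polar (⇑Q) e0 e2 = 0 := hef.ee _ _
  have h12 : polar (⇑Q) e1 e2 = 0 := hef.ee _ _
  have h00' : polar (⇑Q) e0 f0 = 1 := by rw [hef.ef]; simp
  have h01' : polar (⇑Q) e0 f1 = 0 := by rw [hef.ef]; simp [Fin.ext_iff]
  have h02' : polar (⇑Q) e0 f2 = 0 := by rw [hef.ef]; simp [Fin.ext_iff]
  have h10' : polar (⇑Q) e1 f0 = 0 := by rw [hef.ef]; simp [Fin.ext_iff]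
  have h11' : polar (⇑Q) e1 f1 = 1 := by rw [hef.ef]; simp
  have h12' : polar (⇑Q) e1 f2 = 0 := by rw [hef.ef]; simp [Fin.ext_iff]
  have h20' : polar (⇑Q) e2 f0 = 0 := by rw [hef.ef]; simp [Fin.ext_iff]
  have h21' : polar (⇑Q) e2 f1 = 0 := by rw [hef.ef]; simp [Fin.ext_iff]
  have h22' : polar (⇑Q) e2 f2 = 1 := by rw [hef.ef]; simp
  have he0ne : e0 ≠ 0 := by
    intro h
    rw [h, polar_zero_left] at h00'
    exact zero_ne_one h00'
  -- B1
  have b1 : ∀ u w : ι → F, Q u = 0 → Q w = 0 → polar (⇑Q) u w = 0 →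
      LinearIndependent F ![u, w] → ∃ a b : F, L u = a • u + b • w := by
    intro u w hu hw huw hli
    obtain ⟨x, hx⟩ := polar_prescribe Q hQ ![u, w] hli ![0, 1]
    have hx0 : polar (⇑Q) u x = 0 := hx 0
    have hx1 : polar (⇑Q) w x = 1 := hx 1
    have hE := hcomm (eichO Q u w hu huw) (eichO_mem_EK Q u w hu huw) x
    rw [eichO_smul, eichO_smul, hx0, hx1, hw] at hE
    simp only [zero_smul, add_zero, one_smul, zero_mul, sub_zero] at hE
    rw [hsub] at hE
    refine ⟨polar (⇑Q) w (L x), -polar (⇑Q) u (L x), ?_⟩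
    have : L u = L x - (L x + polar (⇑Q) u (L x) • w - polar (⇑Q) w (L x) • u) := by
      rw [hE]; abel
    rw [this, neg_smul]
    abel
  -- B2
  have b2 : ∃ a : F, L e0 = a • e0 := by
    obtain ⟨a, b, hab⟩ := b1 e0 e1 hq0 hq1 h01 (li_pair_of_polar Q h00' h10' h01' h11')
    obtain ⟨a', b', hab'⟩ := b1 e0 e2 hq0 hq2 h02 (li_pair_of_polar Q h00' h20' h02' h22')
    have e1' := congrArg (fun z => polar (⇑Q) z f1) hab
    have e2' := congrArg (fun z => polar (⇑Q) z f1) hab'
    simp only [polar_add_left, polar_smul_left, h01', h11', h21', smul_eq_mul, mul_zero, mul_one,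
      zero_add, add_zero] at e1' e2'
    have hb : b = 0 := by rw [← e1', e2']
    refine ⟨a, ?_⟩
    rw [hab, hb, zero_smul, add_zero]
  obtain ⟨a, ha⟩ := b2
  have ha0 : a ≠ 0 := by
    intro h
    rw [h, zero_smul, ← hL0] at ha
    exact he0ne (hinj ha)
  -- B3
  have b3 : ∀ u : ι → F, u ≠ 0 → Q u = 0 → ∃ c : F, L u = c • u := by
    intro u hu0 hu
    obtain ⟨g, hg, c, hc0, hgu⟩ := exists_EK_move Q hQ e f hef hk u e0 hu0 he0ne hu hq0
    have h1 := hcomm g hg u
    rw [hgu, hsmul, ha] at h1
    refine ⟨σ c * a * c⁻¹, ?_⟩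
    have h2 : g • L u = g • ((σ c * a * c⁻¹) • u) := by
      rw [O_smul_smul_comm, hgu, h1, smul_smul, smul_smul]
      congr 1
      field_simp
    have h3 := congrArg (fun z => g⁻¹ • z) h2
    simpa using h3
  -- (i)
  have ci : ∀ (u w : ι → F) (cu cw : F), Q u = 0 → Q w = 0 → polar (⇑Q) u w = 0 →
      (∀ s t : F, s • u + t • w = 0 → s = 0 ∧ t = 0) → L u = cu • u → L w = cw • w →
      cu = cw := by
    intro u w cu cw hu hw huw hli hLu hLw
    have hne : u + w ≠ 0 := by
      intro h
      have := hli 1 1 (by rw [one_smul, one_smul, h])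
      exact one_ne_zero this.1
    have hq : Q (u + w) = 0 := by
      rw [QuadraticMap.map_add Q, hu, hw, huw]; simp
    obtain ⟨c, hc⟩ := b3 (u + w) hne hq
    rw [hadd, hLu, hLw, smul_add] at hc
    have := hli (cu - c) (cw - c) (by
      rw [sub_smul, sub_smul]
      have : cu • u + cw • w - (c • u + c • w) = 0 := by rw [hc, sub_self]
      rw [← this]; abel)
    rw [sub_eq_zero, sub_eq_zero] at this
    rw [this.1, this.2]
  -- every nonzero singular vector is scaled by `a`
  have hs1 : ∀ u : ι → F, u ≠ 0 → Q u = 0 → L u = a • u := by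
    intro u hu0 hu
    obtain ⟨c, hc⟩ := b3 u hu0 hu
    suffices h : c = a by rw [hc, h]
    by_cases h0 : polar (⇑Q) e0 u = 0
    · by_cases hdep : ∃ l : F, u = l • e0
      · obtain ⟨l, rfl⟩ := hdep
        have hl : l ≠ 0 := by
          intro h; apply hu0; rw [h, zero_smul]
        obtain ⟨c1, hc1⟩ := b3 e1 (by
          intro h
          rw [h, polar_zero_left] at h11'
          exact zero_ne_one h11') hq1
        have k1 : a = c1 := ci e0 e1 a c1 hq0 hq1 h01 (by
          have := li_pair_of_polar Q h00' h10' h01' h11'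
          rw [LinearIndependent.pair_iff] at this
          exact this) ha hc1
        have k2 : c = c1 := ci (l • e0) e1 c c1 hu hq1 (by
          rw [polar_smul_left, h01, smul_zero]) (by
          intro s t hst
          have e1' := congrArg (fun z => polar (⇑Q) z f0) hst
          have e2' := congrArg (fun z => polar (⇑Q) z f1) hst
          simp only [polar_add_left, polar_smul_left, h00', h10', h01', h11', polar_zero_left,
            smul_eq_mul, mul_one, mul_zero, add_zero, zero_add] at e1' e2'
          refine ⟨?_, e2'⟩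
          rcases mul_eq_zero.1 e1' with h | h
          · exact h
          · exact absurd h hl) hc hc1
        rw [k2, k1]
      · have := ci e0 u a c hq0 hu h0 (by
          intro s t hst
          by_cases ht : t = 0
          · subst ht
            rw [zero_smul, add_zero] at hst
            rcases smul_eq_zero.1 hst with h | h
            · exact ⟨h, rfl⟩
            · exact absurd h he0ne
          · exfalso
            apply hdep
            refine ⟨-(t⁻¹ * s), ?_⟩
            have h1 : t • u = -(s • e0) := by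
              rw [eq_neg_iff_add_eq_zero, add_comm]; exact hst
            have h2 : u = t⁻¹ • (t • u) := by rw [smul_smul, inv_mul_cancel₀ ht, one_smul]
            rw [h2, h1, smul_neg, smul_smul, neg_smul]) ha hc
        exact this.symm
    · -- non-orthogonal case
      obtain ⟨α, β, hαβ, hz⟩ : ∃ α β : F, (α ≠ 0 ∨ β ≠ 0) ∧
          α * polar (⇑Q) e1 u + β * polar (⇑Q) e2 u = 0 := by
        by_cases h1 : polar (⇑Q) e1 u = 0
        · exact ⟨1, 0, Or.inl one_ne_zero, by rw [h1]; simp⟩
        · exact ⟨polar (⇑Q) e2 u, -polar (⇑Q) e1 u, Or.inr (neg_ne_zero.2 h1), by ring⟩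
      set z := α • e1 + β • e2 with hzdef
      have hqz : Q z = 0 := by
        rw [hzdef, Q_lin2, hq1, hq2, h12]; simp
      have hz0 : polar (⇑Q) e0 z = 0 := by
        rw [hzdef, polar_add_right, polar_smul_right, polar_smul_right, h01, h02]; simp
      have hzu : polar (⇑Q) u z = 0 := by
        rw [hzdef, polar_add_right, polar_smul_right, polar_smul_right, polar_comm _ u e1,
          polar_comm _ u e2, smul_eq_mul, smul_eq_mul]
        exact hz
      have hzf0 : polar (⇑Q) z f0 = 0 := by
        rw [hzdef, polar_add_left, polar_smul_left, polar_smul_left, h10', h20']; simp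
      have hzf1 : polar (⇑Q) z f1 = α := by
        rw [hzdef, polar_add_left, polar_smul_left, polar_smul_left, h11', h21']; simp
      have hzf2 : polar (⇑Q) z f2 = β := by
        rw [hzdef, polar_add_left, polar_smul_left, polar_smul_left, h12', h22']; simp
      have hzne : z ≠ 0 := by
        intro h
        rw [h, polar_zero_left] at hzf1 hzf2
        rcases hαβ with h' | h'
        · exact h' hzf1.symm
        · exact h' hzf2.symm
      obtain ⟨cz, hcz⟩ := b3 z hzne hqz
      have k1 : a = cz := ci e0 z a cz hq0 hqz hz0 (by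
        intro s t hst
        have e1' := congrArg (fun y => polar (⇑Q) y f0) hst
        simp only [polar_add_left, polar_smul_left, h00', hzf0, polar_zero_left, smul_eq_mul,
          mul_one, mul_zero, add_zero] at e1'
        subst e1'
        rw [zero_smul, zero_add] at hst
        rcases smul_eq_zero.1 hst with h | h
        · exact ⟨rfl, h⟩
        · exact absurd h hzne) ha hcz
      have k2 : c = cz := ci u z c cz hu hqz hzu (by
        intro s t hst
        have e1' := congrArg (fun y => polar (⇑Q) e0 y) hst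
        simp only [polar_add_right, polar_smul_right, hz0, polar_zero_right, smul_eq_mul,
          mul_zero, add_zero] at e1'
        rcases mul_eq_zero.1 e1' with h | h
        · subst h
          rw [zero_smul, zero_add] at hst
          rcases smul_eq_zero.1 hst with h | h
          · exact ⟨rfl, h⟩
          · exact absurd h hzne
        · exact absurd h h0) hc hcz
      rw [k2, k1]
  have hs : ∀ u : ι → F, Q u = 0 → L u = a • u := by
    intro u hu
    by_cases hu0 : u = 0
    · rw [hu0, hL0, smul_zero]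
    · exact hs1 u hu0 hu
  -- vectors not orthogonal to a singular vector
  have hno : ∀ (s x : ι → F), Q s = 0 → polar (⇑Q) x s ≠ 0 → L x = a • x := by
    intro s x hqs hxs
    set t := -Q x / polar (⇑Q) x s with ht
    have hy : Q (x + t • s) = 0 := by
      rw [QuadraticMap.map_add Q, QuadraticMap.map_smul, hqs, polar_smul_right, smul_eq_mul,
        smul_eq_mul, ht]
      field_simp
      ring
    have hts : Q (t • s) = 0 := by rw [QuadraticMap.map_smul, hqs, smul_zero]
    have h1 := hs _ hy
    rw [hadd, hs _ hts, smul_add] at h1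
    exact add_right_cancel h1
  have hall : ∀ x, L x = a • x := by
    intro x
    by_cases h1 : polar (⇑Q) x e0 = 0
    · have h2 : polar (⇑Q) (x + e0) f0 ≠ 0 ∨ polar (⇑Q) x f0 ≠ 0 := by
        by_cases h3 : polar (⇑Q) x f0 = 0
        · left
          rw [polar_add_left, h3, h00', zero_add]
          exact one_ne_zero
        · exact Or.inr h3
      rcases h2 with h2 | h2
      · have h3 := hno f0 (x + e0) (hef.qf _) h2
        rw [hadd, ha, smul_add] at h3
        exact add_right_cancel h3
      · exact hno f0 x (hef.qf _) h2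
    · exact hno e0 x hq0 h1
  refine ⟨a, ha0, hall, ?_⟩
  intro c
  have h1 := hsmul c e0
  rw [hall, hall, smul_smul, smul_smul] at h1
  have h2 : a * c = σ c * a := by
    by_contra hne
    have : (a * c - σ c * a) • e0 = 0 := by rw [sub_smul, h1, sub_self]
    rcases smul_eq_zero.1 this with h | h
    · exact hne (sub_eq_zero.1 h)
    · exact he0ne h
  have : σ c * a = c * a := by rw [← h2, mul_comm]
  exact mul_right_cancel₀ ha0 this

end rigid

end Cfsg.Agent.Helper43.OGam
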