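import Mathlib

set_option autoImplicit false

/-!
# An abstract assembly lemma: `Γ/N ≅ C₂ × C_f`
-/

namespace Cfsg.Agent.Helper43.OGam

theorem asm {Γ : Type*} [Group Γ] (N D Φ : Subgroup Γ) [hN : N.Normal] [hD : D.Normal]
    (hND : N ≤ D) (hidx : N.relIndex D = 2) (hdisj : ∀ x, x ∈ Φ → x ∈ D → x = 1)
    (hsup : ∀ γ : Γ, ∃ d ∈ D, ∃ φ ∈ Φ, γ = d * φ) {f : ℕ} [NeZero f]
    (e : ↥Φ ≃* Multiplicative (ZMod f)) :
    Nonempty (Γ ⧸ N ≃* Multiplicative (ZMod 2 × ZMod f)) := by
  classical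
  -- an element of `D` outside `N`
  have h2 : (N.subgroupOf D).index = 2 := hidx
  rw [Subgroup.index_eq_two_iff] at h2
  obtain ⟨a, ha⟩ := h2
  have haN : (a : Γ) ∉ N := by
    have := ha 1
    rw [one_mul] at this
    rcases this with ⟨h1, h2⟩ | ⟨h1, h2⟩
    · exact absurd (one_mem _) h2
    · exact fun h => h2 h
  have hcase : ∀ d : Γ, d ∈ D → d ∈ N ∨ d * (a : Γ) ∈ N := by
    intro d hd
    rcases ha ⟨d, hd⟩ with ⟨h1, _⟩ | ⟨h1, _⟩
    · exact Or.inr h1
    · exact Or.inl h1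
  set π := QuotientGroup.mk' N with hπ
  set t : Γ ⧸ N := π (a : Γ) with ht
  have ht1 : t ≠ 1 := by
    intro h
    apply haN
    exact (QuotientGroup.eq_one_iff _).1 h
  have htt : t * t = 1 := by
    rcases hcase (a : Γ) a.2 with h | h
    · exact absurd h haN
    · rw [ht, ← map_mul]
      exact (QuotientGroup.eq_one_iff _).2 h
  have htinv : t⁻¹ = t := inv_eq_of_mul_eq_one_right htt
  have hπD : ∀ d : Γ, d ∈ D → π d = 1 ∨ π d = t := by
    intro d hd
    rcases hcase d hd with h | h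
    · exact Or.inl ((QuotientGroup.eq_one_iff _).2 h)
    · right
      have : π d * t = 1 := by
        rw [ht, ← map_mul]
        exact (QuotientGroup.eq_one_iff _).2 h
      rw [eq_inv_of_mul_eq_one_left this, htinv]
  -- `t` is central
  have hcent : ∀ x : Γ ⧸ N, x * t = t * x := by
    intro x
    obtain ⟨g, rfl⟩ := QuotientGroup.mk'_surjective N x
    have hconj : g * (a : Γ) * g⁻¹ ∈ D := hD.conj_mem _ a.2 g
    have hne : π (g * (a : Γ) * g⁻¹) ≠ 1 := by
      intro h
      rw [map_mul, map_mul, map_inv] at h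
      apply ht1
      have : π g * t * (π g)⁻¹ = 1 := h
      have h' : t = (π g)⁻¹ * 1 * π g := by rw [← this]; group
      rw [h']; group
    rcases hπD _ hconj with h | h
    · exact absurd h hne
    · rw [map_mul, map_mul, map_inv] at h
      have : π g * t = t * π g := by
        have h' : π g * t * (π g)⁻¹ * π g = t * π g := by rw [h]
        rw [← h']; group
      exact this
  -- the homomorphism
  set Z : Subgroup (Γ ⧸ N) := Subgroup.zpowers t with hZ
  have hZcomm : ∀ (z : ↥Z) (x : Γ ⧸ N), (z : Γ ⧸ N) * x = x * (z : Γ ⧸ N) := by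
    rintro ⟨z, hz⟩ x
    obtain ⟨k, rfl⟩ := Subgroup.mem_zpowers_iff.1 hz
    show t ^ k * x = x * t ^ k
    have : Commute x t := hcent x
    exact ((this.zpow_right k).eq).symm
  set μ : ↥Z × ↥Φ →* Γ ⧸ N :=
    MonoidHom.noncommCoprod Z.subtype (π.comp Φ.subtype)
      (fun z p => (show Commute (Z.subtype z) ((π.comp Φ.subtype) p) from hZcomm z _)) with hμ
  have hμapp : ∀ (z : ↥Z) (p : ↥Φ), μ (z, p) = (z : Γ ⧸ N) * π (p : Γ) := by
    intro z p
    rw [hμ, MonoidHom.noncommCoprod_apply]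
    rfl
  have hμinj : Function.Injective μ := by
    rw [injective_iff_map_eq_one]
    rintro ⟨z, p⟩ h
    rw [hμapp] at h
    have hp : π (p : Γ) = (z : Γ ⧸ N)⁻¹ := eq_inv_of_mul_eq_one_right h
    have hpZ : π (p : Γ) ∈ Z := by rw [hp]; exact inv_mem z.2
    -- `π p` is the image of an element of `D`
    obtain ⟨k, hk⟩ := Subgroup.mem_zpowers_iff.1 hpZ
    have hk' : π ((a : Γ) ^ k) = π (p : Γ) := by rw [map_zpow]; exact hk
    have hmem : ((a : Γ) ^ k)⁻¹ * (p : Γ) ∈ N := QuotientGroup.eq.1 hk'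
    have hpD : (p : Γ) ∈ D := by
      have h1 : (a : Γ) ^ k ∈ D := zpow_mem a.2 k
      have h2 := mul_mem h1 (hND hmem)
      rwa [mul_inv_cancel_left] at h2
    have hp1 : (p : Γ) = 1 := hdisj _ p.2 hpD
    have hp1' : p = 1 := Subtype.ext hp1
    subst hp1'
    have hz : (z : Γ ⧸ N) = 1 := by
      rw [Subgroup.coe_one, map_one] at hp
      exact inv_eq_one.1 hp.symm
    have hz' : z = 1 := Subtype.ext hz
    rw [hz']
    rfl
  have hμsurj : Function.Surjective μ := by
    intro x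
    obtain ⟨g, rfl⟩ := QuotientGroup.mk'_surjective N x
    obtain ⟨d, hd, φ, hφ, rfl⟩ := hsup g
    have hdZ : π d ∈ Z := by
      rcases hπD d hd with h | h
      · rw [h]; exact one_mem _
      · rw [h]; exact Subgroup.mem_zpowers t
    refine ⟨(⟨π d, hdZ⟩, ⟨φ, hφ⟩), ?_⟩
    rw [hμapp]
    show π d * π φ = π (d * φ)
    rw [map_mul]
  have hμbij : Function.Bijective μ := ⟨hμinj, hμsurj⟩
  -- `Z` has order 2
  have hZcard : Nat.card ↥Z = 2 := by
    rw [hZ, Nat.card_zpowers]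
    exact orderOf_eq_prime (by rw [pow_two]; exact htt) ht1
  have : IsCyclic ↥Z := by rw [hZ]; infer_instance
  have eZ : ↥Z ≃* Multiplicative (ZMod 2) :=
    mulEquivOfCyclicCardEq (by
      rw [hZcard, Nat.card_eq_fintype_card, Fintype.card_multiplicative, ZMod.card])
  exact ⟨(MulEquiv.ofBijective μ hμbij).symm.trans
    ((MulEquiv.prodCongr eZ e).trans (MulEquiv.prodMultiplicative (ZMod 2) (ZMod f)).symm)⟩

end Cfsg.Agent.Helper43.OGam
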