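import Mathlib
import Cfsg.Agent.Lib.Helper43.OGam2
import Cfsg.Agent.Lib.Helper43.OGam4
import Cfsg.Agent.Lib.Helper5.OrthAut3
import Cfsg.Agent.Lib.Helper41.RingAutFin

set_option autoImplicit false
set_option linter.unusedSectionVars false

/-!
# Linear part, field automorphisms, and the generic `Out ≅ C₂ × C_f` theorem
-/

namespace Cfsg.Agent.Helper43.OGam

open Matrix QuadraticMap Cfsg.Agent.Helper13 Cfsg.Agent.Helper43

section rigid

variable {F : Type*} [Field F] [Finite F] {ι : Type} [Fintype ι] [DecidableEq ι]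
  (Q : QuadraticForm F (ι → F))

/-- Rigidity: an element of the kernel of `Theta` is a scalar and its field automorphism is
trivial. -/
theorem rigid (hQ : (polarBilin Q).Nondegenerate) {k : ℕ}
    (e f : Fin k → (ι → F)) (hef : IsHypFamily Q e f) (hk : 3 ≤ k) (hn : 5 ≤ Fintype.card ι)
    (L : GamO ⇑Q) (hL : Theta ⇑Q L = 1) (σ : F ≃+* F)
    (hσ : ∀ (c : F) (x : ι → F),
      (L : Equiv.Perm (ι → F)) (c • x) = σ c • (L : Equiv.Perm (ι → F)) x) :
    (∃ a : F, a ≠ 0 ∧ ∀ x, (L : Equiv.Perm (ι → F)) x = a • x) ∧ ∀ c, σ c = c := by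
  have hperf := Cfsg.Agent.Helper5.OrthAut.hperf_of_hyp Q hQ e f hef hk hn
  have hΩ := omega_eq_EK Q hQ e f hef hk hn
  have hcomm : ∀ g : ↥(Cfsg.isometryGroup F ⇑Q), g ∈ EK Q → ∀ x,
      g • (L : Equiv.Perm (ι → F)) x = (L : Equiv.Perm (ι → F)) (g • x) := by
    intro g hg x
    have hg' : g ∈ Cfsg.Omega F ⇑Q := by rw [hΩ]; exact hg
    exact commute_of_Theta_eq_one (⇑Q) hperf L hL ⟨g, hg'⟩ x
  obtain ⟨a, ha0, hall, hσ'⟩ := scalar_of_commute Q hQ e f hef hk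
    (⇑(L : Equiv.Perm (ι → F))) σ (add_spec (⇑Q) L) hσ (L : Equiv.Perm (ι → F)).injective hcomm
  exact ⟨⟨a, ha0, hall⟩, hσ'⟩

end rigid

section lin

variable {F : Type*} [Field F] {ι : Type} [Fintype ι] [DecidableEq ι] (Q : (ι → F) → F)

/-- The linear semisimilarities (the similarities). -/
def Lin : Subgroup (GamO Q) where
  carrier := {L | ∀ (c : F) (x : ι → F),
    (L : Equiv.Perm (ι → F)) (c • x) = c • (L : Equiv.Perm (ι → F)) x}
  mul_mem' := by
    intro L M hL hM c x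
    show (L : Equiv.Perm (ι → F)) ((M : Equiv.Perm (ι → F)) (c • x)) = _
    rw [hM, hL]
    rfl
  one_mem' := fun c x => rfl
  inv_mem' := by
    intro L hL c y
    obtain ⟨x, rfl⟩ := (L : Equiv.Perm (ι → F)).surjective y
    show (L : Equiv.Perm (ι → F))⁻¹ (c • (L : Equiv.Perm (ι → F)) x) =
      c • (L : Equiv.Perm (ι → F))⁻¹ ((L : Equiv.Perm (ι → F)) x)
    rw [← hL, perm_inv_apply, perm_inv_apply]

theorem mem_Lin (L : GamO Q) : L ∈ Lin Q ↔ ∀ (c : F) (x : ι → F),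
    (L : Equiv.Perm (ι → F)) (c • x) = c • (L : Equiv.Perm (ι → F)) x := Iff.rfl

instance Lin_normal : (Lin Q).Normal := by
  constructor
  intro L hL M c x
  show (M : Equiv.Perm (ι → F)) ((L : Equiv.Perm (ι → F))
      ((M : Equiv.Perm (ι → F))⁻¹ (c • x))) =
    c • (M : Equiv.Perm (ι → F)) ((L : Equiv.Perm (ι → F)) ((M : Equiv.Perm (ι → F))⁻¹ x))
  obtain ⟨y, rfl⟩ := (M : Equiv.Perm (ι → F)).surjective x
  have hM : ∀ (c : F) (z : ι → F), (M : Equiv.Perm (ι → F)) (c • z) =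
      sig Q M c • (M : Equiv.Perm (ι → F)) z := sig_spec Q M
  have h1 : c • (M : Equiv.Perm (ι → F)) y =
      (M : Equiv.Perm (ι → F)) ((sig Q M).symm c • y) := by
    rw [hM, RingEquiv.apply_symm_apply]
  rw [h1, perm_inv_apply, perm_inv_apply, hL, hM, RingEquiv.apply_symm_apply]

/-- The coordinatewise action of a field automorphism. -/
def fieldPerm (σ : F ≃+* F) : Equiv.Perm (ι → F) where
  toFun x := fun i => σ (x i)
  invFun y := fun i => σ.symm (y i)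
  left_inv x := by funext i; simp
  right_inv y := by funext i; simp

theorem fieldPerm_apply (σ : F ≃+* F) (x : ι → F) (i : ι) : fieldPerm σ x i = σ (x i) := rfl

theorem fieldPerm_smul (σ : F ≃+* F) (c : F) (x : ι → F) :
    fieldPerm σ (c • x) = σ c • fieldPerm σ x := by
  funext i
  simp [fieldPerm_apply]

variable (hQσ : ∀ (σ : F ≃+* F) (v : ι → F), Q (fun i => σ (v i)) = σ (Q v))

include hQσ in
theorem fieldPerm_mem (σ : F ≃+* F) : fieldPerm σ ∈ GamO Q := by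
  refine ⟨σ, 1, ?_, fieldPerm_smul σ, ?_⟩
  · intro x y
    funext i
    simp [fieldPerm_apply]
  · intro x
    rw [Units.val_one, one_mul]
    exact hQσ σ x

/-- Field automorphisms as semisimilarities. -/
def fieldGam : RingAut F →* GamO Q where
  toFun σ := ⟨fieldPerm σ, fieldPerm_mem Q hQσ σ⟩
  map_one' := by
    apply Subtype.ext
    apply Equiv.ext
    intro x
    rfl
  map_mul' σ τ := by
    apply Subtype.ext
    apply Equiv.ext
    intro x
    rfl

theorem fieldGam_apply (σ : RingAut F) (x : ι → F) :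
    ((fieldGam Q hQσ σ : GamO Q) : Equiv.Perm (ι → F)) x = fun i => σ (x i) := rfl

theorem fieldGam_smul (σ : RingAut F) (c : F) (x : ι → F) :
    ((fieldGam Q hQσ σ : GamO Q) : Equiv.Perm (ι → F)) (c • x) =
      σ c • ((fieldGam Q hQσ σ : GamO Q) : Equiv.Perm (ι → F)) x :=
  fieldPerm_smul σ c x

/-- Every semisimilarity is a linear one times a field automorphism. -/
theorem exists_lin_mul_field (L : GamO Q) :
    ∃ L' ∈ Lin Q, ∃ σ : RingAut F, L = L' * fieldGam Q hQσ σ := by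
  refine ⟨L * (fieldGam Q hQσ (sig Q L))⁻¹, ?_, sig Q L, by group⟩
  intro c x
  show (L : Equiv.Perm (ι → F)) ((fieldPerm (sig Q L))⁻¹ (c • x)) =
    c • (L : Equiv.Perm (ι → F)) ((fieldPerm (sig Q L))⁻¹ x)
  obtain ⟨y, rfl⟩ := (fieldPerm (sig Q L)).surjective x
  have h1 : c • fieldPerm (sig Q L) y = fieldPerm (sig Q L) ((sig Q L).symm c • y) := by
    rw [fieldPerm_smul, RingEquiv.apply_symm_apply]
  have hL : ∀ (c : F) (z : ι → F), (L : Equiv.Perm (ι → F)) (c • z) =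
      sig Q L c • (L : Equiv.Perm (ι → F)) z := sig_spec Q L
  rw [h1, perm_inv_apply, perm_inv_apply, hL, RingEquiv.apply_symm_apply]

end lin

section main

variable {F : Type*} [Field F] [Fintype F] {ι : Type} [Fintype ι] [DecidableEq ι]
  (Q : QuadraticForm F (ι → F))

/-- The generic theorem: if `Aut(PΩ(Q)) = PΓO(Q)`, field automorphisms preserve `Q`, and
`Inn(PΩ)` has index two in the image of the similarity group, then `Out(PΩ(Q)) ≅ C₂ × C_f`. -/
theorem out_equiv (hQ : (polarBilin Q).Nondegenerate) {k : ℕ}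
    (e f : Fin k → (ι → F)) (hef : IsHypFamily Q e f) (hk : 3 ≤ k) (hn : 5 ≤ Fintype.card ι)
    (hQσ : ∀ (σ : F ≃+* F) (v : ι → F), Q (fun i => σ (v i)) = σ (Q v))
    (hgam : Cfsg.gammaPOmega F ⇑Q = ⊤)
    (hInn : Cfsg.Inn (Cfsg.POmega F ⇑Q) ≤ (Lin ⇑Q).map (Theta ⇑Q))
    (hidx : (Cfsg.Inn (Cfsg.POmega F ⇑Q)).relIndex ((Lin ⇑Q).map (Theta ⇑Q)) = 2)
    {p f' : ℕ} [Fact p.Prime] (hf : 1 ≤ f') (hF : Fintype.card F = p ^ f') :
    Nonempty (Cfsg.Out (Cfsg.POmega F ⇑Q) ≃* Multiplicative (ZMod 2 × ZMod f')) := by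
  have hchar : CharP F p := charP_of_card_eq_prime_pow hF
  haveI : NeZero f' := ⟨by omega⟩
  have hsurj := Theta_surjective (⇑Q) hgam
  have hι : Nonempty ι := by
    by_contra h
    rw [not_nonempty_iff] at h
    rw [Fintype.card_eq_zero] at hn
    omega
  obtain ⟨i₀⟩ := hι
  -- the field automorphism hom into `Aut`
  set fa : RingAut F →* MulAut (Cfsg.POmega F ⇑Q) :=
    (Theta ⇑Q).comp (fieldGam (⇑Q) hQσ) with hfa
  -- key: `fa σ ∈ D → σ = 1`
  have key : ∀ σ : RingAut F, fa σ ∈ (Lin ⇑Q).map (Theta ⇑Q) → σ = 1 := by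
    rintro σ ⟨L', hL', hL'σ⟩
    have h1 : Theta ⇑Q (L'⁻¹ * fieldGam (⇑Q) hQσ σ) = 1 := by
      rw [map_mul, map_inv, hL'σ, hfa, MonoidHom.comp_apply, inv_mul_cancel]
    have hlin : ∀ (c : F) (x : ι → F),
        ((L'⁻¹ : GamO ⇑Q) : Equiv.Perm (ι → F)) (c • x) =
          c • ((L'⁻¹ : GamO ⇑Q) : Equiv.Perm (ι → F)) x := (Lin ⇑Q).inv_mem hL'
    have h2 := (rigid Q hQ e f hef hk hn _ h1 σ (by
      intro c x
      show ((L'⁻¹ : GamO ⇑Q) : Equiv.Perm (ι → F))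
          (((fieldGam (⇑Q) hQσ σ : GamO ⇑Q) : Equiv.Perm (ι → F)) (c • x)) =
        σ c • ((L'⁻¹ : GamO ⇑Q) : Equiv.Perm (ι → F))
          (((fieldGam (⇑Q) hQσ σ : GamO ⇑Q) : Equiv.Perm (ι → F)) x)
      rw [fieldGam_smul, hlin])).2
    apply RingEquiv.ext
    intro c
    exact h2 c
  have hfainj : Function.Injective fa := by
    rw [injective_iff_map_eq_one]
    intro σ hσ
    apply key
    rw [hσ]
    exact one_mem _
  -- assemble
  haveI hDn : ((Lin ⇑Q).map (Theta ⇑Q)).Normal := Subgroup.Normal.map inferInstance _ hsurj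
  obtain ⟨eR⟩ := Cfsg.Agent.Helper41.exists_ringAut_equiv_zmod (F := F) p f' hf hF
  have eΦ : ↥(fa.range) ≃* Multiplicative (ZMod f') :=
    (MonoidHom.ofInjective hfainj).symm.trans eR
  refine asm (Cfsg.Inn (Cfsg.POmega F ⇑Q)) ((Lin ⇑Q).map (Theta ⇑Q)) fa.range hInn hidx ?_ ?_ eΦ
  · rintro β ⟨σ, rfl⟩ hβ
    rw [key σ hβ, map_one]
  · intro β
    obtain ⟨L, rfl⟩ := hsurj β
    obtain ⟨L', hL', σ, rfl⟩ := exists_lin_mul_field (⇑Q) hQσ L
    refine ⟨Theta ⇑Q L', ⟨L', hL', rfl⟩, fa σ, ⟨σ, rfl⟩, ?_⟩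
    rw [map_mul]
    rfl

end main

end Cfsg.Agent.Helper43.OGam
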