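import Mathlib
import Cfsg.Agent.Lib.Helper43.OGam3
import Cfsg.Agent.Lib.Helper5.OrthAut6
import Cfsg.Agent.Lib.Helper43.OrthOdd

set_option autoImplicit false
set_option linter.unusedSectionVars false

/-!
# `Out(Ω_{2m+1}(q)) ≅ C₂ × C_f` given `Aut = PΓO`
-/

namespace Cfsg.Agent.Helper43.OGam

open Matrix QuadraticMap Cfsg.Agent.Helper13 Cfsg.Agent.Helper43 Cfsg.Agent.Helper5.OrthAut
open Cfsg.Agent.Helper16.OSemiAut

section generic

variable {F : Type*} [Field F] {ι : Type} [Fintype ι] [DecidableEq ι] (Q : (ι → F) → F)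

/-- `Theta` of a scalar multiple of a matrix map is `Phi` of the matrix. -/
theorem Theta_eq_Phi (L : GamO Q) (g : ↥(NO Q)) (c : F)
    (h : ∀ x, (L : Equiv.Perm (ι → F)) x = c • (((g : GL ι F) : Matrix ι ι F) *ᵥ x)) :
    Theta Q L = Phi Q g := by
  apply MulEquiv.ext
  intro t
  obtain ⟨s, rfl⟩ := QuotientGroup.mk_surjective t
  rw [Phi_mk]
  apply Theta_spec
  intro x
  rw [h, h, conjOm_apply, Matrix.mulVec_smul]
  congr 1
  rw [Matrix.mulVec_mulVec, Matrix.mulVec_mulVec, ← Units.val_mul, ← Units.val_mul]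
  congr 2
  group

end generic

section oddgen

variable {F : Type*} [Field F] {ι : Type} [Fintype ι] [DecidableEq ι]
  (Q : QuadraticForm F (ι → F))

/-- The image of `SO` is contained in the image of the linear semisimilarities. -/
theorem pso_le_map_Lin : Cfsg.psoAut F ⇑Q ≤ (Lin ⇑Q).map (Theta ⇑Q) := by
  rw [← fSO_range]
  rintro β ⟨s, rfl⟩
  have hs : (s : GL ι F) ∈ Cfsg.isometryGroup F ⇑Q := SOG_le_OG Q s.2
  have hpair : Cfsg.IsSemisimilarityPair (⇑Q) (s : GL ι F) (RingEquiv.refl F) := by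
    refine ⟨1, fun v => ?_⟩
    have := (mem_iso_iff (⇑Q) (s : GL ι F)).1 hs v
    simpa using this
  refine ⟨⟨pairL (s : GL ι F) (RingEquiv.refl F), pairL_mem (⇑Q) hpair⟩, ?_, ?_⟩
  · intro c x
    exact pairL_smul (s : GL ι F) (RingEquiv.refl F) c x
  · show Theta ⇑Q _ = Phi ⇑Q (Subgroup.inclusion (SOG_le_NO Q) s)
    apply Theta_eq_Phi (⇑Q) _ _ 1
    intro x
    rw [one_smul]
    rfl

variable (hQ : (polarBilin Q).Nondegenerate) (k : ℕ) (hcard : Fintype.card ι = 2 * k + 1)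
  (hQ0 : ∃ v : ι → F, Q v ≠ 0)

include hQ hcard hQ0 in
/-- In odd dimension every similarity is a scalar times a special isometry. -/
theorem map_Lin_le_pso : (Lin ⇑Q).map (Theta ⇑Q) ≤ Cfsg.psoAut F ⇑Q := by
  rintro β ⟨L, hL, rfl⟩
  have hι : Nonempty ι := by
    by_contra h
    rw [not_nonempty_iff] at h
    rw [Fintype.card_eq_zero] at hcard
    omega
  obtain ⟨i₀⟩ := hι
  have hlin' : ∀ (c : F) (x : ι → F),
      toAdd (⇑Q) L (c • x) = (RingEquiv.refl F) c • toAdd (⇑Q) L x := hL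
  set g : GL ι F := colGL (RingEquiv.refl F) (toAdd (⇑Q) L) hlin' with hgdef
  have hg : ∀ x, (L : Equiv.Perm (ι → F)) x = (g : Matrix ι ι F) *ᵥ x := by
    intro x
    have := colMat_mulVec (RingEquiv.refl F) (toAdd (⇑Q) L) hlin' x
    rw [hgdef, colGL_coe]
    exact this.symm
  -- the field automorphism of `L` is trivial
  have hsig : ∀ c : F, sig (⇑Q) L c = c := by
    intro c
    obtain ⟨x, hx⟩ := (L : Equiv.Perm (ι → F)).surjective (Pi.single i₀ 1)
    have h1 : toAdd (⇑Q) L (c • x) = sig (⇑Q) L c • toAdd (⇑Q) L x := sig_spec (⇑Q) L c x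
    have h2 : toAdd (⇑Q) L (c • x) = c • toAdd (⇑Q) L x := hL c x
    rw [h1, toAdd_apply, hx] at h2
    have h3 := congrFun h2 i₀
    simpa using h3
  have hsim : ∀ x, Q ((g : Matrix ι ι F) *ᵥ x) = (mu (⇑Q) L : F) * Q x := by
    intro x
    rw [← hg]
    have := mu_spec (⇑Q) L x
    rw [hsig, toAdd_apply] at this
    exact this
  have hgGO : g ∈ GO Q := ⟨mu (⇑Q) L, hsim⟩
  set gG : ↥(GO Q) := ⟨g, hgGO⟩ with hgG
  set ν : F := (mult Q gG : F) with hν
  have hν0 : ν ≠ 0 := Units.ne_zero _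
  have hdet := det_sq Q hQ gG
  rw [hcard] at hdet
  have hgm : gmat Q gG = (g : Matrix ι ι F) := rfl
  rw [hgm] at hdet
  set c : F := (g : Matrix ι ι F).det * (ν ^ k)⁻¹ with hc
  have hνk : ν ^ k ≠ 0 := pow_ne_zero _ hν0
  have hcc : c * c = ν := by
    rw [hc]
    field_simp
    rw [hdet]
    ring
  have hc0 : c ≠ 0 := by
    intro h
    rw [h, mul_zero] at hcc
    exact hν0 hcc.symm
  set cu : Fˣ := Units.mk0 c hc0 with hcu
  set s : GL ι F := (sclHom cu)⁻¹ * g with hs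
  have hsmv : ∀ x, (s : Matrix ι ι F) *ᵥ x = c⁻¹ • ((g : Matrix ι ι F) *ᵥ x) := by
    intro x
    rw [hs, Units.val_mul, ← Matrix.mulVec_mulVec, ← map_inv, sclHom_mulVec]
    simp [hcu]
  have hsSO : s ∈ SOG Q := by
    rw [mem_SOG_iff]
    constructor
    · show s ∈ Cfsg.isometryGroup F ⇑Q
      rw [mem_iso_iff]
      intro x
      rw [hsmv, QuadraticMap.map_smul, smul_eq_mul]
      have := mult_spec Q gG x
      rw [hgm] at this
      rw [this, ← hν, ← hcc]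
      field_simp
    · rw [hs, Units.val_mul, Matrix.det_mul, ← map_inv, sclHom_det, hcard]
      have hdg : (g : Matrix ι ι F).det = c * ν ^ k := by
        rw [hc]; field_simp
      rw [hdg]
      simp only [hcu, Units.val_inv_eq_inv_val, Units.val_mk0]
      rw [← hcc]
      have e : c⁻¹ ^ (2 * k + 1) * (c * (c * c) ^ k) = (c⁻¹ * c) ^ (2 * k + 1) := by
        have e1 : c * (c * c) ^ k = c ^ (2 * k + 1) := by
          rw [← pow_two, ← pow_mul, pow_succ]
          ring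
        rw [e1, ← mul_pow]
      rw [e, inv_mul_cancel₀ hc0, one_pow]
  have hL' : ∀ x, (L : Equiv.Perm (ι → F)) x =
      c • (((⟨s, SOG_le_NO Q hsSO⟩ : ↥(NO (⇑Q))) : GL ι F) : Matrix ι ι F) *ᵥ x := by
    intro x
    show _ = c • ((s : Matrix ι ι F) *ᵥ x)
    rw [hsmv, hg, smul_smul, mul_inv_cancel₀ hc0, one_smul]
  rw [Theta_eq_Phi (⇑Q) L ⟨s, SOG_le_NO Q hsSO⟩ c hL', ← fSO_range]
  exact ⟨⟨s, hsSO⟩, rfl⟩

variable (hperf : commutator ↥(Cfsg.Omega F ⇑Q) = ⊤)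
  (hcent : ∀ Z : Matrix ι ι F, (∀ s : ↥(Cfsg.Omega F ⇑Q), Z * omat (⇑Q) s = omat (⇑Q) s * Z) →
      ∃ c : F, Z = c • (1 : Matrix ι ι F))

include hperf hcent hQ hcard in
/-- In odd dimension `Inn(PΩ)` has index two in the image of `SO`. -/
theorem relIndex_inn_pso_odd (h2 : (2 : F) ≠ 0) (v : ι → F) (hv : Q v ≠ 0)
    (hidx : (Cfsg.Omega F ⇑Q).index = 4) :
    (Cfsg.Inn (Cfsg.POmega F ⇑Q)).relIndex (Cfsg.psoAut F ⇑Q) = 2 := by
  set ΩS : Subgroup ↥(SOG Q) := (OmGL (⇑Q)).subgroupOf (SOG Q) with hΩS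
  have hΩidx : ΩS.index = 2 := relIndex_OmGL_SOG Q hQ h2 v hv hidx
  have hrel : (Cfsg.Inn (Cfsg.POmega F ⇑Q)).relIndex (Cfsg.psoAut F ⇑Q) =
      (ΩS ⊔ (fSO Q).ker).index := by
    rw [← fSO_range, ← fSO_map_omega, MonoidHom.range_eq_map, Subgroup.relIndex_map_map,
      top_sup_eq, Subgroup.relIndex_top_right]
  rw [hrel]
  have hker : (fSO Q).ker = ⊥ := by
    rw [Subgroup.eq_bot_iff_forall]
    intro x hx
    rw [fSO_ker Q hperf hcent, Subgroup.mem_subgroupOf] at hx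
    rcases scalar_iso Q ⟨v, hv⟩ _ (SOG_le_OG Q x.2) hx with h | h
    · exact Subtype.ext h
    · exfalso
      have hdet := ((mem_SOG_iff Q _).1 x.2).2
      rw [h, Units.val_neg, Units.val_one, Matrix.det_neg, Matrix.det_one, hcard, mul_one,
        pow_succ, pow_mul] at hdet
      simp at hdet
      apply h2
      linear_combination -hdet
  rw [hker, sup_bot_eq, hΩidx]

end oddgen

section odd

variable {F : Type*} [Field F] [Fintype F]

theorem quadFormOdd_sigma (m : ℕ) (σ : F ≃+* F) (v : Unit ⊕ (Fin m ⊕ Fin m) → F) :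
    Cfsg.quadFormOdd m F (fun i => σ (v i)) = σ (Cfsg.quadFormOdd m F v) := by
  unfold Cfsg.quadFormOdd
  simp [map_add, map_pow, map_sum, map_mul]

/-- `Out(Ω_{2m+1}(q)) ≅ C₂ × C_f`, given that all automorphisms come from semisimilarities. -/
theorem out_odd_aux (hodd : Odd (Fintype.card F)) {m : ℕ} (hm : 3 ≤ m)
    (hgam : Cfsg.gammaPOmega F ⇑(stdOdd F m) = ⊤)
    {p f : ℕ} [Fact p.Prime] (hf : 1 ≤ f) (hF : Fintype.card F = p ^ f) :
    Nonempty (Cfsg.Out (Cfsg.POmega F ⇑(stdOdd F m)) ≃* Multiplicative (ZMod 2 × ZMod f)) := by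
  classical
  have h2 : (2 : F) ≠ 0 := Cfsg.Agent.Helper5.OrthAut.two_ne_zero_of_odd_card hodd
  have hfam := stdOdd_isHypFamily F m
  have hnd := stdOdd_nondegenerate F m h2
  have hcard : Fintype.card (Unit ⊕ (Fin m ⊕ Fin m)) = 2 * m + 1 := by simp; ring
  obtain ⟨v, hv⟩ := hQ0_of_hyp (stdOdd F m) hfam (by omega)
  have hperf := hperf_of_hyp (stdOdd F m) hnd _ _ hfam (by omega) (by rw [hcard]; omega)
  have hcent := hcent_of_hyp (stdOdd F m) hfam (by omega)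
    (Cfsg.Agent.Lead.POmegaCard.hspan_odd m)
  have hidx := Cfsg.Agent.Lead.POmegaCard.index_omega_odd h2 (stdOdd F m) hnd
    (by rw [hcard]; omega)
  have hmap : (Lin ⇑(stdOdd F m)).map (Theta ⇑(stdOdd F m)) =
      Cfsg.psoAut F ⇑(stdOdd F m) :=
    le_antisymm (map_Lin_le_pso (stdOdd F m) hnd m hcard ⟨v, hv⟩) (pso_le_map_Lin (stdOdd F m))
  have hQσ : ∀ (σ : F ≃+* F) (w : Unit ⊕ (Fin m ⊕ Fin m) → F),
      stdOdd F m (fun i => σ (w i)) = σ (stdOdd F m w) := by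
    intro σ w
    rw [stdOdd_apply, stdOdd_apply]
    exact quadFormOdd_sigma m σ w
  apply out_equiv (stdOdd F m) hnd _ _ hfam hm (by rw [hcard]; omega) hQσ hgam _ _ hf hF
  · rw [hmap]
    exact inn_le_psoAut (stdOdd F m)
  · rw [hmap]
    exact relIndex_inn_pso_odd (stdOdd F m) hnd m hcard hperf hcent h2 v hv hidx

/-- The same with the form written as `quadFormOdd`. -/
theorem out_odd (hodd : Odd (Fintype.card F)) {m : ℕ} (hm : 3 ≤ m)
    (hgam : Cfsg.gammaPOmega F (Cfsg.quadFormOdd m F) = ⊤)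
    {p f : ℕ} [Fact p.Prime] (hf : 1 ≤ f) (hF : Fintype.card F = p ^ f) :
    Nonempty (Cfsg.Out (Cfsg.POmega F (Cfsg.quadFormOdd m F)) ≃*
      Multiplicative (ZMod 2 × ZMod f)) := by
  have key : ∀ (Q' : (Unit ⊕ (Fin m ⊕ Fin m) → F) → F), Q' = Cfsg.quadFormOdd m F →
      Cfsg.gammaPOmega F Q' = ⊤ →
      Nonempty (Cfsg.Out (Cfsg.POmega F Q') ≃* Multiplicative (ZMod 2 × ZMod f)) →
      Nonempty (Cfsg.Out (Cfsg.POmega F (Cfsg.quadFormOdd m F)) ≃*
        Multiplicative (ZMod 2 × ZMod f)) := by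
    intro Q' hQ' _ h
    subst hQ'
    exact h
  have hgam' : Cfsg.gammaPOmega F ⇑(stdOdd F m) = ⊤ := by
    rw [coe_stdOdd]; exact hgam
  exact key _ (coe_stdOdd F m) hgam' (out_odd_aux hodd hm hgam' hf hF)

end odd

end Cfsg.Agent.Helper43.OGam
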