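import Mathlib
import Cfsg.Agent.Lib.Helper43.AnisoPlane

set_option autoImplicit false
set_option linter.unusedSectionVars false

/-!
# Field theory for the minus-type orthogonal groups in characteristic two

Powers of the Frobenius, the additive Hilbert 90 for the absolute trace, and the iterates of the
Frobenius `z ↦ z²` of the quadratic algebra `F[θ]/(θ² + aθ + b)` in coordinates.
-/

namespace Cfsg.Agent.Helper43.OMin

open Cfsg.Agent.Helper43

section field

variable {F : Type*} [Field F] [Fintype F]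

theorem pow_two_pow_card {f : ℕ} (hF : Fintype.card F = 2 ^ f) (c : F) : c ^ (2 ^ f) = c := by
  rw [← hF]; exact FiniteField.pow_card c

theorem pow_two_pow_mul {f : ℕ} (hF : Fintype.card F = 2 ^ f) (t : ℕ) (c : F) :
    c ^ (2 ^ (f * t)) = c := by
  induction t with
  | zero => simp
  | succ t ih => rw [Nat.mul_succ, pow_add, pow_mul, ih, pow_two_pow_card hF]

/-- If `c ↦ c ^ (2 ^ j)` is the identity of a field with `2 ^ f` elements then `f ∣ j`. -/
theorem dvd_of_pow_two_pow_eq {f : ℕ} (hf : 1 ≤ f) (hF : Fintype.card F = 2 ^ f) (j : ℕ)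
    (h : ∀ c : F, c ^ (2 ^ j) = c) : f ∣ j := by
  classical
  set r := j % f with hr
  have hj : j = f * (j / f) + r := (Nat.div_add_mod j f).symm
  have hrf : r < f := Nat.mod_lt _ (by omega)
  have h' : ∀ c : F, c ^ (2 ^ r) = c := by
    intro c
    have := h c
    rw [hj, pow_add, pow_mul, pow_two_pow_mul hF] at this
    exact this
  obtain ⟨g, hg⟩ := IsCyclic.exists_generator (α := Fˣ)
  have hord : orderOf g = 2 ^ f - 1 := by
    rw [orderOf_eq_card_of_forall_mem_zpowers hg, Nat.card_eq_fintype_card, Fintype.card_units, hF]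
  have hpos : 1 ≤ 2 ^ r := Nat.one_le_two_pow
  have h1 : g ^ (2 ^ r - 1) = 1 := by
    have h2 : g ^ (2 ^ r) = g := by
      apply Units.ext
      rw [Units.val_pow_eq_pow_val]
      exact h' _
    have h3 : g ^ (2 ^ r - 1) * g = g := by
      rw [← pow_succ, Nat.sub_add_cancel hpos, h2]
    exact mul_eq_right.mp h3
  have hdvd : 2 ^ f - 1 ∣ 2 ^ r - 1 := hord ▸ orderOf_dvd_of_pow_eq_one h1
  have hlt : 2 ^ r < 2 ^ f := Nat.pow_lt_pow_right (by norm_num) hrf
  have hz : 2 ^ r - 1 = 0 := Nat.eq_zero_of_dvd_of_lt hdvd (by omega)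
  have hr0 : r = 0 := by
    by_contra hne
    have : 2 ^ 1 ≤ 2 ^ r := Nat.pow_le_pow_right (by norm_num) (by omega)
    omega
  exact Nat.dvd_of_mod_eq_zero (hr ▸ hr0)

/-- Every automorphism of a finite field of characteristic two is a power of the Frobenius. -/
theorem exists_pow_of_ringEquiv [CharP F 2] (σ : F ≃+* F) : ∃ n : ℕ, ∀ c, σ c = c ^ (2 ^ n) := by
  let _ : Algebra (ZMod 2) F := ZMod.algebra F 2
  let σ' : F ≃ₐ[ZMod 2] F := AlgEquiv.ofRingEquiv (f := σ) (fun x => by
    have h : (σ : F →+* F).comp (algebraMap (ZMod 2) F) = algebraMap (ZMod 2) F :=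
      Subsingleton.elim _ _
    exact DFunLike.congr_fun h x)
  obtain ⟨n, hn⟩ := (FiniteField.bijective_frobeniusAlgEquivOfAlgebraic_pow (ZMod 2) F).2 σ'
  refine ⟨n.1, fun c => ?_⟩
  have h1 : σ' c = (FiniteField.frobeniusAlgEquivOfAlgebraic (ZMod 2) F ^ n.1) c := by
    rw [← hn]
  have h2 : σ' c = σ c := rfl
  rw [← h2, h1, AlgEquiv.coe_pow, FiniteField.coe_frobeniusAlgEquivOfAlgebraic_iterate, ZMod.card]

end field

section trace

variable {F : Type*} [Field F] [Fintype F] [CharP F 2]

theorem two_eq_zero' : (2 : F) = 0 := by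
  have := CharP.cast_eq_zero F 2
  exact_mod_cast this

theorem add_self' (x : F) : x + x = 0 := by
  have : x + x = 2 * x := by ring
  rw [this, two_eq_zero', zero_mul]

theorem add_pow_two_pow (x y : F) (i : ℕ) : (x + y) ^ (2 ^ i) = x ^ (2 ^ i) + y ^ (2 ^ i) :=
  add_pow_char_pow x y 2 i

/-- The absolute trace. -/
def tr (f : ℕ) (x : F) : F := ∑ i ∈ Finset.range f, x ^ (2 ^ i)

theorem tr_add (f : ℕ) (x y : F) : tr f (x + y) = tr f x + tr f y := by
  unfold tr
  rw [← Finset.sum_add_distrib]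
  exact Finset.sum_congr rfl fun i _ => add_pow_two_pow x y i

theorem tr_sq (f : ℕ) (x : F) : tr f x ^ 2 = ∑ i ∈ Finset.range f, x ^ (2 ^ (i + 1)) := by
  unfold tr
  induction f with
  | zero => simp
  | succ n ih =>
    rw [Finset.sum_range_succ, Finset.sum_range_succ, ← ih]
    have := add_pow_two_pow (∑ i ∈ Finset.range n, x ^ (2 ^ i)) (x ^ (2 ^ n)) 1
    rw [pow_one] at this
    rw [this]
    congr 1
    rw [← pow_mul, ← pow_succ]

theorem tr_sq_add {f : ℕ} (hF : Fintype.card F = 2 ^ f) (x : F) : tr f x ^ 2 = tr f x := by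
  rw [tr_sq]
  unfold tr
  have h1 := Finset.sum_range_succ (fun i => x ^ (2 ^ i)) f
  have h2 := Finset.sum_range_succ' (fun i => x ^ (2 ^ i)) f
  rw [h1] at h2
  simp only [pow_zero, pow_one] at h2
  rw [pow_two_pow_card hF] at h2
  exact (add_right_cancel h2).symm

theorem tr_wp {f : ℕ} (hF : Fintype.card F = 2 ^ f) (y : F) : tr f (y ^ 2 + y) = 0 := by
  rw [tr_add]
  have h : tr f (y ^ 2) = tr f y ^ 2 := by
    rw [tr_sq]
    unfold tr
    exact Finset.sum_congr rfl fun i _ => by rw [← pow_mul, pow_succ, mul_comm]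
  rw [h, tr_sq_add hF]
  exact add_self' _

theorem tr_ne_zero {f : ℕ} (hf : 1 ≤ f) (hF : Fintype.card F = 2 ^ f) : ∃ γ : F, tr f γ ≠ 0 := by
  classical
  by_contra hcon
  push Not at hcon
  set P : Polynomial F := ∑ i ∈ Finset.range f, (Polynomial.X : Polynomial F) ^ (2 ^ i) with hP
  have heval : ∀ γ : F, P.eval γ = 0 := by
    intro γ
    rw [hP, Polynomial.eval_finsetSum]
    simp only [Polynomial.eval_pow, Polynomial.eval_X]
    exact hcon γ
  have hdeg : P.natDegree < Fintype.card F := by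
    have hle : P.natDegree ≤ 2 ^ (f - 1) := by
      rw [hP]
      apply Polynomial.natDegree_sum_le_of_forall_le
      intro i hi
      rw [Finset.mem_range] at hi
      refine le_trans (Polynomial.natDegree_X_pow_le _) ?_
      exact Nat.pow_le_pow_right (by norm_num) (by omega)
    have hlt : 2 ^ (f - 1) < 2 ^ f := Nat.pow_lt_pow_right (by norm_num) (by omega)
    rw [hF]
    omega
  have hzero : P = 0 :=
    Polynomial.eq_zero_of_natDegree_lt_card_of_eval_eq_zero' P Finset.univ
      (fun γ _ => heval γ) (by rw [Finset.card_univ]; exact hdeg)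
  have hcoeff : P.coeff 1 = 1 := by
    rw [hP, Polynomial.finsetSum_coeff]
    simp only [Polynomial.coeff_X_pow]
    rw [Finset.sum_eq_single 0]
    · simp
    · intro i _ hi
      have : 1 ≠ 2 ^ i := by
        intro h1
        have : 2 ^ 1 ≤ 2 ^ i := Nat.pow_le_pow_right (by norm_num) (by omega)
        omega
      rw [if_neg this]
    · intro h0
      exfalso
      apply h0
      rw [Finset.mem_range]
      omega
  rw [hzero, Polynomial.coeff_zero] at hcoeff
  exact zero_ne_one hcoeff

/-- Additive Hilbert 90 for the absolute trace in characteristic two. -/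
theorem trace_AS {f : ℕ} (hf : 1 ≤ f) (hF : Fintype.card F = 2 ^ f) (β : F)
    (h : tr f β = 0) : ∃ y : F, y ^ 2 + y = β := by
  by_contra hno
  push Not at hno
  obtain ⟨γ, hγ⟩ := tr_ne_zero (F := F) hf hF
  apply hγ
  by_cases hγ' : ∃ y : F, y ^ 2 + y = γ
  · obtain ⟨y, rfl⟩ := hγ'
    exact tr_wp hF y
  · push Not at hγ'
    obtain ⟨x, hx⟩ := exists_artin_schreier (F := F) two_eq_zero' 1 one_ne_zero γ β
      (fun x => by rw [one_mul]; exact hγ' x) (fun x => by rw [one_mul]; exact hno x)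
    rw [one_mul] at hx
    have h1 := tr_wp hF x
    rw [hx, tr_add, h, add_zero] at h1
    exact h1

end trace

section frobK

variable {F : Type*} [Field F] [Fintype F] [CharP F 2]

/-- The Frobenius `z ↦ z²` of `F[θ]/(θ² + aθ + b)` in the coordinates `z = z₁ + z₂ θ`. -/
def frobK (a b : F) (z : F × F) : F × F := (z.1 ^ 2 + b * z.2 ^ 2, a * z.2 ^ 2)

/-- The coordinates of `θ ^ (2 ^ j)`. -/
def cd (a b : F) (j : ℕ) : F × F := (frobK a b)^[j] (0, 1)

theorem cd_zero (a b : F) : cd a b 0 = (0, 1) := rfl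

theorem cd_succ (a b : F) (j : ℕ) : cd a b (j + 1) = frobK a b (cd a b j) := by
  unfold cd
  rw [Function.iterate_succ_apply']

theorem frobK_iterate (a b : F) (j : ℕ) (z : F × F) :
    (frobK a b)^[j] z =
      (z.1 ^ (2 ^ j) + (cd a b j).1 * z.2 ^ (2 ^ j), (cd a b j).2 * z.2 ^ (2 ^ j)) := by
  induction j with
  | zero => simp [cd_zero]
  | succ j ih =>
    rw [Function.iterate_succ_apply', ih, cd_succ]
    have h2 : (2 : F) = 0 := two_eq_zero'
    ext
    · simp only [frobK]
      rw [pow_succ 2 j, pow_mul, pow_mul]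
      linear_combination (z.1 ^ 2 ^ j * (cd a b j).1 * z.2 ^ 2 ^ j) * h2
    · simp only [frobK]
      rw [pow_succ 2 j, pow_mul]
      ring

theorem cd_snd (a b : F) (j : ℕ) : (cd a b j).2 * a = a ^ (2 ^ j) := by
  induction j with
  | zero => simp [cd_zero]
  | succ j ih =>
    rw [cd_succ]
    simp only [frobK]
    rw [pow_succ 2 j, pow_mul, ← ih]
    ring

theorem cd_fst (a b : F) (ha : a ≠ 0) (j : ℕ) :
    (cd a b j).1 = a ^ (2 ^ j) * tr j (b * a⁻¹ ^ 2) := by
  induction j with
  | zero => simp [cd_zero, tr]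
  | succ j ih =>
    rw [cd_succ]
    simp only [frobK]
    have hd : (cd a b j).2 = a ^ (2 ^ j) * a⁻¹ := by
      rw [← cd_snd a b j]
      field_simp
    have htr : tr (j + 1) (b * a⁻¹ ^ 2) = tr j (b * a⁻¹ ^ 2) ^ 2 + b * a⁻¹ ^ 2 := by
      rw [tr_sq]
      unfold tr
      rw [Finset.sum_range_succ']
      simp
    rw [ih, hd, htr, pow_succ 2 j, pow_mul]
    ring

/-- The `f`-th iterate of the Frobenius of the quadratic extension is the conjugation. -/
theorem frobK_iterate_card {f : ℕ} (hf : 1 ≤ f) (hF : Fintype.card F = 2 ^ f) (a b : F)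
    (hab : ∀ z₁ z₂ : F, z₁ ^ 2 + a * z₁ * z₂ + b * z₂ ^ 2 = 0 → z₁ = 0 ∧ z₂ = 0) (z : F × F) :
    (frobK a b)^[f] z = (z.1 + a * z.2, z.2) := by
  have h2 : (2 : F) = 0 := two_eq_zero'
  have ha : a ≠ 0 := by
    have := AnisoPair.disc_ne_zero' (F := F) (a := a) (b := b) hab
    intro h0
    apply this
    rw [h0]
    linear_combination (-2 * b) * h2
  have hd : (cd a b f).2 = 1 := by
    have := cd_snd a b f
    rw [pow_two_pow_card hF] at this
    exact mul_right_cancel₀ ha (by rw [this, one_mul])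
  set β := b * a⁻¹ ^ 2 with hβ
  have he : tr f β = 1 := by
    have hsq := tr_sq_add hF β
    have : tr f β * (tr f β - 1) = 0 := by linear_combination hsq
    rcases mul_eq_zero.mp this with h0 | h1
    · exfalso
      obtain ⟨y, hy⟩ := trace_AS hf hF β h0
      have := hab (a * y) 1 (by
        have hb : b = a ^ 2 * β := by rw [hβ]; field_simp
        rw [hb, ← hy]
        linear_combination (a ^ 2 * y ^ 2 + a ^ 2 * y) * h2)
      exact one_ne_zero this.2
    · exact sub_eq_zero.mp h1
  have hc : (cd a b f).1 = a := by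
    rw [cd_fst a b ha, ← hβ, he, mul_one, pow_two_pow_card hF]
  rw [frobK_iterate, hc, hd, pow_two_pow_card hF, pow_two_pow_card hF, one_mul]

theorem frobK_smul (a b : F) (c : F) (z : F × F) :
    frobK a b (c • z) = c ^ 2 • frobK a b z := by
  ext
  · simp only [frobK, Prod.smul_fst, Prod.smul_snd, smul_eq_mul]; ring
  · simp only [frobK, Prod.smul_fst, Prod.smul_snd, smul_eq_mul]; ring

theorem frobK_add (a b : F) (z w : F × F) :
    frobK a b (z + w) = frobK a b z + frobK a b w := by
  have h2 : (2 : F) = 0 := two_eq_zero'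
  ext
  · simp only [frobK, Prod.fst_add, Prod.snd_add]
    linear_combination (z.1 * w.1 + b * z.2 * w.2) * h2
  · simp only [frobK, Prod.fst_add, Prod.snd_add]
    linear_combination (a * z.2 * w.2) * h2

theorem nrm_frobK (a b : F) (z : F × F) : nrm a b (frobK a b z) = nrm a b z ^ 2 := by
  have h2 : (2 : F) = 0 := two_eq_zero'
  simp only [nrm, frobK]
  linear_combination (a ^ 2 * b * z.2 ^ 4 - a * z.1 ^ 3 * z.2 - a * b * z.1 * z.2 ^ 3) * h2

end frobK

end Cfsg.Agent.Helper43.OMin
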