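import Mathlib
import Cfsg.Agent.Lib.Helper43.OMin1
import Cfsg.Agent.Lib.Helper43.OrthMinus
import Cfsg.Agent.Lib.Helper43.OGam1
import Cfsg.Agent.Lib.Helper13.QuadMat

set_option autoImplicit false
set_option linter.unusedSectionVars false

/-!
# The Frobenius-semilinear generator for the minus-type form in characteristic two
-/

namespace Cfsg.Agent.Helper43.OMin

open Matrix QuadraticMap Cfsg.Agent.Helper43 Cfsg.Agent.Helper43.OGam

section basic

variable {F : Type*} [Field F] {k : ℕ}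

/-- The plane part of a vector. -/
def zp (x : (Fin k ⊕ Fin k) ⊕ Fin 2 → F) : F × F := (x (Sum.inr 0), x (Sum.inr 1))

/-- Assemble a vector from its hyperbolic and plane parts. -/
def mk2 (h : Fin k ⊕ Fin k → F) (z : F × F) : (Fin k ⊕ Fin k) ⊕ Fin 2 → F :=
  Sum.elim h ![z.1, z.2]

theorem mk2_inl (h : Fin k ⊕ Fin k → F) (z : F × F) (i : Fin k ⊕ Fin k) :
    mk2 h z (Sum.inl i) = h i := rfl

theorem mk2_zero (h : Fin k ⊕ Fin k → F) (z : F × F) : mk2 h z (Sum.inr 0) = z.1 := rfl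

theorem mk2_one (h : Fin k ⊕ Fin k → F) (z : F × F) : mk2 h z (Sum.inr 1) = z.2 := rfl

theorem zp_mk2 (h : Fin k ⊕ Fin k → F) (z : F × F) : zp (mk2 h z) = z := rfl

theorem mk2_eta (x : (Fin k ⊕ Fin k) ⊕ Fin 2 → F) :
    mk2 (fun i => x (Sum.inl i)) (zp x) = x := by
  funext i
  rcases i with i | t
  · rfl
  · fin_cases t
    · rfl
    · rfl

theorem mk2_ext {x y : (Fin k ⊕ Fin k) ⊕ Fin 2 → F} (h1 : ∀ i, x (Sum.inl i) = y (Sum.inl i))
    (h2 : zp x = zp y) : x = y := by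
  rw [← mk2_eta x, ← mk2_eta y, h2]
  congr 1
  funext i
  exact h1 i

theorem zp_add (x y : (Fin k ⊕ Fin k) ⊕ Fin 2 → F) : zp (x + y) = zp x + zp y := rfl

theorem zp_smul (c : F) (x : (Fin k ⊕ Fin k) ⊕ Fin 2 → F) : zp (c • x) = c • zp x := rfl

theorem stdMinus_eq (a b : F) (x : (Fin k ⊕ Fin k) ⊕ Fin 2 → F) :
    stdMinus F k a b x =
      (∑ i, x (Sum.inl (Sum.inl i)) * x (Sum.inl (Sum.inr i))) + nrm a b (zp x) := by
  rw [stdMinus_apply]
  rfl

/-- The vector `v` with `Q v = 1` in the anisotropic plane. -/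
def v0 : (Fin k ⊕ Fin k) ⊕ Fin 2 → F := Pi.single (Sum.inr 0) 1

theorem stdMinus_v0 (a b : F) : stdMinus F k a b (v0 (k := k)) = 1 :=
  stdMinus_single_zero F k a b

end basic

section gen

variable {F : Type*} [Field F] [Fintype F] [CharP F 2] {k : ℕ} (a b : F)

/-- The generator as a function. -/
def genFun (x : (Fin k ⊕ Fin k) ⊕ Fin 2 → F) : (Fin k ⊕ Fin k) ⊕ Fin 2 → F :=
  mk2 (fun i => x (Sum.inl i) ^ 2) (frobK a b (zp x))

theorem genFun_iterate (j : ℕ) (x : (Fin k ⊕ Fin k) ⊕ Fin 2 → F) :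
    (genFun a b)^[j] x = mk2 (fun i => x (Sum.inl i) ^ (2 ^ j)) ((frobK a b)^[j] (zp x)) := by
  induction j with
  | zero =>
    simp only [Function.iterate_zero, id_eq, pow_zero, pow_one]
    exact (mk2_eta x).symm
  | succ j ih =>
    rw [Function.iterate_succ_apply', ih, Function.iterate_succ_apply']
    unfold genFun
    rw [zp_mk2]
    congr 1
    funext i
    rw [mk2_inl, ← pow_mul, ← pow_succ]

theorem genFun_add (x y : (Fin k ⊕ Fin k) ⊕ Fin 2 → F) :
    genFun a b (x + y) = genFun a b x + genFun a b y := by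
  apply mk2_ext
  · intro i
    show (x (Sum.inl i) + y (Sum.inl i)) ^ 2 = x (Sum.inl i) ^ 2 + y (Sum.inl i) ^ 2
    have := add_pow_two_pow (x (Sum.inl i)) (y (Sum.inl i)) 1
    rwa [pow_one] at this
  · rw [zp_add]
    unfold genFun
    rw [zp_mk2, zp_mk2, zp_mk2, zp_add, frobK_add]

theorem genFun_smul (c : F) (x : (Fin k ⊕ Fin k) ⊕ Fin 2 → F) :
    genFun a b (c • x) = c ^ 2 • genFun a b x := by
  apply mk2_ext
  · intro i
    show (c * x (Sum.inl i)) ^ 2 = c ^ 2 * x (Sum.inl i) ^ 2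
    ring
  · rw [zp_smul]
    unfold genFun
    rw [zp_mk2, zp_mk2, zp_smul, frobK_smul]

theorem stdMinus_genFun (x : (Fin k ⊕ Fin k) ⊕ Fin 2 → F) :
    stdMinus F k a b (genFun a b x) = stdMinus F k a b x ^ 2 := by
  rw [stdMinus_eq, stdMinus_eq]
  have h := add_pow_two_pow (∑ i, x (Sum.inl (Sum.inl i)) * x (Sum.inl (Sum.inr i)))
    (nrm a b (zp x)) 1
  rw [pow_one] at h
  rw [h]
  unfold genFun
  rw [zp_mk2, nrm_frobK]
  congr 1
  have hs := sum_pow_char 2 (Finset.univ : Finset (Fin k))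
    (fun i => x (Sum.inl (Sum.inl i)) * x (Sum.inl (Sum.inr i)))
  rw [hs]
  apply Finset.sum_congr rfl
  intro i _
  rw [mk2_inl, mk2_inl]
  ring

theorem genFun_injective (ha : a ≠ 0) : Function.Injective (genFun (k := k) a b) := by
  have hsq : ∀ u w : F, u ^ 2 = w ^ 2 → u = w := by
    intro u w h
    have := frobenius_inj F 2
    apply this
    rw [frobenius_def, frobenius_def]
    exact h
  intro x y hxy
  apply mk2_ext
  · intro i
    have := congrFun hxy (Sum.inl i)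
    exact hsq _ _ this
  · have h0 := congrFun hxy (Sum.inr 0)
    have h1 := congrFun hxy (Sum.inr 1)
    unfold genFun at h0 h1
    rw [mk2_zero, mk2_zero] at h0
    rw [mk2_one, mk2_one] at h1
    simp only [frobK] at h0 h1
    have e2 : (zp x).2 = (zp y).2 := hsq _ _ (mul_left_cancel₀ ha h1)
    rw [e2] at h0
    have e1 : (zp x).1 = (zp y).1 := hsq _ _ (add_right_cancel h0)
    exact Prod.ext e1 e2

/-- The generator as a permutation. -/
noncomputable def genPerm (ha : a ≠ 0) : Equiv.Perm ((Fin k ⊕ Fin k) ⊕ Fin 2 → F) :=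
  Equiv.ofBijective (genFun a b) (Finite.injective_iff_bijective.mp (genFun_injective a b ha))

theorem genPerm_apply (ha : a ≠ 0) (x : (Fin k ⊕ Fin k) ⊕ Fin 2 → F) :
    genPerm a b ha x = genFun a b x := rfl

theorem genPerm_pow_apply (ha : a ≠ 0) (j : ℕ) (x : (Fin k ⊕ Fin k) ⊕ Fin 2 → F) :
    (genPerm a b ha ^ j) x = (genFun a b)^[j] x := by
  rw [← Equiv.Perm.iterate_eq_pow]
  rfl

theorem genPerm_mem (ha : a ≠ 0) : genPerm (k := k) a b ha ∈ GamO ⇑(stdMinus F k a b) := by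
  refine ⟨frobeniusEquiv F 2, 1, ?_, ?_, ?_⟩
  · intro x y
    exact genFun_add a b x y
  · intro c x
    rw [genPerm_apply, genPerm_apply, genFun_smul, frobeniusEquiv_apply, frobenius_def]
  · intro x
    rw [genPerm_apply, Units.val_one, one_mul, frobeniusEquiv_apply, frobenius_def]
    exact stdMinus_genFun a b x

/-- The generator as a semisimilarity. -/
noncomputable def gen (ha : a ≠ 0) : GamO ⇑(stdMinus F k a b) :=
  ⟨genPerm a b ha, genPerm_mem a b ha⟩

theorem gen_pow_apply (ha : a ≠ 0) (j : ℕ) (x : (Fin k ⊕ Fin k) ⊕ Fin 2 → F) :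
    ((gen (k := k) a b ha ^ j : GamO ⇑(stdMinus F k a b)) :
      Equiv.Perm ((Fin k ⊕ Fin k) ⊕ Fin 2 → F)) x = (genFun a b)^[j] x := by
  rw [Subgroup.coe_pow]
  exact genPerm_pow_apply a b ha j x

theorem gen_pow_smul (ha : a ≠ 0) (j : ℕ) (c : F) (x : (Fin k ⊕ Fin k) ⊕ Fin 2 → F) :
    ((gen (k := k) a b ha ^ j : GamO ⇑(stdMinus F k a b)) :
      Equiv.Perm ((Fin k ⊕ Fin k) ⊕ Fin 2 → F)) (c • x) =
    c ^ (2 ^ j) • ((gen (k := k) a b ha ^ j : GamO ⇑(stdMinus F k a b)) :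
      Equiv.Perm ((Fin k ⊕ Fin k) ⊕ Fin 2 → F)) x := by
  rw [gen_pow_apply, gen_pow_apply]
  induction j with
  | zero => simp
  | succ j ih =>
    rw [Function.iterate_succ_apply', Function.iterate_succ_apply', ih, genFun_smul, ← pow_mul,
      ← pow_succ]

theorem refl_v0_apply (x : (Fin k ⊕ Fin k) ⊕ Fin 2 → F) :
    Cfsg.reflectionMatrix (⇑(stdMinus F k a b)) v0 *ᵥ x =
      mk2 (fun i => x (Sum.inl i)) ((zp x).1 + a * (zp x).2, (zp x).2) := by
  have h2 : (2 : F) = 0 := two_eq_zero'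
  rw [Cfsg.Agent.Helper13.reflectionMatrix_mulVec, stdMinus_v0, inv_one, one_mul]
  have hp : polar (⇑(stdMinus F k a b)) v0 x = a * x (Sum.inr 1) := by
    rw [polar_stdMinus]
    simp only [v0, Pi.single_apply]
    simp [h2]
  rw [hp]
  apply mk2_ext
  · intro i
    simp [v0, mk2_inl]
  · rw [zp_mk2]
    ext
    · simp only [zp, v0, Pi.sub_apply, Pi.smul_apply, Pi.single_eq_same, smul_eq_mul, mul_one]
      linear_combination (-a * x (Sum.inr 1)) * h2
    · simp [zp, v0]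

/-- The `f`-th power of the generator is the orthogonal transvection in `v0`. -/
theorem gen_pow_card {f : ℕ} (hf : 1 ≤ f) (hF : Fintype.card F = 2 ^ f)
    (hab : ∀ z₁ z₂ : F, z₁ ^ 2 + a * z₁ * z₂ + b * z₂ ^ 2 = 0 → z₁ = 0 ∧ z₂ = 0) (ha : a ≠ 0)
    (x : (Fin k ⊕ Fin k) ⊕ Fin 2 → F) :
    ((gen (k := k) a b ha ^ f : GamO ⇑(stdMinus F k a b)) :
      Equiv.Perm ((Fin k ⊕ Fin k) ⊕ Fin 2 → F)) x =
    Cfsg.reflectionMatrix (⇑(stdMinus F k a b)) v0 *ᵥ x := by
  rw [gen_pow_apply, genFun_iterate, frobK_iterate_card hf hF a b hab, refl_v0_apply]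
  congr 1
  funext i
  exact pow_two_pow_card hF _

end gen

end Cfsg.Agent.Helper43.OMin
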