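import Mathlib
import Cfsg.Agent.S0789

set_option autoImplicit false
set_option linter.unusedSectionVars false

/-!
# A reflection (orthogonal transvection) does not lie in `Ω`
-/

namespace Cfsg.Agent.Helper43.OMin

open Matrix QuadraticMap Cfsg.Agent.S0789
open scoped commutatorElement

section refl

variable {F : Type*} [Field F] [Fintype F] {ι : Type} [Fintype ι] [DecidableEq ι]

/-- `Ω(Q)` consists of products of an even number of reflections. -/
theorem omega_le_Rplus (Q : QuadraticForm F (ι → F)) (hQ : (polarBilin Q).Nondegenerate)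
    (hexc : Fintype.card F ≠ 2 ∨ Fintype.card ι ≠ 4) :
    Cfsg.Omega F ⇑Q ≤ Rplus Q := by
  show commutator ↥(Cfsg.isometryGroup F ⇑Q) ≤ Rplus Q
  rw [commutator_def, Subgroup.commutator_le]
  intro g _ h _
  obtain ⟨lg, hlg, hMg⟩ := Cfsg.Agent.S0786.matrix_cd_all Q hQ hexc
    ((g : Matrix.GeneralLinearGroup ι F) : Matrix ι ι F) (fun u => g.2 u u)
  obtain ⟨lh, hlh, hMh⟩ := Cfsg.Agent.S0786.matrix_cd_all Q hQ hexc
    ((h : Matrix.GeneralLinearGroup ι F) : Matrix ι ι F) (fun u => h.2 u u)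
  -- inverses
  have hinv : ∀ (x : ↥(Cfsg.isometryGroup F ⇑Q)) (l : List (ι → F)), (∀ w ∈ l, Q w ≠ 0) →
      ((x : Matrix.GeneralLinearGroup ι F) : Matrix ι ι F) =
        (l.map (Cfsg.reflectionMatrix (⇑Q))).prod →
      ((x⁻¹ : ↥(Cfsg.isometryGroup F ⇑Q)) : Matrix.GeneralLinearGroup ι F).1 =
        (l.reverse.map (Cfsg.reflectionMatrix (⇑Q))).prod := by
    intro x l hl hM
    obtain ⟨x', hx'⟩ := Cfsg.Agent.S2635.exists_G_of_list Q l.reverse
      (fun w hw => hl w (List.mem_reverse.mp hw))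
    have hxinv : x⁻¹ = x' := by
      apply inv_eq_of_mul_eq_one_right
      apply Subtype.ext
      apply Units.ext
      rw [Subgroup.coe_mul, Units.val_mul, hM, hx', Cfsg.Agent.S2635.list_prod_mul_reverse Q l hl]
      rfl
    rw [hxinv, hx']
  have hgi := hinv g lg hlg hMg
  have hhi := hinv h lh hlh hMh
  refine (mem_Rplus_iff Q hQ ⁅g, h⁆ (lg ++ lh ++ lg.reverse ++ lh.reverse) ?_ ?_).2 ?_
  · intro w hw
    simp only [List.mem_append, List.mem_reverse] at hw
    rcases hw with ((hw | hw) | hw) | hw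
    · exact hlg w hw
    · exact hlh w hw
    · exact hlg w hw
    · exact hlh w hw
  · rw [commutatorElement_def]
    simp only [Subgroup.coe_mul, Units.val_mul, List.map_append, List.prod_append]
    rw [hMg, hMh, hgi, hhi]
  · simp only [List.length_append, List.length_reverse]
    exact ⟨lg.length + lh.length, by ring⟩

/-- A reflection is not in `Ω(Q)`. -/
theorem refl_not_mem_omega (Q : QuadraticForm F (ι → F)) (hQ : (polarBilin Q).Nondegenerate)
    (hexc : Fintype.card F ≠ 2 ∨ Fintype.card ι ≠ 4) (v : ι → F) (hv : Q v ≠ 0)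
    (g : ↥(Cfsg.isometryGroup F ⇑Q))
    (hg : ((g : Matrix.GeneralLinearGroup ι F) : Matrix ι ι F) = Cfsg.reflectionMatrix (⇑Q) v) :
    g ∉ Cfsg.Omega F ⇑Q := by
  intro hmem
  have h1 := omega_le_Rplus Q hQ hexc hmem
  have h2 := (mem_Rplus_iff Q hQ g [v] (by
    intro w hw
    rw [List.mem_singleton] at hw
    rw [hw]; exact hv) (by simp [hg])).1 h1
  simp at h2

end refl

end Cfsg.Agent.Helper43.OMin
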