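import Mathlib
import Cfsg.Agent.Lib.Helper43.OGam5
import Cfsg.Agent.Lib.Helper43.OMin2
import Cfsg.Agent.Lib.Helper43.OMin3

set_option autoImplicit false
set_option linter.unusedSectionVars false

/-!
# `Out(PΩ⁻_{2m}(2^f))` is cyclic of order `2f`, given `Aut = PΓO`
-/

namespace Cfsg.Agent.Helper43.OMin

open Matrix QuadraticMap Cfsg.Agent.Helper13 Cfsg.Agent.Helper43 Cfsg.Agent.Helper43.OGam
  Cfsg.Agent.Helper5.OrthAut Cfsg.Agent.Helper16.OSemiAut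

section abstract

/-- A quotient generated by one class, with the order of the class pinned down. -/
theorem cyc {G : Type*} [Group G] (N : Subgroup G) [N.Normal] (x : G) (f : ℕ)
    (D : Subgroup G)
    (ha : ∀ β : G, ∃ i : ℕ, β * x ^ i ∈ D)
    (hb : ∀ d ∈ D, d ∈ N ∨ d * x ^ f ∈ N)
    (hc : ∀ j : ℕ, x ^ j ∈ N → 2 * f ∣ j)
    (hd : x ^ (2 * f) ∈ N) :
    IsCyclic (G ⧸ N) ∧ Nat.card (G ⧸ N) = 2 * f := by
  set y : G ⧸ N := QuotientGroup.mk x with hy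
  have hgen : ∀ t : G ⧸ N, t ∈ Subgroup.zpowers y := by
    intro t
    obtain ⟨β, rfl⟩ := QuotientGroup.mk_surjective t
    obtain ⟨i, hi⟩ := ha β
    rcases hb _ hi with h | h
    · have h1 : (QuotientGroup.mk β : G ⧸ N) * y ^ i = 1 := by
        rw [hy, ← QuotientGroup.mk_pow, ← QuotientGroup.mk_mul]
        exact (QuotientGroup.eq_one_iff _).2 h
      have h2 : (QuotientGroup.mk β : G ⧸ N) = (y ^ i)⁻¹ := eq_inv_of_mul_eq_one_left h1
      rw [h2]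
      exact Subgroup.inv_mem _ (Subgroup.pow_mem _ (Subgroup.mem_zpowers y) i)
    · have h1 : (QuotientGroup.mk β : G ⧸ N) * (y ^ i * y ^ f) = 1 := by
        rw [hy, ← QuotientGroup.mk_pow, ← QuotientGroup.mk_pow, ← QuotientGroup.mk_mul,
          ← QuotientGroup.mk_mul, ← mul_assoc]
        exact (QuotientGroup.eq_one_iff _).2 h
      have h2 : (QuotientGroup.mk β : G ⧸ N) = (y ^ i * y ^ f)⁻¹ := eq_inv_of_mul_eq_one_left h1
      rw [h2]
      exact Subgroup.inv_mem _ (Subgroup.mul_mem _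
        (Subgroup.pow_mem _ (Subgroup.mem_zpowers y) i)
        (Subgroup.pow_mem _ (Subgroup.mem_zpowers y) f))
  have hord : orderOf y = 2 * f := by
    apply Nat.dvd_antisymm
    · apply orderOf_dvd_of_pow_eq_one
      rw [hy, ← QuotientGroup.mk_pow]
      exact (QuotientGroup.eq_one_iff _).2 hd
    · apply hc
      have := pow_orderOf_eq_one y
      rw [hy, ← QuotientGroup.mk_pow] at this
      exact (QuotientGroup.eq_one_iff _).1 this
  refine ⟨⟨⟨y, hgen⟩⟩, ?_⟩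
  rw [← orderOf_eq_card_of_forall_mem_zpowers hgen, hord]

end abstract

section generic

variable {F : Type*} [Field F] {ι : Type} [Fintype ι] [DecidableEq ι] (Q : (ι → F) → F)

/-- An isometry as a semisimilarity. -/
def isoGam (g : ↥(Cfsg.isometryGroup F Q)) : GamO Q :=
  ⟨pairL (g : GL ι F) (RingEquiv.refl F), pairL_mem Q ⟨1, fun v => by
    have := g.2 v v
    simpa using this⟩⟩

theorem isoGam_apply (g : ↥(Cfsg.isometryGroup F Q)) (x : ι → F) :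
    (isoGam Q g : Equiv.Perm (ι → F)) x = ((g : GL ι F) : Matrix ι ι F) *ᵥ x := rfl

/-- `Theta` of a scalar multiple of an element of `Ω` is an inner automorphism. -/
theorem Theta_of_omega (L : GamO Q) (s : ↥(Cfsg.Omega F Q)) (c : F)
    (h : ∀ x, (L : Equiv.Perm (ι → F)) x =
      c • ((((s : ↥(Cfsg.isometryGroup F Q)) : GL ι F) : Matrix ι ι F) *ᵥ x)) :
    Theta Q L = MulAut.conj (QuotientGroup.mk s : Cfsg.POmega F Q) := by
  apply MulEquiv.ext
  intro t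
  obtain ⟨t, rfl⟩ := QuotientGroup.mk_surjective t
  rw [MulAut.conj_apply, ← QuotientGroup.mk_inv, ← QuotientGroup.mk_mul, ← QuotientGroup.mk_mul]
  apply Theta_spec
  intro x
  rw [h, h, Matrix.mulVec_smul]
  congr 1
  rw [Matrix.mulVec_mulVec, Matrix.mulVec_mulVec]
  congr 1
  simp only [Subgroup.coe_mul, Units.val_mul, Subgroup.coe_inv]
  rw [Matrix.mul_assoc, Units.inv_mul, Matrix.mul_one]

theorem Theta_of_omega_mem (L : GamO Q) (s : ↥(Cfsg.isometryGroup F Q))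
    (hs : s ∈ Cfsg.Omega F Q) (c : F)
    (h : ∀ x, (L : Equiv.Perm (ι → F)) x = c • (((s : GL ι F) : Matrix ι ι F) *ᵥ x)) :
    Theta Q L ∈ Cfsg.Inn (Cfsg.POmega F Q) := by
  rw [Theta_of_omega Q L ⟨s, hs⟩ c h]
  exact ⟨_, rfl⟩

end generic

section lin2

variable {F : Type*} [Field F] [Fintype F] {ι : Type} [Fintype ι] [DecidableEq ι]
  (Q : QuadraticForm F (ι → F))

/-- In characteristic two every similarity is a scalar times an isometry. -/
theorem exists_iso_of_Lin (h2 : (2 : F) = 0) (hι : Nonempty ι) (L : GamO ⇑Q)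
    (hL : L ∈ Lin ⇑Q) :
    ∃ (g : ↥(Cfsg.isometryGroup F ⇑Q)) (c : F), c ≠ 0 ∧
      ∀ x, (L : Equiv.Perm (ι → F)) x = c • (((g : GL ι F) : Matrix ι ι F) *ᵥ x) := by
  obtain ⟨i₀⟩ := hι
  have hlin' : ∀ (c : F) (x : ι → F),
      toAdd (⇑Q) L (c • x) = (RingEquiv.refl F) c • toAdd (⇑Q) L x := hL
  set g : GL ι F := colGL (RingEquiv.refl F) (toAdd (⇑Q) L) hlin' with hgdef
  have hg : ∀ x, (L : Equiv.Perm (ι → F)) x = (g : Matrix ι ι F) *ᵥ x := by
    intro x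
    have := colMat_mulVec (RingEquiv.refl F) (toAdd (⇑Q) L) hlin' x
    rw [hgdef, colGL_coe]
    exact this.symm
  have hsig : ∀ c : F, sig (⇑Q) L c = c := by
    intro c
    obtain ⟨x, hx⟩ := (L : Equiv.Perm (ι → F)).surjective (Pi.single i₀ 1)
    have h1 : toAdd (⇑Q) L (c • x) = sig (⇑Q) L c • toAdd (⇑Q) L x := sig_spec (⇑Q) L c x
    have h2 : toAdd (⇑Q) L (c • x) = c • toAdd (⇑Q) L x := hL c x
    rw [h1, toAdd_apply, hx] at h2
    have h3 := congrFun h2 i₀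
    simpa using h3
  have hsim : ∀ x, Q ((g : Matrix ι ι F) *ᵥ x) = (mu (⇑Q) L : F) * Q x := by
    intro x
    rw [← hg]
    have := mu_spec (⇑Q) L x
    rw [hsig, toAdd_apply] at this
    exact this
  have hchar : ringChar F = 2 := by
    have : CharP F 2 := CharTwo.of_one_ne_zero_of_two_eq_zero one_ne_zero h2
    exact ringChar.eq F 2
  obtain ⟨c, hc⟩ := FiniteField.isSquare_of_char_two hchar (mu (⇑Q) L : F)
  have hc0 : c ≠ 0 := by
    intro h
    rw [h, mul_zero] at hc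
    exact Units.ne_zero _ hc
  set cu : Fˣ := Units.mk0 c hc0 with hcu
  set s : GL ι F := (sclHom cu)⁻¹ * g with hs
  have hsmv : ∀ x, (s : Matrix ι ι F) *ᵥ x = c⁻¹ • ((g : Matrix ι ι F) *ᵥ x) := by
    intro x
    rw [hs, Units.val_mul, ← Matrix.mulVec_mulVec, ← map_inv, sclHom_mulVec]
    simp [hcu]
  have hsO : s ∈ Cfsg.isometryGroup F ⇑Q := by
    rw [mem_iso_iff]
    intro x
    rw [hsmv, QuadraticMap.map_smul, smul_eq_mul, hsim, hc]
    field_simp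
  refine ⟨⟨s, hsO⟩, c, hc0, fun x => ?_⟩
  show _ = c • ((s : Matrix ι ι F) *ᵥ x)
  rw [hsmv, hg, smul_smul, mul_inv_cancel₀ hc0, one_smul]

end lin2

section main

variable {F : Type*} [Field F] [Fintype F]

/-- `Out(PΩ⁻_{2k+2}(2^f))` is cyclic of order `2f`, given that all automorphisms come from
semisimilarities. -/
theorem out_minus_even_aux {f k : ℕ} (hf : 1 ≤ f) (hF : Fintype.card F = 2 ^ f) (hk : 3 ≤ k)
    (a b : F) (hab : ∀ z₁ z₂ : F, z₁ ^ 2 + a * z₁ * z₂ + b * z₂ ^ 2 = 0 → z₁ = 0 ∧ z₂ = 0)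
    (hgam : Cfsg.gammaPOmega F ⇑(stdMinus F k a b) = ⊤) :
    IsCyclic (Cfsg.Out (Cfsg.POmega F ⇑(stdMinus F k a b))) ∧
      Nat.card (Cfsg.Out (Cfsg.POmega F ⇑(stdMinus F k a b))) = 2 * f := by
  classical
  have : Fact (Nat.Prime 2) := ⟨Nat.prime_two⟩
  have hchar : CharP F 2 := charP_of_card_eq_prime_pow hF
  have h2 : (2 : F) = 0 := two_eq_zero'
  have hnd : (polarBilin (stdMinus F k a b)).Nondegenerate :=
    stdMinus_nondegenerate (F := F) k (a := a) (b := b) hab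
  have hfam := stdMinus_isHypFamily F k a b
  have hcard : Fintype.card ((Fin k ⊕ Fin k) ⊕ Fin 2) = k + k + 2 := by simp
  have hn : 5 ≤ Fintype.card ((Fin k ⊕ Fin k) ⊕ Fin 2) := by rw [hcard]; omega
  have hexc : Fintype.card F ≠ 2 ∨ Fintype.card ((Fin k ⊕ Fin k) ⊕ Fin 2) ≠ 4 :=
    Or.inr (by rw [hcard]; omega)
  have hidx : (Cfsg.Omega F ⇑(stdMinus F k a b)).index = 2 :=
    Cfsg.Agent.Lead.POmegaCard.index_omega_even h2 (stdMinus F k a b) hnd
      (by rw [hcard]; omega) hexc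
  have ha : a ≠ 0 := by
    have := AnisoPair.disc_ne_zero' (F := F) (a := a) (b := b) hab
    intro h0
    apply this
    rw [h0]
    linear_combination (-2 * b) * h2
  have hsurj := Theta_surjective (⇑(stdMinus F k a b)) hgam
  have hv : stdMinus F k a b (v0 (k := k)) ≠ 0 := by
    rw [stdMinus_v0]; exact one_ne_zero
  -- the reflection
  obtain ⟨r, hrM⟩ : ∃ r : ↥(Cfsg.isometryGroup F ⇑(stdMinus F k a b)),
      ((r : GL ((Fin k ⊕ Fin k) ⊕ Fin 2) F) : Matrix ((Fin k ⊕ Fin k) ⊕ Fin 2) ((Fin k ⊕ Fin k) ⊕ Fin 2) F) =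
        Cfsg.reflectionMatrix (⇑(stdMinus F k a b)) v0 :=
    ⟨Cfsg.Agent.S0792.reflG (stdMinus F k a b) v0 hv, rfl⟩
  have hrΩ : r ∉ Cfsg.Omega F ⇑(stdMinus F k a b) :=
    refl_not_mem_omega (stdMinus F k a b) hnd hexc v0 hv r hrM
  have hrr : ∀ x : (Fin k ⊕ Fin k) ⊕ Fin 2 → F,
      ((r : GL ((Fin k ⊕ Fin k) ⊕ Fin 2) F) : Matrix ((Fin k ⊕ Fin k) ⊕ Fin 2) ((Fin k ⊕ Fin k) ⊕ Fin 2) F) *ᵥ
        (((r : GL ((Fin k ⊕ Fin k) ⊕ Fin 2) F) : Matrix ((Fin k ⊕ Fin k) ⊕ Fin 2) ((Fin k ⊕ Fin k) ⊕ Fin 2) F) *ᵥ x) = x := by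
    intro x
    rw [Matrix.mulVec_mulVec, hrM, Cfsg.Agent.S0792.refl_mul_self (stdMinus F k a b) v0 hv,
      Matrix.one_mulVec]
  -- the generator
  obtain ⟨L₀, hsm, hLf⟩ : ∃ L₀ : GamO ⇑(stdMinus F k a b),
      (∀ (j : ℕ) (c : F) (x : (Fin k ⊕ Fin k) ⊕ Fin 2 → F),
        ((L₀ ^ j : GamO ⇑(stdMinus F k a b)) : Equiv.Perm _) (c • x) =
          c ^ (2 ^ j) • ((L₀ ^ j : GamO ⇑(stdMinus F k a b)) : Equiv.Perm _) x) ∧
      (∀ x : (Fin k ⊕ Fin k) ⊕ Fin 2 → F,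
        ((L₀ ^ f : GamO ⇑(stdMinus F k a b)) : Equiv.Perm _) x =
          ((r : GL ((Fin k ⊕ Fin k) ⊕ Fin 2) F) : Matrix ((Fin k ⊕ Fin k) ⊕ Fin 2) ((Fin k ⊕ Fin k) ⊕ Fin 2) F) *ᵥ x) :=
    ⟨gen a b ha, fun j c x => gen_pow_smul a b ha j c x, fun x => by
      rw [hrM]; exact gen_pow_card a b hf hF hab ha x⟩
  have hL2f : L₀ ^ (2 * f) = 1 := by
    apply Subtype.ext
    apply Equiv.ext
    intro x
    rw [two_mul, pow_add]
    show ((L₀ ^ f : GamO ⇑(stdMinus F k a b)) : Equiv.Perm _)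
      (((L₀ ^ f : GamO ⇑(stdMinus F k a b)) : Equiv.Perm _) x) = x
    rw [hLf, hLf, hrr]
  have hodd : ∀ u : ℕ, L₀ ^ (f * (2 * u + 1)) = L₀ ^ f := by
    intro u
    have e : f * (2 * u + 1) = 2 * f * u + f := by ring
    rw [e, pow_add, pow_mul, hL2f, one_pow, one_mul]
  apply cyc (Cfsg.Inn (Cfsg.POmega F ⇑(stdMinus F k a b))) (Theta ⇑(stdMinus F k a b) L₀) f
    ((Lin ⇑(stdMinus F k a b)).map (Theta ⇑(stdMinus F k a b)))
  · -- every automorphism is a similarity times a power of the generator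
    intro β
    obtain ⟨L, rfl⟩ := hsurj β
    obtain ⟨n, hn'⟩ := exists_pow_of_ringEquiv (sig (⇑(stdMinus F k a b)) L)
    refine ⟨(f - 1) * n, ?_⟩
    rw [← map_pow, ← map_mul]
    refine ⟨L * L₀ ^ ((f - 1) * n), ?_, rfl⟩
    intro c x
    show (L : Equiv.Perm _) (((L₀ ^ ((f - 1) * n) : GamO ⇑(stdMinus F k a b)) : Equiv.Perm _)
        (c • x)) =
      c • (L : Equiv.Perm _) (((L₀ ^ ((f - 1) * n) : GamO ⇑(stdMinus F k a b)) :
        Equiv.Perm _) x)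
    rw [hsm]
    have h1 := sig_spec (⇑(stdMinus F k a b)) L (c ^ 2 ^ ((f - 1) * n))
      (((L₀ ^ ((f - 1) * n) : GamO ⇑(stdMinus F k a b)) : Equiv.Perm _) x)
    rw [toAdd_apply, toAdd_apply] at h1
    rw [h1, hn', ← pow_mul, ← pow_add]
    have e : (f - 1) * n + n = f * n := by
      obtain ⟨f', rfl⟩ : ∃ f', f = f' + 1 := ⟨f - 1, by omega⟩
      simp only [Nat.add_sub_cancel]
      ring
    rw [e, pow_two_pow_mul hF]
  · -- similarities modulo inner automorphisms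
    rintro d ⟨L, hL, rfl⟩
    obtain ⟨g, c, hc0, hg⟩ := exists_iso_of_Lin (stdMinus F k a b) h2 ⟨Sum.inr 0⟩ L hL
    by_cases hgΩ : g ∈ Cfsg.Omega F ⇑(stdMinus F k a b)
    · left
      exact Theta_of_omega_mem (⇑(stdMinus F k a b)) L g hgΩ c hg
    · right
      rw [← map_pow, ← map_mul]
      have hgr : g * r ∈ Cfsg.Omega F ⇑(stdMinus F k a b) :=
        (Subgroup.mul_mem_iff_of_index_two hidx).2
          ⟨fun h => absurd h hgΩ, fun h => absurd h hrΩ⟩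
      apply Theta_of_omega_mem (⇑(stdMinus F k a b)) _ (g * r) hgr c
      intro x
      show (L : Equiv.Perm _) (((L₀ ^ f : GamO ⇑(stdMinus F k a b)) : Equiv.Perm _) x) = _
      rw [hLf, hg, Subgroup.coe_mul, Units.val_mul, Matrix.mulVec_mulVec]
  · -- the order of the generator
    intro j hj
    rw [← map_pow] at hj
    obtain ⟨t, ht⟩ := hj
    obtain ⟨s, rfl⟩ := QuotientGroup.mk_surjective t
    have hS : Theta ⇑(stdMinus F k a b)
        (isoGam ⇑(stdMinus F k a b) (s : ↥(Cfsg.isometryGroup F ⇑(stdMinus F k a b)))) =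
        MulAut.conj (QuotientGroup.mk s : Cfsg.POmega F ⇑(stdMinus F k a b)) :=
      Theta_of_omega ⇑(stdMinus F k a b) _ s 1 (fun x => by rw [one_smul]; rfl)
    have h1 : Theta ⇑(stdMinus F k a b)
        ((isoGam ⇑(stdMinus F k a b)
          (s : ↥(Cfsg.isometryGroup F ⇑(stdMinus F k a b))))⁻¹ * L₀ ^ j) = 1 := by
      rw [map_mul, map_inv, hS, ← ht, inv_mul_cancel]
    obtain ⟨⟨a', ha'0, ha'⟩, -⟩ := rigid (stdMinus F k a b) hnd _ _ hfam hk hn _ h1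
      (sig ⇑(stdMinus F k a b) ((isoGam ⇑(stdMinus F k a b)
          (s : ↥(Cfsg.isometryGroup F ⇑(stdMinus F k a b))))⁻¹ * L₀ ^ j))
      (sig_spec ⇑(stdMinus F k a b) ((isoGam ⇑(stdMinus F k a b)
          (s : ↥(Cfsg.isometryGroup F ⇑(stdMinus F k a b))))⁻¹ * L₀ ^ j))
    have hLj : ∀ x, ((L₀ ^ j : GamO ⇑(stdMinus F k a b)) : Equiv.Perm _) x =
        a' • ((((s : ↥(Cfsg.isometryGroup F ⇑(stdMinus F k a b))) :
          GL ((Fin k ⊕ Fin k) ⊕ Fin 2) F) : Matrix ((Fin k ⊕ Fin k) ⊕ Fin 2) ((Fin k ⊕ Fin k) ⊕ Fin 2) F) *ᵥ x) := by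
      intro x
      have h3 : ((isoGam ⇑(stdMinus F k a b)
          (s : ↥(Cfsg.isometryGroup F ⇑(stdMinus F k a b))) : GamO ⇑(stdMinus F k a b)) :
            Equiv.Perm _)⁻¹
          (((L₀ ^ j : GamO ⇑(stdMinus F k a b)) : Equiv.Perm _) x) = a' • x := ha' x
      have h4 : ((L₀ ^ j : GamO ⇑(stdMinus F k a b)) : Equiv.Perm _) x =
          ((isoGam ⇑(stdMinus F k a b)
            (s : ↥(Cfsg.isometryGroup F ⇑(stdMinus F k a b))) : GamO ⇑(stdMinus F k a b)) :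
              Equiv.Perm _) (a' • x) := by
        rw [← h3, perm_apply_inv]
      rw [h4, isoGam_apply, Matrix.mulVec_smul]
    have hpow : ∀ c : F, c ^ (2 ^ j) = c := by
      intro c
      obtain ⟨x, hx⟩ := ((L₀ ^ j : GamO ⇑(stdMinus F k a b)) :
        Equiv.Perm ((Fin k ⊕ Fin k) ⊕ Fin 2 → F)).surjective
        (Pi.single (Sum.inr 0) 1 : (Fin k ⊕ Fin k) ⊕ Fin 2 → F)
      have e1 := hsm j c x
      rw [hLj (c • x), Matrix.mulVec_smul, smul_comm, ← hLj x, hx] at e1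
      have := congrFun e1 (Sum.inr 0)
      simpa using this.symm
    obtain ⟨t, rfl⟩ := dvd_of_pow_two_pow_eq hf hF j hpow
    obtain ⟨u, rfl | rfl⟩ := Nat.even_or_odd' t
    · exact ⟨u, by ring⟩
    · exfalso
      rw [hodd u] at hLj
      have hrs : ∀ x, ((r : GL ((Fin k ⊕ Fin k) ⊕ Fin 2) F) : Matrix ((Fin k ⊕ Fin k) ⊕ Fin 2) ((Fin k ⊕ Fin k) ⊕ Fin 2) F) *ᵥ x =
          a' • ((((s : ↥(Cfsg.isometryGroup F ⇑(stdMinus F k a b))) :
            GL ((Fin k ⊕ Fin k) ⊕ Fin 2) F) : Matrix ((Fin k ⊕ Fin k) ⊕ Fin 2) ((Fin k ⊕ Fin k) ⊕ Fin 2) F) *ᵥ x) := by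
        intro x
        rw [← hLf, hLj]
      have ha1 : a' = 1 := by
        have e1 : stdMinus F k a b (((r : GL ((Fin k ⊕ Fin k) ⊕ Fin 2) F) : Matrix ((Fin k ⊕ Fin k) ⊕ Fin 2) ((Fin k ⊕ Fin k) ⊕ Fin 2) F) *ᵥ v0)
            = stdMinus F k a b v0 := r.2 v0 v0
        have e2 : stdMinus F k a b
            ((((s : ↥(Cfsg.isometryGroup F ⇑(stdMinus F k a b))) :
              GL ((Fin k ⊕ Fin k) ⊕ Fin 2) F) : Matrix ((Fin k ⊕ Fin k) ⊕ Fin 2) ((Fin k ⊕ Fin k) ⊕ Fin 2) F) *ᵥ v0)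
            = stdMinus F k a b v0 :=
          (s : ↥(Cfsg.isometryGroup F ⇑(stdMinus F k a b))).2 v0 v0
        rw [hrs, QuadraticMap.map_smul, e2, stdMinus_v0, smul_eq_mul, mul_one] at e1
        have e3 : (a' - 1) ^ 2 = 0 := by linear_combination e1 + (1 - a') * h2
        exact sub_eq_zero.mp (pow_eq_zero_iff (by norm_num) |>.mp e3)
      rw [ha1] at hrs
      have hrs' : r = (s : ↥(Cfsg.isometryGroup F ⇑(stdMinus F k a b))) := by
        apply Subtype.ext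
        apply Units.ext
        apply Matrix.mulVec_injective
        funext x
        rw [hrs, one_smul]
      exact hrΩ (hrs' ▸ s.2)
  · rw [← map_pow, hL2f, map_one]
    exact one_mem _

/-- The same with the form written as `quadFormMinus`. -/
theorem out_minus_even {f k : ℕ} (hf : 1 ≤ f) (hF : Fintype.card F = 2 ^ f) (hk : 3 ≤ k)
    (a b : F) (hab : ∀ z₁ z₂ : F, z₁ ^ 2 + a * z₁ * z₂ + b * z₂ ^ 2 = 0 → z₁ = 0 ∧ z₂ = 0)
    (hgam : Cfsg.gammaPOmega F (Cfsg.quadFormMinus k F a b) = ⊤) :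
    IsCyclic (Cfsg.Out (Cfsg.POmega F (Cfsg.quadFormMinus k F a b))) ∧
      Nat.card (Cfsg.Out (Cfsg.POmega F (Cfsg.quadFormMinus k F a b))) = 2 * f := by
  have key : ∀ (Q' : ((Fin k ⊕ Fin k) ⊕ Fin 2 → F) → F), Q' = Cfsg.quadFormMinus k F a b →
      (IsCyclic (Cfsg.Out (Cfsg.POmega F Q')) ∧ Nat.card (Cfsg.Out (Cfsg.POmega F Q')) = 2 * f) →
      (IsCyclic (Cfsg.Out (Cfsg.POmega F (Cfsg.quadFormMinus k F a b))) ∧
        Nat.card (Cfsg.Out (Cfsg.POmega F (Cfsg.quadFormMinus k F a b))) = 2 * f) := by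
    intro Q' hQ' h
    subst hQ'
    exact h
  have hgam' : Cfsg.gammaPOmega F ⇑(stdMinus F k a b) = ⊤ := by
    rw [coe_stdMinus]; exact hgam
  exact key _ (coe_stdMinus F k a b) (out_minus_even_aux hf hF hk a b hab hgam')

end main

end Cfsg.Agent.Helper43.OMin
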