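import Mathlib

/-!
# Norm surjectivity / Hilbert 90 for finite commutative rings with an involution

`S` finite commutative ring, `σ : S →+* S` an involution, `θ` with `θ - σ θ` a unit.
Then every `σ`-fixed unit `r` is a norm `σ s * s`.
-/

set_option autoImplicit false

namespace Cfsg.Agent.Helper43.NormSurj

universe u

/-- the property proved for all finite commutative rings -/
def Good (S : Type u) [CommRing S] : Prop :=
  ∀ (σ : S →+* S), (∀ x, σ (σ x) = x) → ∀ θ : S, IsUnit (θ - σ θ) →
    ∀ r : S, IsUnit r → σ r = r → ∃ s, σ s * s = r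

theorem quot_step {S : Type u} [CommRing S] [Finite S]
    (IH : ∀ (S' : Type u) [CommRing S'] [Finite S'], Nat.card S' < Nat.card S → Good S')
    (σ : S →+* S) (hσ : ∀ x, σ (σ x) = x) (θ : S) (hθ : IsUnit (θ - σ θ)) (r : S)
    (hr : IsUnit r) (hfix : σ r = r)
    (I : Ideal S) (hI : I ≠ ⊥) (hσI : ∀ a ∈ I, σ a ∈ I) : ∃ s, σ s * s - r ∈ I := by
  classical
  have hle : I ≤ I.comap σ := fun a ha => hσI a ha
  let σ' : S ⧸ I →+* S ⧸ I := Ideal.quotientMap I σ hle
  have hσ'mk : ∀ x, σ' (Ideal.Quotient.mk I x) = Ideal.Quotient.mk I (σ x) := fun x =>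
    Ideal.quotientMap_mk
  have hcard : Nat.card (S ⧸ I) < Nat.card S := by
    have hsurj : Function.Surjective (Ideal.Quotient.mk I) := Ideal.Quotient.mk_surjective
    have hninj : ¬ Function.Injective (Ideal.Quotient.mk I) := by
      intro hinj
      apply hI
      rw [eq_bot_iff]
      intro a ha
      have h1 : Ideal.Quotient.mk I a = Ideal.Quotient.mk I 0 := by
        rw [map_zero]; exact Ideal.Quotient.eq_zero_iff_mem.2 ha
      exact hinj h1
    haveI : Finite (S ⧸ I) := Finite.of_surjective _ hsurj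
    letI := Fintype.ofFinite S
    letI := Fintype.ofFinite (S ⧸ I)
    rw [Nat.card_eq_fintype_card, Nat.card_eq_fintype_card]
    exact Fintype.card_lt_of_surjective_not_injective _ hsurj hninj
  haveI : Finite (S ⧸ I) := Finite.of_surjective _ Ideal.Quotient.mk_surjective
  have hgood := IH (S ⧸ I) hcard
  have hσ' : ∀ x, σ' (σ' x) = x := by
    intro x
    obtain ⟨x, rfl⟩ := Ideal.Quotient.mk_surjective x
    rw [hσ'mk, hσ'mk, hσ]
  have hθ' : IsUnit (Ideal.Quotient.mk I θ - σ' (Ideal.Quotient.mk I θ)) := by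
    rw [hσ'mk, ← map_sub]
    exact hθ.map _
  obtain ⟨s', hs'⟩ := hgood σ' hσ' (Ideal.Quotient.mk I θ) hθ' (Ideal.Quotient.mk I r)
    (hr.map _) (by rw [hσ'mk, hfix])
  obtain ⟨s, rfl⟩ := Ideal.Quotient.mk_surjective s'
  refine ⟨s, ?_⟩
  rw [← Ideal.Quotient.eq_zero_iff_mem, map_sub, map_mul, ← hσ'mk, hs', sub_self]

theorem nil_step {S : Type u} [CommRing S] [Finite S]
    (IH : ∀ (S' : Type u) [CommRing S'] [Finite S'], Nat.card S' < Nat.card S → Good S')
    (σ : S →+* S) (hσ : ∀ x, σ (σ x) = x) (θ : S) (hθ : IsUnit (θ - σ θ)) (r : S)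
    (hr : IsUnit r) (hfix : σ r = r) (lam : S) (hlam : lam + σ lam = 1)
    (I : Ideal S) (hI : I ≠ ⊥) (hσI : ∀ a ∈ I, σ a ∈ I) (hII : ∀ a ∈ I, ∀ b ∈ I, a * b = 0) :
    ∃ s, σ s * s = r := by
  obtain ⟨s, hs⟩ := quot_step IH σ hσ θ hθ r hr hfix I hI hσI
  obtain ⟨ri, hri⟩ := hr.exists_right_inv
  have hσri : σ ri = ri := by
    have h1 : r * σ ri = 1 := by rw [← hfix, ← map_mul, hri, map_one]
    calc σ ri = (r * ri) * σ ri := by rw [hri, one_mul]
      _ = ri * (r * σ ri) := by ring
      _ = ri := by rw [h1, mul_one]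
  set y := σ s * s - r with hy
  have hσy : σ y = y := by
    rw [hy, map_sub, map_mul, hσ, hfix]; ring
  set z := ri * y with hz
  have hzI : z ∈ I := I.mul_mem_left _ hs
  have hσz : σ z = z := by rw [hz, map_mul, hσri, hσy]
  have hzz : z * z = 0 := hII z hzI z hzI
  have hyz : σ s * s = r + r * z := by
    rw [hz, ← mul_assoc, hri, one_mul, hy]; ring
  refine ⟨s * (1 - lam * z), ?_⟩
  rw [map_mul, map_sub, map_one, map_mul, hσz]
  linear_combination ((1 - σ lam * z) * (1 - lam * z)) * hyz + (-(r + r * z) * z) * hlam +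
    ((r + r * z) * σ lam * lam - r) * hzz

theorem split_step {S : Type u} [CommRing S] [Finite S]
    (IH : ∀ (S' : Type u) [CommRing S'] [Finite S'], Nat.card S' < Nat.card S → Good S')
    (σ : S →+* S) (hσ : ∀ x, σ (σ x) = x) (θ : S) (hθ : IsUnit (θ - σ θ)) (r : S)
    (hr : IsUnit r) (hfix : σ r = r)
    (f : S) (hff : f * f = f) (hσf : σ f = f) (hf0 : f ≠ 0) (hf1 : f ≠ 1) :
    ∃ s, σ s * s = r := by
  have h1 : ∃ s, σ s * s - r ∈ Ideal.span {f} := by
    apply quot_step IH σ hσ θ hθ r hr hfix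
    · intro h
      apply hf0
      have : f ∈ Ideal.span {f} := Ideal.subset_span rfl
      rw [h] at this
      simpa using this
    · intro a ha
      rw [Ideal.mem_span_singleton'] at ha ⊢
      obtain ⟨c, rfl⟩ := ha
      exact ⟨σ c, by rw [map_mul, hσf]⟩
  have h2 : ∃ s, σ s * s - r ∈ Ideal.span {1 - f} := by
    apply quot_step IH σ hσ θ hθ r hr hfix
    · intro h
      apply hf1
      have : 1 - f ∈ Ideal.span {1 - f} := Ideal.subset_span rfl
      rw [h] at this
      have h0 : 1 - f = 0 := by simpa using this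
      exact (sub_eq_zero.1 h0).symm
    · intro a ha
      rw [Ideal.mem_span_singleton'] at ha ⊢
      obtain ⟨c, rfl⟩ := ha
      exact ⟨σ c, by rw [map_mul, map_sub, map_one, hσf]⟩
  obtain ⟨s₁, hs₁⟩ := h1
  obtain ⟨s₂, hs₂⟩ := h2
  rw [Ideal.mem_span_singleton'] at hs₁ hs₂
  obtain ⟨c₁, hc₁⟩ := hs₁
  obtain ⟨c₂, hc₂⟩ := hs₂
  refine ⟨(1 - f) * s₁ + f * s₂, ?_⟩
  rw [map_add, map_mul, map_mul, map_sub, map_one, hσf]
  linear_combination (-(1 - f) * (1 - f)) * hc₁ + (- f * f) * hc₂ +
    (2 * r - c₁ * (1 - f) - c₂ * f - (σ s₁ * s₂ + σ s₂ * s₁)) * hff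
  
/-- field case: Hilbert 90 by counting -/
theorem field_step {S : Type u} [CommRing S] [Finite S]
    (σ : S →+* S) (hσ : ∀ x, σ (σ x) = x) (θ : S) (hθ : IsUnit (θ - σ θ)) (r : S)
    (hr : IsUnit r) (hfix : σ r = r) (hfield : ∀ a : S, a ≠ 0 → IsUnit a) :
    ∃ s, σ s * s = r := by
  classical
  by_cases htriv : (0 : S) = 1
  · refine ⟨r, ?_⟩
    have : ∀ a b : S, a = b := fun a b => by
      rw [← mul_one a, ← mul_one b, ← htriv, mul_zero, mul_zero]
    exact this _ _
  let N : Sˣ →* Sˣ := (Units.map σ.toMonoidHom) * (MonoidHom.id Sˣ)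
  let τ : Sˣ →* Sˣ := (MonoidHom.id Sˣ) / (Units.map σ.toMonoidHom)
  have hN : ∀ s : Sˣ, ((N s : Sˣ) : S) = σ s * s := fun s => rfl
  have hτ : ∀ s : Sˣ, τ s = s / Units.map σ.toMonoidHom s := fun s => rfl
  have hσu : ∀ s : Sˣ, ((Units.map σ.toMonoidHom s : Sˣ) : S) = σ s := fun s => rfl
  have hσσu : ∀ s : Sˣ, Units.map σ.toMonoidHom (Units.map σ.toMonoidHom s) = s := by
    intro s; ext; simp [hσ]
  -- Hilbert 90
  have h90 : N.ker ≤ τ.range := by
    intro s hs
    rw [MonoidHom.mem_ker] at hs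
    have hs1 : σ s * s = 1 := by rw [← hN, hs]; rfl
    obtain ⟨y, hy0, hy⟩ : ∃ y : S, y ≠ 0 ∧ (s : S) * σ y = y := by
      by_cases h1 : (1 : S) + s = 0
      · refine ⟨θ - σ θ, ?_, ?_⟩
        · intro h0
          rw [h0] at hθ
          exact htriv (by simpa using hθ)
        · have hs' : (s : S) = -1 := by linear_combination h1
          rw [hs', map_sub, hσ]; ring
      · refine ⟨1 + s, h1, ?_⟩
        rw [map_add, map_one]
        linear_combination hs1
    obtain ⟨yu, rfl⟩ := hfield y hy0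
    refine ⟨yu, ?_⟩
    rw [hτ, div_eq_iff_eq_mul]
    ext
    rw [Units.val_mul, hσu, hy]
  -- range N ≤ ker τ
  have hle : N.range ≤ τ.ker := by
    rintro _ ⟨s, rfl⟩
    rw [MonoidHom.mem_ker, hτ, div_eq_one]
    ext
    rw [hσu, hN, map_mul, hσ, mul_comm]
  have hc1 : Nat.card N.ker * Nat.card N.range = Nat.card Sˣ := by
    rw [← Subgroup.index_ker, Subgroup.card_mul_index]
  have hc2 : Nat.card τ.ker * Nat.card τ.range = Nat.card Sˣ := by
    rw [← Subgroup.index_ker, Subgroup.card_mul_index]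
  have hc3 : Nat.card N.ker ≤ Nat.card τ.range := Subgroup.card_le_of_le h90
  have hpos : 0 < Nat.card N.ker := Nat.card_pos
  have hpos2 : 0 < Nat.card τ.range := Nat.card_pos
  have hge : Nat.card τ.ker ≤ Nat.card N.range := by
    by_contra hlt
    push Not at hlt
    have : Nat.card N.ker * Nat.card N.range < Nat.card τ.ker * Nat.card τ.range := by
      calc Nat.card N.ker * Nat.card N.range < Nat.card N.ker * Nat.card τ.ker :=
            Nat.mul_lt_mul_of_pos_left hlt hpos
        _ ≤ Nat.card τ.range * Nat.card τ.ker := Nat.mul_le_mul_right _ hc3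
        _ = Nat.card τ.ker * Nat.card τ.range := mul_comm _ _
    omega
  have heq : N.range = τ.ker := Subgroup.eq_of_le_of_card_ge hle hge
  have hrmem : hr.unit ∈ τ.ker := by
    rw [MonoidHom.mem_ker, hτ, div_eq_one]
    ext
    rw [hσu, IsUnit.unit_spec, hfix]
  rw [← heq] at hrmem
  obtain ⟨s, hs⟩ := hrmem
  refine ⟨s, ?_⟩
  rw [← hN, hs, IsUnit.unit_spec]

theorem exists_idem {S : Type u} [CommRing S] [Finite S]
    (hred : ¬ ∃ x : S, x ≠ 0 ∧ x * x = 0) (a : S) (ha0 : a ≠ 0) (hau : ¬ IsUnit a) :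
    ∃ e : S, e * e = e ∧ e ≠ 0 ∧ e ≠ 1 := by
  obtain ⟨i, j, hij, hpow⟩ : ∃ i j : ℕ, i < j ∧ a ^ i = a ^ j := by
    obtain ⟨i, j, hne, h⟩ := Finite.exists_ne_map_eq_of_infinite (fun n : ℕ => a ^ n)
    rcases lt_or_gt_of_ne hne with h1 | h1
    · exact ⟨i, j, h1, h⟩
    · exact ⟨j, i, h1, h.symm⟩
  obtain ⟨d, rfl⟩ : ∃ d, j = i + d := ⟨j - i, by omega⟩
  have hd : 1 ≤ d := by omega
  have hk : ∀ k : ℕ, a ^ (i + k * d) = a ^ i := by
    intro k
    induction k with
    | zero => simp
    | succ k ih =>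
      calc a ^ (i + (k + 1) * d) = a ^ (i + d) * a ^ (k * d) := by rw [← pow_add]; congr 1; ring
        _ = a ^ i * a ^ (k * d) := by rw [← hpow]
        _ = a ^ (i + k * d) := by rw [← pow_add]
        _ = a ^ i := ih
  have hsq : ∀ x : S, x * x = 0 → x = 0 := by
    intro x hx
    by_contra h
    exact hred ⟨x, h, hx⟩
  have hpow0 : ∀ k : ℕ, a ^ (2 ^ k) ≠ 0 := by
    intro k
    induction k with
    | zero => simpa using ha0
    | succ k ih =>
      intro h
      apply ih
      apply hsq
      rw [← pow_add, ← two_mul, ← pow_succ']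
      exact h
  set n := (i + 1) * d with hn
  have hni : i ≤ n := by nlinarith
  have hn1 : 1 ≤ n := by nlinarith
  refine ⟨a ^ n, ?_, ?_, ?_⟩
  · calc a ^ n * a ^ n = a ^ (n - i) * a ^ (i + (i + 1) * d) := by
          rw [← pow_add, ← pow_add]; congr 1; omega
      _ = a ^ (n - i) * a ^ i := by rw [hk]
      _ = a ^ n := by rw [← pow_add]; congr 1; omega
  · intro h
    apply hpow0 n
    have : n ≤ 2 ^ n := Nat.lt_two_pow_self.le
    exact pow_eq_zero_of_le this h
  · intro h
    apply hau
    apply IsUnit.of_mul_eq_one (a ^ (n - 1))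
    rw [← pow_succ', ← h]; congr 1; omega

theorem good_all : ∀ (n : ℕ) (S : Type u) [CommRing S] [Finite S], Nat.card S = n → Good S := by
  intro n
  induction n using Nat.strong_induction_on with
  | _ n ih =>
    intro S _ _ hn σ hσ θ hθ r hr hfix
    have IH : ∀ (S' : Type u) [CommRing S'] [Finite S'], Nat.card S' < Nat.card S → Good S' :=
      fun S' _ _ h => ih _ (hn ▸ h) S' rfl
    obtain ⟨u, hu⟩ := hθ.exists_right_inv
    have hσu : σ u = -u := by
      have h1 : (σ θ - θ) * σ u = 1 := by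
        have := congrArg σ hu
        rw [map_mul, map_sub, hσ, map_one] at this
        exact this
      calc σ u = ((θ - σ θ) * u) * σ u := by rw [hu, one_mul]
        _ = -u * ((σ θ - θ) * σ u) := by ring
        _ = -u := by rw [h1, mul_one]
    have hlam : θ * u + σ (θ * u) = 1 := by
      rw [map_mul, hσu]; linear_combination hu
    by_cases hred : ∃ x : S, x ≠ 0 ∧ x * x = 0
    · obtain ⟨x, hx0, hxx⟩ := hred
      have hσxx : σ x * σ x = 0 := by rw [← map_mul, hxx, map_zero]
      by_cases hy : x * σ x = 0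
      · apply nil_step IH σ hσ θ hθ r hr hfix (θ * u) hlam (Ideal.span {x, σ x})
        · intro h
          apply hx0
          have : x ∈ Ideal.span {x, σ x} := Ideal.subset_span (by simp)
          rw [h] at this
          simpa using this
        · intro a ha
          rw [Ideal.mem_span_pair] at ha ⊢
          obtain ⟨c, c', rfl⟩ := ha
          exact ⟨σ c', σ c, by rw [map_add, map_mul, map_mul, hσ]; ring⟩
        · intro a ha b hb
          rw [Ideal.mem_span_pair] at ha hb
          obtain ⟨c, c', rfl⟩ := ha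
          obtain ⟨e, e', rfl⟩ := hb
          linear_combination (c * e) * hxx + (c * e' + c' * e) * hy + (c' * e') * hσxx
      · apply nil_step IH σ hσ θ hθ r hr hfix (θ * u) hlam (Ideal.span {x * σ x})
        · intro h
          apply hy
          have : x * σ x ∈ Ideal.span {x * σ x} := Ideal.subset_span rfl
          rw [h] at this
          simpa using this
        · intro a ha
          rw [Ideal.mem_span_singleton'] at ha ⊢
          obtain ⟨c, rfl⟩ := ha
          exact ⟨σ c, by rw [map_mul, map_mul, hσ]; ring⟩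
        · intro a ha b hb
          rw [Ideal.mem_span_singleton'] at ha hb
          obtain ⟨c, rfl⟩ := ha
          obtain ⟨e, rfl⟩ := hb
          linear_combination (c * e * σ x * σ x) * hxx
    · by_cases hfield : ∀ a : S, a ≠ 0 → IsUnit a
      · exact field_step σ hσ θ hθ r hr hfix hfield
      · push Not at hfield
        obtain ⟨a, ha0, hau⟩ := hfield
        obtain ⟨e, hee, he0, he1⟩ := exists_idem hred a ha0 hau
        have hσee : σ e * σ e = σ e := by rw [← map_mul, hee]
        by_cases h1 : e * σ e = 0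
        · by_cases h2 : e + σ e = 1
          · refine ⟨r * e + σ e, ?_⟩
            rw [map_add, map_mul, hσ, hfix]
            linear_combination (r * r + 1) * h1 + r * h2 + r * hσee + r * hee - r * (e + σ e) 
              + r * (e + σ e)
          · apply split_step IH σ hσ θ hθ r hr hfix (e + σ e)
            · linear_combination hee + hσee + 2 * h1
            · rw [map_add, hσ]; ring
            · intro h
              apply he0
              have : (e + σ e) * e = e := by linear_combination hee + h1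
              rw [← this, h, zero_mul]
            · exact h2
        · apply split_step IH σ hσ θ hθ r hr hfix (e * σ e)
          · linear_combination (σ e * σ e) * hee + e * hσee
          · rw [map_mul, hσ]; ring
          · exact h1
          · intro h
            apply he1
            calc e = e * (e * σ e) := by rw [h, mul_one]
              _ = (e * e) * σ e := by ring
              _ = 1 := by rw [hee, h]

/-- **Norm surjectivity** for finite commutative rings with an involution `σ` such that some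
`θ - σ θ` is a unit. -/
theorem exists_norm_eq {S : Type u} [CommRing S] [Finite S]
    (σ : S →+* S) (hσ : ∀ x, σ (σ x) = x) (θ : S) (hθ : IsUnit (θ - σ θ)) (r : S)
    (hr : IsUnit r) (hfix : σ r = r) : ∃ s, σ s * s = r :=
  good_all _ S rfl σ hσ θ hθ r hr hfix

/-- **Hilbert 90** in the same setting: a unit of norm one is of the form `y / σ y`. -/
theorem exists_div_eq {S : Type u} [CommRing S] [Finite S]
    (σ : S →+* S) (hσ : ∀ x, σ (σ x) = x) (θ : S) (hθ : IsUnit (θ - σ θ)) (c : S)
    (hc : σ c * c = 1) : ∃ y, IsUnit y ∧ c * σ y = y := by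
  classical
  let N : Sˣ →* Sˣ := (Units.map σ.toMonoidHom) * (MonoidHom.id Sˣ)
  let τ : Sˣ →* Sˣ := (MonoidHom.id Sˣ) / (Units.map σ.toMonoidHom)
  have hN : ∀ s : Sˣ, ((N s : Sˣ) : S) = σ s * s := fun s => rfl
  have hτ : ∀ s : Sˣ, τ s = s / Units.map σ.toMonoidHom s := fun s => rfl
  have hσu : ∀ s : Sˣ, ((Units.map σ.toMonoidHom s : Sˣ) : S) = σ s := fun s => rfl
  -- range τ ≤ ker N
  have hle : τ.range ≤ N.ker := by
    rintro _ ⟨s, rfl⟩
    rw [MonoidHom.mem_ker]
    ext
    rw [hN, hτ]
    have h1 : ((s / Units.map σ.toMonoidHom s : Sˣ) : S) * σ s = s := by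
      rw [← hσu, ← Units.val_mul, div_mul_cancel]
    have h2 : σ ((s / Units.map σ.toMonoidHom s : Sˣ) : S) * s = σ s := by
      have := congrArg σ h1
      rw [map_mul, hσ] at this
      exact this
    have hsu : IsUnit (σ (s : S)) := by rw [← hσu]; exact Units.isUnit _
    have hsu2 : IsUnit (s : S) := Units.isUnit _
    apply hsu.mul_left_cancel
    apply hsu2.mul_left_cancel
    rw [Units.val_one]
    linear_combination (((s / Units.map σ.toMonoidHom s : Sˣ) : S) * σ s) * h2 + σ s * h1
  -- ker τ ≤ range N, via norm surjectivity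
  have hle2 : τ.ker ≤ N.range := by
    intro r hr
    rw [MonoidHom.mem_ker, hτ, div_eq_one] at hr
    have hfix : σ (r : S) = r := by rw [← hσu, ← hr]
    obtain ⟨s, hs⟩ := exists_norm_eq σ hσ θ hθ r (Units.isUnit r) hfix
    have hsu : IsUnit s := by
      apply IsUnit.of_mul_eq_one ((r⁻¹ : Sˣ) * σ s)
      rw [mul_comm, mul_assoc, hs]; simp
    refine ⟨hsu.unit, ?_⟩
    ext
    rw [hN, IsUnit.unit_spec, hs]
  have hc1 : Nat.card N.ker * Nat.card N.range = Nat.card Sˣ := by
    rw [← Subgroup.index_ker, Subgroup.card_mul_index]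
  have hc2 : Nat.card τ.ker * Nat.card τ.range = Nat.card Sˣ := by
    rw [← Subgroup.index_ker, Subgroup.card_mul_index]
  have hc3 : Nat.card τ.ker ≤ Nat.card N.range := Subgroup.card_le_of_le hle2
  have hpos : 0 < Nat.card τ.ker := Nat.card_pos
  have hge : Nat.card N.ker ≤ Nat.card τ.range := by
    by_contra hlt
    push Not at hlt
    have : Nat.card τ.ker * Nat.card τ.range < Nat.card N.ker * Nat.card N.range := by
      calc Nat.card τ.ker * Nat.card τ.range < Nat.card τ.ker * Nat.card N.ker :=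
            Nat.mul_lt_mul_of_pos_left hlt hpos
        _ ≤ Nat.card N.range * Nat.card N.ker := Nat.mul_le_mul_right _ hc3
        _ = Nat.card N.ker * Nat.card N.range := mul_comm _ _
    omega
  have heq : τ.range = N.ker := Subgroup.eq_of_le_of_card_ge hle hge
  have hcu : IsUnit c := IsUnit.of_mul_eq_one (σ c) (by rw [mul_comm]; exact hc)
  have hcmem : hcu.unit ∈ N.ker := by
    rw [MonoidHom.mem_ker]
    ext
    rw [hN, IsUnit.unit_spec, hc]; rfl
  rw [← heq] at hcmem
  obtain ⟨y, hy⟩ := hcmem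
  refine ⟨y, Units.isUnit y, ?_⟩
  rw [hτ, div_eq_iff_eq_mul] at hy
  have := congrArg (fun t : Sˣ => (t : S)) hy
  simp only [Units.val_mul, hσu, IsUnit.unit_spec] at this
  exact this.symm

end Cfsg.Agent.Helper43.NormSurj
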