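import Mathlib
import Cfsg.Prelude.Def_LieClassical
import Cfsg.Agent.Lib.Helper43.NormSurj

/-!
# Conjugacy in `GU_n(q)` versus `GL_n(q²)`
-/

set_option autoImplicit false

namespace Cfsg.Agent.Helper43.UnitaryConj

open Matrix

/-- norm surjectivity inside a commutative `star`-closed finite subring of a finite ring with an
anti-involution -/
theorem exists_norm_subring {R : Type*} [Ring R] [Finite R] (star : R → R)
    (hadd : ∀ x y, star (x + y) = star x + star y)
    (hmul : ∀ x y, star (x * y) = star y * star x)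
    (hone : star 1 = 1) (hinv : ∀ x, star (star x) = x)
    (S : Subring R) (hcomm : ∀ x ∈ S, ∀ y ∈ S, x * y = y * x) (hstar : ∀ x ∈ S, star x ∈ S)
    (θ : R) (hθS : θ ∈ S) (hθ : IsUnit (θ - star θ)) (H : R) (hHS : H ∈ S) (hH : IsUnit H)
    (hHstar : star H = H) : ∃ c ∈ S, star c * c = H := by
  classical
  letI : CommRing S := { (inferInstance : Ring S) with
    mul_comm := fun x y => Subtype.ext (hcomm x.1 x.2 y.1 y.2) }
  have hzero : star 0 = 0 := by
    have := hadd 0 0
    rw [add_zero] at this
    exact left_eq_add.mp this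
  let σ : S →+* S :=
    { toFun := fun x => ⟨star x.1, hstar x.1 x.2⟩
      map_one' := Subtype.ext hone
      map_mul' := fun x y => Subtype.ext (by
        show star (x.1 * y.1) = star x.1 * star y.1
        rw [hmul, hcomm _ (hstar _ y.2) _ (hstar _ x.2)])
      map_zero' := Subtype.ext hzero
      map_add' := fun x y => Subtype.ext (hadd x.1 y.1) }
  have hσ : ∀ x, σ (σ x) = x := fun x => Subtype.ext (hinv x.1)
  -- units of `R` lying in `S` are units of `S`
  have hunit : ∀ x : S, IsUnit (x : R) → IsUnit x := by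
    intro x hx
    have hinj : Function.Injective (fun y : S => x * y) := by
      intro y z hyz
      have h1 : (x : R) * y = x * z := congrArg Subtype.val hyz
      exact Subtype.ext (hx.mul_left_cancel h1)
    obtain ⟨y, hy⟩ := (Finite.injective_iff_surjective.1 hinj) 1
    exact IsUnit.of_mul_eq_one y hy
  obtain ⟨s, hs⟩ := NormSurj.exists_norm_eq σ hσ ⟨θ, hθS⟩ (hunit _ hθ) ⟨H, hHS⟩ (hunit _ hH)
    (Subtype.ext hHstar)
  exact ⟨s.1, s.2, congrArg Subtype.val hs⟩

/-- Hilbert 90 inside a commutative `star`-closed finite subring -/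
theorem exists_div_subring {R : Type*} [Ring R] [Finite R] (star : R → R)
    (hadd : ∀ x y, star (x + y) = star x + star y)
    (hmul : ∀ x y, star (x * y) = star y * star x)
    (hone : star 1 = 1) (hinv : ∀ x ∈ (⊤ : Set R), star (star x) = x → True)
    (S : Subring R) (hcomm : ∀ x ∈ S, ∀ y ∈ S, x * y = y * x) (hstar : ∀ x ∈ S, star x ∈ S)
    (hinvS : ∀ x ∈ S, star (star x) = x)
    (θ : R) (hθS : θ ∈ S) (hθ : IsUnit (θ - star θ)) (c : R) (hcS : c ∈ S)
    (hc : star c * c = 1) : ∃ y ∈ S, IsUnit y ∧ c * star y = y := by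
  classical
  letI : CommRing S := { (inferInstance : Ring S) with
    mul_comm := fun x y => Subtype.ext (hcomm x.1 x.2 y.1 y.2) }
  have hzero : star 0 = 0 := by
    have := hadd 0 0
    rw [add_zero] at this
    exact left_eq_add.mp this
  let σ : S →+* S :=
    { toFun := fun x => ⟨star x.1, hstar x.1 x.2⟩
      map_one' := Subtype.ext hone
      map_mul' := fun x y => Subtype.ext (by
        show star (x.1 * y.1) = star x.1 * star y.1
        rw [hmul, hcomm _ (hstar _ y.2) _ (hstar _ x.2)])
      map_zero' := Subtype.ext hzero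
      map_add' := fun x y => Subtype.ext (hadd x.1 y.1) }
  have hσ : ∀ x, σ (σ x) = x := fun x => Subtype.ext (hinvS x.1 x.2)
  have hunit : ∀ x : S, IsUnit (x : R) → IsUnit x := by
    intro x hx
    have hinj : Function.Injective (fun y : S => x * y) := by
      intro y z hyz
      have h1 : (x : R) * y = x * z := congrArg Subtype.val hyz
      exact Subtype.ext (hx.mul_left_cancel h1)
    obtain ⟨y, hy⟩ := (Finite.injective_iff_surjective.1 hinj) 1
    exact IsUnit.of_mul_eq_one y hy
  obtain ⟨y, hyu, hy⟩ := NormSurj.exists_div_eq σ hσ ⟨θ, hθS⟩ (hunit _ hθ) ⟨c, hcS⟩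
    (Subtype.ext hc)
  exact ⟨y.1, y.2, hyu.map (Subring.subtype S), congrArg Subtype.val hy⟩

section Frob

variable {K : Type*} [Field K] [Fintype K] {q : ℕ}

theorem q_ne_zero (hK : Fintype.card K = q ^ 2) : q ≠ 0 := by
  rintro rfl
  have := Fintype.card_pos (α := K)
  rw [hK] at this
  simp at this

theorem frob_add' (hK : Fintype.card K = q ^ 2) (a b : K) : (a + b) ^ q = a ^ q + b ^ q := by
  obtain ⟨p, hp, k, hpp, hk⟩ := FiniteField.card' K
  haveI : Fact p.Prime := ⟨hpp⟩
  have hdvd : q ∣ p ^ (k : ℕ) := by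
    rw [← hk, hK]; exact dvd_pow_self q two_ne_zero
  obtain ⟨j, _, rfl⟩ := (Nat.dvd_prime_pow hpp).1 hdvd
  exact add_pow_char_pow a b p j

/-- `x ↦ x ^ q` as a ring hom when `|K| = q²` -/
noncomputable def frobK (hK : Fintype.card K = q ^ 2) : K →+* K where
  toFun x := x ^ q
  map_one' := one_pow q
  map_mul' x y := mul_pow x y q
  map_zero' := zero_pow (q_ne_zero hK)
  map_add' := frob_add' hK

@[simp] theorem frobK_apply (hK : Fintype.card K = q ^ 2) (x : K) : frobK hK x = x ^ q := rfl

theorem frobK_frobK (hK : Fintype.card K = q ^ 2) (x : K) : frobK hK (frobK hK x) = x := by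
  rw [frobK_apply, frobK_apply, ← pow_mul, ← sq, ← hK, FiniteField.pow_card]

theorem exists_frobK_ne (hK : Fintype.card K = q ^ 2) : ∃ t : K, frobK hK t ≠ t := by
  classical
  by_contra hcon
  push Not at hcon
  have hq2 : 2 ≤ q := by
    have h := Fintype.one_lt_card (α := K)
    rw [hK] at h
    by_contra hlt
    have : q ≤ 1 := by omega
    have : q ^ 2 ≤ 1 := by nlinarith
    omega
  -- all elements are roots of X^q - X
  have hroots : ∀ x : K, x ∈ (Polynomial.X ^ q - Polynomial.X : Polynomial K).roots := by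
    intro x
    rw [Polynomial.mem_roots (FiniteField.X_pow_card_sub_X_ne_zero K hq2)]
    simp only [Polynomial.IsRoot.def, Polynomial.eval_sub, Polynomial.eval_pow, Polynomial.eval_X]
    have := hcon x
    rw [frobK_apply] at this
    rw [this, sub_self]
  have hcard : Fintype.card K ≤ q := by
    have h1 : (Finset.univ : Finset K) ⊆ (Polynomial.X ^ q - Polynomial.X : Polynomial K).roots.toFinset := by
      intro x _
      rw [Multiset.mem_toFinset]; exact hroots x
    have h2 := Finset.card_le_card h1
    have h3 := Multiset.toFinset_card_le (Polynomial.X ^ q - Polynomial.X : Polynomial K).roots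
    have h4 := Polynomial.card_roots' (Polynomial.X ^ q - Polynomial.X : Polynomial K)
    have h5 : (Polynomial.X ^ q - Polynomial.X : Polynomial K).natDegree = q :=
      FiniteField.X_pow_card_sub_X_natDegree_eq K hq2
    rw [Finset.card_univ] at h2
    omega
  rw [hK] at hcard
  nlinarith

end Frob

section Star

variable {K : Type*} [Field K] {ι : Type*} [Fintype ι] [DecidableEq ι]

/-- conjugate transpose with respect to a ring hom `σ` -/
def starM (σ : K →+* K) (M : Matrix ι ι K) : Matrix ι ι K := (M.map σ)ᵀ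

theorem starM_add (σ : K →+* K) (M N : Matrix ι ι K) : starM σ (M + N) = starM σ M + starM σ N := by
  ext i j
  simp [starM]

theorem starM_mul (σ : K →+* K) (M N : Matrix ι ι K) : starM σ (M * N) = starM σ N * starM σ M := by
  unfold starM
  rw [Matrix.map_mul, transpose_mul]

theorem starM_one (σ : K →+* K) : starM σ (1 : Matrix ι ι K) = 1 := by
  unfold starM
  rw [Matrix.map_one σ σ.map_zero σ.map_one, transpose_one]

theorem starM_starM (σ : K →+* K) (hσ : ∀ x, σ (σ x) = x) (M : Matrix ι ι K) :
    starM σ (starM σ M) = M := by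
  ext i j
  simp [starM, hσ]

theorem starM_algebraMap (σ : K →+* K) (k : K) :
    starM σ (algebraMap K (Matrix ι ι K) k) = algebraMap K (Matrix ι ι K) (σ k) := by
  ext i j
  simp only [starM, transpose_apply, map_apply, Matrix.algebraMap_matrix_apply]
  by_cases h : i = j
  · subst h; simp
  · have h' : ¬ j = i := fun e => h e.symm
    simp [h, h']

theorem starM_det (σ : K →+* K) (M : Matrix ι ι K) : (starM σ M).det = σ M.det := by
  unfold starM
  rw [det_transpose]
  exact (RingHom.map_det σ M).symm

theorem isUnit_starM (σ : K →+* K) {M : Matrix ι ι K} (h : IsUnit M) : IsUnit (starM σ M) := by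
  rw [Matrix.isUnit_iff_isUnit_det] at h ⊢
  rw [starM_det]
  exact h.map σ

end Star

section GU

variable {K : Type*} [Field K] [Fintype K] {q n : ℕ}

theorem hermForm_eq (hK : Fintype.card K = q ^ 2) (u v : Fin n → K) :
    Cfsg.hermForm n K q u v = u ⬝ᵥ (frobK hK ∘ v) := by
  unfold Cfsg.hermForm dotProduct
  rfl

theorem frob_comp_mulVec (hK : Fintype.card K = q ^ 2) (M : Matrix (Fin n) (Fin n) K)
    (v : Fin n → K) : frobK hK ∘ (M *ᵥ v) = (M.map (frobK hK)) *ᵥ (frobK hK ∘ v) := by
  funext i
  rw [Function.comp_apply, RingHom.map_mulVec (frobK hK) M v i]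

theorem herm_mulVec (hK : Fintype.card K = q ^ 2) (M : Matrix (Fin n) (Fin n) K)
    (u v : Fin n → K) :
    Cfsg.hermForm n K q (M *ᵥ u) (M *ᵥ v) = u ⬝ᵥ ((Mᵀ * M.map (frobK hK)) *ᵥ (frobK hK ∘ v)) := by
  rw [hermForm_eq hK, frob_comp_mulVec hK, ← Matrix.mulVec_mulVec, Matrix.dotProduct_mulVec u,
    Matrix.vecMul_transpose]

theorem mem_GU_iff (hK : Fintype.card K = q ^ 2) (g : GL (Fin n) K) :
    g ∈ Cfsg.GU n K q ↔
      starM (frobK hK) (g : Matrix (Fin n) (Fin n) K) * (g : Matrix (Fin n) (Fin n) K) = 1 := by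
  have hkey : starM (frobK hK) (g : Matrix (Fin n) (Fin n) K) * (g : Matrix (Fin n) (Fin n) K) = 1
      ↔ (g : Matrix (Fin n) (Fin n) K)ᵀ * (g : Matrix (Fin n) (Fin n) K).map (frobK hK) = 1 := by
    unfold starM
    constructor
    · intro h
      have := congrArg Matrix.transpose h
      rw [transpose_mul, transpose_transpose, transpose_one] at this
      exact this
    · intro h
      have := congrArg Matrix.transpose h
      rw [transpose_mul, transpose_transpose, transpose_one] at this
      exact this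
  rw [hkey]
  change (∀ u v, Cfsg.hermForm n K q ((g : Matrix (Fin n) (Fin n) K) *ᵥ u)
    ((g : Matrix (Fin n) (Fin n) K) *ᵥ v) = Cfsg.hermForm n K q u v) ↔ _
  constructor
  · intro h
    ext i j
    have := h (Pi.single i 1) (Pi.single j 1)
    rw [herm_mulVec hK, hermForm_eq hK] at this
    have hs : frobK hK ∘ (Pi.single j 1 : Fin n → K) = Pi.single j 1 := by
      funext k
      by_cases hk : k = j
      · subst hk; simp
      · simp [Pi.single_eq_of_ne hk, q_ne_zero hK]
    rw [hs] at this
    simpa [Matrix.one_apply, Pi.single_apply, eq_comm] using this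
  · intro h u v
    rw [herm_mulVec hK, h, Matrix.one_mulVec, hermForm_eq hK]

/-- the `star`-closed commutative subring `K[H]` for Hermitian `H` -/
theorem exists_norm_matrix (hK : Fintype.card K = q ^ 2) (H : Matrix (Fin n) (Fin n) K)
    (hH : IsUnit H) (hHs : starM (frobK hK) H = H) :
    ∃ c ∈ Algebra.adjoin K {H}, starM (frobK hK) c * c = H := by
  classical
  obtain ⟨t, ht⟩ := exists_frobK_ne hK
  have hcomm : ∀ x ∈ (Algebra.adjoin K {H}).toSubring, ∀ y ∈ (Algebra.adjoin K {H}).toSubring,
      x * y = y * x := by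
    intro x hx y hy
    have := (Algebra.adjoinCommRingOfComm K (s := {H}) (by simp)).mul_comm ⟨x, hx⟩ ⟨y, hy⟩
    exact congrArg Subtype.val this
  have hstar : ∀ x ∈ (Algebra.adjoin K {H}).toSubring,
      starM (frobK hK) x ∈ (Algebra.adjoin K {H}).toSubring := by
    intro x hx
    rw [Subalgebra.mem_toSubring] at hx ⊢
    induction hx using Algebra.adjoin_induction with
    | mem x hx =>
      rw [Set.mem_singleton_iff] at hx
      rw [hx, hHs]; exact Algebra.subset_adjoin rfl
    | algebraMap k => rw [starM_algebraMap]; exact Subalgebra.algebraMap_mem _ _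
    | add x y _ _ hx hy => rw [starM_add]; exact Subalgebra.add_mem _ hx hy
    | mul x y _ _ hx hy => rw [starM_mul]; exact Subalgebra.mul_mem _ hy hx
  have hθ : IsUnit (algebraMap K (Matrix (Fin n) (Fin n) K) t -
      starM (frobK hK) (algebraMap K (Matrix (Fin n) (Fin n) K) t)) := by
    rw [starM_algebraMap, ← map_sub]
    apply IsUnit.map
    rw [isUnit_iff_ne_zero, sub_ne_zero]
    exact fun h => ht h.symm
  obtain ⟨c, hc, hcc⟩ := exists_norm_subring (starM (frobK hK)) (starM_add _) (starM_mul _)
    (starM_one _) (starM_starM _ (frobK_frobK hK)) (Algebra.adjoin K {H}).toSubring hcomm hstar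
    (algebraMap K _ t) (Subalgebra.algebraMap_mem _ _) hθ H (Algebra.subset_adjoin rfl) hH hHs
  exact ⟨c, hc, hcc⟩

theorem commute_of_mem_adjoin {H A c : Matrix (Fin n) (Fin n) K} (hHA : A * H = H * A)
    (hc : c ∈ Algebra.adjoin K {H}) : A * c = c * A := by
  have hle : Algebra.adjoin K {H} ≤ Subalgebra.centralizer K {A} := by
    apply Algebra.adjoin_le
    intro x hx
    rw [Set.mem_singleton_iff] at hx
    subst hx
    rw [SetLike.mem_coe, Subalgebra.mem_centralizer_iff]
    intro a ha
    rw [Set.mem_singleton_iff] at ha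
    subst ha
    exact hHA
  have := hle hc
  rw [Subalgebra.mem_centralizer_iff] at this
  exact this A rfl

/-- **Conjugacy in `GU_n(q)` is controlled by `GL_n(q²)`.** -/
theorem isConj_GU_iff (hK : Fintype.card K = q ^ 2) (A B : ↥(Cfsg.GU n K q)) :
    IsConj A B ↔ IsConj (A : GL (Fin n) K) (B : GL (Fin n) K) := by
  constructor
  · intro h
    exact (Subgroup.subtype (Cfsg.GU n K q)).map_isConj h
  · intro h
    obtain ⟨g, hg⟩ := isConj_iff.1 h
    set s := starM (frobK hK) with hs
    set AM : Matrix (Fin n) (Fin n) K := ((A : GL (Fin n) K) : Matrix (Fin n) (Fin n) K) with hAM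
    set BM : Matrix (Fin n) (Fin n) K := ((B : GL (Fin n) K) : Matrix (Fin n) (Fin n) K) with hBM
    set gM : Matrix (Fin n) (Fin n) K := (g : Matrix (Fin n) (Fin n) K) with hgM
    have hA : s AM * AM = 1 := (mem_GU_iff hK _).1 A.2
    have hB : s BM * BM = 1 := (mem_GU_iff hK _).1 B.2
    have hA' : AM * s AM = 1 := mul_eq_one_comm.1 hA
    have hgAB : gM * AM = BM * gM := by
      have h1 : g * (A : GL (Fin n) K) = (B : GL (Fin n) K) * g := by
        rw [← hg]; group
      have := congrArg (fun x : GL (Fin n) K => (x : Matrix (Fin n) (Fin n) K)) h1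
      simpa using this
    set H := s gM * gM with hHdef
    have hHs : s H = H := by
      rw [hHdef, hs, starM_mul, starM_starM _ (frobK_frobK hK)]
    have hgU : IsUnit gM := ⟨g, rfl⟩
    have hHU : IsUnit H := (isUnit_starM _ hgU).mul hgU
    have hAHA : s AM * H * AM = H := by
      have h1 : s (gM * AM) * (gM * AM) = s (BM * gM) * (BM * gM) := by rw [hgAB]
      rw [hs, starM_mul, starM_mul] at h1
      rw [hHdef]
      calc s AM * (s gM * gM) * AM = s AM * s gM * (gM * AM) := by simp only [mul_assoc]
        _ = s gM * s BM * (BM * gM) := h1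
        _ = s gM * (s BM * BM) * gM := by simp only [mul_assoc]
        _ = s gM * gM := by rw [hB, mul_one]
    have hHA : AM * H = H * AM := by
      calc AM * H = AM * (s AM * H * AM) := by rw [hAHA]
        _ = (AM * s AM) * H * AM := by simp only [mul_assoc]
        _ = H * AM := by rw [hA', one_mul]
    obtain ⟨c, hcmem, hcc⟩ := exists_norm_matrix hK H hHU hHs
    have hcA : AM * c = c * AM := commute_of_mem_adjoin hHA hcmem
    have hcU : IsUnit c := by
      rw [Matrix.isUnit_iff_isUnit_det]
      have h1 : IsUnit (s c * c).det := by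
        rw [hcc]; exact (Matrix.isUnit_iff_isUnit_det _).1 hHU
      rw [det_mul] at h1
      exact isUnit_of_mul_isUnit_right h1
    obtain ⟨cU, hcU'⟩ := hcU
    have hcUA : cU * (A : GL (Fin n) K) = (A : GL (Fin n) K) * cU := by
      apply Units.ext
      rw [Units.val_mul, Units.val_mul, hcU']
      exact hcA.symm
    set u : GL (Fin n) K := g * cU⁻¹ with hu
    have hci : c * ((cU⁻¹ : GL (Fin n) K) : Matrix (Fin n) (Fin n) K) = 1 := by
      rw [← hcU', ← Units.val_mul, mul_inv_cancel]; rfl
    have huM : (u : Matrix (Fin n) (Fin n) K) =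
        gM * ((cU⁻¹ : GL (Fin n) K) : Matrix (Fin n) (Fin n) K) := by
      rw [hu, Units.val_mul]
    have humem : u ∈ Cfsg.GU n K q := by
      rw [mem_GU_iff hK, huM, ← hs, hs, starM_mul, ← hs]
      set ci := ((cU⁻¹ : GL (Fin n) K) : Matrix (Fin n) (Fin n) K) with hcidef
      have h1 : s ci * s c = 1 := by
        rw [hs, ← starM_mul, hci, starM_one]
      calc s ci * s gM * (gM * ci) = s ci * (s gM * gM) * ci := by simp only [mul_assoc]
        _ = s ci * (s c * c) * ci := by rw [← hHdef, hcc]
        _ = (s ci * s c) * (c * ci) := by simp only [mul_assoc]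
        _ = 1 := by rw [h1, hci, one_mul]
    rw [isConj_iff]
    refine ⟨⟨u, humem⟩, ?_⟩
    apply Subtype.ext
    show u * (A : GL (Fin n) K) * u⁻¹ = (B : GL (Fin n) K)
    rw [← hg, hu]
    have : cU⁻¹ * (A : GL (Fin n) K) * cU = (A : GL (Fin n) K) := by
      rw [mul_assoc, ← hcUA, ← mul_assoc, inv_mul_cancel, one_mul]
    calc g * cU⁻¹ * (A : GL (Fin n) K) * (g * cU⁻¹)⁻¹
        = g * (cU⁻¹ * (A : GL (Fin n) K) * cU) * g⁻¹ := by group
      _ = g * (A : GL (Fin n) K) * g⁻¹ := by rw [this]

end GU

end Cfsg.Agent.Helper43.UnitaryConj
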