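import Mathlib
import Cfsg.Prelude.Def_LieClassical
import Cfsg.Agent.Lib.Helper43.UnitaryConj
import Cfsg.Agent.Lib.Helper36.StdFamily

/-!
# Which matrices are conjugate into `GU_n(q)`
-/

set_option autoImplicit false

namespace Cfsg.Agent.Helper43.UnitaryConj

open Matrix Module

section Classify

variable {K : Type*} [Field K] {n : ℕ}

/-- the sesquilinear form with Gram matrix `h` -/
noncomputable def hermB (σ : K →+* K) (h : Matrix (Fin n) (Fin n) K) :
    (Fin n → K) →ₗ[K] (Fin n → K) →ₛₗ[σ] K :=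
  LinearMap.mk₂'ₛₗ (RingHom.id K) σ (fun u v => u ⬝ᵥ (h *ᵥ (σ ∘ v)))
    (fun u u' v => add_dotProduct _ _ _)
    (fun c u v => by simp [smul_dotProduct])
    (fun u v v' => by
      have : σ ∘ (v + v') = σ ∘ v + σ ∘ v' := by funext i; simp
      rw [this, mulVec_add, dotProduct_add])
    (fun c u v => by
      have : σ ∘ (c • v) = σ c • (σ ∘ v) := by funext i; simp
      rw [this, mulVec_smul, dotProduct_smul])

theorem hermB_apply (σ : K →+* K) (h : Matrix (Fin n) (Fin n) K) (u v : Fin n → K) :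
    hermB σ h u v = u ⬝ᵥ (h *ᵥ (σ ∘ v)) := rfl

theorem exists_factor (σ : K →+* K) (hσ : ∀ x, σ (σ x) = x) (hne : ∃ c, σ c ≠ c)
    (hnorm : ∀ a, σ a = a → a ≠ 0 → ∃ l, l * σ l = a)
    (h : Matrix (Fin n) (Fin n) K) (hU : IsUnit h) (hs : starM σ h = h) :
    ∃ m : Matrix (Fin n) (Fin n) K, IsUnit m ∧ starM σ m * m = h := by
  classical
  have hherm : Cfsg.Agent.Helper36.IsHerm (hermB σ h) := by
    intro u v
    rw [hermB_apply, hermB_apply]
    have h1 : h.map σ = hᵀ := by
      have := congrArg Matrix.transpose hs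
      unfold starM at this
      rw [transpose_transpose] at this
      exact this
    have h2 : σ (u ⬝ᵥ (h *ᵥ (σ ∘ v))) = (σ ∘ u) ⬝ᵥ (h.map σ *ᵥ v) := by
      rw [dotProduct, map_sum, dotProduct]
      apply Finset.sum_congr rfl
      intro i _
      rw [map_mul, Function.comp_apply]
      congr 1
      have hvv : σ ∘ (σ ∘ v) = v := by funext j; simp [hσ]
      rw [RingHom.map_mulVec σ h (σ ∘ v) i, hvv]
    rw [h2, h1, dotProduct_comm (σ ∘ u), Matrix.mulVec_transpose, ← Matrix.dotProduct_mulVec]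
  obtain ⟨ℓ, x, hx, hdim⟩ := Cfsg.Agent.Helper36.exists_orthonormal_of_herm hne hnorm n
    (Fin n → K) (by simp) (hermB σ h) hherm
  have hker : LinearMap.ker (hermB σ h) = ⊥ := by
    rw [eq_bot_iff]
    intro u hu
    rw [LinearMap.mem_ker] at hu
    rw [Submodule.mem_bot]
    have h1 : ∀ w : Fin n → K, (u ᵥ* h) ⬝ᵥ w = 0 := by
      intro w
      have := congrArg (fun f => f (σ ∘ w)) hu
      simp only [hermB_apply, LinearMap.zero_apply] at this
      have hw : σ ∘ (σ ∘ w) = w := by funext i; simp [hσ]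
      rw [hw, Matrix.dotProduct_mulVec] at this
      exact this
    have h2 : u ᵥ* h = 0 := by
      funext i
      have := h1 (Pi.single i 1)
      simpa using this
    obtain ⟨hi, hhi⟩ := hU.exists_right_inv
    calc u = u ᵥ* (h * hi) := by rw [hhi, vecMul_one]
      _ = (u ᵥ* h) ᵥ* hi := by rw [vecMul_vecMul]
      _ = 0 := by rw [h2, zero_vecMul]
  rw [hker, finrank_bot, add_zero, Module.finrank_fin_fun] at hdim
  subst hdim
  set X : Matrix (Fin ℓ) (Fin ℓ) K := Matrix.of x with hX
  have hXh : X * h * starM σ X = 1 := by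
    ext i j
    have := hx i j
    rw [hermB_apply] at this
    rw [Matrix.one_apply]
    have h3 : (X * h * starM σ X) i j = x i ⬝ᵥ (h *ᵥ (σ ∘ x j)) := by
      rw [Matrix.mul_assoc, Matrix.mul_apply, dotProduct]
      apply Finset.sum_congr rfl
      intro a _
      congr 1
    rw [h3, this]
    simp [eq_comm]
  have hXU : IsUnit X := by
    apply IsUnit.of_mul_eq_one (h * starM σ X)
    rw [← Matrix.mul_assoc]; exact hXh
  obtain ⟨Y, hXY⟩ := hXU.exists_right_inv
  have hYX : Y * X = 1 := mul_eq_one_comm.1 hXY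
  have hsXY : starM σ X * starM σ Y = 1 := by rw [← starM_mul, hYX, starM_one]
  refine ⟨starM σ Y, isUnit_starM σ (IsUnit.of_mul_eq_one X hYX), ?_⟩
  rw [starM_starM σ hσ]
  calc Y * starM σ Y = Y * (X * h * starM σ X) * starM σ Y := by rw [hXh, mul_one]
    _ = (Y * X) * h * (starM σ X * starM σ Y) := by simp only [Matrix.mul_assoc]
    _ = h := by rw [hYX, hsXY, one_mul, mul_one]

end Classify

section Main

variable {K : Type*} [Field K] [Fintype K] {q n : ℕ}

theorem frobK_norm (hK : Fintype.card K = q ^ 2) (a : K) (ha : frobK hK a = a) (ha0 : a ≠ 0) :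
    ∃ l, l * frobK hK l = a := by
  obtain ⟨t, ht⟩ := exists_frobK_ne hK
  have hθ : IsUnit (t - frobK hK t) := by
    rw [isUnit_iff_ne_zero, sub_ne_zero]; exact fun h => ht h.symm
  obtain ⟨s, hs⟩ := NormSurj.exists_norm_eq (frobK hK) (frobK_frobK hK) t hθ a
    (isUnit_iff_ne_zero.2 ha0) ha
  exact ⟨s, by rw [mul_comm]; exact hs⟩

theorem exists_factor_frob (hK : Fintype.card K = q ^ 2) (h : Matrix (Fin n) (Fin n) K)
    (hU : IsUnit h) (hs : starM (frobK hK) h = h) :
    ∃ m : Matrix (Fin n) (Fin n) K, IsUnit m ∧ starM (frobK hK) m * m = h :=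
  exists_factor (frobK hK) (frobK_frobK hK) (exists_frobK_ne hK) (frobK_norm hK) h hU hs

/-- Hilbert 90 in `K[c₀]` for the twisted involution `x ↦ g⁻¹ x* g`. -/
theorem exists_twisted (hK : Fintype.card K = q ^ 2) (g gi : Matrix (Fin n) (Fin n) K)
    (hggi : g * gi = 1) :
    ∃ y ∈ Algebra.adjoin K {gi * starM (frobK hK) g}, IsUnit y ∧
      starM (frobK hK) y * starM (frobK hK) g = g * y := by
  classical
  set s := starM (frobK hK) with hs
  have hs_mul : ∀ x y, s (x * y) = s y * s x := starM_mul _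
  have hs_add : ∀ x y, s (x + y) = s x + s y := starM_add _
  have hs_one : s 1 = 1 := starM_one _
  have hs_s : ∀ x, s (s x) = x := starM_starM _ (frobK_frobK hK)
  have hs_alg : ∀ k : K, s (algebraMap K _ k) = algebraMap K _ (frobK hK k) := starM_algebraMap _
  have hgig : gi * g = 1 := mul_eq_one_comm.1 hggi
  have hsgi : s g * s gi = 1 := by rw [← hs_mul, hgig, hs_one]
  have hsgi' : s gi * s g = 1 := mul_eq_one_comm.1 hsgi
  set c₀ := gi * s g with hc₀
  set d₀ := s gi * g with hd₀
  have hcd : c₀ * d₀ = 1 := by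
    rw [hc₀, hd₀]
    calc gi * s g * (s gi * g) = gi * (s g * s gi) * g := by simp only [Matrix.mul_assoc]
      _ = 1 := by rw [hsgi, mul_one, hgig]
  have hdc : d₀ * c₀ = 1 := mul_eq_one_comm.1 hcd
  let dag : Matrix (Fin n) (Fin n) K → Matrix (Fin n) (Fin n) K := fun x => gi * s x * g
  have hdag_add : ∀ x y, dag (x + y) = dag x + dag y := by
    intro x y
    show gi * s (x + y) * g = gi * s x * g + gi * s y * g
    rw [hs_add, mul_add, add_mul]
  have hdag_mul : ∀ x y, dag (x * y) = dag y * dag x := by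
    intro x y
    show gi * s (x * y) * g = (gi * s y * g) * (gi * s x * g)
    rw [hs_mul]
    calc gi * (s y * s x) * g
        = gi * s y * 1 * s x * g := by
          simp only [Matrix.mul_assoc, Matrix.one_mul]
      _ = gi * s y * (g * gi) * s x * g := by rw [hggi]
      _ = _ := by simp only [Matrix.mul_assoc]
  have hdag_one : dag 1 = 1 := by
    show gi * s 1 * g = 1
    rw [hs_one, mul_one, hgig]
  have hdag_dag : ∀ x, dag (dag x) = c₀ * x * d₀ := by
    intro x
    show gi * s (gi * s x * g) * g = c₀ * x * d₀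
    rw [hs_mul, hs_mul, hs_s, hc₀, hd₀]
    simp only [Matrix.mul_assoc]
  have hdag_c₀ : dag c₀ = d₀ := by
    show gi * s (gi * s g) * g = d₀
    rw [hs_mul, hs_s, hd₀]
    calc gi * (g * s gi) * g = (gi * g) * s gi * g := by
          simp only [Matrix.mul_assoc]
      _ = s gi * g := by rw [hgig, one_mul]
  have hdag_alg : ∀ k : K, dag (algebraMap K _ k) = algebraMap K _ (frobK hK k) := by
    intro k
    show gi * s (algebraMap K _ k) * g = _
    rw [hs_alg, ← Algebra.commutes, Matrix.mul_assoc, hgig, mul_one]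
  set S := (Algebra.adjoin K {c₀}).toSubring with hS
  have hcomm : ∀ x ∈ S, ∀ y ∈ S, x * y = y * x := by
    intro x hx y hy
    have := (Algebra.adjoinCommRingOfComm K (s := {c₀}) (by simp)).mul_comm ⟨x, hx⟩ ⟨y, hy⟩
    exact congrArg Subtype.val this
  have hc₀S : c₀ ∈ S := Algebra.subset_adjoin rfl
  -- d₀ ∈ S
  have hd₀S : d₀ ∈ S := by
    have hinj : Function.Injective (fun y : S => (⟨c₀, hc₀S⟩ : S) * y) := by
      intro y z hyz
      have h1 : c₀ * (y : Matrix (Fin n) (Fin n) K) = c₀ * z := congrArg Subtype.val hyz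
      have h2 := congrArg (fun w => d₀ * w) h1
      simp only [← Matrix.mul_assoc, hdc, Matrix.one_mul] at h2
      exact Subtype.ext h2
    obtain ⟨y, hy⟩ := (Finite.injective_iff_surjective.1 hinj) 1
    have hy' : c₀ * (y : Matrix (Fin n) (Fin n) K) = 1 := congrArg Subtype.val hy
    have : (y : Matrix (Fin n) (Fin n) K) = d₀ := by
      calc (y : Matrix (Fin n) (Fin n) K) = (d₀ * c₀) * y := by rw [hdc, one_mul]
        _ = d₀ * (c₀ * y) := by rw [Matrix.mul_assoc]
        _ = d₀ := by rw [hy', mul_one]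
    rw [← this]; exact y.2
  have hstar : ∀ x ∈ S, dag x ∈ S := by
    intro x hx
    rw [hS, Subalgebra.mem_toSubring] at hx ⊢
    induction hx using Algebra.adjoin_induction with
    | mem x hx =>
      rw [Set.mem_singleton_iff] at hx
      rw [hx, hdag_c₀]; exact hd₀S
    | algebraMap k => rw [hdag_alg]; exact Subalgebra.algebraMap_mem _ _
    | add x y _ _ hx hy => rw [hdag_add]; exact Subalgebra.add_mem _ hx hy
    | mul x y _ _ hx hy => rw [hdag_mul]; exact Subalgebra.mul_mem _ hy hx
  have hinvS : ∀ x ∈ S, dag (dag x) = x := by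
    intro x hx
    rw [hdag_dag, hcomm c₀ hc₀S x hx, Matrix.mul_assoc, hcd, mul_one]
  obtain ⟨t, ht⟩ := exists_frobK_ne hK
  have hθ : IsUnit (algebraMap K (Matrix (Fin n) (Fin n) K) t -
      dag (algebraMap K (Matrix (Fin n) (Fin n) K) t)) := by
    rw [hdag_alg, ← map_sub]
    apply IsUnit.map
    rw [isUnit_iff_ne_zero, sub_ne_zero]
    exact fun h => ht h.symm
  obtain ⟨y, hyS, hyU, hy⟩ := exists_div_subring dag hdag_add hdag_mul hdag_one
    (fun _ _ _ => trivial) S hcomm hstar hinvS (algebraMap K _ t)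
    (Subalgebra.algebraMap_mem _ _) hθ c₀ hc₀S (by rw [hdag_c₀]; exact hdc)
  refine ⟨y, hyS, hyU, ?_⟩
  -- c₀ * dag y = y
  have h1 : dag y * c₀ = y := by rw [← hcomm c₀ hc₀S _ (hstar y hyS)]; exact hy
  have h2 : g * (dag y * c₀) = s y * s g := by
    show g * ((gi * s y * g) * (gi * s g)) = s y * s g
    calc g * ((gi * s y * g) * (gi * s g)) = (g * gi) * s y * (g * gi) * s g := by
          simp only [Matrix.mul_assoc]
      _ = s y * s g := by rw [hggi, one_mul, mul_one]
  rw [← h2, h1]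

/-- **Which matrices are conjugate into `GU_n(q)`**: exactly those similar to their image under
inverse-conjugate-transpose. -/
theorem conj_into_GU_iff (hK : Fintype.card K = q ^ 2) (A : GL (Fin n) K) :
    (∃ B : ↥(Cfsg.GU n K q), IsConj A (B : GL (Fin n) K)) ↔
      IsConj (A : Matrix (Fin n) (Fin n) K)
        (((A : Matrix (Fin n) (Fin n) K).map (fun x : K => x ^ q)).transpose)⁻¹ := by
  classical
  set s : Matrix (Fin n) (Fin n) K → Matrix (Fin n) (Fin n) K := starM (frobK hK) with hs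
  have hs_mul : ∀ x y, s (x * y) = s y * s x := starM_mul _
  have hs_one : s 1 = 1 := starM_one _
  have hs_s : ∀ x, s (s x) = x := starM_starM _ (frobK_frobK hK)
  set AM : Matrix (Fin n) (Fin n) K := (A : Matrix (Fin n) (Fin n) K) with hAM
  have hrw : ((AM.map (fun x : K => x ^ q)).transpose) = s AM := rfl
  rw [hrw]
  have hAU : IsUnit AM := ⟨A, rfl⟩
  have hsAU : IsUnit (s AM) := isUnit_starM _ hAU
  have hsAdet : IsUnit (s AM).det := (Matrix.isUnit_iff_isUnit_det _).1 hsAU
  constructor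
  · rintro ⟨B, hAB⟩
    obtain ⟨g, hg⟩ := isConj_iff.1 hAB
    set BM : Matrix (Fin n) (Fin n) K := ((B : GL (Fin n) K) : Matrix (Fin n) (Fin n) K) with hBM
    set gM : Matrix (Fin n) (Fin n) K := (g : Matrix (Fin n) (Fin n) K) with hgM
    have hB : s BM * BM = 1 := (mem_GU_iff hK _).1 B.2
    have hgAB : gM * AM = BM * gM := by
      have h1 : g * A = (B : GL (Fin n) K) * g := by
        rw [← hg]; group
      have := congrArg (fun x : GL (Fin n) K => (x : Matrix (Fin n) (Fin n) K)) h1
      simpa using this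
    have hgU : IsUnit gM := ⟨g, rfl⟩
    have hcU : IsUnit (s gM * gM) := (isUnit_starM _ hgU).mul hgU
    have hkey : s AM * (s gM * gM) * AM = s gM * gM := by
      have h1 : s AM * s gM = s gM * s BM := by
        rw [← hs_mul, ← hs_mul, hgAB]
      calc s AM * (s gM * gM) * AM = (s AM * s gM) * (gM * AM) := by simp only [Matrix.mul_assoc]
        _ = s gM * (s BM * BM) * gM := by rw [h1, hgAB]; simp only [Matrix.mul_assoc]
        _ = s gM * gM := by rw [hB, mul_one]
    obtain ⟨cU, hcU'⟩ := hcU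
    refine ⟨cU, ?_⟩
    show (cU : Matrix (Fin n) (Fin n) K) * AM = (s AM)⁻¹ * cU
    rw [hcU']
    calc s gM * gM * AM = (s AM)⁻¹ * (s AM * (s gM * gM) * AM) := by
          rw [Matrix.mul_assoc (s AM), Matrix.nonsing_inv_mul_cancel_left _ _ hsAdet]
      _ = (s AM)⁻¹ * (s gM * gM) := by rw [hkey]
  · rintro ⟨gU, hgU⟩
    set g : Matrix (Fin n) (Fin n) K := (gU : Matrix (Fin n) (Fin n) K) with hgdef
    set gi : Matrix (Fin n) (Fin n) K := ((gU⁻¹ : (Matrix (Fin n) (Fin n) K)ˣ) :
      Matrix (Fin n) (Fin n) K) with hgidef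
    have hggi : g * gi = 1 := by rw [hgdef, hgidef, ← Units.val_mul, mul_inv_cancel]; rfl
    have hgig : gi * g = 1 := mul_eq_one_comm.1 hggi
    have hsemi : g * AM = (s AM)⁻¹ * g := hgU
    have hgA : s AM * g * AM = g := by
      rw [Matrix.mul_assoc, hsemi, Matrix.mul_nonsing_inv_cancel_left _ _ hsAdet]
    have hsgA : s AM * s g * AM = s g := by
      have := congrArg s hgA
      rw [hs_mul, hs_mul, hs_s, ← Matrix.mul_assoc] at this
      exact this
    -- c₀ commutes with A
    set c₀ := gi * s g with hc₀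
    have hAgi : AM * gi = gi * (s AM)⁻¹ := by
      calc AM * gi = (gi * g) * AM * gi := by rw [hgig, one_mul]
        _ = gi * (g * AM) * gi := by simp only [Matrix.mul_assoc]
        _ = gi * ((s AM)⁻¹ * g) * gi := by rw [hsemi]
        _ = gi * (s AM)⁻¹ * (g * gi) := by simp only [Matrix.mul_assoc]
        _ = gi * (s AM)⁻¹ := by rw [hggi, mul_one]
    have hsgA' : s g * AM = (s AM)⁻¹ * s g := by
      calc s g * AM = (s AM)⁻¹ * (s AM * s g * AM) := by
            rw [Matrix.mul_assoc (s AM), Matrix.nonsing_inv_mul_cancel_left _ _ hsAdet]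
        _ = (s AM)⁻¹ * s g := by rw [hsgA]
    have hc₀A : AM * c₀ = c₀ * AM := by
      rw [hc₀, ← Matrix.mul_assoc, hAgi, Matrix.mul_assoc, ← hsgA', Matrix.mul_assoc]
    obtain ⟨y, hyS, hyU, hy⟩ := exists_twisted hK g gi hggi
    have hyA : AM * y = y * AM := commute_of_mem_adjoin hc₀A hyS
    set h := g * y with hh
    have hgU' : IsUnit g := ⟨gU, rfl⟩
    have hhU : IsUnit h := hgU'.mul hyU
    have hhs : s h = h := by rw [hh, hs_mul]; exact hy
    have hhA : s AM * h * AM = h := by
      rw [hh]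
      calc s AM * (g * y) * AM = s AM * g * (y * AM) := by simp only [Matrix.mul_assoc]
        _ = (s AM * g * AM) * y := by rw [← hyA]; simp only [Matrix.mul_assoc]
        _ = g * y := by rw [hgA]
    obtain ⟨m, hmU, hm⟩ := exists_factor_frob hK h hhU hhs
    obtain ⟨mU, hmU'⟩ := hmU
    set B : GL (Fin n) K := mU * A * mU⁻¹ with hB
    have hmi : m * ((mU⁻¹ : GL (Fin n) K) : Matrix (Fin n) (Fin n) K) = 1 := by
      rw [← hmU', ← Units.val_mul, mul_inv_cancel]; rfl
    set mi := ((mU⁻¹ : GL (Fin n) K) : Matrix (Fin n) (Fin n) K) with hmidef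
    have hsmi : s mi * s m = 1 := by rw [← hs_mul, hmi, hs_one]
    have hBmem : B ∈ Cfsg.GU n K q := by
      rw [mem_GU_iff hK]
      have hBM : (B : Matrix (Fin n) (Fin n) K) = m * AM * mi := by
        rw [hB, Units.val_mul, Units.val_mul, hmU']
      rw [hBM]
      show s (m * AM * mi) * (m * AM * mi) = 1
      rw [hs_mul, hs_mul]
      calc s mi * (s AM * s m) * (m * AM * mi) = s mi * (s AM * (s m * m) * AM) * mi := by
            simp only [Matrix.mul_assoc]
        _ = s mi * (s m * m) * mi := by rw [hm, hhA, ← hm]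
        _ = (s mi * s m) * (m * mi) := by simp only [Matrix.mul_assoc]
        _ = 1 := by rw [hsmi, hmi, one_mul]
    exact ⟨⟨B, hBmem⟩, isConj_iff.2 ⟨mU, rfl⟩⟩

end Main

end Cfsg.Agent.Helper43.UnitaryConj
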