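import Mathlib
import Cfsg.Agent.Lib.Helper43.QuadWitt

set_option autoImplicit false

namespace Cfsg.Agent.Helper43

open Module QuadraticMap

universe u

section Ortho

variable {F : Type*} {V : Type u} [Field F] [AddCommGroup V] [Module F V]

/-- value of a quadratic form on a combination of pairwise orthogonal vectors -/
theorem ortho_sum (Q : QuadraticForm F V) {ι : Type*} (b : ι → V)
    (hb : ∀ i j, i ≠ j → polar Q (b i) (b j) = 0) (a : ι → F) (s : Finset ι) :
    Q (∑ i ∈ s, a i • b i) = ∑ i ∈ s, a i ^ 2 * Q (b i) := by
  classical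
  induction s using Finset.induction_on with
  | empty => simp
  | insert j s hj ih =>
    rw [Finset.sum_insert hj, Finset.sum_insert hj, map_add_eq, ih, QuadraticMap.map_smul]
    have h0 : polar Q (a j • b j) (∑ i ∈ s, a i • b i) = 0 := by
      have h1 : polar Q (a j • b j) (∑ i ∈ s, a i • b i)
          = polarBilin Q (a j • b j) (∑ i ∈ s, a i • b i) := rfl
      rw [h1, map_sum]
      apply Finset.sum_eq_zero
      intro i hi
      rw [map_smul, map_smul, LinearMap.smul_apply, polarBilin_apply_apply,
        hb j i (by rintro rfl; exact hj hi)]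
      simp
    rw [h0, add_zero, smul_eq_mul]
    ring

/-- Two orthogonal bases with the same values give an isometry. -/
theorem isometry_of_ortho_bases {V₂ : Type*} [AddCommGroup V₂] [Module F V₂]
    (Q₁ : QuadraticForm F V) (Q₂ : QuadraticForm F V₂) {ι : Type*} [Fintype ι]
    (b₁ : Basis ι F V) (b₂ : Basis ι F V₂)
    (h₁ : ∀ i j, i ≠ j → polar Q₁ (b₁ i) (b₁ j) = 0)
    (h₂ : ∀ i j, i ≠ j → polar Q₂ (b₂ i) (b₂ j) = 0)
    (hval : ∀ i, Q₂ (b₂ i) = Q₁ (b₁ i)) :
    ∃ g : V ≃ₗ[F] V₂, ∀ v, Q₂ (g v) = Q₁ v := by
  refine ⟨b₁.equiv b₂ (Equiv.refl ι), ?_⟩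
  intro v
  have hv : v = ∑ i, (b₁.repr v i) • b₁ i := (b₁.sum_repr v).symm
  conv_lhs => rw [hv]
  conv_rhs => rw [hv]
  rw [map_sum]
  simp only [map_smul, Basis.equiv_apply, Equiv.refl_apply]
  rw [ortho_sum Q₂ b₂ h₂, ortho_sum Q₁ b₁ h₁]
  apply Finset.sum_congr rfl
  intro i _
  rw [hval]

end Ortho

section NF

variable {F : Type*} [Field F] [Finite F]

/-- Over a finite field of odd order a nondegenerate quadratic form has an orthogonal basis
all of whose values are `1` except possibly the last. -/
theorem exists_ortho_basis_one (h2 : (2 : F) ≠ 0) : ∀ (n : ℕ) (V : Type u) [AddCommGroup V]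
    [Module F V] [FiniteDimensional F V] (Q : QuadraticForm F V), finrank F V = n + 1 →
    (polarBilin Q).Nondegenerate →
    ∃ b : Basis (Fin (n + 1)) F V, (∀ i j, i ≠ j → polar Q (b i) (b j) = 0) ∧
      (∀ i, i ≠ Fin.last n → Q (b i) = 1) ∧ Q (b (Fin.last n)) ≠ 0 := by
  intro n
  induction n with
  | zero =>
    intro V _ _ _ Q hn hQ
    have hpos : 0 < finrank F V := by omega
    have : Nontrivial V := finrank_pos_iff.mp hpos
    obtain ⟨x, hx⟩ := exists_ne (0 : V)
    have hli : LinearIndependent F (fun _ : Fin 1 => x) := by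
      rw [linearIndependent_unique_iff]; exact hx
    have hcard : Fintype.card (Fin 1) = finrank F V := by rw [hn]; simp
    have hss : ∀ i j : Fin (0 + 1), i = j := fun i j => Subsingleton.elim (α := Fin 1) i j
    refine ⟨basisOfLinearIndependentOfCardEqFinrank hli hcard, ?_, ?_, ?_⟩
    · intro i j hij
      exact absurd (hss i j) hij
    · intro i hi
      exact absurd (hss i _) hi
    · rw [coe_basisOfLinearIndependentOfCardEqFinrank]
      intro hQx
      -- V = span x, polar x (a x) = 2 a Q x = 0
      apply hx
      apply hQ.1 x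
      intro y
      have hspan : Submodule.span F {x} = ⊤ := by
        apply Submodule.eq_top_of_finrank_eq
        rw [finrank_span_singleton hx, hn]
      have hy : y ∈ Submodule.span F {x} := by rw [hspan]; trivial
      obtain ⟨a, rfl⟩ := Submodule.mem_span_singleton.mp hy
      rw [polarBilin_apply_apply, polar_smul_right, polar_self, hQx]
      simp
  | succ n ih =>
    intro V _ _ _ Q hn hQ
    obtain ⟨x, hQx⟩ := exists_eq_one Q hQ (by omega)
    have hxx : polarBilin Q x x ≠ 0 := by
      rw [polarBilin_apply_apply, polar_self, hQx]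
      simpa using h2
    have hx0 : x ≠ 0 := by
      rintro rfl
      simp at hQx
    have hdisj : Disjoint (Submodule.span F {x})
        (LinearMap.BilinForm.orthogonal (polarBilin Q) (Submodule.span F {x})) := by
      rw [disjoint_iff]
      exact LinearMap.BilinForm.span_singleton_inf_orthogonal_eq_bot hxx
    obtain ⟨hcompl, hWnd, hWdim⟩ := orthogonal_props Q hQ _ hdisj
    set W := LinearMap.BilinForm.orthogonal (polarBilin Q) (Submodule.span F {x}) with hW
    rw [finrank_span_singleton hx0, hn] at hWdim
    obtain ⟨b', hb'o, hb'1, hb'l⟩ := ih W (qrestrict Q W) (by rw [hWdim]; omega) hWnd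
    have hxW : ∀ w : W, polar Q x (w : V) = 0 := by
      intro w
      exact (LinearMap.BilinForm.mem_orthogonal_iff.mp w.2) x (Submodule.mem_span_singleton_self x)
    have hli : LinearIndependent F (Fin.cons x (fun i => (b' i : V)) : Fin (n + 1 + 1) → V) := by
      apply LinearIndependent.finCons
      · exact b'.linearIndependent.map' W.subtype (Submodule.ker_subtype W)
      · intro hmem
        have hle : Submodule.span F (Set.range (fun i => (b' i : V))) ≤ W := by
          rw [Submodule.span_le]
          rintro _ ⟨i, rfl⟩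
          exact (b' i).2
        have := hxW ⟨x, hle hmem⟩
        exact hxx this
    have hcard : Fintype.card (Fin (n + 1 + 1)) = finrank F V := by rw [hn]; simp
    refine ⟨basisOfLinearIndependentOfCardEqFinrank hli hcard, ?_, ?_, ?_⟩
    · rw [coe_basisOfLinearIndependentOfCardEqFinrank]
      intro i j
      refine Fin.cases ?_ (fun i => ?_) i <;> refine Fin.cases ?_ (fun j => ?_) j
      · intro h; exact absurd rfl h
      · intro _
        simp only [Fin.cons_zero, Fin.cons_succ]
        exact hxW _
      · intro _
        simp only [Fin.cons_zero, Fin.cons_succ]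
        rw [polar_comm]; exact hxW _
      · intro hij
        simp only [Fin.cons_succ]
        exact hb'o i j (fun h => hij (by rw [h]))
    · rw [coe_basisOfLinearIndependentOfCardEqFinrank]
      intro i
      refine Fin.cases ?_ (fun i => ?_) i
      · intro _; simpa using hQx
      · intro hi
        simp only [Fin.cons_succ]
        have : i ≠ Fin.last n := by
          intro h
          apply hi
          rw [h, Fin.succ_last]
        exact hb'1 i this
    · rw [coe_basisOfLinearIndependentOfCardEqFinrank]
      have : Fin.last (n + 1) = (Fin.last n).succ := (Fin.succ_last n).symm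
      rw [this, Fin.cons_succ]
      exact hb'l

end NF

end Cfsg.Agent.Helper43
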