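import Mathlib
import Cfsg.Agent.S2622
import Cfsg.Agent.S2623
import Cfsg.Agent.S2167

/-!
# Congruence of symmetric matrices over finite fields

* `quad_form_iff`: for symmetric `P` (char ≠ 2), `hᵀ P h = c P` iff `h` multiplies `v ↦ v ⬝ P v` by `c`;
* `congr_inv`: `h g hᵀ = c g` iff `hᵀ g⁻¹ h = c g⁻¹`;
* `exists_congr_odd`: odd characteristic, odd dimension: any two invertible symmetric matrices are
  congruent up to a scalar;
* `exists_congr_one_char_two`: characteristic two: a non-alternating invertible symmetric matrix is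
  congruent to the identity.
-/

set_option autoImplicit false

namespace Cfsg.Agent.Helper43.GraphAutCongr

open Matrix

variable {F : Type*} [Field F] {κ : Type} [Fintype κ] [DecidableEq κ]

theorem quad_transform (P h : Matrix κ κ F) (v w : κ → F) :
    (h *ᵥ v) ⬝ᵥ (P *ᵥ (h *ᵥ w)) = v ⬝ᵥ ((hᵀ * P * h) *ᵥ w) := by
  rw [Matrix.mulVec_mulVec, Matrix.dotProduct_mulVec, ← Matrix.vecMul_transpose,
    Matrix.vecMul_vecMul, ← Matrix.dotProduct_mulVec, Matrix.mul_assoc]

theorem dot_symm (M : Matrix κ κ F) (hM : Mᵀ = M) (v w : κ → F) :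
    v ⬝ᵥ (M *ᵥ w) = w ⬝ᵥ (M *ᵥ v) := by
  rw [Matrix.dotProduct_mulVec, ← Matrix.mulVec_transpose, hM, dotProduct_comm]

theorem entry_eq (M : Matrix κ κ F) (i j : κ) :
    (Pi.single i 1 : κ → F) ⬝ᵥ (M *ᵥ (Pi.single j 1 : κ → F)) = M i j := by
  rw [Matrix.mulVec_single_one, single_one_dotProduct]
  rfl

/-- polarization: a symmetric matrix is determined by its quadratic form (char ≠ 2) -/
theorem eq_of_quad_eq (h2 : (2 : F) ≠ 0) (M M' : Matrix κ κ F) (hM : Mᵀ = M) (hM' : M'ᵀ = M')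
    (h : ∀ v : κ → F, v ⬝ᵥ (M *ᵥ v) = v ⬝ᵥ (M' *ᵥ v)) : M = M' := by
  ext i j
  have h1 := h (Pi.single i 1 + Pi.single j 1)
  have hi := h (Pi.single i 1)
  have hj := h (Pi.single j 1)
  simp only [Matrix.mulVec_add, add_dotProduct, dotProduct_add] at h1
  rw [dot_symm M hM (Pi.single j 1) (Pi.single i 1), dot_symm M' hM' (Pi.single j 1) (Pi.single i 1)] at h1
  simp only [entry_eq] at h1 hi hj
  have h3 : (2 : F) * M i j = 2 * M' i j := by linear_combination h1 - hi - hj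
  exact mul_left_cancel₀ h2 h3

/-- for symmetric `P` in characteristic not two, `hᵀ P h = c P` iff `h` scales the quadratic form -/
theorem quad_form_iff (h2 : (2 : F) ≠ 0) (P : Matrix κ κ F) (hP : Pᵀ = P) (h : Matrix κ κ F) (c : F) :
    hᵀ * P * h = c • P ↔ ∀ v : κ → F, (h *ᵥ v) ⬝ᵥ (P *ᵥ (h *ᵥ v)) = c * (v ⬝ᵥ (P *ᵥ v)) := by
  constructor
  · intro hc v
    rw [quad_transform, hc, Matrix.smul_mulVec, dotProduct_smul, smul_eq_mul]
  · intro hv
    apply eq_of_quad_eq h2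
    · rw [Matrix.transpose_mul, Matrix.transpose_mul, Matrix.transpose_transpose, hP, Matrix.mul_assoc]
    · rw [Matrix.transpose_smul, hP]
    · intro v
      rw [← quad_transform, hv, Matrix.smul_mulVec, dotProduct_smul, smul_eq_mul]

/-- passing to the inverse matrix -/
theorem congr_inv (h h' g P : Matrix κ κ F) (hh' : h' * h = 1) (hgP : g * P = 1)
    (hPg : P * g = 1) (c : F) (hc : h * g * hᵀ = c • g) : hᵀ * P * h = c • P := by
  have e1 : h * g = c • (g * h'ᵀ) := by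
    have : h * g * hᵀ * h'ᵀ = (c • g) * h'ᵀ := by rw [hc]
    rw [Matrix.mul_assoc, ← Matrix.transpose_mul, hh', Matrix.transpose_one, Matrix.mul_one,
      Matrix.smul_mul] at this
    exact this
  have e2 : hᵀ * P * h * g = c • 1 := by
    rw [Matrix.mul_assoc, e1, Matrix.mul_smul, Matrix.mul_assoc, ← Matrix.mul_assoc P, hPg, Matrix.one_mul,
      ← Matrix.transpose_mul, hh', Matrix.transpose_one]
  calc hᵀ * P * h = hᵀ * P * h * (g * P) := by rw [hgP, Matrix.mul_one]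
    _ = (hᵀ * P * h * g) * P := by simp only [Matrix.mul_assoc]
    _ = c • P := by rw [e2, Matrix.smul_mul, Matrix.one_mul]

theorem congr_inv_iff (h h' g P : Matrix κ κ F) (hh : h * h' = 1) (hh' : h' * h = 1) (hgP : g * P = 1)
    (hPg : P * g = 1) (c : F) : h * g * hᵀ = c • g ↔ hᵀ * P * h = c • P := by
  constructor
  · exact congr_inv h h' g P hh' hgP hPg c
  · intro hc
    have h3 := congr_inv hᵀ h'ᵀ P g (by rw [← Matrix.transpose_mul, hh, Matrix.transpose_one]) hPg hgP c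
      (by rw [Matrix.transpose_transpose]; exact hc)
    rw [Matrix.transpose_transpose] at h3
    exact h3

section Odd

variable [Fintype F] {n : ℕ}

/-- the quadratic form `v ↦ v ⬝ A v` -/
noncomputable def qOf (A : Matrix (Fin n) (Fin n) F) : QuadraticForm F (Fin n → F) :=
  LinearMap.BilinMap.toQuadraticMap (Matrix.toBilin' A)

theorem qOf_apply (A : Matrix (Fin n) (Fin n) F) (v : Fin n → F) : qOf A v = v ⬝ᵥ (A *ᵥ v) := by
  unfold qOf
  rw [LinearMap.BilinMap.toQuadraticMap_apply, Matrix.toBilin'_apply']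

theorem polar_qOf (A : Matrix (Fin n) (Fin n) F) (hA : Aᵀ = A) (v w : Fin n → F) :
    QuadraticMap.polar (qOf A) v w = 2 * (v ⬝ᵥ (A *ᵥ w)) := by
  unfold QuadraticMap.polar
  rw [qOf_apply, qOf_apply, qOf_apply]
  simp only [Matrix.mulVec_add, add_dotProduct, dotProduct_add]
  rw [dot_symm A hA w v]
  ring

theorem qOf_nondeg (h2 : (2 : F) ≠ 0) (A : Matrix (Fin n) (Fin n) F) (hA : Aᵀ = A) (hdet : A.det ≠ 0) :
    (QuadraticMap.polarBilin (qOf A)).Nondegenerate := by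
  have h1 : QuadraticMap.polarBilin (qOf A) = Matrix.toBilin' ((2 : F) • A) := by
    apply LinearMap.ext₂
    intro v w
    rw [QuadraticMap.polarBilin_apply_apply, polar_qOf A hA, Matrix.toBilin'_apply', Matrix.smul_mulVec,
      dotProduct_smul, smul_eq_mul]
  rw [h1]
  apply Matrix.Nondegenerate.toBilin'
  rw [Matrix.nondegenerate_iff_det_ne_zero, Matrix.det_smul]
  exact mul_ne_zero (pow_ne_zero _ h2) hdet

theorem gram_qOf (A : Matrix (Fin n) (Fin n) F) (hA : Aᵀ = A) :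
    (Matrix.of (fun i j : Fin n => QuadraticMap.polar (qOf A) (Pi.single i 1) (Pi.single j 1))) =
      (2 : F) • A := by
  ext i j
  rw [Matrix.of_apply, polar_qOf A hA, entry_eq, Matrix.smul_apply, smul_eq_mul]

/-- odd characteristic, odd dimension: two invertible symmetric matrices are congruent up to a scalar -/
theorem exists_congr_odd (h2 : (2 : F) ≠ 0) (hodd : Odd n) (g g' : GL (Fin n) F)
    (hg : ((g : Matrix (Fin n) (Fin n) F))ᵀ = (g : Matrix (Fin n) (Fin n) F))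
    (hg' : ((g' : Matrix (Fin n) (Fin n) F))ᵀ = (g' : Matrix (Fin n) (Fin n) F)) :
    ∃ (h : GL (Fin n) F) (c : Fˣ), (h : Matrix (Fin n) (Fin n) F) * (g : Matrix (Fin n) (Fin n) F) *
      ((h : Matrix (Fin n) (Fin n) F))ᵀ = (c : F) • (g' : Matrix (Fin n) (Fin n) F) := by
  have hdg : (g : Matrix (Fin n) (Fin n) F).det ≠ 0 := by
    have := (Matrix.isUnit_iff_isUnit_det _).1 (Units.isUnit g)
    exact this.ne_zero
  have hdg' : (g' : Matrix (Fin n) (Fin n) F).det ≠ 0 := by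
    have := (Matrix.isUnit_iff_isUnit_det _).1 (Units.isUnit g')
    exact this.ne_zero
  set c0 : F := (g : Matrix (Fin n) (Fin n) F).det * (g' : Matrix (Fin n) (Fin n) F).det with hc0
  have hc0ne : c0 ≠ 0 := mul_ne_zero hdg hdg'
  set A' : Matrix (Fin n) (Fin n) F := c0 • (g' : Matrix (Fin n) (Fin n) F) with hA'
  have hA's : A'ᵀ = A' := by rw [hA', Matrix.transpose_smul, hg']
  have hA'det : A'.det ≠ 0 := by
    rw [hA', Matrix.det_smul]
    exact mul_ne_zero (pow_ne_zero _ hc0ne) hdg'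
  obtain ⟨k, hk⟩ : ∃ k : ℕ, n = 2 * k + 1 := hodd
  have hsq : IsSquare ((Matrix.of (fun i j : Fin n =>
      QuadraticMap.polar (qOf A') (Pi.single i 1) (Pi.single j 1))).det *
      (Matrix.of (fun i j : Fin n => QuadraticMap.polar (qOf (g : Matrix (Fin n) (Fin n) F))
        (Pi.single i 1) (Pi.single j 1))).det) := by
    rw [gram_qOf A' hA's, gram_qOf _ hg, hA']
    simp only [Matrix.det_smul, Fintype.card_fin]
    refine ⟨(2 : F) ^ n * c0 ^ (k + 1), ?_⟩
    have e : c0 ^ n = c0 ^ (2 * k + 1) := by rw [hk]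
    have e2 : (g : Matrix (Fin n) (Fin n) F).det * (g' : Matrix (Fin n) (Fin n) F).det = c0 := hc0.symm
    rw [e]
    linear_combination ((2 : F) ^ n) ^ 2 * c0 ^ (2 * k + 1) * e2
  obtain ⟨φ, hφ⟩ := (Cfsg.Agent.S2623.result h2 (qOf A') (qOf (g : Matrix (Fin n) (Fin n) F))
    (qOf_nondeg h2 A' hA's hA'det) (qOf_nondeg h2 _ hg hdg)).2 hsq
  -- `φ` has matrix `K` with `Kᵀ g K = A'`
  set K : Matrix (Fin n) (Fin n) F := LinearMap.toMatrix' (φ : (Fin n → F) →ₗ[F] (Fin n → F)) with hK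
  set K' : Matrix (Fin n) (Fin n) F :=
    LinearMap.toMatrix' (φ.symm : (Fin n → F) →ₗ[F] (Fin n → F)) with hK'
  have hKK' : K * K' = 1 := by
    rw [hK, hK', ← LinearMap.toMatrix'_comp]
    have : ((φ : (Fin n → F) →ₗ[F] (Fin n → F)).comp (φ.symm : (Fin n → F) →ₗ[F] (Fin n → F))) =
        LinearMap.id := by ext x; simp
    rw [this, LinearMap.toMatrix'_id]
  have hK'K : K' * K = 1 := by
    rw [hK, hK', ← LinearMap.toMatrix'_comp]
    have : ((φ.symm : (Fin n → F) →ₗ[F] (Fin n → F)).comp (φ : (Fin n → F) →ₗ[F] (Fin n → F))) =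
        LinearMap.id := by ext x; simp
    rw [this, LinearMap.toMatrix'_id]
  have hKv : ∀ v : Fin n → F, K *ᵥ v = φ v := by
    intro v
    rw [hK, LinearMap.toMatrix'_mulVec]
    rfl
  have hmain : Kᵀ * (g : Matrix (Fin n) (Fin n) F) * K = A' := by
    apply eq_of_quad_eq h2
    · rw [Matrix.transpose_mul, Matrix.transpose_mul, Matrix.transpose_transpose, hg, Matrix.mul_assoc]
    · exact hA's
    · intro v
      rw [← quad_transform, hKv, ← qOf_apply, hφ, qOf_apply]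
  refine ⟨⟨Kᵀ, K'ᵀ, ?_, ?_⟩, Units.mk0 c0 hc0ne, ?_⟩
  · rw [← Matrix.transpose_mul, hK'K, Matrix.transpose_one]
  · rw [← Matrix.transpose_mul, hKK', Matrix.transpose_one]
  · show Kᵀ * (g : Matrix (Fin n) (Fin n) F) * Kᵀᵀ = c0 • (g' : Matrix (Fin n) (Fin n) F)
    rw [Matrix.transpose_transpose, hmain]

end Odd

section Two

variable [Fintype F] [CharP F 2] {n : ℕ}

/-- characteristic two: a non-alternating invertible symmetric matrix is congruent to the identity -/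
theorem exists_congr_one_char_two (g : GL (Fin n) F)
    (hg : ((g : Matrix (Fin n) (Fin n) F))ᵀ = (g : Matrix (Fin n) (Fin n) F))
    (hna : ∃ v : Fin n → F, v ⬝ᵥ ((g : Matrix (Fin n) (Fin n) F) *ᵥ v) ≠ 0) :
    ∃ h : GL (Fin n) F, (h : Matrix (Fin n) (Fin n) F) * (g : Matrix (Fin n) (Fin n) F) *
      ((h : Matrix (Fin n) (Fin n) F))ᵀ = 1 := by
  set B : LinearMap.BilinForm F (Fin n → F) := Matrix.toBilin' (g : Matrix (Fin n) (Fin n) F) with hB
  have hBapp : ∀ x y, B x y = x ⬝ᵥ ((g : Matrix (Fin n) (Fin n) F) *ᵥ y) := fun x y =>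
    Matrix.toBilin'_apply' _ x y
  have hS : B.IsSymm := by
    refine ⟨fun x y => ?_⟩
    rw [hBapp, hBapp]
    exact dot_symm _ hg x y
  have hdet : (g : Matrix (Fin n) (Fin n) F).det ≠ 0 := by
    have := (Matrix.isUnit_iff_isUnit_det _).1 (Units.isUnit g)
    exact this.ne_zero
  have hnd : B.Nondegenerate := by
    apply Matrix.Nondegenerate.toBilin'
    rw [Matrix.nondegenerate_iff_det_ne_zero]
    exact hdet
  obtain ⟨v, hv⟩ := hna
  obtain ⟨b, hb⟩ := Cfsg.Agent.S2622.result (F := F) (V := Fin n → F) (n := n)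
    (by rw [Module.finrank_fintype_fun_eq_card, Fintype.card_fin]) B hS hnd ⟨v, by rw [hBapp]; exact hv⟩
  -- the matrix with columns `b j`
  set T : Matrix (Fin n) (Fin n) F := (Pi.basisFun F (Fin n)).toMatrix b with hT
  set T' : Matrix (Fin n) (Fin n) F := b.toMatrix (Pi.basisFun F (Fin n)) with hT'
  have hTT' : T * T' = 1 := Module.Basis.toMatrix_mul_toMatrix_flip _ _
  have hT'T : T' * T = 1 := Module.Basis.toMatrix_mul_toMatrix_flip _ _
  have hTcol : ∀ j, T *ᵥ (Pi.single j 1) = b j := by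
    intro j
    rw [Matrix.mulVec_single_one]
    ext i
    rw [Matrix.col_apply, hT, Module.Basis.toMatrix_apply, Pi.basisFun_repr]
  have hmain : Tᵀ * (g : Matrix (Fin n) (Fin n) F) * T = 1 := by
    ext i j
    have h5 := entry_eq (Tᵀ * (g : Matrix (Fin n) (Fin n) F) * T) i j
    rw [← h5, ← quad_transform, hTcol, hTcol, ← hBapp, hb, Matrix.one_apply]
  refine ⟨⟨Tᵀ, T'ᵀ, ?_, ?_⟩, ?_⟩
  · rw [← Matrix.transpose_mul, hT'T, Matrix.transpose_one]
  · rw [← Matrix.transpose_mul, hTT', Matrix.transpose_one]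
  · show Tᵀ * (g : Matrix (Fin n) (Fin n) F) * Tᵀᵀ = 1
    rw [Matrix.transpose_transpose, hmain]

/-- characteristic two: two non-alternating invertible symmetric matrices are congruent -/
theorem exists_congr_char_two (g g' : GL (Fin n) F)
    (hg : ((g : Matrix (Fin n) (Fin n) F))ᵀ = (g : Matrix (Fin n) (Fin n) F))
    (hg' : ((g' : Matrix (Fin n) (Fin n) F))ᵀ = (g' : Matrix (Fin n) (Fin n) F))
    (hna : ∃ v : Fin n → F, v ⬝ᵥ ((g : Matrix (Fin n) (Fin n) F) *ᵥ v) ≠ 0)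
    (hna' : ∃ v : Fin n → F, v ⬝ᵥ ((g' : Matrix (Fin n) (Fin n) F) *ᵥ v) ≠ 0) :
    ∃ h : GL (Fin n) F, (h : Matrix (Fin n) (Fin n) F) * (g : Matrix (Fin n) (Fin n) F) *
      ((h : Matrix (Fin n) (Fin n) F))ᵀ = (g' : Matrix (Fin n) (Fin n) F) := by
  obtain ⟨h1, hh1⟩ := exists_congr_one_char_two g hg hna
  obtain ⟨h2, hh2⟩ := exists_congr_one_char_two g' hg' hna'
  refine ⟨h2⁻¹ * h1, ?_⟩
  have e1 : ((h2⁻¹ : GL (Fin n) F) : Matrix (Fin n) (Fin n) F) * (h2 : Matrix (Fin n) (Fin n) F) = 1 := by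
    rw [← Units.val_mul, inv_mul_cancel, Units.val_one]
  have e2 : (h2 : Matrix (Fin n) (Fin n) F) * ((h2⁻¹ : GL (Fin n) F) : Matrix (Fin n) (Fin n) F) = 1 := by
    rw [← Units.val_mul, mul_inv_cancel, Units.val_one]
  have e3 : (g' : Matrix (Fin n) (Fin n) F) =
      ((h2⁻¹ : GL (Fin n) F) : Matrix (Fin n) (Fin n) F) *
        (((h2⁻¹ : GL (Fin n) F) : Matrix (Fin n) (Fin n) F))ᵀ := by
    calc (g' : Matrix (Fin n) (Fin n) F)
        = (((h2⁻¹ : GL (Fin n) F) : Matrix (Fin n) (Fin n) F) * (h2 : Matrix (Fin n) (Fin n) F)) *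
          (g' : Matrix (Fin n) (Fin n) F) * (((h2⁻¹ : GL (Fin n) F) : Matrix (Fin n) (Fin n) F) *
            (h2 : Matrix (Fin n) (Fin n) F))ᵀ := by
          rw [e1, Matrix.transpose_one, Matrix.one_mul, Matrix.mul_one]
      _ = ((h2⁻¹ : GL (Fin n) F) : Matrix (Fin n) (Fin n) F) * ((h2 : Matrix (Fin n) (Fin n) F) *
          (g' : Matrix (Fin n) (Fin n) F) * ((h2 : Matrix (Fin n) (Fin n) F))ᵀ) *
          (((h2⁻¹ : GL (Fin n) F) : Matrix (Fin n) (Fin n) F))ᵀ := by
          rw [Matrix.transpose_mul]; simp only [Matrix.mul_assoc]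
      _ = _ := by rw [hh2, Matrix.mul_one]
  rw [Units.val_mul, Matrix.transpose_mul]
  calc ((h2⁻¹ : GL (Fin n) F) : Matrix (Fin n) (Fin n) F) * (h1 : Matrix (Fin n) (Fin n) F) *
        (g : Matrix (Fin n) (Fin n) F) * (((h1 : Matrix (Fin n) (Fin n) F))ᵀ *
        (((h2⁻¹ : GL (Fin n) F) : Matrix (Fin n) (Fin n) F))ᵀ)
      = ((h2⁻¹ : GL (Fin n) F) : Matrix (Fin n) (Fin n) F) * ((h1 : Matrix (Fin n) (Fin n) F) *
        (g : Matrix (Fin n) (Fin n) F) * ((h1 : Matrix (Fin n) (Fin n) F))ᵀ) *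
        (((h2⁻¹ : GL (Fin n) F) : Matrix (Fin n) (Fin n) F))ᵀ := by simp only [Matrix.mul_assoc]
    _ = (g' : Matrix (Fin n) (Fin n) F) := by rw [hh1, Matrix.mul_one, ← e3]

/-- an invertible symmetric matrix of odd size in characteristic two is not alternating -/
theorem not_alt_of_odd (hodd : Odd n) (g : GL (Fin n) F) :
    ∃ v : Fin n → F, v ⬝ᵥ ((g : Matrix (Fin n) (Fin n) F) *ᵥ v) ≠ 0 := by
  by_contra hcon
  push Not at hcon
  have h1 := Cfsg.Agent.S2167.alt_matrix_rank_even (g : Matrix (Fin n) (Fin n) F) hcon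
  rw [Matrix.rank_of_isUnit _ (Units.isUnit g), Fintype.card_fin] at h1
  exact (Nat.not_even_iff_odd.2 hodd) h1

end Two

end Cfsg.Agent.Helper43.GraphAutCongr
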