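import Mathlib
import Cfsg.Agent.Lib.Helper13.PSLAut

/-!
# Graph automorphisms `PhiL g * ι` of `PSL_n(F)`, with matrices indexed by an arbitrary type `κ ≃ Fin n`

`Psi e : GL κ F →* MulAut (PSL_n F)` is helper13's `PhiL` precomposed with reindexing along `e : κ ≃ Fin n`.
For the inverse-transpose automorphism `ι`:
* `conj_formula`: `Psi h * (Psi g * ι) * (Psi h)⁻¹ = Psi (h g hᵀ) * ι`;
* `sq_formula`, `transpose_eq_smul_of_order_two`: `(Psi g * ι)² = Psi (g g⁻ᵀ)`, order two forces `gᵀ = c g`;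
* `mem_centralizer_iff`: `Psi h` centralizes `Psi g * ι` iff `h g hᵀ = c g`;
* `cent_equiv`: the centralizer in `Inndiag` is `N / scalars`, `N = {h | h g hᵀ ∈ Fˣ g}`;
* `isConjUnder_of_congr`, `congr_of_isConjUnder`: conjugacy under `Inndiag` is congruence up to scalars;
* `conj_cent_equiv`: conjugate elements have isomorphic centralizers.
-/

set_option autoImplicit false

namespace Cfsg.Agent.Helper43.GraphAut

open Matrix Cfsg.Agent.Helper13.PSLAut

variable {F : Type*} [Field F] {n : ℕ} {κ : Type} [Fintype κ] [DecidableEq κ]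

/-- transpose as an element of `GL` -/
def trGL (g : GL κ F) : GL κ F :=
  ⟨((g : Matrix κ κ F))ᵀ, (((g⁻¹ : GL κ F) : Matrix κ κ F))ᵀ,
    by rw [← Matrix.transpose_mul, ← Units.val_mul, inv_mul_cancel, Units.val_one, Matrix.transpose_one],
    by rw [← Matrix.transpose_mul, ← Units.val_mul, mul_inv_cancel, Units.val_one, Matrix.transpose_one]⟩

theorem trGL_coe (g : GL κ F) : ((trGL g : GL κ F) : Matrix κ κ F) = ((g : Matrix κ κ F))ᵀ := rfl

theorem trGL_inv_coe (g : GL κ F) :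
    (((trGL g)⁻¹ : GL κ F) : Matrix κ κ F) = (((g⁻¹ : GL κ F) : Matrix κ κ F))ᵀ := rfl

theorem trGL_inv (g : GL κ F) : trGL g⁻¹ = (trGL g)⁻¹ := by
  apply Units.ext
  rw [trGL_coe, trGL_inv_coe]

theorem glReindex_coe (e : κ ≃ Fin n) (g : GL κ F) :
    ((Cfsg.Geo.glReindex (F := F) e g : GL (Fin n) F) : Matrix (Fin n) (Fin n) F) =
      Matrix.reindex e e (g : Matrix κ κ F) := rfl

theorem glReindex_trGL (e : κ ≃ Fin n) (g : GL κ F) :
    Cfsg.Geo.glReindex (F := F) e (trGL g) = trGL (Cfsg.Geo.glReindex (F := F) e g) := by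
  apply Units.ext
  rw [glReindex_coe, trGL_coe, trGL_coe, glReindex_coe, Matrix.transpose_reindex]

theorem invT_eq (g : GL (Fin n) F) : invT g = (trGL g)⁻¹ := by
  apply Units.ext
  rw [invT_coe, trGL_inv_coe]

theorem glReindex_mem_scalars (e : κ ≃ Fin n) (x : GL κ F) :
    Cfsg.Geo.glReindex (F := F) e x ∈ Cfsg.Geo.scalars (Fin n) F ↔ x ∈ Cfsg.Geo.scalars κ F := by
  rw [Cfsg.Geo.mem_scalars_iff, Cfsg.Geo.mem_scalars_iff]
  constructor
  · rintro ⟨c, hc⟩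
    refine ⟨c, ?_⟩
    rw [glReindex_coe] at hc
    have h1 : (x : Matrix κ κ F) = (Matrix.reindex e e).symm ((c : F) • (1 : Matrix (Fin n) (Fin n) F)) := by
      rw [← hc, Equiv.symm_apply_apply]
    rw [h1]
    ext i j
    simp [Matrix.one_apply]
  · rintro ⟨c, hc⟩
    refine ⟨c, ?_⟩
    rw [glReindex_coe, hc]
    ext i j
    simp [Matrix.one_apply]

/-- `PhiL` for matrices indexed by `κ` -/
noncomputable def Psi (e : κ ≃ Fin n) : GL κ F →* MulAut (Matrix.ProjectiveSpecialLinearGroup (Fin n) F) :=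
  (PhiL (F := F) (n := n)).comp (Cfsg.Geo.glReindex (F := F) e).toMonoidHom

theorem Psi_apply (e : κ ≃ Fin n) (g : GL κ F) :
    Psi e g = PhiL (Cfsg.Geo.glReindex (F := F) e g) := rfl

theorem Psi_range (e : κ ≃ Fin n) : (Psi (F := F) e).range = Cfsg.inndiagPSL n F := by
  rw [inndiagPSL_eq_range]
  ext x
  constructor
  · rintro ⟨g, rfl⟩
    exact ⟨Cfsg.Geo.glReindex (F := F) e g, rfl⟩
  · rintro ⟨g, rfl⟩
    refine ⟨(Cfsg.Geo.glReindex (F := F) e).symm g, ?_⟩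
    rw [Psi_apply, MulEquiv.apply_symm_apply]

theorem Psi_mem (e : κ ≃ Fin n) (g : GL κ F) : Psi e g ∈ Cfsg.inndiagPSL n F := by
  rw [← Psi_range e]
  exact ⟨g, rfl⟩

theorem Psi_eq_iff (hn : 0 < n) (e : κ ≃ Fin n) (g h : GL κ F) :
    Psi e g = Psi e h ↔ g⁻¹ * h ∈ Cfsg.Geo.scalars κ F := by
  rw [Psi_apply, Psi_apply, PhiL_eq_iff hn, ← map_inv, ← map_mul, glReindex_mem_scalars]

theorem iota_Psi (e : κ ≃ Fin n) {ι : MulAut (Matrix.ProjectiveSpecialLinearGroup (Fin n) F)}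
    (hι : Cfsg.IsInverseTransposeAutPSL ι) (g : GL κ F) :
    ι * Psi e g = Psi e (trGL g)⁻¹ * ι := by
  have h1 : invT (Cfsg.Geo.glReindex (F := F) e g) = Cfsg.Geo.glReindex (F := F) e (trGL g)⁻¹ := by
    rw [invT_eq, map_inv, glReindex_trGL]
  rw [Psi_apply, Psi_apply, invTranspose_mul_PhiL hι, h1]

theorem sInvT_sInvT (s : Matrix.SpecialLinearGroup (Fin n) F) : sInvT (sInvT s) = s := by
  apply Subtype.ext
  rw [sInvT_coe]
  have h1 : (((sInvT s)⁻¹ : Matrix.SpecialLinearGroup (Fin n) F) : Matrix (Fin n) (Fin n) F) *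
      ((sInvT s : Matrix.SpecialLinearGroup (Fin n) F) : Matrix (Fin n) (Fin n) F) = 1 := by
    rw [← Matrix.SpecialLinearGroup.coe_mul, inv_mul_cancel, Matrix.SpecialLinearGroup.coe_one]
  have h2 : ((sInvT s : Matrix.SpecialLinearGroup (Fin n) F) : Matrix (Fin n) (Fin n) F) *
      ((s : Matrix (Fin n) (Fin n) F))ᵀ = 1 := by
    rw [sInvT_coe, ← Matrix.transpose_mul, ← Matrix.SpecialLinearGroup.coe_mul, mul_inv_cancel,
      Matrix.SpecialLinearGroup.coe_one, Matrix.transpose_one]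
  have h3 : (((sInvT s)⁻¹ : Matrix.SpecialLinearGroup (Fin n) F) : Matrix (Fin n) (Fin n) F) =
      ((s : Matrix (Fin n) (Fin n) F))ᵀ := by
    calc (((sInvT s)⁻¹ : Matrix.SpecialLinearGroup (Fin n) F) : Matrix (Fin n) (Fin n) F)
        = (((sInvT s)⁻¹ : Matrix.SpecialLinearGroup (Fin n) F) : Matrix (Fin n) (Fin n) F) *
          (((sInvT s : Matrix.SpecialLinearGroup (Fin n) F) : Matrix (Fin n) (Fin n) F) *
            ((s : Matrix (Fin n) (Fin n) F))ᵀ) := by rw [h2, Matrix.mul_one]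
      _ = ((s : Matrix (Fin n) (Fin n) F))ᵀ := by rw [← Matrix.mul_assoc, h1, Matrix.one_mul]
  rw [h3, Matrix.transpose_transpose]

theorem iota_sq {ι : MulAut (Matrix.ProjectiveSpecialLinearGroup (Fin n) F)}
    (hι : Cfsg.IsInverseTransposeAutPSL ι) : ι * ι = 1 := by
  apply MulEquiv.ext
  intro x
  induction x using QuotientGroup.induction_on with
  | H s =>
    rw [MulAut.mul_apply, invTranspose_mk hι, invTranspose_mk hι, sInvT_sInvT]
    rfl

theorem iota_unique {ι ι' : MulAut (Matrix.ProjectiveSpecialLinearGroup (Fin n) F)}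
    (hι : Cfsg.IsInverseTransposeAutPSL ι) (hι' : Cfsg.IsInverseTransposeAutPSL ι') : ι = ι' := by
  apply MulEquiv.ext
  intro x
  induction x using QuotientGroup.induction_on with
  | H s => rw [invTranspose_mk hι, invTranspose_mk hι']

/-- conjugating a graph automorphism by an inner-diagonal one -/
theorem conj_formula (e : κ ≃ Fin n) {ι : MulAut (Matrix.ProjectiveSpecialLinearGroup (Fin n) F)}
    (hι : Cfsg.IsInverseTransposeAutPSL ι) (h g : GL κ F) :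
    Psi e h * (Psi e g * ι) * (Psi e h)⁻¹ = Psi e (h * g * trGL h) * ι := by
  have h1 : ι * Psi e h⁻¹ = Psi e (trGL h) * ι := by
    rw [iota_Psi e hι, trGL_inv, inv_inv]
  calc Psi e h * (Psi e g * ι) * (Psi e h)⁻¹
      = Psi e h * Psi e g * (ι * Psi e h⁻¹) := by rw [map_inv]; simp only [mul_assoc]
    _ = Psi e h * Psi e g * (Psi e (trGL h) * ι) := by rw [h1]
    _ = Psi e (h * g * trGL h) * ι := by rw [map_mul, map_mul]; simp only [mul_assoc]

theorem sq_formula (e : κ ≃ Fin n) {ι : MulAut (Matrix.ProjectiveSpecialLinearGroup (Fin n) F)}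
    (hι : Cfsg.IsInverseTransposeAutPSL ι) (g : GL κ F) :
    (Psi e g * ι) * (Psi e g * ι) = Psi e (g * (trGL g)⁻¹) := by
  calc (Psi e g * ι) * (Psi e g * ι) = Psi e g * (ι * Psi e g) * ι := by simp only [mul_assoc]
    _ = Psi e g * (Psi e (trGL g)⁻¹ * ι) * ι := by rw [iota_Psi e hι]
    _ = Psi e g * Psi e (trGL g)⁻¹ * (ι * ι) := by simp only [mul_assoc]
    _ = Psi e (g * (trGL g)⁻¹) := by rw [iota_sq hι, mul_one, map_mul]

/-- a graph automorphism `Psi g * ι` with `gᵀ = g` squares to the identity -/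
theorem sq_eq_one_of_symm (e : κ ≃ Fin n) {ι : MulAut (Matrix.ProjectiveSpecialLinearGroup (Fin n) F)}
    (hι : Cfsg.IsInverseTransposeAutPSL ι) (g : GL κ F)
    (hg : ((g : Matrix κ κ F))ᵀ = (g : Matrix κ κ F)) :
    (Psi e g * ι) * (Psi e g * ι) = 1 := by
  rw [sq_formula e hι]
  have h1 : trGL g = g := by
    apply Units.ext
    rw [trGL_coe, hg]
  rw [h1, mul_inv_cancel, map_one]

/-- a graph automorphism of order two has `gᵀ = c g` -/
theorem transpose_eq_smul_of_order_two (hn : 0 < n) (e : κ ≃ Fin n)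
    {ι : MulAut (Matrix.ProjectiveSpecialLinearGroup (Fin n) F)}
    (hι : Cfsg.IsInverseTransposeAutPSL ι) (g : GL κ F) (h2 : orderOf (Psi e g * ι) = 2) :
    ∃ c : Fˣ, ((g : Matrix κ κ F))ᵀ = (c : F) • (g : Matrix κ κ F) := by
  have h1 : (Psi e g * ι) ^ 2 = 1 := by rw [← h2]; exact pow_orderOf_eq_one _
  rw [pow_two, sq_formula e hι] at h1
  have h3 : Psi e (g * (trGL g)⁻¹) = Psi e 1 := by rw [h1, map_one]
  rw [Psi_eq_iff hn, mul_one, Cfsg.Geo.mem_scalars_iff] at h3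
  obtain ⟨c, hc⟩ := h3
  refine ⟨c, ?_⟩
  have h4 : (((g * (trGL g)⁻¹)⁻¹ : GL κ F) : Matrix κ κ F) =
      ((g : Matrix κ κ F))ᵀ * ((g⁻¹ : GL κ F) : Matrix κ κ F) := by
    rw [_root_.mul_inv_rev, inv_inv, Units.val_mul, trGL_coe]
  rw [h4] at hc
  calc ((g : Matrix κ κ F))ᵀ = ((g : Matrix κ κ F))ᵀ * (((g⁻¹ : GL κ F) : Matrix κ κ F) *
        (g : Matrix κ κ F)) := by
        rw [← Units.val_mul, inv_mul_cancel, Units.val_one, Matrix.mul_one]
    _ = (c : F) • (g : Matrix κ κ F) := by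
        rw [← Matrix.mul_assoc, hc, Matrix.smul_mul, Matrix.one_mul]

/-- the form of a graph automorphism -/
theorem graph_form (e : κ ≃ Fin n) {γ : MulAut (Matrix.ProjectiveSpecialLinearGroup (Fin n) F)}
    (hγ : Cfsg.IsGraphAutClassPSL γ) :
    ∃ (g : GL κ F) (ι : MulAut (Matrix.ProjectiveSpecialLinearGroup (Fin n) F)),
      Cfsg.IsInverseTransposeAutPSL ι ∧ γ = Psi e g * ι := by
  obtain ⟨_, δ, ι, hδ, hι, rfl⟩ := hγ
  obtain ⟨g', rfl⟩ := (innerDiagonal_iff δ).1 hδ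
  refine ⟨(Cfsg.Geo.glReindex (F := F) e).symm g', ι, hι, ?_⟩
  rw [Psi_apply, MulEquiv.apply_symm_apply]

theorem isGraphAut (hn : 3 ≤ n) (e : κ ≃ Fin n)
    {ι : MulAut (Matrix.ProjectiveSpecialLinearGroup (Fin n) F)}
    (hι : Cfsg.IsInverseTransposeAutPSL ι) (g : GL κ F) : Cfsg.IsGraphAutClassPSL (Psi e g * ι) :=
  ⟨hn, Psi e g, ι, (innerDiagonal_iff _).2 ⟨_, rfl⟩, hι, rfl⟩

/-- `Psi h` centralizes `Psi g * ι` iff `h g hᵀ = c g` -/
theorem mem_centralizer_iff (hn : 0 < n) (e : κ ≃ Fin n)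
    {ι : MulAut (Matrix.ProjectiveSpecialLinearGroup (Fin n) F)}
    (hι : Cfsg.IsInverseTransposeAutPSL ι) (g h : GL κ F) :
    Psi e h ∈ Subgroup.centralizer {Psi e g * ι} ↔
      ∃ c : Fˣ, (h : Matrix κ κ F) * (g : Matrix κ κ F) * ((h : Matrix κ κ F))ᵀ =
        (c : F) • (g : Matrix κ κ F) := by
  rw [Subgroup.mem_centralizer_iff]
  have h1 : (∀ x ∈ ({Psi e g * ι} : Set (MulAut (Matrix.ProjectiveSpecialLinearGroup (Fin n) F))),
      x * Psi e h = Psi e h * x) ↔ Psi e g = Psi e (h * g * trGL h) := by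
    constructor
    · intro hx
      have h3 := hx _ rfl
      have h4 : Psi e h * (Psi e g * ι) * (Psi e h)⁻¹ = Psi e g * ι := by
        rw [← h3, mul_inv_cancel_right]
      rw [conj_formula e hι] at h4
      exact (mul_right_cancel h4).symm
    · intro hx x hxm
      rw [Set.mem_singleton_iff.1 hxm]
      have h4 : Psi e h * (Psi e g * ι) * (Psi e h)⁻¹ = Psi e g * ι := by
        rw [conj_formula e hι, ← hx]
      exact (mul_inv_eq_iff_eq_mul.1 h4).symm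
  rw [h1, Psi_eq_iff hn, Cfsg.Geo.mem_scalars_iff]
  have h5 : ((g⁻¹ * (h * g * trGL h) : GL κ F) : Matrix κ κ F) =
      ((g⁻¹ : GL κ F) : Matrix κ κ F) * ((h : Matrix κ κ F) * (g : Matrix κ κ F) *
        ((h : Matrix κ κ F))ᵀ) := by
    rw [Units.val_mul, Units.val_mul, Units.val_mul, trGL_coe]
  rw [h5]
  have h6 : (g : Matrix κ κ F) * ((g⁻¹ : GL κ F) : Matrix κ κ F) = 1 := by
    rw [← Units.val_mul, mul_inv_cancel, Units.val_one]
  have h7 : ((g⁻¹ : GL κ F) : Matrix κ κ F) * (g : Matrix κ κ F) = 1 := by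
    rw [← Units.val_mul, inv_mul_cancel, Units.val_one]
  constructor
  · rintro ⟨c, hc⟩
    refine ⟨c, ?_⟩
    calc (h : Matrix κ κ F) * (g : Matrix κ κ F) * ((h : Matrix κ κ F))ᵀ
        = (g : Matrix κ κ F) * (((g⁻¹ : GL κ F) : Matrix κ κ F) * ((h : Matrix κ κ F) *
          (g : Matrix κ κ F) * ((h : Matrix κ κ F))ᵀ)) := by
          rw [← Matrix.mul_assoc (g : Matrix κ κ F), h6, Matrix.one_mul]
      _ = (c : F) • (g : Matrix κ κ F) := by rw [hc, Matrix.mul_smul, Matrix.mul_one]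
  · rintro ⟨c, hc⟩
    refine ⟨c, ?_⟩
    rw [hc, Matrix.mul_smul, h7]

/-- the centralizer of a graph automorphism in `Inndiag` -/
theorem cent_equiv (hn : 0 < n) (e : κ ≃ Fin n)
    {ι : MulAut (Matrix.ProjectiveSpecialLinearGroup (Fin n) F)}
    (hι : Cfsg.IsInverseTransposeAutPSL ι) (g : GL κ F) (N : Subgroup (GL κ F))
    (hN : ∀ h : GL κ F, h ∈ N ↔ ∃ c : Fˣ, (h : Matrix κ κ F) * (g : Matrix κ κ F) *
      ((h : Matrix κ κ F))ᵀ = (c : F) • (g : Matrix κ κ F)) :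
    Nonempty (↥(Cfsg.inndiagPSL n F ⊓ Subgroup.centralizer {Psi e g * ι}) ≃*
      ↥N ⧸ (Cfsg.Geo.scalars κ F).subgroupOf N) := by
  let ψ : ↥N →* MulAut (Matrix.ProjectiveSpecialLinearGroup (Fin n) F) :=
    (Psi (F := F) e).comp N.subtype
  have hrange : ψ.range = Cfsg.inndiagPSL n F ⊓ Subgroup.centralizer {Psi e g * ι} := by
    ext x
    constructor
    · rintro ⟨⟨h, hh⟩, rfl⟩
      exact ⟨Psi_mem e h, (mem_centralizer_iff hn e hι g h).2 ((hN h).1 hh)⟩
    · rintro ⟨h1, h3⟩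
      rw [← Psi_range e] at h1
      obtain ⟨h, rfl⟩ := h1
      exact ⟨⟨h, (hN h).2 ((mem_centralizer_iff hn e hι g h).1 h3)⟩, rfl⟩
  have hker : ψ.ker = (Cfsg.Geo.scalars κ F).subgroupOf N := by
    ext ⟨h, hh⟩
    rw [MonoidHom.mem_ker, Subgroup.mem_subgroupOf]
    show Psi e h = 1 ↔ h ∈ Cfsg.Geo.scalars κ F
    rw [← map_one (Psi (F := F) e), eq_comm, Psi_eq_iff hn, inv_one, one_mul]
  have e1 : ↥N ⧸ ψ.ker ≃* ψ.range := QuotientGroup.quotientKerEquivRange ψ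
  have e2 : ↥N ⧸ ψ.ker ≃* ↥N ⧸ (Cfsg.Geo.scalars κ F).subgroupOf N :=
    QuotientGroup.quotientMulEquivOfEq hker
  have e3 : ψ.range ≃* ↥(Cfsg.inndiagPSL n F ⊓ Subgroup.centralizer {Psi e g * ι}) :=
    MulEquiv.subgroupCongr hrange
  exact ⟨(e3.symm.trans e1.symm).trans e2⟩

/-- congruent (up to a scalar) matrices give conjugate graph automorphisms -/
theorem isConjUnder_of_congr (hn : 0 < n) (e : κ ≃ Fin n)
    {ι : MulAut (Matrix.ProjectiveSpecialLinearGroup (Fin n) F)}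
    (hι : Cfsg.IsInverseTransposeAutPSL ι) (g g' h : GL κ F) (c : Fˣ)
    (hc : (h : Matrix κ κ F) * (g : Matrix κ κ F) * ((h : Matrix κ κ F))ᵀ =
      (c : F) • (g' : Matrix κ κ F)) :
    Cfsg.IsConjUnder (Cfsg.inndiagPSL n F) (Psi e g * ι) (Psi e g' * ι) := by
  refine ⟨Psi e h, Psi_mem e h, ?_⟩
  rw [conj_formula e hι]
  congr 1
  rw [Psi_eq_iff hn, Cfsg.Geo.mem_scalars_iff]
  refine ⟨c, ?_⟩
  rw [Units.val_mul, Units.val_mul, Units.val_mul, trGL_coe, hc, Matrix.mul_smul,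
    ← Units.val_mul, inv_mul_cancel, Units.val_one]

/-- conjugate graph automorphisms have congruent (up to a scalar) matrices -/
theorem congr_of_isConjUnder (hn : 0 < n) (e : κ ≃ Fin n)
    {ι : MulAut (Matrix.ProjectiveSpecialLinearGroup (Fin n) F)}
    (hι : Cfsg.IsInverseTransposeAutPSL ι) (g g' : GL κ F)
    (hc : Cfsg.IsConjUnder (Cfsg.inndiagPSL n F) (Psi e g * ι) (Psi e g' * ι)) :
    ∃ (h : GL κ F) (c : Fˣ), (h : Matrix κ κ F) * (g : Matrix κ κ F) * ((h : Matrix κ κ F))ᵀ =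
      (c : F) • (g' : Matrix κ κ F) := by
  obtain ⟨x, hx, hxe⟩ := hc
  rw [← Psi_range e] at hx
  obtain ⟨h, rfl⟩ := hx
  rw [conj_formula e hι] at hxe
  have h1 := mul_right_cancel hxe
  rw [Psi_eq_iff hn, Cfsg.Geo.mem_scalars_iff] at h1
  obtain ⟨c, hc⟩ := h1
  refine ⟨h, c, ?_⟩
  rw [Units.val_mul, Units.val_mul, Units.val_mul, trGL_coe] at hc
  have h6 : (g' : Matrix κ κ F) * ((g'⁻¹ : GL κ F) : Matrix κ κ F) = 1 := by
    rw [← Units.val_mul, mul_inv_cancel, Units.val_one]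
  calc (h : Matrix κ κ F) * (g : Matrix κ κ F) * ((h : Matrix κ κ F))ᵀ
      = (g' : Matrix κ κ F) * (((g'⁻¹ : GL κ F) : Matrix κ κ F) * ((h : Matrix κ κ F) *
        (g : Matrix κ κ F) * ((h : Matrix κ κ F))ᵀ)) := by
        rw [← Matrix.mul_assoc (g' : Matrix κ κ F), h6, Matrix.one_mul]
    _ = (c : F) • (g' : Matrix κ κ F) := by rw [hc, Matrix.mul_smul, Matrix.mul_one]

/-- conjugate elements have isomorphic centralizers (inside a subgroup containing the conjugator) -/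
theorem conj_cent_equiv {X : Type*} [Group X] (H : Subgroup X) (x y : X)
    (hxy : Cfsg.IsConjUnder H x y) :
    Nonempty (↥(H ⊓ Subgroup.centralizer {x}) ≃* ↥(H ⊓ Subgroup.centralizer {y})) := by
  obtain ⟨h, hh, rfl⟩ := hxy
  have hmap : (H ⊓ Subgroup.centralizer {x}).map (MulAut.conj h).toMonoidHom =
      H ⊓ Subgroup.centralizer {h * x * h⁻¹} := by
    ext z
    simp only [Subgroup.mem_map, Subgroup.mem_inf, Subgroup.mem_centralizer_iff,
      Set.mem_singleton_iff, forall_eq, MulEquiv.coe_toMonoidHom, MulAut.conj_apply]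
    constructor
    · rintro ⟨w, ⟨hw1, hw2⟩, rfl⟩
      refine ⟨H.mul_mem (H.mul_mem hh hw1) (H.inv_mem hh), ?_⟩
      calc h * x * h⁻¹ * (h * w * h⁻¹) = h * (x * w) * h⁻¹ := by group
        _ = h * (w * x) * h⁻¹ := by rw [hw2]
        _ = h * w * h⁻¹ * (h * x * h⁻¹) := by group
    · rintro ⟨hz1, hz2⟩
      refine ⟨h⁻¹ * z * h, ⟨H.mul_mem (H.mul_mem (H.inv_mem hh) hz1) hh, ?_⟩, by group⟩
      have h3 : h⁻¹ * (h * x * h⁻¹ * z) * h = h⁻¹ * (z * (h * x * h⁻¹)) * h := by rw [hz2]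
      calc x * (h⁻¹ * z * h) = h⁻¹ * (h * x * h⁻¹ * z) * h := by group
        _ = h⁻¹ * (z * (h * x * h⁻¹)) * h := h3
        _ = h⁻¹ * z * h * x := by group
  exact ⟨((MulAut.conj h).subgroupMap (H ⊓ Subgroup.centralizer {x})).trans
    (MulEquiv.subgroupCongr hmap)⟩

end Cfsg.Agent.Helper43.GraphAut
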