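import Mathlib
import Cfsg.Agent.Lib.Helper43.GraphAut
import Cfsg.Agent.Lib.Helper43.GraphAutCongr
import Cfsg.Agent.S0304

/-!
# Centralizers of the standard involutory graph automorphisms of `PSL_n(F)`, `n = 2m + 1`

Index type `Idx m = Unit ⊕ (Fin m ⊕ Fin m)`.
* odd characteristic: `gOdd` (inverse of the Gram matrix `P0` of `quadFormOdd`), `cent_odd`;
* characteristic two: `gTwo = 1 ⊕ J`, `cent_two` (through `Sp_{2m}` and `S0304`).
-/

set_option autoImplicit false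

namespace Cfsg.Agent.Helper43.GraphAutCent

open Matrix Cfsg.Agent.Helper43.GraphAut Cfsg.Agent.Helper43.GraphAutCongr

abbrev Idx (m : ℕ) := Unit ⊕ (Fin m ⊕ Fin m)

variable {F : Type*} [Field F] {n m : ℕ}

section Odd

/-- Gram matrix of `quadFormOdd` (as `v ↦ v ⬝ P0 v`) -/
def P0 (m : ℕ) (F : Type*) [Field F] : Matrix (Idx m) (Idx m) F :=
  Matrix.fromBlocks 1 0 0 (Matrix.fromBlocks 0 ((2 : F)⁻¹ • 1) ((2 : F)⁻¹ • 1) 0)

/-- its inverse -/
def G0 (m : ℕ) (F : Type*) [Field F] : Matrix (Idx m) (Idx m) F :=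
  Matrix.fromBlocks 1 0 0 (Matrix.fromBlocks 0 ((2 : F) • 1) ((2 : F) • 1) 0)

theorem P0_mul_G0 (h2 : (2 : F) ≠ 0) : P0 m F * G0 m F = 1 := by
  unfold P0 G0
  rw [Matrix.fromBlocks_multiply]
  simp only [Matrix.mul_zero, Matrix.zero_mul, add_zero, zero_add, Matrix.one_mul]
  rw [Matrix.fromBlocks_multiply]
  simp only [Matrix.mul_zero, Matrix.zero_mul, add_zero, zero_add, Matrix.smul_mul, Matrix.mul_smul,
    Matrix.one_mul, smul_smul, inv_mul_cancel₀ h2, mul_inv_cancel₀ h2, one_smul, smul_zero]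
  rw [Matrix.fromBlocks_one, Matrix.fromBlocks_one]

theorem G0_mul_P0 (h2 : (2 : F) ≠ 0) : G0 m F * P0 m F = 1 := by
  unfold P0 G0
  rw [Matrix.fromBlocks_multiply]
  simp only [Matrix.mul_zero, Matrix.zero_mul, add_zero, zero_add, Matrix.one_mul]
  rw [Matrix.fromBlocks_multiply]
  simp only [Matrix.mul_zero, Matrix.zero_mul, add_zero, zero_add, Matrix.smul_mul, Matrix.mul_smul,
    Matrix.one_mul, smul_smul, inv_mul_cancel₀ h2, mul_inv_cancel₀ h2, one_smul, smul_zero]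
  rw [Matrix.fromBlocks_one, Matrix.fromBlocks_one]

theorem P0_transpose : (P0 m F)ᵀ = P0 m F := by
  unfold P0
  rw [Matrix.fromBlocks_transpose, Matrix.fromBlocks_transpose]
  simp only [Matrix.transpose_one, Matrix.transpose_zero, Matrix.transpose_smul]

theorem G0_transpose : (G0 m F)ᵀ = G0 m F := by
  unfold G0
  rw [Matrix.fromBlocks_transpose, Matrix.fromBlocks_transpose]
  simp only [Matrix.transpose_one, Matrix.transpose_zero, Matrix.transpose_smul]

theorem quad_eq (h2 : (2 : F) ≠ 0) (v : Idx m → F) :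
    Cfsg.quadFormOdd m F v = v ⬝ᵥ (P0 m F *ᵥ v) := by
  unfold Cfsg.quadFormOdd P0
  rw [Matrix.fromBlocks_mulVec]
  simp only [Matrix.zero_mulVec, add_zero, zero_add, Matrix.one_mulVec]
  rw [Matrix.fromBlocks_mulVec]
  simp only [Matrix.zero_mulVec, add_zero, zero_add, Matrix.smul_mulVec, Matrix.one_mulVec]
  simp only [dotProduct, Fintype.sum_sum_type, Sum.elim_inl, Sum.elim_inr, Function.comp_apply,
    Pi.smul_apply, smul_eq_mul, Finset.univ_unique, Finset.sum_singleton]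
  have h3 : ∀ i : Fin m, v (Sum.inr (Sum.inl i)) * v (Sum.inr (Sum.inr i)) =
      v (Sum.inr (Sum.inl i)) * ((2 : F)⁻¹ * v (Sum.inr (Sum.inr i))) +
      v (Sum.inr (Sum.inr i)) * ((2 : F)⁻¹ * v (Sum.inr (Sum.inl i))) := by
    intro i
    field_simp
    ring
  rw [Finset.sum_congr rfl (fun i _ => h3 i), Finset.sum_add_distrib]
  ring

/-- the standard symmetric matrix in odd characteristic, as an element of `GL` -/
def gOdd (m : ℕ) (F : Type*) [Field F] (h2 : (2 : F) ≠ 0) : GL (Idx m) F :=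
  ⟨G0 m F, P0 m F, G0_mul_P0 h2, P0_mul_G0 h2⟩

theorem gOdd_coe (h2 : (2 : F) ≠ 0) : ((gOdd m F h2 : GL (Idx m) F) : Matrix (Idx m) (Idx m) F) = G0 m F := rfl

theorem mem_quadSim_iff (h2 : (2 : F) ≠ 0) (h : GL (Idx m) F) :
    h ∈ Cfsg.Geo.quadSimilarityGroup (F := F) (Cfsg.quadFormOdd m F) ↔
      ∃ c : Fˣ, (h : Matrix (Idx m) (Idx m) F) * ((gOdd m F h2 : GL (Idx m) F) : Matrix (Idx m) (Idx m) F) *
        ((h : Matrix (Idx m) (Idx m) F))ᵀ = (c : F) • ((gOdd m F h2 : GL (Idx m) F) : Matrix (Idx m) (Idx m) F) := by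
  rw [gOdd_coe]
  have hh : (h : Matrix (Idx m) (Idx m) F) * ((h⁻¹ : GL (Idx m) F) : Matrix (Idx m) (Idx m) F) = 1 := by
    rw [← Units.val_mul, mul_inv_cancel, Units.val_one]
  have hh' : ((h⁻¹ : GL (Idx m) F) : Matrix (Idx m) (Idx m) F) * (h : Matrix (Idx m) (Idx m) F) = 1 := by
    rw [← Units.val_mul, inv_mul_cancel, Units.val_one]
  constructor
  · rintro ⟨c, hc⟩
    refine ⟨c, ?_⟩
    rw [congr_inv_iff _ _ _ _ hh hh' (G0_mul_P0 h2) (P0_mul_G0 h2), quad_form_iff h2 _ P0_transpose]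
    intro v
    rw [← quad_eq h2, ← quad_eq h2]
    exact hc v
  · rintro ⟨c, hc⟩
    refine ⟨c, fun v => ?_⟩
    rw [congr_inv_iff _ _ _ _ hh hh' (G0_mul_P0 h2) (P0_mul_G0 h2), quad_form_iff h2 _ P0_transpose] at hc
    rw [quad_eq h2, quad_eq h2]
    exact hc v

/-- odd characteristic: the centralizer of the standard graph automorphism is `PGO(quadFormOdd)` -/
theorem cent_odd (h2 : (2 : F) ≠ 0) (hn : 0 < n) (e : Idx m ≃ Fin n)
    {ι : MulAut (Matrix.ProjectiveSpecialLinearGroup (Fin n) F)}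
    (hι : Cfsg.IsInverseTransposeAutPSL ι) :
    Nonempty (↥(Cfsg.inndiagPSL n F ⊓ Subgroup.centralizer {Psi e (gOdd m F h2) * ι}) ≃*
      Cfsg.PGO F (Cfsg.quadFormOdd m F)) :=
  cent_equiv hn e hι (gOdd m F h2) _ (mem_quadSim_iff h2)

theorem gOdd_symm (h2 : (2 : F) ≠ 0) :
    (((gOdd m F h2 : GL (Idx m) F) : Matrix (Idx m) (Idx m) F))ᵀ =
      ((gOdd m F h2 : GL (Idx m) F) : Matrix (Idx m) (Idx m) F) := G0_transpose

end Odd

section Two

variable [CharP F 2]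

/-- `1 ⊕ J` -/
def G2 (m : ℕ) (F : Type*) [Field F] : Matrix (Idx m) (Idx m) F :=
  Matrix.fromBlocks 1 0 0 (Matrix.J (Fin m) F)

theorem neg_mat {κ : Type} (A : Matrix κ κ F) : -A = A := by
  ext i j
  rw [Matrix.neg_apply, CharTwo.neg_eq]

theorem G2_mul_G2 : G2 m F * G2 m F = 1 := by
  unfold G2
  rw [Matrix.fromBlocks_multiply]
  simp only [Matrix.mul_zero, Matrix.zero_mul, add_zero, zero_add, Matrix.one_mul, Matrix.J_squared]
  rw [neg_mat, Matrix.fromBlocks_one]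

theorem G2_transpose : (G2 m F)ᵀ = G2 m F := by
  unfold G2
  rw [Matrix.fromBlocks_transpose, Matrix.J_transpose, neg_mat]
  simp only [Matrix.transpose_one, Matrix.transpose_zero]

/-- the standard symmetric matrix in characteristic two, as an element of `GL` -/
def gTwo (m : ℕ) (F : Type*) [Field F] [CharP F 2] : GL (Idx m) F :=
  ⟨G2 m F, G2 m F, G2_mul_G2, G2_mul_G2⟩

theorem gTwo_coe : ((gTwo m F : GL (Idx m) F) : Matrix (Idx m) (Idx m) F) = G2 m F := rfl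

theorem gTwo_symm : (((gTwo m F : GL (Idx m) F) : Matrix (Idx m) (Idx m) F))ᵀ =
    ((gTwo m F : GL (Idx m) F) : Matrix (Idx m) (Idx m) F) := G2_transpose

theorem J_alt (w : Fin m ⊕ Fin m → F) : w ⬝ᵥ (Matrix.J (Fin m) F *ᵥ w) = 0 := by
  unfold Matrix.J
  rw [Matrix.fromBlocks_mulVec]
  simp only [Matrix.zero_mulVec, add_zero, zero_add, Matrix.one_mulVec, Matrix.neg_mulVec]
  simp only [dotProduct, Fintype.sum_sum_type, Sum.elim_inl, Sum.elim_inr, Function.comp_apply,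
    Pi.neg_apply, mul_neg]
  rw [Finset.sum_neg_distrib, neg_add_eq_sub, sub_eq_zero]
  exact Finset.sum_congr rfl (fun i _ => mul_comm _ _)

theorem G2_quad (v : Idx m → F) : v ⬝ᵥ (G2 m F *ᵥ v) = v (Sum.inl ()) ^ 2 := by
  unfold G2
  rw [Matrix.fromBlocks_mulVec]
  simp only [Matrix.zero_mulVec, add_zero, zero_add, Matrix.one_mulVec]
  have h1 : v ⬝ᵥ Sum.elim (v ∘ Sum.inl) (Matrix.J (Fin m) F *ᵥ (v ∘ Sum.inr)) =
      (v ∘ Sum.inl) ⬝ᵥ (v ∘ Sum.inl) + (v ∘ Sum.inr) ⬝ᵥ (Matrix.J (Fin m) F *ᵥ (v ∘ Sum.inr)) := by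
    simp only [dotProduct, Fintype.sum_sum_type, Sum.elim_inl, Sum.elim_inr, Function.comp_apply]
  rw [h1, J_alt, add_zero]
  simp only [dotProduct, Finset.univ_unique, Finset.sum_singleton, Function.comp_apply]
  rw [sq]

theorem sq_inj {x y : F} (h : x ^ 2 = y ^ 2) : x = y := by
  have h1 : (x + y) ^ 2 = 0 := by
    rw [CharTwo.add_sq, h, CharTwo.add_self_eq_zero]
  have h2 : x + y = 0 := by simpa using h1
  exact CharTwo.add_eq_zero.1 h2

/-- a matrix preserving `v ↦ v₀²`-form `G2` has first row `e₀` -/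
theorem row_zero (H : Matrix (Idx m) (Idx m) F) (hH : Hᵀ * G2 m F * H = G2 m F) (j : Idx m) :
    H (Sum.inl ()) j = if j = Sum.inl () then 1 else 0 := by
  have h1 : ∀ v : Idx m → F, (H *ᵥ v) (Sum.inl ()) = v (Sum.inl ()) := by
    intro v
    apply sq_inj
    rw [← G2_quad, ← G2_quad, quad_transform, hH]
  have h2 := h1 (Pi.single j 1)
  rw [Matrix.mulVec_single_one] at h2
  rw [← Matrix.col_apply (A := H), h2, Pi.single_apply]
  by_cases hj : j = Sum.inl ()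
  · rw [if_pos hj, if_pos hj.symm]
  · rw [if_neg hj, if_neg (fun h => hj h.symm)]

/-- block form of the isometries of `G2` -/
theorem block_form (H : Matrix (Idx m) (Idx m) F) (h1 : H * G2 m F * Hᵀ = G2 m F)
    (h2 : Hᵀ * G2 m F * H = G2 m F) :
    H = Matrix.fromBlocks 1 0 0 H.toBlocks₂₂ ∧ H.toBlocks₂₂ ∈ Matrix.symplecticGroup (Fin m) F := by
  have hr := row_zero H h2
  have hc := row_zero Hᵀ (by rw [Matrix.transpose_transpose]; exact h1)
  have hform : H = Matrix.fromBlocks 1 0 0 H.toBlocks₂₂ := by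
    conv_lhs => rw [← Matrix.fromBlocks_toBlocks H]
    congr 1
    · ext i j
      rw [Matrix.toBlocks₁₁, Matrix.of_apply, hr, if_pos (by rw [Subsingleton.elim j ()]),
        Matrix.one_apply, if_pos (Subsingleton.elim i j)]
    · ext i j
      rw [Matrix.toBlocks₁₂, Matrix.of_apply, hr, if_neg (by simp), Matrix.zero_apply]
    · ext i j
      have := hc (Sum.inr i)
      rw [Matrix.transpose_apply, if_neg (by simp)] at this
      rw [Matrix.toBlocks₂₁, Matrix.of_apply, Matrix.zero_apply, ← this]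
  refine ⟨hform, ?_⟩
  rw [SymplecticGroup.mem_iff]
  have h3 := h1
  rw [hform] at h3
  unfold G2 at h3
  rw [Matrix.fromBlocks_transpose, Matrix.fromBlocks_multiply, Matrix.fromBlocks_multiply] at h3
  simp only [Matrix.mul_zero, Matrix.zero_mul, add_zero, zero_add, Matrix.one_mul, Matrix.mul_one,
    Matrix.transpose_zero, Matrix.transpose_one] at h3
  exact (Matrix.fromBlocks_inj.1 h3).2.2.2

/-- the embedding `s ↦ 1 ⊕ s` of `Sp_{2m}` -/
def embMat (m : ℕ) (F : Type*) [Field F] : ↥(Matrix.symplecticGroup (Fin m) F) →* Matrix (Idx m) (Idx m) F where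
  toFun s := Matrix.fromBlocks 1 0 0 (s : Matrix (Fin m ⊕ Fin m) (Fin m ⊕ Fin m) F)
  map_one' := by
    show Matrix.fromBlocks 1 0 0 (1 : Matrix (Fin m ⊕ Fin m) (Fin m ⊕ Fin m) F) = 1
    exact Matrix.fromBlocks_one
  map_mul' s t := by
    show Matrix.fromBlocks 1 0 0 ((s : Matrix (Fin m ⊕ Fin m) (Fin m ⊕ Fin m) F) *
      (t : Matrix (Fin m ⊕ Fin m) (Fin m ⊕ Fin m) F)) = _
    rw [Matrix.fromBlocks_multiply]
    simp only [Matrix.mul_zero, Matrix.zero_mul, add_zero, zero_add, Matrix.one_mul]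

def emb (m : ℕ) (F : Type*) [Field F] : ↥(Matrix.symplecticGroup (Fin m) F) →* GL (Idx m) F :=
  (embMat m F).toHomUnits

theorem emb_coe (s : ↥(Matrix.symplecticGroup (Fin m) F)) :
    ((emb m F s : GL (Idx m) F) : Matrix (Idx m) (Idx m) F) =
      Matrix.fromBlocks 1 0 0 (s : Matrix (Fin m ⊕ Fin m) (Fin m ⊕ Fin m) F) := rfl

theorem emb_congr (s : ↥(Matrix.symplecticGroup (Fin m) F)) :
    ((emb m F s : GL (Idx m) F) : Matrix (Idx m) (Idx m) F) * G2 m F *
      (((emb m F s : GL (Idx m) F) : Matrix (Idx m) (Idx m) F))ᵀ = G2 m F := by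
  rw [emb_coe]
  unfold G2
  rw [Matrix.fromBlocks_transpose, Matrix.fromBlocks_multiply, Matrix.fromBlocks_multiply]
  simp only [Matrix.mul_zero, Matrix.zero_mul, add_zero, zero_add, Matrix.one_mul, Matrix.mul_one,
    Matrix.transpose_zero, Matrix.transpose_one]
  rw [(SymplecticGroup.mem_iff).1 s.2]

/-- scalar matrix as an element of `GL` -/
def scal (κ : Type) [Fintype κ] [DecidableEq κ] (a : Fˣ) : GL κ F :=
  ⟨(a : F) • 1, ((a⁻¹ : Fˣ) : F) • 1, by
    rw [Matrix.smul_mul, Matrix.mul_smul, Matrix.one_mul, smul_smul, ← Units.val_mul, mul_inv_cancel,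
      Units.val_one, one_smul], by
    rw [Matrix.smul_mul, Matrix.mul_smul, Matrix.one_mul, smul_smul, ← Units.val_mul, inv_mul_cancel,
      Units.val_one, one_smul]⟩

theorem scal_coe (κ : Type) [Fintype κ] [DecidableEq κ] (a : Fˣ) :
    ((scal κ a : GL κ F) : Matrix κ κ F) = (a : F) • 1 := rfl

theorem scal_mem (κ : Type) [Fintype κ] [DecidableEq κ] (a : Fˣ) :
    scal κ a ∈ Cfsg.Geo.scalars κ F := by
  rw [Cfsg.Geo.mem_scalars_iff]
  exact ⟨a, rfl⟩

theorem exists_sqrt [Fintype F] (c : Fˣ) : ∃ a : Fˣ, (a : F) * a = c := by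
  have hF : ringChar F = 2 := ringChar.eq F 2
  obtain ⟨a, ha⟩ := FiniteField.isSquare_of_char_two hF (c : F)
  have ha0 : a ≠ 0 := by
    rintro rfl
    rw [mul_zero] at ha
    exact c.ne_zero ha
  exact ⟨Units.mk0 a ha0, ha.symm⟩

variable [Fintype F]

/-- the subgroup `{h | h g hᵀ ∈ Fˣ g}` for `g = gTwo` -/
def NTwo (m : ℕ) (F : Type*) [Field F] [CharP F 2] : Subgroup (GL (Idx m) F) where
  carrier := {h | ∃ c : Fˣ, (h : Matrix (Idx m) (Idx m) F) * G2 m F * ((h : Matrix (Idx m) (Idx m) F))ᵀ =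
    (c : F) • G2 m F}
  mul_mem' {a b} ha hb := by
    obtain ⟨c, hc⟩ := ha
    obtain ⟨d, hd⟩ := hb
    refine ⟨c * d, ?_⟩
    rw [Units.val_mul, Matrix.transpose_mul]
    calc (a : Matrix (Idx m) (Idx m) F) * (b : Matrix (Idx m) (Idx m) F) * G2 m F *
          (((b : Matrix (Idx m) (Idx m) F))ᵀ * ((a : Matrix (Idx m) (Idx m) F))ᵀ)
        = (a : Matrix (Idx m) (Idx m) F) * ((b : Matrix (Idx m) (Idx m) F) * G2 m F *
          ((b : Matrix (Idx m) (Idx m) F))ᵀ) * ((a : Matrix (Idx m) (Idx m) F))ᵀ := by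
          simp only [Matrix.mul_assoc]
      _ = ((c * d : Fˣ) : F) • G2 m F := by
          rw [hd, Matrix.mul_smul, Matrix.smul_mul, hc, smul_smul, Units.val_mul, mul_comm]
  one_mem' := ⟨1, by simp⟩
  inv_mem' {a} ha := by
    obtain ⟨c, hc⟩ := ha
    refine ⟨c⁻¹, ?_⟩
    have e1 : ((a⁻¹ : GL (Idx m) F) : Matrix (Idx m) (Idx m) F) * (a : Matrix (Idx m) (Idx m) F) = 1 := by
      rw [← Units.val_mul, inv_mul_cancel, Units.val_one]
    have e2 : (a : Matrix (Idx m) (Idx m) F) * ((a⁻¹ : GL (Idx m) F) : Matrix (Idx m) (Idx m) F) = 1 := by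
      rw [← Units.val_mul, mul_inv_cancel, Units.val_one]
    have e3 : G2 m F = ((c⁻¹ : Fˣ) : F) • ((a : Matrix (Idx m) (Idx m) F) * G2 m F *
        ((a : Matrix (Idx m) (Idx m) F))ᵀ) := by
      rw [hc, smul_smul, ← Units.val_mul, inv_mul_cancel, Units.val_one, one_smul]
    calc ((a⁻¹ : GL (Idx m) F) : Matrix (Idx m) (Idx m) F) * G2 m F *
          (((a⁻¹ : GL (Idx m) F) : Matrix (Idx m) (Idx m) F))ᵀ
        = ((a⁻¹ : GL (Idx m) F) : Matrix (Idx m) (Idx m) F) * (((c⁻¹ : Fˣ) : F) •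
          ((a : Matrix (Idx m) (Idx m) F) * G2 m F * ((a : Matrix (Idx m) (Idx m) F))ᵀ)) *
          (((a⁻¹ : GL (Idx m) F) : Matrix (Idx m) (Idx m) F))ᵀ := by rw [← e3]
      _ = ((c⁻¹ : Fˣ) : F) • ((((a⁻¹ : GL (Idx m) F) : Matrix (Idx m) (Idx m) F) *
          (a : Matrix (Idx m) (Idx m) F)) * G2 m F * (((a⁻¹ : GL (Idx m) F) : Matrix (Idx m) (Idx m) F) *
          (a : Matrix (Idx m) (Idx m) F))ᵀ) := by
          rw [Matrix.transpose_mul, Matrix.mul_smul, Matrix.smul_mul]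
          simp only [Matrix.mul_assoc]
      _ = ((c⁻¹ : Fˣ) : F) • G2 m F := by rw [e1, Matrix.transpose_one, Matrix.one_mul, Matrix.mul_one]

theorem mem_NTwo (h : GL (Idx m) F) : h ∈ NTwo m F ↔
    ∃ c : Fˣ, (h : Matrix (Idx m) (Idx m) F) * ((gTwo m F : GL (Idx m) F) : Matrix (Idx m) (Idx m) F) *
      ((h : Matrix (Idx m) (Idx m) F))ᵀ = (c : F) • ((gTwo m F : GL (Idx m) F) : Matrix (Idx m) (Idx m) F) :=
  Iff.rfl

theorem emb_mem (s : ↥(Matrix.symplecticGroup (Fin m) F)) : emb m F s ∈ NTwo m F :=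
  ⟨1, by rw [emb_congr, Units.val_one, one_smul]⟩

/-- `Sp_{2m} → N / scalars` -/
noncomputable def embQ (m : ℕ) (F : Type*) [Field F] [CharP F 2] [Fintype F] :
    ↥(Matrix.symplecticGroup (Fin m) F) →* ↥(NTwo m F) ⧸ (Cfsg.Geo.scalars (Idx m) F).subgroupOf (NTwo m F) :=
  (QuotientGroup.mk' _).comp ((emb m F).codRestrict (NTwo m F) emb_mem)

theorem embQ_injective : Function.Injective (embQ m F) := by
  rw [injective_iff_map_eq_one]
  intro s hs
  have h1 : (emb m F).codRestrict (NTwo m F) emb_mem s ∈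
      (Cfsg.Geo.scalars (Idx m) F).subgroupOf (NTwo m F) := by
    rw [← QuotientGroup.eq_one_iff]
    exact hs
  rw [Subgroup.mem_subgroupOf, Cfsg.Geo.mem_scalars_iff] at h1
  obtain ⟨c, hc⟩ := h1
  have hc' : Matrix.fromBlocks (1 : Matrix Unit Unit F) 0 0
      (s : Matrix (Fin m ⊕ Fin m) (Fin m ⊕ Fin m) F) = (c : F) • 1 := hc
  have h00 := congrFun (congrFun hc' (Sum.inl ())) (Sum.inl ())
  rw [Matrix.fromBlocks_apply₁₁, Matrix.smul_apply, Matrix.one_apply_eq, Matrix.one_apply_eq, smul_eq_mul,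
    mul_one] at h00
  apply Subtype.ext
  ext a b
  have hab := congrFun (congrFun hc' (Sum.inr a)) (Sum.inr b)
  rw [Matrix.fromBlocks_apply₂₂, Matrix.smul_apply, ← h00, one_smul] at hab
  rw [hab]
  show (1 : Matrix (Idx m) (Idx m) F) (Sum.inr a) (Sum.inr b) = (1 : Matrix _ _ F) a b
  rw [Matrix.one_apply, Matrix.one_apply]
  simp only [Sum.inr.injEq]

theorem embQ_surjective : Function.Surjective (embQ m F) := by
  intro x
  induction x using QuotientGroup.induction_on with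
  | H y =>
    obtain ⟨h, c, hc⟩ := y
    obtain ⟨a, ha⟩ := exists_sqrt c
    -- rescale
    set h' : GL (Idx m) F := scal (Idx m) a⁻¹ * h with hh'
    have hh'c : (h' : Matrix (Idx m) (Idx m) F) = ((a⁻¹ : Fˣ) : F) • (h : Matrix (Idx m) (Idx m) F) := by
      rw [hh', Units.val_mul, scal_coe, Matrix.smul_mul, Matrix.one_mul]
    have hcong : (h' : Matrix (Idx m) (Idx m) F) * G2 m F * ((h' : Matrix (Idx m) (Idx m) F))ᵀ = G2 m F := by
      rw [hh'c, Matrix.transpose_smul, Matrix.smul_mul, Matrix.smul_mul, Matrix.mul_smul, hc, smul_smul,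
        smul_smul, ← ha]
      have : ((a⁻¹ : Fˣ) : F) * ((a⁻¹ : Fˣ) : F) * ((a : F) * a) = 1 := by
        rw [Units.val_inv_eq_inv_val]
        have : (a : F) ≠ 0 := a.ne_zero
        field_simp
      rw [this, one_smul]
    have hcong2 : ((h' : Matrix (Idx m) (Idx m) F))ᵀ * G2 m F * (h' : Matrix (Idx m) (Idx m) F) = G2 m F := by
      have e1 : ((h'⁻¹ : GL (Idx m) F) : Matrix (Idx m) (Idx m) F) * (h' : Matrix (Idx m) (Idx m) F) = 1 := by
        rw [← Units.val_mul, inv_mul_cancel, Units.val_one]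
      have := congr_inv (h' : Matrix (Idx m) (Idx m) F) ((h'⁻¹ : GL (Idx m) F) : Matrix (Idx m) (Idx m) F)
        (G2 m F) (G2 m F) e1 G2_mul_G2 G2_mul_G2 1 (by rw [one_smul]; exact hcong)
      rw [one_smul] at this
      exact this
    obtain ⟨hform, hsp⟩ := block_form _ hcong hcong2
    refine ⟨⟨_, hsp⟩, ?_⟩
    show (QuotientGroup.mk ((emb m F).codRestrict (NTwo m F) emb_mem ⟨_, hsp⟩) :
      ↥(NTwo m F) ⧸ (Cfsg.Geo.scalars (Idx m) F).subgroupOf (NTwo m F)) = QuotientGroup.mk ⟨h, c, hc⟩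
    rw [QuotientGroup.eq, Subgroup.mem_subgroupOf]
    have e5 : emb m F ⟨_, hsp⟩ = h' := by
      apply Units.ext
      rw [emb_coe]
      exact hform.symm
    show ((emb m F ⟨_, hsp⟩)⁻¹ * h : GL (Idx m) F) ∈ Cfsg.Geo.scalars (Idx m) F
    rw [e5, hh', _root_.mul_inv_rev]
    have hz := (Cfsg.Geo.scalars_normal (ι := Idx m) (F := F)).conj_mem _
      ((Cfsg.Geo.scalars (Idx m) F).inv_mem (scal_mem (Idx m) a⁻¹)) h⁻¹
    rwa [inv_inv] at hz

/-- `N / scalars ≃* Sp_{2m}` -/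
theorem nTwo_equiv_sp :
    Nonempty (↥(NTwo m F) ⧸ (Cfsg.Geo.scalars (Idx m) F).subgroupOf (NTwo m F) ≃*
      ↥(Matrix.symplecticGroup (Fin m) F)) :=
  ⟨(MulEquiv.ofBijective (embQ m F) ⟨embQ_injective, embQ_surjective⟩).symm⟩

/-! ### `PGO(quadFormOdd) ≃* O(quadFormOdd)` in characteristic two -/

theorem iso_le_sim : Cfsg.isometryGroup F (Cfsg.quadFormOdd m F) ≤
    Cfsg.Geo.quadSimilarityGroup (F := F) (Cfsg.quadFormOdd m F) := by
  intro g hg
  exact ⟨1, fun v => by rw [Units.val_one, one_mul]; exact hg v v⟩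

theorem quadFormOdd_smul (a : F) (v : Idx m → F) :
    Cfsg.quadFormOdd m F (a • v) = a ^ 2 * Cfsg.quadFormOdd m F v := by
  unfold Cfsg.quadFormOdd
  simp only [Pi.smul_apply, smul_eq_mul]
  rw [mul_add, Finset.mul_sum]
  congr 1
  · ring
  · exact Finset.sum_congr rfl (fun i _ => by ring)

noncomputable def isoToPGO (m : ℕ) (F : Type*) [Field F] [CharP F 2] [Fintype F] :
    ↥(Cfsg.isometryGroup F (Cfsg.quadFormOdd m F)) →* Cfsg.PGO F (Cfsg.quadFormOdd m F) :=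
  (QuotientGroup.mk' _).comp (Subgroup.inclusion iso_le_sim)

theorem isoToPGO_injective : Function.Injective (isoToPGO m F) := by
  rw [injective_iff_map_eq_one]
  intro g hg
  have h1 : Subgroup.inclusion iso_le_sim g ∈ (Cfsg.Geo.scalars (Idx m) F).subgroupOf
      (Cfsg.Geo.quadSimilarityGroup (F := F) (Cfsg.quadFormOdd m F)) := by
    rw [← QuotientGroup.eq_one_iff]
    exact hg
  rw [Subgroup.mem_subgroupOf, Cfsg.Geo.mem_scalars_iff] at h1
  obtain ⟨c, hc⟩ := h1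
  have hc' : ((g : GL (Idx m) F) : Matrix (Idx m) (Idx m) F) = (c : F) • 1 := hc
  have h3 := g.2 (Pi.single (Sum.inl ()) 1) (Pi.single (Sum.inl ()) 1)
  have h4 : Cfsg.quadFormOdd m F (((g : GL (Idx m) F) : Matrix (Idx m) (Idx m) F) *ᵥ
      (Pi.single (Sum.inl ()) 1)) = Cfsg.quadFormOdd m F (Pi.single (Sum.inl ()) 1) := h3
  rw [hc', Matrix.smul_mulVec, Matrix.one_mulVec, quadFormOdd_smul] at h4
  have h5 : Cfsg.quadFormOdd m F (Pi.single (Sum.inl ()) 1) = 1 := by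
    unfold Cfsg.quadFormOdd
    simp
  rw [h5, mul_one] at h4
  have h6 : (c : F) = 1 := sq_inj (by rw [h4, one_pow])
  apply Subtype.ext
  apply Units.ext
  rw [hc', h6, one_smul]
  rfl

theorem isoToPGO_surjective : Function.Surjective (isoToPGO m F) := by
  intro x
  induction x using QuotientGroup.induction_on with
  | H y =>
    obtain ⟨h, c, hc⟩ := y
    obtain ⟨a, ha⟩ := exists_sqrt c
    set h' : GL (Idx m) F := scal (Idx m) a⁻¹ * h with hh'
    have hh'c : (h' : Matrix (Idx m) (Idx m) F) = ((a⁻¹ : Fˣ) : F) • (h : Matrix (Idx m) (Idx m) F) := by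
      rw [hh', Units.val_mul, scal_coe, Matrix.smul_mul, Matrix.one_mul]
    have hiso : h' ∈ Cfsg.isometryGroup F (Cfsg.quadFormOdd m F) := by
      intro u _
      show Cfsg.quadFormOdd m F ((h' : Matrix (Idx m) (Idx m) F) *ᵥ u) = Cfsg.quadFormOdd m F u
      rw [hh'c, Matrix.smul_mulVec, quadFormOdd_smul, hc, ← ha, Units.val_inv_eq_inv_val]
      have : (a : F) ≠ 0 := a.ne_zero
      field_simp
    refine ⟨⟨h', hiso⟩, ?_⟩
    show (QuotientGroup.mk (Subgroup.inclusion iso_le_sim ⟨h', hiso⟩) :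
      Cfsg.PGO F (Cfsg.quadFormOdd m F)) = QuotientGroup.mk ⟨h, c, hc⟩
    rw [QuotientGroup.eq, Subgroup.mem_subgroupOf]
    show ((h')⁻¹ * h : GL (Idx m) F) ∈ Cfsg.Geo.scalars (Idx m) F
    rw [hh', _root_.mul_inv_rev]
    have hz := (Cfsg.Geo.scalars_normal (ι := Idx m) (F := F)).conj_mem _
      ((Cfsg.Geo.scalars (Idx m) F).inv_mem (scal_mem (Idx m) a⁻¹)) h⁻¹
    rwa [inv_inv] at hz

theorem iso_equiv_pgo : Nonempty (↥(Cfsg.isometryGroup F (Cfsg.quadFormOdd m F)) ≃*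
    Cfsg.PGO F (Cfsg.quadFormOdd m F)) :=
  ⟨MulEquiv.ofBijective (isoToPGO m F) ⟨isoToPGO_injective, isoToPGO_surjective⟩⟩

/-- characteristic two: the centralizer of the standard graph automorphism is `PGO(quadFormOdd)` -/
theorem cent_two (hn : 0 < n) (e : Idx m ≃ Fin n)
    {ι : MulAut (Matrix.ProjectiveSpecialLinearGroup (Fin n) F)}
    (hι : Cfsg.IsInverseTransposeAutPSL ι) :
    Nonempty (↥(Cfsg.inndiagPSL n F ⊓ Subgroup.centralizer {Psi e (gTwo m F) * ι}) ≃*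
      Cfsg.PGO F (Cfsg.quadFormOdd m F)) := by
  obtain ⟨e1⟩ := cent_equiv hn e hι (gTwo m F) (NTwo m F) mem_NTwo
  obtain ⟨e2⟩ := nTwo_equiv_sp (m := m) (F := F)
  obtain ⟨e3⟩ := Cfsg.Agent.S0304.result (F := F) m
  obtain ⟨e4⟩ := iso_equiv_pgo (m := m) (F := F)
  exact ⟨((e1.trans e2).trans e3.symm).trans e4⟩

end Two

end Cfsg.Agent.Helper43.GraphAutCent
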