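import Mathlib
import Cfsg.Agent.Lib.Helper43.GraphAutCent

/-!
# Involutory graph automorphisms of `PSL_n(F)`, `n` odd: one class, centralizer `PGO(quadFormOdd)`
-/

set_option autoImplicit false

namespace Cfsg.Agent.Helper43.GraphAutOddDim

open Matrix Cfsg.Agent.Helper13.PSLAut Cfsg.Agent.Helper43.GraphAut Cfsg.Agent.Helper43.GraphAutCongr
  Cfsg.Agent.Helper43.GraphAutCent

variable {F : Type*} [Field F] {n : ℕ}

theorem glReindex_refl (g : GL (Fin n) F) : Cfsg.Geo.glReindex (F := F) (Equiv.refl (Fin n)) g = g := by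
  apply Units.ext
  rw [glReindex_coe]
  ext i j
  rfl

theorem Psi_refl (g : GL (Fin n) F) : Psi (Equiv.refl (Fin n)) g = PhiL g := by
  rw [Psi_apply, glReindex_refl]

theorem Psi_eq_refl {κ : Type} [Fintype κ] [DecidableEq κ] (e : κ ≃ Fin n) (g : GL κ F) :
    Psi e g = Psi (Equiv.refl (Fin n)) (Cfsg.Geo.glReindex (F := F) e g) := by
  rw [Psi_refl, Psi_apply]

theorem glReindex_symm {κ : Type} [Fintype κ] [DecidableEq κ] (e : κ ≃ Fin n) (g : GL κ F)
    (hg : ((g : Matrix κ κ F))ᵀ = (g : Matrix κ κ F)) :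
    (((Cfsg.Geo.glReindex (F := F) e g : GL (Fin n) F) : Matrix (Fin n) (Fin n) F))ᵀ =
      ((Cfsg.Geo.glReindex (F := F) e g : GL (Fin n) F) : Matrix (Fin n) (Fin n) F) := by
  rw [glReindex_coe, Matrix.transpose_reindex, hg]

/-- a graph automorphism of order two in odd dimension comes from a symmetric matrix -/
theorem symm_of_order_two (hn : 0 < n) (hodd : Odd n)
    {ι : MulAut (Matrix.ProjectiveSpecialLinearGroup (Fin n) F)}
    (hι : Cfsg.IsInverseTransposeAutPSL ι) (g : GL (Fin n) F)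
    (h2 : orderOf (Psi (Equiv.refl (Fin n)) g * ι) = 2) :
    ((g : Matrix (Fin n) (Fin n) F))ᵀ = (g : Matrix (Fin n) (Fin n) F) := by
  obtain ⟨c, hc⟩ := transpose_eq_smul_of_order_two hn (Equiv.refl (Fin n)) hι g h2
  have hdet : (g : Matrix (Fin n) (Fin n) F).det ≠ 0 := by
    have := (Matrix.isUnit_iff_isUnit_det _).1 (Units.isUnit g)
    exact this.ne_zero
  have h3 := congrArg Matrix.det hc
  rw [Matrix.det_transpose, Matrix.det_smul, Fintype.card_fin] at h3
  have h4 : (c : F) ^ n = 1 := by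
    have : (c : F) ^ n * (g : Matrix (Fin n) (Fin n) F).det = 1 * (g : Matrix (Fin n) (Fin n) F).det := by
      rw [one_mul]; exact h3.symm
    exact mul_right_cancel₀ hdet this
  have h5 : (c : F) ^ 2 = 1 := by
    have h6 : (g : Matrix (Fin n) (Fin n) F) = ((c : F) * (c : F)) • (g : Matrix (Fin n) (Fin n) F) := by
      conv_lhs => rw [← Matrix.transpose_transpose (g : Matrix (Fin n) (Fin n) F), hc, Matrix.transpose_smul,
        hc, smul_smul]
    obtain ⟨i, j, hij⟩ : ∃ i j, (g : Matrix (Fin n) (Fin n) F) i j ≠ 0 := by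
      by_contra hcon
      push Not at hcon
      apply hdet
      have : (g : Matrix (Fin n) (Fin n) F) = 0 := by ext i j; exact hcon i j
      rw [this]
      have : Nonempty (Fin n) := ⟨⟨0, hn⟩⟩
      exact Matrix.det_zero
    have h7 := congrFun (congrFun h6 i) j
    rw [Matrix.smul_apply, smul_eq_mul] at h7
    have h8 : ((c : F) * (c : F)) * (g : Matrix (Fin n) (Fin n) F) i j =
        1 * (g : Matrix (Fin n) (Fin n) F) i j := by rw [one_mul]; exact h7.symm
    rw [sq]
    exact mul_right_cancel₀ hij h8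
  obtain ⟨k, hk⟩ := hodd
  have h9 : (c : F) = 1 := by
    have : (c : F) ^ n = ((c : F) ^ 2) ^ k * c := by rw [hk, pow_succ, pow_mul]
    rw [this, h5, one_pow, one_mul] at h4
    exact h4
  rw [hc, h9, one_smul]

variable [Fintype F]

/-- odd dimension: any two invertible symmetric matrices give conjugate graph automorphisms -/
theorem conj_of_symm (hn : 0 < n) (hodd : Odd n)
    {ι : MulAut (Matrix.ProjectiveSpecialLinearGroup (Fin n) F)}
    (hι : Cfsg.IsInverseTransposeAutPSL ι) (g g' : GL (Fin n) F)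
    (hg : ((g : Matrix (Fin n) (Fin n) F))ᵀ = (g : Matrix (Fin n) (Fin n) F))
    (hg' : ((g' : Matrix (Fin n) (Fin n) F))ᵀ = (g' : Matrix (Fin n) (Fin n) F)) :
    Cfsg.IsConjUnder (Cfsg.inndiagPSL n F) (Psi (Equiv.refl (Fin n)) g * ι)
      (Psi (Equiv.refl (Fin n)) g' * ι) := by
  by_cases h2 : (2 : F) = 0
  · have : CharP F 2 := CharTwo.of_one_ne_zero_of_two_eq_zero one_ne_zero h2
    obtain ⟨h, hh⟩ := exists_congr_char_two g g' hg hg' (not_alt_of_odd hodd g) (not_alt_of_odd hodd g')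
    exact isConjUnder_of_congr hn _ hι g g' h 1 (by rw [hh, Units.val_one, one_smul])
  · obtain ⟨h, c, hh⟩ := exists_congr_odd h2 hodd g g' hg hg'
    exact isConjUnder_of_congr hn _ hι g g' h c hh

/-- the main theorem on involutory graph automorphisms in odd dimension -/
theorem main {m : ℕ} (hn : 3 ≤ n) (hnm : n = 2 * m + 1)
    (γ γ' : MulAut (Matrix.ProjectiveSpecialLinearGroup (Fin n) F))
    (hγ : Cfsg.IsGraphAutClassPSL γ) (hγ2 : orderOf γ = 2) (hγ' : Cfsg.IsGraphAutClassPSL γ')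
    (hγ'2 : orderOf γ' = 2) :
    Nonempty (↥(Cfsg.inndiagPSL n F ⊓ Subgroup.centralizer {γ}) ≃* Cfsg.PGO F (Cfsg.quadFormOdd m F)) ∧
      Cfsg.IsConjUnder (Cfsg.inndiagPSL n F) γ γ' := by
  have hn0 : 0 < n := by omega
  have hodd : Odd n := ⟨m, hnm⟩
  obtain ⟨g, ι, hι, rfl⟩ := graph_form (Equiv.refl (Fin n)) hγ
  obtain ⟨g', ι', hι', rfl⟩ := graph_form (Equiv.refl (Fin n)) hγ'
  obtain rfl := iota_unique hι hι'
  have hg := symm_of_order_two hn0 hodd hι g hγ2
  have hg' := symm_of_order_two hn0 hodd hι g' hγ'2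
  refine ⟨?_, conj_of_symm hn0 hodd hι g g' hg hg'⟩
  have hcard : Fintype.card (Idx m) = n := by
    rw [hnm]
    simp only [Fintype.card_sum, Fintype.card_unique, Fintype.card_fin]
    ring
  let e : Idx m ≃ Fin n := Fintype.equivFinOfCardEq hcard
  by_cases h2 : (2 : F) = 0
  · have : CharP F 2 := CharTwo.of_one_ne_zero_of_two_eq_zero one_ne_zero h2
    obtain ⟨e1⟩ := cent_two hn0 e hι (F := F) (m := m)
    rw [Psi_eq_refl] at e1
    obtain ⟨e2⟩ := conj_cent_equiv (Cfsg.inndiagPSL n F) _ _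
      (conj_of_symm hn0 hodd hι g _ hg (glReindex_symm e (gTwo m F) gTwo_symm))
    exact ⟨e2.trans e1⟩
  · obtain ⟨e1⟩ := cent_odd h2 hn0 e hι (F := F) (m := m)
    rw [Psi_eq_refl] at e1
    obtain ⟨e2⟩ := conj_cent_equiv (Cfsg.inndiagPSL n F) _ _
      (conj_of_symm hn0 hodd hι g _ hg (glReindex_symm e (gOdd m F h2) (gOdd_symm h2)))
    exact ⟨e2.trans e1⟩

end Cfsg.Agent.Helper43.GraphAutOddDim
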