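import Mathlib
import Cfsg.Agent.Lib.Helper43.GraphAutCent
import Cfsg.Agent.Lib.Helper43.GraphAutOddDim
import Cfsg.Agent.Lib.Helper13.GraphAutPSL
import Cfsg.Agent.Lib.Lead.SpTvCent
import Cfsg.Agent.Lib.Lead.SpTv3
import Cfsg.Agent.S0752
import Cfsg.Agent.Lib.Helper13.SymCong
import Cfsg.Agent.S2622

/-!
# Involutory graph automorphisms of `PSL_n(F)`, `n = 2m`, characteristic two

* `congrSubgroup g = {h | h g hᵀ ∈ Fˣ g}` for an arbitrary matrix `g`;
* `iso_of_sub`: in characteristic two over a finite field, `congrSubgroup g / scalars` is the group of exact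
  isometries, presented as a subgroup `S` of `Sp`;
* normal forms: alternating invertible matrices are congruent to `J`, non-alternating symmetric ones to `1`;
* the two classes `γ₁` (matrix `J`) and `γ₃` (matrix `J + w wᵀ`).
-/

set_option autoImplicit false

namespace Cfsg.Agent.Helper43.GraphAutEven2

open Matrix Cfsg.Agent.Helper13.PSLAut Cfsg.Agent.Helper43.GraphAut Cfsg.Agent.Helper43.GraphAutCongr
  Cfsg.Agent.Helper43.GraphAutCent

section Generic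

variable {F : Type*} [Field F] {κ : Type} [Fintype κ] [DecidableEq κ]

/-- the subgroup `{h | h g hᵀ ∈ Fˣ g}` -/
def congrSubgroup (G : Matrix κ κ F) : Subgroup (GL κ F) where
  carrier := {h | ∃ c : Fˣ, (h : Matrix κ κ F) * G * ((h : Matrix κ κ F))ᵀ = (c : F) • G}
  mul_mem' {a b} ha hb := by
    obtain ⟨c, hc⟩ := ha
    obtain ⟨d, hd⟩ := hb
    refine ⟨c * d, ?_⟩
    rw [Units.val_mul, Matrix.transpose_mul]
    calc (a : Matrix κ κ F) * (b : Matrix κ κ F) * G *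
          (((b : Matrix κ κ F))ᵀ * ((a : Matrix κ κ F))ᵀ)
        = (a : Matrix κ κ F) * ((b : Matrix κ κ F) * G *
          ((b : Matrix κ κ F))ᵀ) * ((a : Matrix κ κ F))ᵀ := by
          simp only [Matrix.mul_assoc]
      _ = ((c * d : Fˣ) : F) • G := by
          rw [hd, Matrix.mul_smul, Matrix.smul_mul, hc, smul_smul, Units.val_mul, mul_comm]
  one_mem' := ⟨1, by simp⟩
  inv_mem' {a} ha := by
    obtain ⟨c, hc⟩ := ha
    refine ⟨c⁻¹, ?_⟩
    have e1 : ((a⁻¹ : GL κ F) : Matrix κ κ F) * (a : Matrix κ κ F) = 1 := by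
      rw [← Units.val_mul, inv_mul_cancel, Units.val_one]
    have e3 : G = ((c⁻¹ : Fˣ) : F) • ((a : Matrix κ κ F) * G *
        ((a : Matrix κ κ F))ᵀ) := by
      rw [hc, smul_smul, ← Units.val_mul, inv_mul_cancel, Units.val_one, one_smul]
    calc ((a⁻¹ : GL κ F) : Matrix κ κ F) * G *
          (((a⁻¹ : GL κ F) : Matrix κ κ F))ᵀ
        = ((a⁻¹ : GL κ F) : Matrix κ κ F) * (((c⁻¹ : Fˣ) : F) •
          ((a : Matrix κ κ F) * G * ((a : Matrix κ κ F))ᵀ)) *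
          (((a⁻¹ : GL κ F) : Matrix κ κ F))ᵀ := by rw [← e3]
      _ = ((c⁻¹ : Fˣ) : F) • ((((a⁻¹ : GL κ F) : Matrix κ κ F) *
          (a : Matrix κ κ F)) * G * (((a⁻¹ : GL κ F) : Matrix κ κ F) *
          (a : Matrix κ κ F))ᵀ) := by
          rw [Matrix.transpose_mul, Matrix.mul_smul, Matrix.smul_mul]
          simp only [Matrix.mul_assoc]
      _ = ((c⁻¹ : Fˣ) : F) • G := by rw [e1, Matrix.transpose_one, Matrix.one_mul, Matrix.mul_one]

theorem mem_congrSubgroup (G : Matrix κ κ F) (h : GL κ F) : h ∈ congrSubgroup G ↔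
    ∃ c : Fˣ, (h : Matrix κ κ F) * G * ((h : Matrix κ κ F))ᵀ = (c : F) • G :=
  Iff.rfl

end Generic

section Sp

variable {F : Type*} [Field F] {m : ℕ}

/-- `Sp_{2m}(F) → GL` -/
def spToGL (m : ℕ) (F : Type*) [Field F] :
    ↥(Matrix.symplecticGroup (Fin m) F) →* GL (Fin m ⊕ Fin m) F :=
  (Matrix.symplecticGroup (Fin m) F).subtype.toHomUnits

theorem spToGL_coe (s : ↥(Matrix.symplecticGroup (Fin m) F)) :
    ((spToGL m F s : GL (Fin m ⊕ Fin m) F) : Matrix (Fin m ⊕ Fin m) (Fin m ⊕ Fin m) F) =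
      (s : Matrix (Fin m ⊕ Fin m) (Fin m ⊕ Fin m) F) := rfl

theorem spToGL_injective : Function.Injective (spToGL m F) := by
  intro s t hst
  apply Subtype.ext
  have := congrArg (fun x : GL (Fin m ⊕ Fin m) F => (x : Matrix (Fin m ⊕ Fin m) (Fin m ⊕ Fin m) F)) hst
  exact this

end Sp

section Iso

variable {F : Type*} [Field F] [CharP F 2] [Fintype F] {m : ℕ}

local notation "κκ" => (Fin m ⊕ Fin m)

/-- In characteristic two over a finite field, `congrSubgroup G / scalars` is the group of exact isometries of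
`G`; here the latter is presented as the image of a subgroup `S` of the symplectic group. -/
theorem iso_of_sub (G : Matrix (Fin m ⊕ Fin m) (Fin m ⊕ Fin m) F) (hG : G ≠ 0)
    (S : Subgroup ↥(Matrix.symplecticGroup (Fin m) F))
    (hS : ∀ h : GL (Fin m ⊕ Fin m) F,
      (h : Matrix (Fin m ⊕ Fin m) (Fin m ⊕ Fin m) F) * G *
        ((h : Matrix (Fin m ⊕ Fin m) (Fin m ⊕ Fin m) F))ᵀ = G ↔ ∃ s ∈ S, spToGL m F s = h) :
    Nonempty (↥(congrSubgroup G) ⧸ (Cfsg.Geo.scalars (Fin m ⊕ Fin m) F).subgroupOf (congrSubgroup G) ≃*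
      ↥S) := by
  have hmem : ∀ s : ↥S, spToGL m F (s : ↥(Matrix.symplecticGroup (Fin m) F)) ∈ congrSubgroup G := by
    intro s
    refine ⟨1, ?_⟩
    rw [Units.val_one, one_smul]
    exact (hS _).2 ⟨s, s.2, rfl⟩
  let ψ : ↥S →* ↥(congrSubgroup G) ⧸ (Cfsg.Geo.scalars (Fin m ⊕ Fin m) F).subgroupOf (congrSubgroup G) :=
    (QuotientGroup.mk' _).comp (((spToGL m F).comp S.subtype).codRestrict (congrSubgroup G) hmem)
  have hinj : Function.Injective ψ := by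
    rw [injective_iff_map_eq_one]
    intro s hs
    have h1 : ((spToGL m F).comp S.subtype).codRestrict (congrSubgroup G) hmem s ∈
        (Cfsg.Geo.scalars (Fin m ⊕ Fin m) F).subgroupOf (congrSubgroup G) := by
      rw [← QuotientGroup.eq_one_iff]
      exact hs
    rw [Subgroup.mem_subgroupOf, Cfsg.Geo.mem_scalars_iff] at h1
    obtain ⟨c, hc⟩ := h1
    have hc' : ((s : ↥(Matrix.symplecticGroup (Fin m) F)) : Matrix (Fin m ⊕ Fin m) (Fin m ⊕ Fin m) F) =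
        (c : F) • 1 := hc
    have h2 := (hS (spToGL m F (s : ↥(Matrix.symplecticGroup (Fin m) F)))).2 ⟨s, s.2, rfl⟩
    rw [spToGL_coe, hc', Matrix.transpose_smul, Matrix.transpose_one, Matrix.smul_mul, Matrix.one_mul,
      Matrix.mul_smul, Matrix.mul_one, smul_smul] at h2
    obtain ⟨i, j, hij⟩ : ∃ i j, G i j ≠ 0 := by
      by_contra hcon
      push Not at hcon
      apply hG
      ext i j
      exact hcon i j
    have h3 := congrFun (congrFun h2 i) j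
    rw [Matrix.smul_apply, smul_eq_mul] at h3
    have h4 : (c : F) * (c : F) = 1 := by
      have : ((c : F) * (c : F)) * G i j = 1 * G i j := by rw [one_mul]; exact h3
      exact mul_right_cancel₀ hij this
    have h5 : (c : F) = 1 := sq_inj (by rw [sq, h4, one_pow])
    apply Subtype.ext
    apply Subtype.ext
    rw [hc', h5, one_smul]
    rfl
  have hsurj : Function.Surjective ψ := by
    intro x
    induction x using QuotientGroup.induction_on with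
    | H y =>
      obtain ⟨h, c, hc⟩ := y
      obtain ⟨a, ha⟩ := exists_sqrt c
      set h' : GL (Fin m ⊕ Fin m) F := scal (Fin m ⊕ Fin m) a⁻¹ * h with hh'
      have hh'c : (h' : Matrix (Fin m ⊕ Fin m) (Fin m ⊕ Fin m) F) =
          ((a⁻¹ : Fˣ) : F) • (h : Matrix (Fin m ⊕ Fin m) (Fin m ⊕ Fin m) F) := by
        rw [hh', Units.val_mul, scal_coe, Matrix.smul_mul, Matrix.one_mul]
      have hcong : (h' : Matrix (Fin m ⊕ Fin m) (Fin m ⊕ Fin m) F) * G *
          ((h' : Matrix (Fin m ⊕ Fin m) (Fin m ⊕ Fin m) F))ᵀ = G := by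
        rw [hh'c, Matrix.transpose_smul, Matrix.smul_mul, Matrix.smul_mul, Matrix.mul_smul, hc, smul_smul,
          smul_smul, ← ha]
        have : ((a⁻¹ : Fˣ) : F) * ((a⁻¹ : Fˣ) : F) * ((a : F) * a) = 1 := by
          rw [Units.val_inv_eq_inv_val]
          have : (a : F) ≠ 0 := a.ne_zero
          field_simp
        rw [this, one_smul]
      obtain ⟨s, hsS, hs⟩ := (hS h').1 hcong
      refine ⟨⟨s, hsS⟩, ?_⟩
      show (QuotientGroup.mk (((spToGL m F).comp S.subtype).codRestrict (congrSubgroup G) hmem ⟨s, hsS⟩) :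
        ↥(congrSubgroup G) ⧸ (Cfsg.Geo.scalars (Fin m ⊕ Fin m) F).subgroupOf (congrSubgroup G)) =
          QuotientGroup.mk ⟨h, c, hc⟩
      rw [QuotientGroup.eq, Subgroup.mem_subgroupOf]
      show ((spToGL m F s)⁻¹ * h : GL (Fin m ⊕ Fin m) F) ∈ Cfsg.Geo.scalars (Fin m ⊕ Fin m) F
      rw [hs, hh', _root_.mul_inv_rev]
      have hz := (Cfsg.Geo.scalars_normal (ι := Fin m ⊕ Fin m) (F := F)).conj_mem _
        ((Cfsg.Geo.scalars (Fin m ⊕ Fin m) F).inv_mem (scal_mem (Fin m ⊕ Fin m) a⁻¹)) h⁻¹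
      rwa [inv_inv] at hz
  exact ⟨(MulEquiv.ofBijective ψ ⟨hinj, hsurj⟩).symm⟩

end Iso

section NormalForms

variable {F : Type*} [Field F] [Fintype F] [CharP F 2] {κ : Type} [Fintype κ] [DecidableEq κ]

/-- characteristic two: a non-alternating invertible symmetric matrix is congruent to the identity -/
theorem congr_one_char_two (g : GL κ F)
    (hg : ((g : Matrix κ κ F))ᵀ = (g : Matrix κ κ F))
    (hna : ∃ v : κ → F, v ⬝ᵥ ((g : Matrix κ κ F) *ᵥ v) ≠ 0) :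
    ∃ h : GL κ F, (h : Matrix κ κ F) * (g : Matrix κ κ F) * ((h : Matrix κ κ F))ᵀ = 1 := by
  set B : LinearMap.BilinForm F (κ → F) := Matrix.toBilin' (g : Matrix κ κ F) with hB
  have hBapp : ∀ x y, B x y = x ⬝ᵥ ((g : Matrix κ κ F) *ᵥ y) := fun x y =>
    Matrix.toBilin'_apply' _ x y
  have hS : B.IsSymm := by
    refine ⟨fun x y => ?_⟩
    rw [hBapp, hBapp]
    exact dot_symm _ hg x y
  have hdet : (g : Matrix κ κ F).det ≠ 0 := by
    have := (Matrix.isUnit_iff_isUnit_det _).1 (Units.isUnit g)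
    exact this.ne_zero
  have hnd : B.Nondegenerate := by
    apply Matrix.Nondegenerate.toBilin'
    rw [Matrix.nondegenerate_iff_det_ne_zero]
    exact hdet
  obtain ⟨v, hv⟩ := hna
  obtain ⟨b0, hb0⟩ := Cfsg.Agent.S2622.result (F := F) (V := κ → F) (n := Fintype.card κ)
    (by rw [Module.finrank_fintype_fun_eq_card]) B hS hnd ⟨v, by rw [hBapp]; exact hv⟩
  set b : Module.Basis κ F (κ → F) := b0.reindex (Fintype.equivFin κ).symm with hbdef
  have hb : ∀ i j, B (b i) (b j) = if i = j then 1 else 0 := by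
    intro i j
    rw [hbdef, Module.Basis.reindex_apply, Module.Basis.reindex_apply, hb0]
    simp only [Equiv.symm_symm, EmbeddingLike.apply_eq_iff_eq]
  -- the matrix with columns `b j`
  set T : Matrix κ κ F := (Pi.basisFun F κ).toMatrix b with hT
  set T' : Matrix κ κ F := b.toMatrix (Pi.basisFun F κ) with hT'
  have hTT' : T * T' = 1 := Module.Basis.toMatrix_mul_toMatrix_flip _ _
  have hT'T : T' * T = 1 := Module.Basis.toMatrix_mul_toMatrix_flip _ _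
  have hTcol : ∀ j, T *ᵥ (Pi.single j 1) = b j := by
    intro j
    rw [Matrix.mulVec_single_one]
    ext i
    rw [Matrix.col_apply, hT, Module.Basis.toMatrix_apply, Pi.basisFun_repr]
  have hmain : Tᵀ * (g : Matrix κ κ F) * T = 1 := by
    ext i j
    have h5 := entry_eq (Tᵀ * (g : Matrix κ κ F) * T) i j
    rw [← h5, ← quad_transform, hTcol, hTcol, ← hBapp, hb, Matrix.one_apply]
  refine ⟨⟨Tᵀ, T'ᵀ, ?_, ?_⟩, ?_⟩
  · rw [← Matrix.transpose_mul, hT'T, Matrix.transpose_one]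
  · rw [← Matrix.transpose_mul, hTT', Matrix.transpose_one]
  · show Tᵀ * (g : Matrix κ κ F) * Tᵀᵀ = 1
    rw [Matrix.transpose_transpose, hmain]

omit [Fintype F] [CharP F 2] in
/-- if `h₁ g h₁ᵀ = P = h₂ g' h₂ᵀ` then `g` and `g'` are congruent -/
theorem congr_of_common (g g' : Matrix κ κ F) (P : Matrix κ κ F) (h1 h2 : GL κ F)
    (hh1 : (h1 : Matrix κ κ F) * g * ((h1 : Matrix κ κ F))ᵀ = P)
    (hh2 : (h2 : Matrix κ κ F) * g' * ((h2 : Matrix κ κ F))ᵀ = P) :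
    ((h2⁻¹ * h1 : GL κ F) : Matrix κ κ F) * g * (((h2⁻¹ * h1 : GL κ F) : Matrix κ κ F))ᵀ = g' := by
  have e1 : ((h2⁻¹ : GL κ F) : Matrix κ κ F) * (h2 : Matrix κ κ F) = 1 := by
    rw [← Units.val_mul, inv_mul_cancel, Units.val_one]
  have e3 : g' = ((h2⁻¹ : GL κ F) : Matrix κ κ F) * P * (((h2⁻¹ : GL κ F) : Matrix κ κ F))ᵀ := by
    calc g' = (((h2⁻¹ : GL κ F) : Matrix κ κ F) * (h2 : Matrix κ κ F)) * g' *
          (((h2⁻¹ : GL κ F) : Matrix κ κ F) * (h2 : Matrix κ κ F))ᵀ := by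
          rw [e1, Matrix.transpose_one, Matrix.one_mul, Matrix.mul_one]
      _ = ((h2⁻¹ : GL κ F) : Matrix κ κ F) * ((h2 : Matrix κ κ F) * g' * ((h2 : Matrix κ κ F))ᵀ) *
          (((h2⁻¹ : GL κ F) : Matrix κ κ F))ᵀ := by
          rw [Matrix.transpose_mul]; simp only [Matrix.mul_assoc]
      _ = _ := by rw [hh2]
  rw [Units.val_mul, Matrix.transpose_mul]
  calc ((h2⁻¹ : GL κ F) : Matrix κ κ F) * (h1 : Matrix κ κ F) * g * (((h1 : Matrix κ κ F))ᵀ *
        (((h2⁻¹ : GL κ F) : Matrix κ κ F))ᵀ)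
      = ((h2⁻¹ : GL κ F) : Matrix κ κ F) * ((h1 : Matrix κ κ F) * g * ((h1 : Matrix κ κ F))ᵀ) *
        (((h2⁻¹ : GL κ F) : Matrix κ κ F))ᵀ := by simp only [Matrix.mul_assoc]
    _ = g' := by rw [hh1, ← e3]

/-- characteristic two: two non-alternating invertible symmetric matrices are congruent -/
theorem congr_char_two (g g' : GL κ F)
    (hg : ((g : Matrix κ κ F))ᵀ = (g : Matrix κ κ F))
    (hg' : ((g' : Matrix κ κ F))ᵀ = (g' : Matrix κ κ F))
    (hna : ∃ v : κ → F, v ⬝ᵥ ((g : Matrix κ κ F) *ᵥ v) ≠ 0)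
    (hna' : ∃ v : κ → F, v ⬝ᵥ ((g' : Matrix κ κ F) *ᵥ v) ≠ 0) :
    ∃ h : GL κ F, (h : Matrix κ κ F) * (g : Matrix κ κ F) * ((h : Matrix κ κ F))ᵀ = (g' : Matrix κ κ F) := by
  obtain ⟨h1, hh1⟩ := congr_one_char_two g hg hna
  obtain ⟨h2, hh2⟩ := congr_one_char_two g' hg' hna'
  exact ⟨h2⁻¹ * h1, congr_of_common _ _ 1 h1 h2 hh1 hh2⟩

end NormalForms

section AltNormal

variable {F : Type*} [Field F] {m : ℕ}

/-- an alternating invertible matrix is congruent to the standard `J` -/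
theorem alt_normal_form (g : GL (Fin m ⊕ Fin m) F)
    (hAlt : ∀ v : Fin m ⊕ Fin m → F, v ⬝ᵥ ((g : Matrix (Fin m ⊕ Fin m) (Fin m ⊕ Fin m) F) *ᵥ v) = 0) :
    ∃ h : GL (Fin m ⊕ Fin m) F, (h : Matrix (Fin m ⊕ Fin m) (Fin m ⊕ Fin m) F) *
      (g : Matrix (Fin m ⊕ Fin m) (Fin m ⊕ Fin m) F) *
      ((h : Matrix (Fin m ⊕ Fin m) (Fin m ⊕ Fin m) F))ᵀ = Matrix.J (Fin m) F := by
  classical
  set A : Matrix (Fin m ⊕ Fin m) (Fin m ⊕ Fin m) F := (g : Matrix (Fin m ⊕ Fin m) (Fin m ⊕ Fin m) F) with hAdef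
  set B : LinearMap.BilinForm F (Fin m ⊕ Fin m → F) := Matrix.toBilin' A with hB
  have hBapp : ∀ x y, B x y = x ⬝ᵥ A *ᵥ y := fun x y => Matrix.toBilin'_apply' A x y
  have hAltB : B.IsAlt := by
    intro x
    rw [hBapp]
    exact hAlt x
  have hskew : ∀ x y, B x y = -B y x := fun x y => (LinearMap.IsAlt.neg hAltB y x).symm
  have hdet : A.det ≠ 0 := by
    have := (Matrix.isUnit_iff_isUnit_det _).1 (Units.isUnit g)
    exact this.ne_zero
  have hN : B.Nondegenerate := (Matrix.nondegenerate_of_det_ne_zero hdet).toBilin'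
  obtain ⟨m', k', b, h1, h2', h3, h4⟩ := Cfsg.Agent.S0752.result B hAltB
  have hk' : k' = 0 := by
    by_contra hne
    have hpos : 0 < k' := Nat.pos_of_ne_zero hne
    have h0 : b (Sum.inr ⟨0, hpos⟩) = 0 := hN.1 _ (fun v => h4 ⟨0, hpos⟩ v)
    exact b.ne_zero _ h0
  subst hk'
  have hm' : m' = m := by
    have e1 := Module.finrank_eq_card_basis b
    rw [Module.finrank_fintype_fun_eq_card] at e1
    simp only [Fintype.card_sum, Fintype.card_fin] at e1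
    omega
  subst hm'
  set R : Fin m' ⊕ Fin m' → (Fin m' ⊕ Fin m' → F) :=
    Sum.elim (fun i => b (Sum.inl (Sum.inr i))) (fun i => b (Sum.inl (Sum.inl i))) with hR
  have hG : ∀ x x', B (R x) (R x') = Matrix.J (Fin m') F x x' := by
    intro x x'
    rcases x with i | i <;> rcases x' with j | j
    · simp only [hR, Sum.elim_inl, Matrix.J, Matrix.fromBlocks_apply₁₁, Matrix.zero_apply]
      exact h3 i j
    · simp only [hR, Sum.elim_inl, Sum.elim_inr, Matrix.J, Matrix.fromBlocks_apply₁₂,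
        Matrix.neg_apply, Matrix.one_apply]
      rw [hskew, h1 j i]
      simp [eq_comm]
    · simp only [hR, Sum.elim_inl, Sum.elim_inr, Matrix.J, Matrix.fromBlocks_apply₂₁,
        Matrix.one_apply]
      exact h1 i j
    · simp only [hR, Sum.elim_inr, Matrix.J, Matrix.fromBlocks_apply₂₂, Matrix.zero_apply]
      exact h2' i j
  have key : Matrix.of R * A * (Matrix.of R)ᵀ = Matrix.J (Fin m') F := by
    ext i j
    rw [Cfsg.Agent.Helper13.SymCong.gram_eq, ← hBapp, hG]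
  have hdetR : (Matrix.of R).det ≠ 0 := by
    refine Cfsg.Agent.Helper13.SymCong.det_ne_zero_of_cong ?_ key
    intro h0
    have := Matrix.J_det_mul_J_det (Fin m') F
    rw [h0, zero_mul] at this
    exact zero_ne_one this
  refine ⟨Matrix.GeneralLinearGroup.mkOfDetNeZero (Matrix.of R) hdetR, ?_⟩
  exact key

end AltNormal

section Main

open Cfsg.Agent.Helper5

variable {F : Type*} [Field F] {m : ℕ}

/-- the matrix `J` as an element of `GL` -/
def gJ (m : ℕ) (F : Type*) [Field F] : GL (Fin m ⊕ Fin m) F :=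
  spToGL m F ⟨Matrix.J (Fin m) F, SymplecticGroup.J_mem _ _⟩

theorem gJ_coe : ((gJ m F : GL (Fin m ⊕ Fin m) F) : Matrix (Fin m ⊕ Fin m) (Fin m ⊕ Fin m) F) =
    Matrix.J (Fin m) F := rfl

/-- the matrix `J + w wᵀ` as an element of `GL` -/
def g3 (w : Fin m ⊕ Fin m → F) : GL (Fin m ⊕ Fin m) F :=
  gJ m F * spToGL m F ⟨spTv (Matrix.J (Fin m) F *ᵥ w) 1, spTv_mem _ _⟩

theorem g3_coe (w : Fin m ⊕ Fin m → F) :
    ((g3 w : GL (Fin m ⊕ Fin m) F) : Matrix (Fin m ⊕ Fin m) (Fin m ⊕ Fin m) F) =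
      Matrix.J (Fin m) F + Matrix.vecMulVec w w := by
  unfold g3
  rw [Units.val_mul, gJ_coe, spToGL_coe]
  show Matrix.J (Fin m) F * spTv (Matrix.J (Fin m) F *ᵥ w) 1 = _
  rw [spTv, one_smul, Matrix.mul_add, Matrix.mul_one, Matrix.mul_vecMulVec, J_mulVec_J_mulVec,
    Matrix.neg_vecMulVec, Matrix.vecMulVec_neg, neg_neg]

theorem quad_g3 (w x : Fin m ⊕ Fin m → F) :
    x ⬝ᵥ ((Matrix.J (Fin m) F + Matrix.vecMulVec w w) *ᵥ x) = (w ⬝ᵥ x) ^ 2 := by
  rw [Matrix.add_mulVec, dotProduct_add, dotProduct_J_mulVec_self, zero_add, Matrix.vecMulVec_mulVec,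
    op_smul_eq_smul, dotProduct_smul, smul_eq_mul, dotProduct_comm x w, sq]

theorem J_ne_zero (hm : 0 < m) : Matrix.J (Fin m) F ≠ 0 := by
  intro h
  have h1 := congrFun (congrFun h (Sum.inr ⟨0, hm⟩)) (Sum.inl ⟨0, hm⟩)
  rw [Matrix.J, Matrix.fromBlocks_apply₂₁, Matrix.one_apply_eq, Matrix.zero_apply] at h1
  exact one_ne_zero h1

theorem gJ_iso_iff (h : GL (Fin m ⊕ Fin m) F) :
    (h : Matrix (Fin m ⊕ Fin m) (Fin m ⊕ Fin m) F) * Matrix.J (Fin m) F *
      ((h : Matrix (Fin m ⊕ Fin m) (Fin m ⊕ Fin m) F))ᵀ = Matrix.J (Fin m) F ↔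
      ∃ s ∈ (⊤ : Subgroup ↥(Matrix.symplecticGroup (Fin m) F)), spToGL m F s = h := by
  constructor
  · intro hh
    refine ⟨⟨(h : Matrix (Fin m ⊕ Fin m) (Fin m ⊕ Fin m) F), SymplecticGroup.mem_iff.2 hh⟩,
      Subgroup.mem_top _, ?_⟩
    apply Units.ext
    rfl
  · rintro ⟨s, _, rfl⟩
    rw [spToGL_coe]
    exact SymplecticGroup.mem_iff.1 s.2

section CharTwo

variable [CharP F 2]

attribute [local instance] Cfsg.Agent.Lead.SpTvCent.spAction

theorem g3_iso_iff (w : Fin m ⊕ Fin m → F) (hw : w ≠ 0) (h : GL (Fin m ⊕ Fin m) F) :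
    (h : Matrix (Fin m ⊕ Fin m) (Fin m ⊕ Fin m) F) * (Matrix.J (Fin m) F + Matrix.vecMulVec w w) *
      ((h : Matrix (Fin m ⊕ Fin m) (Fin m ⊕ Fin m) F))ᵀ = Matrix.J (Fin m) F + Matrix.vecMulVec w w ↔
      ∃ s ∈ Subgroup.centralizer ({⟨spTv w 1, spTv_mem w 1⟩} : Set ↥(Matrix.symplecticGroup (Fin m) F)),
        spToGL m F s = h := by
  rw [Cfsg.Agent.Lead.SpTvCent.centralizer_eq_stabilizer w 1 hw one_ne_zero]
  have hexp : ∀ H : Matrix (Fin m ⊕ Fin m) (Fin m ⊕ Fin m) F,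
      H * (Matrix.J (Fin m) F + Matrix.vecMulVec w w) * Hᵀ =
        H * Matrix.J (Fin m) F * Hᵀ + Matrix.vecMulVec (H *ᵥ w) (H *ᵥ w) := by
    intro H
    rw [Matrix.mul_add, Matrix.add_mul, Matrix.mul_vecMulVec, Matrix.vecMulVec_mul, Matrix.vecMul_transpose]
  constructor
  · intro hh
    have h1 : ∀ x : Fin m ⊕ Fin m → F, ((h : Matrix (Fin m ⊕ Fin m) (Fin m ⊕ Fin m) F) *ᵥ w) ⬝ᵥ x = w ⬝ᵥ x := by
      intro x
      have h2 := quad_transform (Matrix.J (Fin m) F + Matrix.vecMulVec w w)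
        ((h : Matrix (Fin m ⊕ Fin m) (Fin m ⊕ Fin m) F))ᵀ x x
      rw [Matrix.transpose_transpose, hh, quad_g3, quad_g3] at h2
      have h3 := sq_inj h2
      rw [Matrix.dotProduct_mulVec, Matrix.vecMul_transpose] at h3
      exact h3
    have h4 : (h : Matrix (Fin m ⊕ Fin m) (Fin m ⊕ Fin m) F) *ᵥ w = w := dotProduct_eq _ _ h1
    rw [hexp, h4] at hh
    have h5 := add_right_cancel hh
    refine ⟨⟨(h : Matrix (Fin m ⊕ Fin m) (Fin m ⊕ Fin m) F), SymplecticGroup.mem_iff.2 h5⟩, ?_, ?_⟩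
    · rw [MulAction.mem_stabilizer_iff]
      exact h4
    · apply Units.ext
      rfl
  · rintro ⟨s, hs, rfl⟩
    rw [MulAction.mem_stabilizer_iff] at hs
    have hs' : (s : Matrix (Fin m ⊕ Fin m) (Fin m ⊕ Fin m) F) *ᵥ w = w := hs
    rw [spToGL_coe, hexp, hs', SymplecticGroup.mem_iff.1 s.2]

omit [CharP F 2] in
theorem isTransvection_spTv (w : Fin m ⊕ Fin m → F) (hw : w ≠ 0) :
    Cfsg.IsTransvection (spTv w (1 : F)) := by
  refine ⟨Cfsg.Agent.Lead.SpTv3.rank_spTv_sub_one hw one_ne_zero, ?_⟩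
  have : spTv w (1 : F) - 1 = Matrix.vecMulVec w (Matrix.J (Fin m) F *ᵥ w) := by
    rw [spTv, add_sub_cancel_left, one_smul]
  rw [this, Matrix.vecMulVec_mul_vecMulVec, dotProduct_comm, dotProduct_J_mulVec_self, zero_smul,
    Matrix.vecMulVec_zero]

theorem gJ_symm : (((gJ m F : GL (Fin m ⊕ Fin m) F) : Matrix (Fin m ⊕ Fin m) (Fin m ⊕ Fin m) F))ᵀ =
    ((gJ m F : GL (Fin m ⊕ Fin m) F) : Matrix (Fin m ⊕ Fin m) (Fin m ⊕ Fin m) F) := by
  rw [gJ_coe, Matrix.J_transpose, neg_mat]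

theorem g3_symm (w : Fin m ⊕ Fin m → F) :
    (((g3 w : GL (Fin m ⊕ Fin m) F) : Matrix (Fin m ⊕ Fin m) (Fin m ⊕ Fin m) F))ᵀ =
    ((g3 w : GL (Fin m ⊕ Fin m) F) : Matrix (Fin m ⊕ Fin m) (Fin m ⊕ Fin m) F) := by
  rw [g3_coe, Matrix.transpose_add, Matrix.J_transpose, neg_mat, Matrix.transpose_vecMulVec]

end CharTwo

end Main

section Final

open Cfsg.Agent.Helper5 Cfsg.Agent.Helper13.GraphAutPSL Cfsg.Agent.Helper43.GraphAutOddDim

variable {F : Type*} [Field F] [Fintype F] [CharP F 2] {n m : ℕ}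

omit [Fintype F] [CharP F 2] in
theorem order_two (hn : 3 ≤ n) (e : Fin m ⊕ Fin m ≃ Fin n) (g : GL (Fin m ⊕ Fin m) F)
    (hg : ((g : Matrix (Fin m ⊕ Fin m) (Fin m ⊕ Fin m) F))ᵀ = (g : Matrix (Fin m ⊕ Fin m) (Fin m ⊕ Fin m) F)) :
    orderOf (Psi e g * iotaAut) = 2 :=
  orderOf_gam hn (Cfsg.Geo.glReindex (F := F) e g) (Or.inl (glReindex_symm e g hg))

omit [Fintype F] in
/-- order two forces a symmetric matrix (characteristic two) -/
theorem symm_of_order_two_char_two (hn : 0 < n) (e : Fin m ⊕ Fin m ≃ Fin n)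
    {ι : MulAut (Matrix.ProjectiveSpecialLinearGroup (Fin n) F)}
    (hι : Cfsg.IsInverseTransposeAutPSL ι) (g : GL (Fin m ⊕ Fin m) F)
    (h2 : orderOf (Psi e g * ι) = 2) :
    ((g : Matrix (Fin m ⊕ Fin m) (Fin m ⊕ Fin m) F))ᵀ = (g : Matrix (Fin m ⊕ Fin m) (Fin m ⊕ Fin m) F) := by
  obtain ⟨c, hc⟩ := transpose_eq_smul_of_order_two hn e hι g h2
  have h6 : (g : Matrix (Fin m ⊕ Fin m) (Fin m ⊕ Fin m) F) =
      ((c : F) * (c : F)) • (g : Matrix (Fin m ⊕ Fin m) (Fin m ⊕ Fin m) F) := by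
    conv_lhs => rw [← Matrix.transpose_transpose (g : Matrix (Fin m ⊕ Fin m) (Fin m ⊕ Fin m) F), hc,
      Matrix.transpose_smul, hc, smul_smul]
  obtain ⟨i, j, hij⟩ : ∃ i j, (g : Matrix (Fin m ⊕ Fin m) (Fin m ⊕ Fin m) F) i j ≠ 0 := by
    by_contra hcon
    push Not at hcon
    have hz : (g : Matrix (Fin m ⊕ Fin m) (Fin m ⊕ Fin m) F) = 0 := by ext i j; exact hcon i j
    have hne : Nonempty (Fin m ⊕ Fin m) := ⟨e.symm ⟨0, hn⟩⟩
    have h1 : ((g⁻¹ : GL (Fin m ⊕ Fin m) F) : Matrix (Fin m ⊕ Fin m) (Fin m ⊕ Fin m) F) *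
        (g : Matrix (Fin m ⊕ Fin m) (Fin m ⊕ Fin m) F) = 1 := by
      rw [← Units.val_mul, inv_mul_cancel, Units.val_one]
    rw [hz, Matrix.mul_zero] at h1
    obtain ⟨i⟩ := hne
    have := congrFun (congrFun h1 i) i
    rw [Matrix.zero_apply, Matrix.one_apply_eq] at this
    exact zero_ne_one this
  have h7 := congrFun (congrFun h6 i) j
  rw [Matrix.smul_apply, smul_eq_mul] at h7
  have h8 : ((c : F) * (c : F)) * (g : Matrix (Fin m ⊕ Fin m) (Fin m ⊕ Fin m) F) i j =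
      1 * (g : Matrix (Fin m ⊕ Fin m) (Fin m ⊕ Fin m) F) i j := by rw [one_mul]; exact h7.symm
  have h9 : (c : F) * (c : F) = 1 := mul_right_cancel₀ hij h8
  have h10 : (c : F) = 1 := sq_inj (by rw [sq, h9, one_pow])
  rw [hc, h10, one_smul]

theorem main (hm : 2 ≤ m) (hnm : n = 2 * m) :
    ∃ (γ₁ γ₃ : MulAut (Matrix.ProjectiveSpecialLinearGroup (Fin n) F))
      (t : ↥(Matrix.symplecticGroup (Fin m) F)),
      Cfsg.IsTransvection (t : Matrix (Fin m ⊕ Fin m) (Fin m ⊕ Fin m) F) ∧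
      Cfsg.IsGraphAutClassPSL γ₁ ∧ orderOf γ₁ = 2 ∧ Cfsg.IsGraphAutClassPSL γ₃ ∧ orderOf γ₃ = 2 ∧
      ¬ Cfsg.IsConjUnder (Cfsg.inndiagPSL n F) γ₁ γ₃ ∧
      (∀ γ : MulAut (Matrix.ProjectiveSpecialLinearGroup (Fin n) F), Cfsg.IsGraphAutClassPSL γ →
        orderOf γ = 2 → Cfsg.IsConjUnder (Cfsg.inndiagPSL n F) γ₁ γ ∨
          Cfsg.IsConjUnder (Cfsg.inndiagPSL n F) γ₃ γ) ∧
      Nonempty (↥(Cfsg.inndiagPSL n F ⊓ Subgroup.centralizer {γ₁}) ≃*
        ↥(Matrix.symplecticGroup (Fin m) F)) ∧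
      Nonempty (↥(Cfsg.inndiagPSL n F ⊓ Subgroup.centralizer {γ₃}) ≃*
        ↥(Subgroup.centralizer ({t} : Set ↥(Matrix.symplecticGroup (Fin m) F)))) := by
  have hn : 3 ≤ n := by omega
  have hn0 : 0 < n := by omega
  have hm0 : 0 < m := by omega
  have hcard : Fintype.card (Fin m ⊕ Fin m) = n := by
    rw [hnm]
    simp only [Fintype.card_sum, Fintype.card_fin]
    ring
  let e : Fin m ⊕ Fin m ≃ Fin n := Fintype.equivFinOfCardEq hcard
  have hι : Cfsg.IsInverseTransposeAutPSL (iotaAut (F := F) (n := n)) := iotaAut_isInvT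
  let w : Fin m ⊕ Fin m → F := Pi.single (Sum.inl ⟨0, hm0⟩) 1
  have hww : w ⬝ᵥ w = 1 := by
    show (Pi.single (Sum.inl ⟨0, hm0⟩) 1 : Fin m ⊕ Fin m → F) ⬝ᵥ Pi.single (Sum.inl ⟨0, hm0⟩) 1 = 1
    rw [single_dotProduct, one_mul, Pi.single_eq_same]
  have hw : w ≠ 0 := by
    intro h
    rw [h, zero_dotProduct] at hww
    exact zero_ne_one hww
  have hna3 : ∃ v : Fin m ⊕ Fin m → F,
      v ⬝ᵥ (((g3 w : GL (Fin m ⊕ Fin m) F) : Matrix (Fin m ⊕ Fin m) (Fin m ⊕ Fin m) F) *ᵥ v) ≠ 0 := by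
    refine ⟨w, ?_⟩
    rw [g3_coe, quad_g3, hww, one_pow]
    exact one_ne_zero
  refine ⟨Psi e (gJ m F) * iotaAut, Psi e (g3 w) * iotaAut, ⟨spTv w 1, spTv_mem w 1⟩,
    isTransvection_spTv w hw, isGraphAut hn e hι _, order_two hn e _ gJ_symm, isGraphAut hn e hι _,
    order_two hn e _ (g3_symm w), ?_, ?_, ?_, ?_⟩
  · -- not conjugate
    intro hc
    obtain ⟨h, c, hh⟩ := congr_of_isConjUnder hn0 e hι (gJ m F) (g3 w) hc
    rw [gJ_coe] at hh
    have h1 := quad_transform (Matrix.J (Fin m) F) ((h : Matrix (Fin m ⊕ Fin m) (Fin m ⊕ Fin m) F))ᵀ w w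
    rw [Matrix.transpose_transpose, hh, dotProduct_J_mulVec_self, Matrix.smul_mulVec,
      dotProduct_smul, g3_coe, quad_g3, hww, one_pow, smul_eq_mul, mul_one] at h1
    exact c.ne_zero h1.symm
  · -- classification
    intro γ hγ hγ2
    obtain ⟨g, ι', hι', rfl⟩ := graph_form e hγ
    obtain rfl := iota_unique hι hι'
    have hg := symm_of_order_two_char_two hn0 e hι g hγ2
    by_cases hAlt : ∀ v : Fin m ⊕ Fin m → F,
        v ⬝ᵥ ((g : Matrix (Fin m ⊕ Fin m) (Fin m ⊕ Fin m) F) *ᵥ v) = 0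
    · left
      obtain ⟨h, hh⟩ := alt_normal_form g hAlt
      have h1 := congr_of_common (Matrix.J (Fin m) F) (g : Matrix (Fin m ⊕ Fin m) (Fin m ⊕ Fin m) F)
        (Matrix.J (Fin m) F) 1 h (by rw [Units.val_one, Matrix.one_mul, Matrix.transpose_one, Matrix.mul_one]) hh
      exact isConjUnder_of_congr hn0 e hι (gJ m F) g (h⁻¹ * 1) 1
        (by rw [Units.val_one, one_smul]; exact h1)
    · right
      push Not at hAlt
      obtain ⟨h, hh⟩ := congr_char_two (g3 w) g (g3_symm w) hg hna3 hAlt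
      exact isConjUnder_of_congr hn0 e hι (g3 w) g h 1 (by rw [Units.val_one, one_smul]; exact hh)
  · -- centralizer of γ₁
    obtain ⟨e1⟩ := cent_equiv hn0 e hι (gJ m F) (congrSubgroup (Matrix.J (Fin m) F)) (fun h => Iff.rfl)
    obtain ⟨e2⟩ := iso_of_sub (Matrix.J (Fin m) F) (J_ne_zero hm0) ⊤ gJ_iso_iff
    exact ⟨(e1.trans e2).trans Subgroup.topEquiv⟩
  · -- centralizer of γ₃
    obtain ⟨e1⟩ := cent_equiv hn0 e hι (g3 w)
      (congrSubgroup ((g3 w : GL (Fin m ⊕ Fin m) F) : Matrix (Fin m ⊕ Fin m) (Fin m ⊕ Fin m) F))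
      (fun h => Iff.rfl)
    have hne : ((g3 w : GL (Fin m ⊕ Fin m) F) : Matrix (Fin m ⊕ Fin m) (Fin m ⊕ Fin m) F) ≠ 0 := by
      intro h0
      obtain ⟨v, hv⟩ := hna3
      apply hv
      rw [h0, Matrix.zero_mulVec, dotProduct_zero]
    obtain ⟨e2⟩ := iso_of_sub ((g3 w : GL (Fin m ⊕ Fin m) F) : Matrix (Fin m ⊕ Fin m) (Fin m ⊕ Fin m) F) hne
      (Subgroup.centralizer ({⟨spTv w 1, spTv_mem w 1⟩} : Set ↥(Matrix.symplecticGroup (Fin m) F)))
      (by rw [g3_coe]; exact g3_iso_iff w hw)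
    exact ⟨e1.trans e2⟩

end Final

end Cfsg.Agent.Helper43.GraphAutEven2
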