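import Mathlib
import Cfsg.Prelude.Def_LieTypeDatum
import Cfsg.Agent.Lib.Helper5.OrthLag12
import Cfsg.Agent.Lib.Helper43.OGam5

/-!
# OMF (T1): `Inndiag(PΩ⁻)` is normalised by `PΓO⁻`, odd characteristic
-/

set_option autoImplicit false
set_option linter.unusedSectionVars false
set_option linter.unusedVariables false

namespace Cfsg.Agent.Helper43.OMF

open Matrix QuadraticMap Cfsg.Agent.Helper43 Cfsg.Agent.Helper43.OGam Cfsg.Agent.Helper5.OrthAut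
open Cfsg.Agent.Helper16.OSemiAut Cfsg.Agent.Helper5.OrthLag

section generic

variable {F : Type*} [Field F] {ι : Type} [Fintype ι] [DecidableEq ι] (Q : (ι → F) → F)

/-- The matrix of a linear semisimilarity. -/
theorem lin_aux (M : GamO Q) (hM : M ∈ Lin Q) : ∀ (c : F) (x : ι → F),
    toAdd Q M (c • x) = (RingEquiv.refl F) c • toAdd Q M x := hM

noncomputable def linGL (M : GamO Q) (hM : M ∈ Lin Q) : GL ι F :=
  colGL (RingEquiv.refl F) (toAdd Q M) (lin_aux Q M hM)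

theorem linGL_mulVec (M : GamO Q) (hM : M ∈ Lin Q) (x : ι → F) :
    ((linGL Q M hM : GL ι F) : Matrix ι ι F) *ᵥ x = (M : Equiv.Perm (ι → F)) x := by
  have := colMat_mulVec (RingEquiv.refl F) (toAdd Q M) (lin_aux Q M hM) x
  rw [linGL, colGL_coe]
  exact this

theorem Theta_induced_linGL (M : GamO Q) (hM : M ∈ Lin Q) :
    Cfsg.IsInducedBySemilinearPOmega Q (linGL Q M hM) (RingEquiv.refl F) (Theta Q M) := by
  intro s s' hs'
  apply Theta_spec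
  intro x
  rw [← linGL_mulVec Q M hM, ← linGL_mulVec Q M hM, Matrix.mulVec_mulVec, Matrix.mulVec_mulVec,
    hs']
  congr 1
  have hmap : ((((s : ↥(Cfsg.isometryGroup F Q)) : GL ι F) : Matrix ι ι F)).map
      (RingEquiv.refl F) = (((s : ↥(Cfsg.isometryGroup F Q)) : GL ι F) : Matrix ι ι F) := by
    ext i j; rfl
  rw [hmap, Matrix.mul_assoc, Matrix.mul_assoc, ← Units.val_mul, inv_mul_cancel, Units.val_one,
    Matrix.mul_one]

/-- Conjugating a similarity by a semisimilarity: the multiplier. -/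
theorem sim_conj (L : GamO Q) (g g' : Matrix ι ι F) (c : F)
    (h : ∀ y, g' *ᵥ ((L : Equiv.Perm (ι → F)) y) = (L : Equiv.Perm (ι → F)) (g *ᵥ y))
    (hg : ∀ v, Q (g *ᵥ v) = c * Q v) (v : ι → F) :
    Q (g' *ᵥ v) = sig Q L c * Q v := by
  obtain ⟨y, rfl⟩ := (L : Equiv.Perm (ι → F)).surjective v
  have h1 := mu_spec Q L y
  have h2 := mu_spec Q L (g *ᵥ y)
  rw [toAdd_apply] at h1 h2
  rw [h, h2, h1, hg, map_mul]
  ring

/-- Conjugating a matrix by a semisimilarity: the determinant. -/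
theorem det_conj (L : GamO Q) (g g' : Matrix ι ι F)
    (h : ∀ y, g' *ᵥ ((L : Equiv.Perm (ι → F)) y) = (L : Equiv.Perm (ι → F)) (g *ᵥ y)) :
    g'.det = sig Q L g.det := by
  set τ := sig Q L with hτ
  set S : Matrix ι ι F := colMat (⇑(toAdd Q L)) with hS
  have hSv : ∀ y : ι → F, S *ᵥ (fun i => τ (y i)) = (L : Equiv.Perm (ι → F)) y := fun y =>
    colMat_mulVec τ (toAdd Q L) (sig_spec Q L) y
  have hSu : IsUnit S := colMat_isUnit τ (toAdd Q L) (sig_spec Q L)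
  have key : g' * S = S * g.map τ := by
    apply Matrix.mulVec_injective
    funext z
    have e1 : (fun i => τ ((fun i => τ.symm (z i)) i)) = z := by
      funext i; simp
    have h1 := h (fun i => τ.symm (z i))
    rw [← hSv, ← hSv, e1] at h1
    rw [← Matrix.mulVec_mulVec, h1, ← Matrix.mulVec_mulVec]
    congr 1
    rw [← map_mulVec_sigma, e1]
  have hdS : S.det ≠ 0 := ((Matrix.isUnit_iff_isUnit_det S).1 hSu).ne_zero
  have hdm : (g.map τ).det = τ g.det := by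
    have := (τ : F →+* F).map_det g
    rw [RingHom.mapMatrix_apply] at this
    exact this.symm
  have hd := congrArg Matrix.det key
  rw [Matrix.det_mul, Matrix.det_mul, hdm] at hd
  apply mul_right_cancel₀ hdS
  rw [hd, mul_comm]

/-- Conjugating a similarity by a semisimilarity: the discriminant character. -/
theorem dHom_conj (Q : QuadraticForm F (ι → F)) (hQ0 : ∃ v : ι → F, Q v ≠ 0) (k : ℕ)
    (L : GamO ⇑Q) (g g' : GL ι F) (hg : g ∈ GO Q)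
    (hconj : ∀ y, (g' : Matrix ι ι F) *ᵥ ((L : Equiv.Perm (ι → F)) y) =
      (L : Equiv.Perm (ι → F)) ((g : Matrix ι ι F) *ᵥ y)) :
    ∃ hg' : g' ∈ GO Q, (dHom Q hQ0 k ⟨g, hg⟩ = 1 → dHom Q hQ0 k ⟨g', hg'⟩ = 1) := by
  obtain ⟨c, hc⟩ := (mem_sim_iff (⇑Q) g).1 hg
  have hsim' := sim_conj (⇑Q) L (g : Matrix ι ι F) (g' : Matrix ι ι F) (c : F) hconj hc
  have hdet := det_conj (⇑Q) L (g : Matrix ι ι F) (g' : Matrix ι ι F) hconj
  have hc0 : sig (⇑Q) L (c : F) ≠ 0 := (map_ne_zero (sig (⇑Q) L)).2 c.ne_zero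
  have hg'GO : g' ∈ GO Q := ⟨Units.mk0 _ hc0, hsim'⟩
  refine ⟨hg'GO, fun hd => ?_⟩
  apply Units.ext
  have h1 := congrArg (fun u : Fˣ => (u : F)) hd
  simp only [dHom_coe, Units.val_one] at h1
  have hm1 : mult Q ⟨g, hg⟩ = c := mult_unique Q hQ0 _ c hc
  have hm2 : mult Q ⟨g', hg'GO⟩ = Units.mk0 _ hc0 := mult_unique Q hQ0 _ _ hsim'
  rw [hm1] at h1
  rw [dHom_coe, hm2, Units.val_one]
  show (g' : Matrix ι ι F).det * ((sig (⇑Q) L (c : F)) ^ k)⁻¹ = 1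
  rw [hdet, ← map_pow, ← map_inv₀, ← map_mul]
  have h1' : (g : Matrix ι ι F).det * ((c : F) ^ k)⁻¹ = 1 := h1
  rw [h1', map_one]

end generic

section main

variable {F : Type*} [Field F] [Fintype F]

theorem inndiag_minus_normal_aux (hodd : Odd (Fintype.card F))
    {m : ℕ} (hm : 3 ≤ m) (a b : F)
    (hab : ∀ z₁ z₂ : F, z₁ ^ 2 + a * z₁ * z₂ + b * z₂ ^ 2 = 0 → z₁ = 0 ∧ z₂ = 0)
    (Q' : ((Fin m ⊕ Fin m) ⊕ Fin 2 → F) → F) (hQ' : Q' = ⇑(stdMinus F m a b))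
    (β δ : MulAut (Cfsg.POmega F Q'))
    (hβ : β ∈ Cfsg.gammaPOmega F Q')
    (hδ : δ ∈ Cfsg.autSubgroupOf (fun β : Cfsg.POmega F Q' ≃* Cfsg.POmega F Q' =>
      ∃ g : GL ((Fin m ⊕ Fin m) ⊕ Fin 2) F,
        g ∈ Cfsg.Geo.quadSimilarityGroup (F := F) Q' ∧
        Cfsg.PreservesSingularClassesMinus m a b
          (g : Matrix ((Fin m ⊕ Fin m) ⊕ Fin 2) ((Fin m ⊕ Fin m) ⊕ Fin 2) F) ∧
        Cfsg.IsInducedBySemilinearPOmega Q' g (RingEquiv.refl F) β)) :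
    β * δ * β⁻¹ ∈ Cfsg.autSubgroupOf (fun β : Cfsg.POmega F Q' ≃* Cfsg.POmega F Q' =>
      ∃ g : GL ((Fin m ⊕ Fin m) ⊕ Fin 2) F,
        g ∈ Cfsg.Geo.quadSimilarityGroup (F := F) Q' ∧
        Cfsg.PreservesSingularClassesMinus m a b
          (g : Matrix ((Fin m ⊕ Fin m) ⊕ Fin 2) ((Fin m ⊕ Fin m) ⊕ Fin 2) F) ∧
        Cfsg.IsInducedBySemilinearPOmega Q' g (RingEquiv.refl F) β) := by
  classical
  subst hQ'
  have hfam := stdMinus_isHypFamily F m a b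
  have hQ0 := hQ0_of_hyp (stdMinus F m a b) hfam (by omega)
  obtain ⟨L, rfl⟩ : ∃ L, Theta (⇑(stdMinus F m a b)) L = β := by
    rw [← range_Theta] at hβ
    exact hβ
  unfold Cfsg.autSubgroupOf at hδ ⊢
  induction hδ using Subgroup.closure_induction with
  | one =>
    rw [mul_one, mul_inv_cancel]
    exact one_mem _
  | mul x y _ _ hx hy =>
    have : Theta (⇑(stdMinus F m a b)) L * (x * y) * (Theta (⇑(stdMinus F m a b)) L)⁻¹ =
        (Theta (⇑(stdMinus F m a b)) L * x * (Theta (⇑(stdMinus F m a b)) L)⁻¹) *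
          (Theta (⇑(stdMinus F m a b)) L * y * (Theta (⇑(stdMinus F m a b)) L)⁻¹) := by group
    rw [this]
    exact mul_mem hx hy
  | inv x _ hx =>
    have : Theta (⇑(stdMinus F m a b)) L * x⁻¹ * (Theta (⇑(stdMinus F m a b)) L)⁻¹ =
        (Theta (⇑(stdMinus F m a b)) L * x * (Theta (⇑(stdMinus F m a b)) L)⁻¹)⁻¹ := by group
    rw [this]
    exact inv_mem hx
  | mem δ hδ =>
    obtain ⟨g, hg, hpres, hind⟩ := hδ
    apply Subgroup.subset_closure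
    obtain ⟨c, hc⟩ := (mem_sim_iff (⇑(stdMinus F m a b)) g).1 hg
    have hpair : Cfsg.IsSemisimilarityPair (⇑(stdMinus F m a b)) g (RingEquiv.refl F) :=
      ⟨c, fun v => hc v⟩
    have hδeq := induced_eq_Theta (⇑(stdMinus F m a b)) hpair hind
    set Lg : GamO ⇑(stdMinus F m a b) :=
      ⟨pairL g (RingEquiv.refl F), pairL_mem (⇑(stdMinus F m a b)) hpair⟩ with hLg
    have hLgLin : Lg ∈ Lin ⇑(stdMinus F m a b) :=
      fun c x => pairL_smul g (RingEquiv.refl F) c x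
    have hMLin : L * Lg * L⁻¹ ∈ Lin ⇑(stdMinus F m a b) :=
      (Lin_normal ⇑(stdMinus F m a b)).conj_mem Lg hLgLin L
    have hΘ : Theta (⇑(stdMinus F m a b)) L * δ * (Theta (⇑(stdMinus F m a b)) L)⁻¹ =
        Theta (⇑(stdMinus F m a b)) (L * Lg * L⁻¹) := by
      rw [hδeq, map_mul, map_mul, map_inv]
    rw [hΘ]
    obtain ⟨g', hg'⟩ : ∃ g' : GL ((Fin m ⊕ Fin m) ⊕ Fin 2) F,
        g' = linGL (⇑(stdMinus F m a b)) (L * Lg * L⁻¹) hMLin := ⟨_, rfl⟩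
    have hind' := Theta_induced_linGL (⇑(stdMinus F m a b)) (L * Lg * L⁻¹) hMLin
    rw [← hg'] at hind'
    have hconj : ∀ y, (g' : Matrix ((Fin m ⊕ Fin m) ⊕ Fin 2) ((Fin m ⊕ Fin m) ⊕ Fin 2) F) *ᵥ
        ((L : Equiv.Perm ((Fin m ⊕ Fin m) ⊕ Fin 2 → F)) y) =
        (L : Equiv.Perm ((Fin m ⊕ Fin m) ⊕ Fin 2 → F))
          ((g : Matrix ((Fin m ⊕ Fin m) ⊕ Fin 2) ((Fin m ⊕ Fin m) ⊕ Fin 2) F) *ᵥ y) := by
      intro y
      rw [hg', linGL_mulVec]
      show (L : Equiv.Perm ((Fin m ⊕ Fin m) ⊕ Fin 2 → F))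
        ((Lg : Equiv.Perm ((Fin m ⊕ Fin m) ⊕ Fin 2 → F))
          ((L : Equiv.Perm ((Fin m ⊕ Fin m) ⊕ Fin 2 → F))⁻¹
            ((L : Equiv.Perm ((Fin m ⊕ Fin m) ⊕ Fin 2 → F)) y))) = _
      rw [perm_inv_apply]
      rfl
    have hdc := dHom_conj (stdMinus F m a b) hQ0 (m + 1) L g g' hg
    have hdc2 := hdc hconj
    obtain ⟨hg'GO, hdd⟩ := hdc2
    have hd : dHom (stdMinus F m a b) hQ0 (m + 1) ⟨g, hg⟩ = 1 :=
      (preserves_minus_iff hodd m a b hab hQ0 g hg).1 hpres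
    exact ⟨g', hg'GO, (preserves_minus_iff hodd m a b hab hQ0 g' hg'GO).2 (hdd hd), hind'⟩

theorem inndiag_minus_normal_odd (hodd : Odd (Fintype.card F))
    {m : ℕ} (hm : 3 ≤ m) (a b : F)
    (hab : ∀ z₁ z₂ : F, z₁ ^ 2 + a * z₁ * z₂ + b * z₂ ^ 2 = 0 → z₁ = 0 ∧ z₂ = 0)
    (β δ : MulAut (Cfsg.POmega F (Cfsg.quadFormMinus m F a b)))
    (hβ : β ∈ Cfsg.gammaPOmega F (Cfsg.quadFormMinus m F a b))
    (hδ : δ ∈ Cfsg.inndiagPOmegaMinus m F a b) :
    β * δ * β⁻¹ ∈ Cfsg.inndiagPOmegaMinus m F a b :=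
  inndiag_minus_normal_aux hodd hm a b hab (Cfsg.quadFormMinus m F a b) (coe_stdMinus F m a b).symm β δ hβ hδ

end main

end Cfsg.Agent.Helper43.OMF
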