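import Mathlib
import Cfsg.Prelude.Def_LieTypeDatum

/-!
# `splitClassCount` as an index

For homomorphisms `Ψ : G →* X` and a surjection `δ : G →* A`, the `Ψ(G)`-class of `x : X` splits into
`[A : δ(Ψ⁻¹(C_X(x)))]` classes under `Ψ(ker δ)`.
-/

set_option autoImplicit false

namespace Cfsg.Agent.Helper43.SplitCount

variable {G X A : Type*} [Group G] [Group X] [Group A]

/-- the key equivalence: two `Ψ(G)`-conjugates of `x` are `Ψ(ker δ)`-conjugate iff the `δ`-values of the conjugating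
elements agree modulo the image of the centralizer -/
theorem conj_iff (Ψ : G →* X) (δ : G →* A) (x : X) (g g' : G) :
    Cfsg.IsConjUnder (δ.ker.map Ψ) (Ψ g * x * (Ψ g)⁻¹) (Ψ g' * x * (Ψ g')⁻¹) ↔
      (δ g)⁻¹ * δ g' ∈ ((Subgroup.centralizer {x}).comap Ψ).map δ := by
  constructor
  · rintro ⟨k, ⟨k₀, hk₀, rfl⟩, hk⟩
    refine ⟨(k₀ * g)⁻¹ * g', ?_, ?_⟩
    · show (k₀ * g)⁻¹ * g' ∈ (Subgroup.centralizer {x}).comap Ψ
      rw [Subgroup.mem_comap, Subgroup.mem_centralizer_singleton_iff]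
      have h1 : Ψ ((k₀ * g)⁻¹ * g') * x * (Ψ ((k₀ * g)⁻¹ * g'))⁻¹ = x := by
        have h2 : Ψ g' * x * (Ψ g')⁻¹ = Ψ (k₀ * g) * x * (Ψ (k₀ * g))⁻¹ := by
          rw [hk, map_mul]
          group
        rw [map_mul, map_inv]
        calc (Ψ (k₀ * g))⁻¹ * Ψ g' * x * ((Ψ (k₀ * g))⁻¹ * Ψ g')⁻¹
            = (Ψ (k₀ * g))⁻¹ * (Ψ g' * x * (Ψ g')⁻¹) * Ψ (k₀ * g) := by group
          _ = x := by rw [h2]; group
      calc Ψ ((k₀ * g)⁻¹ * g') * x
          = (Ψ ((k₀ * g)⁻¹ * g') * x * (Ψ ((k₀ * g)⁻¹ * g'))⁻¹) * Ψ ((k₀ * g)⁻¹ * g') := by group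
        _ = x * Ψ ((k₀ * g)⁻¹ * g') := by rw [h1]
    · have hk1 : δ k₀ = 1 := hk₀
      rw [map_mul, map_inv, map_mul, hk1, one_mul]
  · rintro ⟨ν, hν, hνe⟩
    have hν' : ν ∈ (Subgroup.centralizer {x}).comap Ψ := hν
    rw [Subgroup.mem_comap, Subgroup.mem_centralizer_singleton_iff] at hν'
    clear hν
    have hν := hν'
    refine ⟨Ψ (g' * ν⁻¹ * g⁻¹), ⟨g' * ν⁻¹ * g⁻¹, ?_, rfl⟩, ?_⟩
    · show δ (g' * ν⁻¹ * g⁻¹) = 1
      have h1 : δ g' = δ g * δ ν := by rw [hνe]; group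
      rw [map_mul, map_mul, map_inv, map_inv, h1]
      group
    · have h3 : (Ψ ν)⁻¹ * x * Ψ ν = x := by
        calc (Ψ ν)⁻¹ * x * Ψ ν = (Ψ ν)⁻¹ * (x * Ψ ν) := by group
          _ = (Ψ ν)⁻¹ * (Ψ ν * x) := by rw [hν]
          _ = x := by group
      simp only [map_mul, map_inv]
      calc Ψ g' * x * (Ψ g')⁻¹ = Ψ g' * ((Ψ ν)⁻¹ * x * Ψ ν) * (Ψ g')⁻¹ := by rw [h3]
        _ = Ψ g' * (Ψ ν)⁻¹ * (Ψ g)⁻¹ * (Ψ g * x * (Ψ g)⁻¹) * (Ψ g' * (Ψ ν)⁻¹ * (Ψ g)⁻¹)⁻¹ := by group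

theorem splitClassCount_eq_index (Ψ : G →* X) (δ : G →* A) (hδ : Function.Surjective δ) (x : X) :
    Cfsg.splitClassCount Ψ.range (δ.ker.map Ψ) x =
      (((Subgroup.centralizer {x}).comap Ψ).map δ).index := by
  classical
  set S : Subgroup A := ((Subgroup.centralizer {x}).comap Ψ).map δ with hS
  unfold Cfsg.splitClassCount Subgroup.index
  have hrep : ∀ y : {y : X // Cfsg.IsConjUnder Ψ.range x y}, ∃ g : G, y.1 = Ψ g * x * (Ψ g)⁻¹ := by
    rintro ⟨y, h, ⟨g, rfl⟩, rfl⟩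
    exact ⟨g, rfl⟩
  choose rep hrepe using hrep
  let f : {y : X // Cfsg.IsConjUnder Ψ.range x y} → A ⧸ S := fun y => QuotientGroup.mk (δ (rep y))
  have hf : ∀ y z : {y : X // Cfsg.IsConjUnder Ψ.range x y},
      Cfsg.IsConjUnder (δ.ker.map Ψ) y.1 z.1 → f y = f z := by
    intro y z hyz
    rw [hrepe y, hrepe z, conj_iff] at hyz
    exact QuotientGroup.eq.2 hyz
  let F : Quot (fun y z : {y : X // Cfsg.IsConjUnder Ψ.range x y} =>
      Cfsg.IsConjUnder (δ.ker.map Ψ) y.1 z.1) → A ⧸ S := Quot.lift f hf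
  have hinj : Function.Injective F := by
    intro a b hab
    induction a using Quot.ind with
    | mk y =>
      induction b using Quot.ind with
      | mk z =>
        apply Quot.sound
        have h1 : f y = f z := hab
        have h2 := QuotientGroup.eq.1 h1
        rw [hrepe y, hrepe z, conj_iff]
        exact h2
  have hsurj : Function.Surjective F := by
    intro a
    induction a using QuotientGroup.induction_on with
    | H a =>
      obtain ⟨g, rfl⟩ := hδ a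
      let y : {y : X // Cfsg.IsConjUnder Ψ.range x y} := ⟨Ψ g * x * (Ψ g)⁻¹, Ψ g, ⟨g, rfl⟩, rfl⟩
      refine ⟨Quot.mk _ y, ?_⟩
      show f y = _
      apply QuotientGroup.eq.2
      rw [← conj_iff Ψ δ x (rep y) g, ← hrepe y]
      exact ⟨1, Subgroup.one_mem _, by
        show Ψ g * x * (Ψ g)⁻¹ = 1 * (Ψ g * x * (Ψ g)⁻¹) * 1⁻¹
        group⟩
  exact Nat.card_congr (Equiv.ofBijective F ⟨hinj, hsurj⟩)

end Cfsg.Agent.Helper43.SplitCount
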