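import Mathlib
import Cfsg.Prelude
import Cfsg.Agent.Lib.Helper43.SplitCount

/-!
# Abstract group theory for the class-splitting count of a graph involution
-/

set_option autoImplicit false

namespace Cfsg.Agent.Helper43.POmSplit

open Subgroup

section count

variable {X : Type*} [Group X] (G T : Subgroup X) (hTG : T ≤ G) [hN : (T.subgroupOf G).Normal]
  (γ : X)

include hTG in
theorem count_eq_index :
    Cfsg.splitClassCount G T γ =
      (((Subgroup.centralizer {γ}).comap G.subtype).map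
        (QuotientGroup.mk' (T.subgroupOf G))).index := by
  have h := Cfsg.Agent.Helper43.SplitCount.splitClassCount_eq_index G.subtype
    (QuotientGroup.mk' (T.subgroupOf G)) (QuotientGroup.mk'_surjective _) γ
  rw [Subgroup.range_subtype, QuotientGroup.ker_mk', Subgroup.subgroupOf_map_subtype,
    inf_of_le_left hTG] at h
  exact h

include hTG in
theorem count_of_index_two (h2 : (T.subgroupOf G).index = 2) :
    Cfsg.splitClassCount G T γ = 1 ∨ Cfsg.splitClassCount G T γ = 2 := by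
  rw [count_eq_index G T hTG γ]
  set S := ((Subgroup.centralizer {γ}).comap G.subtype).map (QuotientGroup.mk' (T.subgroupOf G))
  have hcard : Nat.card (↥G ⧸ T.subgroupOf G) = 2 := by rw [← Subgroup.index_eq_card, h2]
  have hdvd := S.index_dvd_card
  rw [hcard] at hdvd
  have := (Nat.dvd_prime Nat.prime_two).1 hdvd
  exact this

include hTG in
theorem count_of_index_four (h4 : (T.subgroupOf G).index = 4)
    (hc : ∃ c ∈ G, c ∉ T ∧ c * γ = γ * c)
    (hg : ∃ g ∈ G, ∀ c ∈ G, c * γ = γ * c → g⁻¹ * c ∉ T) :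
    Cfsg.splitClassCount G T γ = 2 := by
  rw [count_eq_index G T hTG γ]
  set S := ((Subgroup.centralizer {γ}).comap G.subtype).map (QuotientGroup.mk' (T.subgroupOf G))
    with hS
  have hcard : Nat.card (↥G ⧸ T.subgroupOf G) = 4 := by rw [← Subgroup.index_eq_card, h4]
  have hfin : Finite (↥G ⧸ T.subgroupOf G) := Nat.finite_of_card_ne_zero (by rw [hcard]; norm_num)
  have hmul := S.card_mul_index
  rw [hcard] at hmul
  -- S is nontrivial
  have hne_bot : Nat.card S ≠ 1 := by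
    intro h1
    have hbot : S = ⊥ := Subgroup.card_eq_one.1 h1
    obtain ⟨c, hcG, hcT, hcγ⟩ := hc
    have hmem : (QuotientGroup.mk' (T.subgroupOf G)) ⟨c, hcG⟩ ∈ S := by
      refine ⟨⟨c, hcG⟩, ?_, rfl⟩
      rw [SetLike.mem_coe, Subgroup.mem_comap, Subgroup.mem_centralizer_iff]
      intro y hy
      rw [Set.mem_singleton_iff] at hy
      subst hy
      exact hcγ.symm
    rw [hbot, Subgroup.mem_bot, QuotientGroup.mk'_apply, QuotientGroup.eq_one_iff,
      Subgroup.mem_subgroupOf] at hmem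
    exact hcT hmem
  have hne_top : Nat.card S ≠ 4 := by
    intro h4'
    have htop : S = ⊤ := by
      apply Subgroup.eq_top_of_card_eq
      rw [h4', hcard]
    obtain ⟨g, hgG, hg'⟩ := hg
    have hmem : (QuotientGroup.mk' (T.subgroupOf G)) ⟨g, hgG⟩ ∈ S := by rw [htop]; trivial
    obtain ⟨c, hcmem, hceq⟩ := hmem
    rw [SetLike.mem_coe, Subgroup.mem_comap, Subgroup.mem_centralizer_iff] at hcmem
    have hcγ : (c : X) * γ = γ * c := (hcmem γ (Set.mem_singleton γ)).symm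
    rw [QuotientGroup.mk'_apply, QuotientGroup.mk'_apply, eq_comm, QuotientGroup.eq,
      Subgroup.mem_subgroupOf] at hceq
    exact hg' c c.2 hcγ hceq
  have hdvd : Nat.card S ∣ 4 := ⟨_, hmul.symm⟩
  have hle : Nat.card S ≤ 4 := Nat.le_of_dvd (by norm_num) hdvd
  have hpos : 0 < Nat.card S := Nat.pos_of_dvd_of_pos hdvd (by norm_num)
  have h2 : Nat.card S = 2 := by
    interval_cases h : Nat.card S
    · exact absurd rfl hne_bot
    · rfl
    · omega
    · exact absurd rfl hne_top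
  rw [h2] at hmul
  omega

end count

section dihedral

variable {X : Type*} [Group X] (P G T : Subgroup X) (hTG : T ≤ G) (hGP : G ≤ P)

include hTG hGP in
/-- If `P/T` is dihedral of order 8, `G` has index two in `P` with `[P,P] ≤ G`, and `γ ∈ P ∖ G`, then
`G ≠ C_G(γ) T`. -/
theorem exists_not_mem_centralizer_mul (φ : ↥P →* DihedralGroup 4) (hφ : Function.Surjective φ)
    (hker : φ.ker = T.subgroupOf P) (γ : X) (hγP : γ ∈ P) (hγG : γ ∉ G)
    (hcomm : ∀ a ∈ P, ∀ b ∈ P, a * b * a⁻¹ * b⁻¹ ∈ G)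
    (hcov : ∀ x ∈ P, x ∈ G ∨ x * γ⁻¹ ∈ G) :
    ∃ g ∈ G, ∀ c ∈ G, c * γ = γ * c → g⁻¹ * c ∉ T := by
  by_contra hcon
  push Not at hcon
  have hTP : T ≤ P := le_trans hTG hGP
  -- elements of G commute with γ modulo T
  have h1 : ∀ x (hx : x ∈ G), φ ⟨x, hGP hx⟩ * φ ⟨γ, hγP⟩ = φ ⟨γ, hγP⟩ * φ ⟨x, hGP hx⟩ := by
    intro x hx
    obtain ⟨c, hcG, hcγ, hcT⟩ := hcon x hx
    have hxc : φ ⟨x, hGP hx⟩ = φ ⟨c, hGP hcG⟩ := by
      have hmem : (⟨x, hGP hx⟩ : ↥P)⁻¹ * ⟨c, hGP hcG⟩ ∈ φ.ker := by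
        rw [hker, Subgroup.mem_subgroupOf]
        exact hcT
      rw [MonoidHom.mem_ker, map_mul, map_inv] at hmem
      exact inv_mul_eq_one.1 hmem
    rw [hxc, ← map_mul, ← map_mul]
    congr 1
    exact Subtype.ext hcγ
  have h2 : ∀ y : DihedralGroup 4, y * φ ⟨γ, hγP⟩ = φ ⟨γ, hγP⟩ * y := by
    intro y
    obtain ⟨x, rfl⟩ := hφ y
    rcases hcov x.1 x.2 with hx | hx
    · exact h1 x.1 hx
    · have hx' : x = ⟨x.1 * γ⁻¹, hGP hx⟩ * ⟨γ, hγP⟩ := by
        apply Subtype.ext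
        simp
      have := h1 _ hx
      rw [hx', map_mul, mul_assoc, ← mul_assoc (φ ⟨γ, hγP⟩), ← this, mul_assoc]
  have hcenter : ∀ z : DihedralGroup 4, (∀ y : DihedralGroup 4, y * z = z * y) →
      z = 1 ∨ z = DihedralGroup.r 2 := by decide
  rcases hcenter _ h2 with h | h
  · have : (⟨γ, hγP⟩ : ↥P) ∈ φ.ker := h
    rw [hker, Subgroup.mem_subgroupOf] at this
    exact hγG (hTG this)
  · obtain ⟨a, ha⟩ := hφ (DihedralGroup.sr 0)
    obtain ⟨b, hb⟩ := hφ (DihedralGroup.r 1)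
    have hcomm' : φ (a * b * a⁻¹ * b⁻¹) = DihedralGroup.r 2 := by
      rw [map_mul, map_mul, map_mul, map_inv, map_inv, ha, hb]
      decide
    have hmem : (⟨γ, hγP⟩ : ↥P)⁻¹ * (a * b * a⁻¹ * b⁻¹) ∈ φ.ker := by
      rw [MonoidHom.mem_ker, map_mul, map_inv, h, hcomm', inv_mul_cancel]
    rw [hker, Subgroup.mem_subgroupOf] at hmem
    have hG1 : (a : X) * b * (a : X)⁻¹ * (b : X)⁻¹ ∈ G := hcomm a.1 a.2 b.1 b.2
    have hG2 : γ⁻¹ * ((a : X) * b * (a : X)⁻¹ * (b : X)⁻¹) ∈ G := hTG hmem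
    have : γ⁻¹ ∈ G := by
      have := G.mul_mem hG2 (G.inv_mem hG1)
      rwa [mul_assoc, mul_inv_cancel, mul_one] at this
    exact hγG (by simpa using G.inv_mem this)

end dihedral

end Cfsg.Agent.Helper43.POmSplit
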