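import Mathlib
import Cfsg.Agent.Lib.Helper43.QuadFinite
import Cfsg.Agent.Lib.Helper43.QuadOdd

/-!
# Abstract linear algebra for the class-splitting of similarity-type graph involutions of `PΩ⁺`

* `exists_of_pencil`: a "quadratic Nullstellensatz": if every form of the pencil `Q - κ Q₂` is
  nondegenerate then some `Q₂`-singular vector is `Q`-nonsingular.
* `exists_perp_of_sq_nonsquare`: a self-adjoint `g` with `g² = μ` nonsquare has a nonsingular `x ⊥ g x`.
* `exists_nonsquare_pair`, `exists_eigen_pair`: eigenvectors of an involutory isometry with values in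
  both square classes.
-/

set_option autoImplicit false

namespace Cfsg.Agent.Helper43.POmSplit

open Module QuadraticMap

universe u

section pencil

variable {F : Type*} {V : Type u} [Field F] [Finite F] [AddCommGroup V] [Module F V]
  [FiniteDimensional F V]

theorem exists_of_pencil (h2 : (2 : F) ≠ 0) (Q Q₂ : QuadraticForm F V)
    (hQ₂ : (polarBilin Q₂).Nondegenerate)
    (hpen : ∀ κ : F, (polarBilin (Q - κ • Q₂)).Nondegenerate)
    (hdim : 5 ≤ finrank F V) : ∃ x, Q₂ x = 0 ∧ Q x ≠ 0 := by
  by_contra hcon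
  push Not at hcon
  obtain ⟨e, he0, he⟩ := exists_singular Q₂ hQ₂ (by omega)
  obtain ⟨e', he', hee'⟩ := exists_hyperbolic_partner Q₂ hQ₂ e he0 he
  have hQe : Q e = 0 := hcon e he
  have hQe' : Q e' = 0 := hcon e' he'
  set κ := polar Q e e' with hκ
  -- the key identity on the orthogonal complement of the hyperbolic pair
  have hsing : ∀ w, polar Q₂ e w = 0 → polar Q₂ e' w = 0 →
      Q₂ ((e - Q₂ w • e') + w) = 0 := by
    intro w h1 h1'
    rw [map_add_eq, sub_eq_add_neg, map_add_eq, polar_add_left, QuadraticMap.map_neg,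
      QuadraticMap.map_smul, he, he', polar_neg_right, polar_smul_right, hee', polar_neg_left,
      polar_smul_left, h1, h1']
    simp
  have key : ∀ w, polar Q₂ e w = 0 → polar Q₂ e' w = 0 → Q w = κ * Q₂ w := by
    intro w h1 h1'
    have ha := hcon _ (hsing w h1 h1')
    have hb : Q ((e - Q₂ w • e') + -w) = 0 := by
      have := hsing (-w) (by rw [polar_neg_right, h1, neg_zero])
        (by rw [polar_neg_right, h1', neg_zero])
      rw [QuadraticMap.map_neg] at this
      exact hcon _ this
    rw [map_add_eq] at ha hb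
    rw [QuadraticMap.map_neg, polar_neg_right] at hb
    have hA : Q (e - Q₂ w • e') = - (Q₂ w * κ) := by
      rw [sub_eq_add_neg, map_add_eq, QuadraticMap.map_neg, QuadraticMap.map_smul, hQe, hQe',
        polar_neg_right, polar_smul_right, ← hκ]
      simp
    have hsum : 2 * (Q (e - Q₂ w • e') + Q w) = 0 := by linear_combination ha + hb
    have := (mul_eq_zero.1 hsum).resolve_left h2
    rw [hA] at this
    linear_combination this
  -- the subspace
  set H : Submodule F V := LinearMap.ker ((polarBilin Q₂ e).prod (polarBilin Q₂ e')) with hH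
  have hHd : finrank F V ≤ finrank F H + 2 :=
    finrank_ker_functional₂_ge (polarBilin Q₂ e) (polarBilin Q₂ e')
  have hHmem : ∀ w ∈ H, (Q - κ • Q₂) w = 0 := by
    intro w hw
    have hw' : (polarBilin Q₂ e w, polarBilin Q₂ e' w) = 0 := hw
    have hw2 := Prod.mk_eq_zero.1 hw'
    have := key w hw2.1 hw2.2
    rw [QuadraticMap.sub_apply, QuadraticMap.smul_apply, smul_eq_mul, this, sub_self]
  have hle : H ≤ LinearMap.BilinForm.orthogonal (polarBilin (Q - κ • Q₂)) H := by
    intro w hw
    rw [LinearMap.BilinForm.mem_orthogonal_iff]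
    intro n hn
    show polarBilin (Q - κ • Q₂) n w = 0
    rw [polarBilin_apply_apply]
    unfold polar
    rw [hHmem _ (H.add_mem hn hw), hHmem _ hn, hHmem _ hw]
    ring
  have hfr := LinearMap.BilinForm.finrank_orthogonal (hpen κ) H
  have := Submodule.finrank_mono hle
  omega

end pencil

section selfadj

variable {F : Type*} {V : Type u} [Field F] [Finite F] [AddCommGroup V] [Module F V]
  [FiniteDimensional F V]

/-- A self-adjoint endomorphism squaring to a nonsquare scalar has a nonsingular vector `x` with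
`x ⊥ g x`. -/
theorem exists_perp_of_sq_nonsquare (h2 : (2 : F) ≠ 0) (Q : QuadraticForm F V)
    (hQ : (polarBilin Q).Nondegenerate) (g : V →ₗ[F] V) (μ : F) (hμ : ¬ IsSquare μ)
    (hg2 : ∀ x, g (g x) = μ • x) (hsa : ∀ x y, polar Q (g x) y = polar Q x (g y))
    (hdim : 5 ≤ finrank F V) : ∃ x, polar Q x (g x) = 0 ∧ Q x ≠ 0 := by
  have hμ0 : μ ≠ 0 := by
    rintro rfl
    exact hμ ⟨0, by ring⟩
  -- surjectivity of `1 - c g`
  have hsurj : ∀ c : F, ∀ y : V, ∃ z : V, z - c • g z = y := by
    intro c y
    have hd : 1 - c ^ 2 * μ ≠ 0 := by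
      intro h
      by_cases hc : c = 0
      · rw [hc] at h; simp at h
      · apply hμ
        refine ⟨c⁻¹, ?_⟩
        field_simp
        linear_combination -h
    refine ⟨(1 - c ^ 2 * μ)⁻¹ • (y + c • g y), ?_⟩
    rw [map_smul, map_add, map_smul, hg2]
    have : (1 - c ^ 2 * μ)⁻¹ • (y + c • g y) - c • (1 - c ^ 2 * μ)⁻¹ • (g y + c • μ • y) =
        (1 - c ^ 2 * μ)⁻¹ • ((1 - c ^ 2 * μ) • y) := by module
    rw [this, smul_smul, inv_mul_cancel₀ hd, one_smul]
  -- the second quadratic form
  set B₂ : LinearMap.BilinForm F V := (polarBilin Q).compl₂ g with hB₂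
  set Q₂ : QuadraticForm F V := LinearMap.BilinMap.toQuadraticMap B₂ with hQ₂def
  have hQ₂app : ∀ x, Q₂ x = polar Q x (g x) := by
    intro x
    rw [hQ₂def, LinearMap.BilinMap.toQuadraticMap_apply, hB₂, LinearMap.compl₂_apply,
      polarBilin_apply_apply]
  have hQ₂pol : ∀ x y, polar Q₂ x y = 2 * polar Q x (g y) := by
    intro x y
    rw [hQ₂def, LinearMap.BilinMap.polar_toQuadraticMap, hB₂, LinearMap.compl₂_apply,
      LinearMap.compl₂_apply, polarBilin_apply_apply, polarBilin_apply_apply,
      polar_comm Q y (g x), hsa]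
    ring
  have hsepQ : ∀ x, (∀ y, polar Q x y = 0) → x = 0 := by
    intro x hx
    exact hQ.1 x (fun y => by rw [polarBilin_apply_apply]; exact hx y)
  have hnd₂ : (polarBilin Q₂).Nondegenerate := by
    rw [(polarBilin_isRefl Q₂).nondegenerate_iff_separatingLeft]
    intro x hx
    apply hsepQ
    intro y
    obtain ⟨z, hz⟩ := hsurj 0 y
    rw [zero_smul, sub_zero] at hz
    have hgz : g ((μ⁻¹) • g y) = y := by
      rw [map_smul, hg2, smul_smul, inv_mul_cancel₀ hμ0, one_smul]
    have := hx (μ⁻¹ • g y)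
    rw [polarBilin_apply_apply, hQ₂pol, hgz] at this
    exact (mul_eq_zero.1 this).resolve_left h2
  have hpen : ∀ κ : F, (polarBilin (Q - κ • Q₂)).Nondegenerate := by
    intro κ
    rw [(polarBilin_isRefl (Q - κ • Q₂)).nondegenerate_iff_separatingLeft]
    intro x hx
    apply hsepQ
    intro y
    obtain ⟨z, hz⟩ := hsurj (2 * κ) y
    have := hx z
    rw [polarBilin_apply_apply] at this
    have hp : polar (⇑(Q - κ • Q₂)) x z = polar Q x z - κ * polar Q₂ x z := by
      unfold polar
      simp only [QuadraticMap.sub_apply, QuadraticMap.smul_apply, smul_eq_mul]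
      ring
    rw [hp, hQ₂pol] at this
    rw [← hz, polar_sub_right, polar_smul_right, smul_eq_mul]
    linear_combination this
  obtain ⟨x, hx1, hx2⟩ := exists_of_pencil h2 Q Q₂ hnd₂ hpen hdim
  exact ⟨x, by rw [← hQ₂app]; exact hx1, hx2⟩

end selfadj

section eigen

variable {F : Type*} {V : Type u} [Field F] [Finite F] [AddCommGroup V] [Module F V]
  [FiniteDimensional F V]

/-- A subspace of dimension at least two on which the form is nondegenerate contains vectors with
values in different square classes. -/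
theorem exists_nonsquare_pair (h2 : (2 : F) ≠ 0) (Q : QuadraticForm F V) (W : Submodule F V)
    (hW : ∀ u ∈ W, (∀ u' ∈ W, polar Q u u' = 0) → u = 0) (hdim : 2 ≤ finrank F W) :
    ∃ u ∈ W, ∃ w ∈ W, Q u ≠ 0 ∧ Q w ≠ 0 ∧ ¬ IsSquare (Q u * Q w) := by
  obtain ⟨n, hn⟩ : ∃ n, finrank F W = n + 1 + 1 := ⟨finrank F W - 2, by omega⟩
  have hnd : (polarBilin (qrestrict Q W)).Nondegenerate := by
    rw [(polarBilin_isRefl (qrestrict Q W)).nondegenerate_iff_separatingLeft]
    intro x hx
    have := hW x.1 x.2 (fun u' hu' => by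
      have := hx ⟨u', hu'⟩
      rw [polarBilin_apply_apply, polar_qrestrict] at this
      exact this)
    exact Subtype.ext this
  obtain ⟨b, hb, hb1, hbl⟩ := exists_ortho_basis_one h2 (n + 1) W (qrestrict Q W) hn hnd
  have h0l : (0 : Fin (n + 1 + 1)) ≠ Fin.last (n + 1) := by
    intro h
    have := congrArg Fin.val h
    simp at this
  have hq0 : Q (b 0 : V) = 1 := hb1 0 h0l
  have hql : Q (b (Fin.last (n + 1)) : V) ≠ 0 := hbl
  have hpol : polar Q (b 0 : V) (b (Fin.last (n + 1)) : V) = 0 := by
    have := hb 0 (Fin.last (n + 1)) h0l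
    rwa [polar_qrestrict] at this
  have hchar : ringChar F ≠ 2 := by
    intro h
    apply h2
    have : CharP F 2 := ringChar.of_eq h
    exact CharTwo.two_eq_zero
  obtain ⟨ν, hν⟩ := FiniteField.exists_nonsquare hchar
  obtain ⟨s, t, hst⟩ := exists_sq_add_sq_add h2 1 (Q (b (Fin.last (n + 1)) : V)) (-ν) one_ne_zero hql
  have hval : Q (s • (b 0 : V) + t • (b (Fin.last (n + 1)) : V)) = ν := by
    rw [map_add_eq, QuadraticMap.map_smul, QuadraticMap.map_smul, polar_smul_left,
      polar_smul_right, hpol, hq0]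
    simp only [smul_eq_mul, mul_zero, add_zero]
    linear_combination hst
  have hν0 : ν ≠ 0 := by
    rintro rfl
    exact hν ⟨0, by ring⟩
  refine ⟨(b 0 : V), (b 0).2, s • (b 0 : V) + t • (b (Fin.last (n + 1)) : V),
    W.add_mem (W.smul_mem _ (b 0).2) (W.smul_mem _ (b _).2), ?_, ?_, ?_⟩
  · rw [hq0]; exact one_ne_zero
  · rw [hval]; exact hν0
  · rw [hq0, hval, one_mul]; exact hν

/-- An involutory isometry in dimension at least three has two (nonsingular) eigenvectors whose
values lie in different square classes. -/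
theorem exists_eigen_pair (h2 : (2 : F) ≠ 0) (Q : QuadraticForm F V)
    (hQ : (polarBilin Q).Nondegenerate) (g : V →ₗ[F] V) (hg2 : ∀ x, g (g x) = x)
    (hgQ : ∀ x, Q (g x) = Q x) (hdim : 3 ≤ finrank F V) :
    ∃ u w, Q u ≠ 0 ∧ Q w ≠ 0 ∧ ¬ IsSquare (Q u * Q w) ∧ (g u = u ∨ g u = -u) ∧
      (g w = w ∨ g w = -w) := by
  have hpolg : ∀ x y, polar Q (g x) (g y) = polar Q x y := by
    intro x y
    unfold polar
    rw [← map_add, hgQ, hgQ, hgQ]
  have hsepQ : ∀ x, (∀ y, polar Q x y = 0) → x = 0 := by
    intro x hx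
    exact hQ.1 x (fun y => by rw [polarBilin_apply_apply]; exact hx y)
  -- the two eigenspaces
  set Ep : Submodule F V := LinearMap.ker (g - LinearMap.id) with hEp
  set Em : Submodule F V := LinearMap.ker (g + LinearMap.id) with hEm
  have hEpmem : ∀ x, x ∈ Ep ↔ g x = x := by
    intro x
    rw [hEp, LinearMap.mem_ker, LinearMap.sub_apply, LinearMap.id_apply, sub_eq_zero]
  have hEmmem : ∀ x, x ∈ Em ↔ g x = -x := by
    intro x
    rw [hEm, LinearMap.mem_ker, LinearMap.add_apply, LinearMap.id_apply, add_eq_zero_iff_eq_neg]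
  have hrange : LinearMap.range (g - LinearMap.id) ≤ Em := by
    rintro _ ⟨x, rfl⟩
    rw [hEmmem, LinearMap.sub_apply, LinearMap.id_apply, map_sub, hg2]
    abel
  have hrn := (g - LinearMap.id).finrank_range_add_finrank_ker
  have hle := Submodule.finrank_mono hrange
  -- nondegeneracy of the restrictions
  have hWp : ∀ u ∈ Ep, (∀ u' ∈ Ep, polar Q u u' = 0) → u = 0 := by
    intro u hu hu'
    apply hsepQ
    intro y
    have hu1 := (hEpmem u).1 hu
    have h1 : polar Q u (y + g y) = 0 := by
      apply hu'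
      rw [hEpmem, map_add, hg2, add_comm]
    have h3 : polar Q u (g y) = polar Q u y := by
      have := hpolg u y
      rwa [hu1] at this
    rw [polar_add_right, h3] at h1
    have : 2 * polar Q u y = 0 := by linear_combination h1
    exact (mul_eq_zero.1 this).resolve_left h2
  have hWm : ∀ u ∈ Em, (∀ u' ∈ Em, polar Q u u' = 0) → u = 0 := by
    intro u hu hu'
    apply hsepQ
    intro y
    have hu1 := (hEmmem u).1 hu
    have h1 : polar Q u (y - g y) = 0 := by
      apply hu'
      rw [hEmmem, map_sub, hg2]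
      abel
    have h3 : polar Q u (g y) = - polar Q u y := by
      have := hpolg u y
      rw [hu1, polar_neg_left] at this
      linear_combination -this
    rw [polar_sub_right, h3] at h1
    have : 2 * polar Q u y = 0 := by linear_combination h1
    exact (mul_eq_zero.1 this).resolve_left h2
  by_cases hp : 2 ≤ finrank F Ep
  · obtain ⟨u, hu, w, hw, h1, h2', h3⟩ := exists_nonsquare_pair h2 Q Ep hWp hp
    exact ⟨u, w, h1, h2', h3, Or.inl ((hEpmem u).1 hu), Or.inl ((hEpmem w).1 hw)⟩
  · have hm : 2 ≤ finrank F Em := by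
      rw [← hEp] at hrn
      omega
    obtain ⟨u, hu, w, hw, h1, h2', h3⟩ := exists_nonsquare_pair h2 Q Em hWm hm
    exact ⟨u, w, h1, h2', h3, Or.inr ((hEmmem u).1 hu), Or.inr ((hEmmem w).1 hw)⟩

end eigen

end Cfsg.Agent.Helper43.POmSplit
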