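import Mathlib
import Cfsg.Agent.Lib.Helper5.OrthLag8
import Cfsg.Agent.Lib.Helper43.POmSplitAbs

/-!
# Matrix level: an element of `SO ∖ Ω` commuting with a class-swapping similarity of square scalar
-/

set_option autoImplicit false
set_option linter.unusedSectionVars false

namespace Cfsg.Agent.Helper43.POmSplit

open Matrix QuadraticMap Cfsg.Agent.Helper43 Cfsg.Agent.Helper5.OrthAut

section det

variable {F : Type*} [Field F] {n : Type*} [Fintype n] [DecidableEq n]

theorem det_eq_one_of_sq_neg_one (A J : Matrix n n F) (hJ : J.det ≠ 0) (h2 : (2 : F) ≠ 0)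
    (hAJ : Aᵀ * J * A = J) (hAA : A * A = -1) : A.det = 1 := by
  have h1 : (1 - A) * (1 + A) = (2 : F) • (1 : Matrix n n F) := by
    rw [sub_mul, mul_add, mul_add, one_mul, one_mul, mul_one, hAA, two_smul]
    abel
  have hd1 : (1 - A).det ≠ 0 := by
    intro h
    have := congrArg Matrix.det h1
    rw [Matrix.det_mul, h, zero_mul, Matrix.det_smul, Matrix.det_one, mul_one] at this
    exact pow_ne_zero _ h2 this.symm
  have h3 : Aᵀ * J = -(J * A) := by
    have : Aᵀ * J * A * A = J * A := by rw [hAJ]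
    rw [Matrix.mul_assoc, hAA, Matrix.mul_neg, Matrix.mul_one] at this
    rw [← this, neg_neg]
  have h4 : (1 - A)ᵀ * J = J * (1 + A) := by
    rw [Matrix.transpose_sub, Matrix.transpose_one, sub_mul, one_mul, h3, mul_add, mul_one]
    abel
  have h5 : 1 + A = A * (1 - A) := by
    rw [mul_sub, mul_one, hAA]
    abel
  have e1 := congrArg Matrix.det h4
  rw [Matrix.det_mul, Matrix.det_mul, Matrix.det_transpose] at e1
  have e2 := congrArg Matrix.det h5
  rw [Matrix.det_mul] at e2
  have e3 : (1 - A).det = (1 + A).det := by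
    apply mul_right_cancel₀ hJ
    linear_combination e1
  rw [e2] at e3
  have : (1 - A).det * (A.det - 1) = 0 := by linear_combination -e3
  rcases mul_eq_zero.1 this with h | h
  · exact absurd h hd1
  · linear_combination h

end det

section refl

variable {F : Type*} [Field F] {ι : Type} [Fintype ι] [DecidableEq ι]
  (Q : QuadraticForm F (ι → F))

theorem reflIso_smul {u : ι → F} (hu : Q u ≠ 0) {c : F} (hc : c ≠ 0) (hcu : Q (c • u) ≠ 0) :
    reflIso Q hcu = reflIso Q hu := by
  apply reflIso_congr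
  apply LinearMap.ext
  intro x
  rw [reflLin_apply, reflLin_apply, QuadraticMap.map_smul, polar_smul_left, smul_smul]
  congr 2
  simp only [smul_eq_mul]
  field_simp

theorem reflIso_comm {u w : ι → F} (hu : Q u ≠ 0) (hw : Q w ≠ 0) (h : polar Q u w = 0) :
    reflIso Q hu * reflIso Q hw = reflIso Q hw * reflIso Q hu := by
  have h1 := reflIso_conj Q hu hw
  have h2 : reflIso Q (v := reflLin Q u w) (by rw [Q_reflLin Q hu]; exact hw) = reflIso Q hw := by
    apply reflIso_congr
    rw [reflLin_of_polar_eq_zero Q h]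
  rw [h2] at h1
  calc reflIso Q hu * reflIso Q hw
      = reflIso Q hu * reflIso Q hw * reflIso Q hu * reflIso Q hu := by
        rw [mul_assoc _ (reflIso Q hu) (reflIso Q hu), reflIso_mul_self, mul_one]
    _ = reflIso Q hw * reflIso Q hu := by rw [h1]

end refl

section main

variable {F : Type*} [Field F] [Fintype F] [DecidableEq F] {ι : Type} [Fintype ι] [DecidableEq ι]
  (Q : QuadraticForm F (ι → F))
  (hQ : (polarBilin Q).Nondegenerate) (h2 : (2 : F) ≠ 0)
  (hQ0 : ∃ v : ι → F, Q v ≠ 0) (k : ℕ) (hcard : Fintype.card ι = 2 * k)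

include hQ h2 hcard in
/-- A similarity `g` with `g² ` scalar and nontrivial discriminant character commutes with a product
of two reflections of nonsquare spinor norm. -/
theorem exists_commuting_pair (hk : 5 ≤ Fintype.card ι) (g : GL ι F) (hg : g ∈ GO Q)
    (hd : dHom Q hQ0 k ⟨g, hg⟩ ≠ 1) (lam : Fˣ) (hsq : g * g = sclHom lam) :
    ∃ (u w : ι → F) (hu : Q u ≠ 0) (hw : Q w ≠ 0), ¬ IsSquare (Q u * Q w) ∧
      g * (rGL Q hu * rGL Q hw) * g⁻¹ = rGL Q hu * rGL Q hw := by
  set μ := mult Q ⟨g, hg⟩ with hμ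
  set A : Matrix ι ι F := (g : Matrix ι ι F) with hA
  have hμ0 : (μ : F) ≠ 0 := Units.ne_zero _
  have hl0 : (lam : F) ≠ 0 := Units.ne_zero _
  have hAQ : ∀ v, Q (A *ᵥ v) = (μ : F) * Q v := mult_spec Q ⟨g, hg⟩
  have hAA : ∀ v, A *ᵥ (A *ᵥ v) = (lam : F) • v := by
    intro v
    rw [Matrix.mulVec_mulVec, hA, ← Units.val_mul, hsq, sclHom_mulVec]
  have hpol : ∀ x y, polar Q (A *ᵥ x) (A *ᵥ y) = (μ : F) * polar Q x y := polar_sim Q ⟨g, hg⟩
  obtain ⟨v0, hv0⟩ := hQ0
  have hlm : (lam : F) ^ 2 = (μ : F) ^ 2 := by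
    have h1 : Q (A *ᵥ (A *ᵥ v0)) = (μ : F) * ((μ : F) * Q v0) := by rw [hAQ, hAQ]
    rw [hAA, QuadraticMap.map_smul, smul_eq_mul] at h1
    apply mul_right_cancel₀ hv0
    linear_combination h1
  have hadj : ∀ x y, (lam : F) * polar Q (A *ᵥ x) y = (μ : F) * polar Q x (A *ᵥ y) := by
    intro x y
    rw [← hpol, hAA, polar_smul_right, smul_eq_mul]
  have hfr : Module.finrank F (ι → F) = Fintype.card ι := Module.finrank_fintype_fun_eq_card F
  -- conjugation of reflections
  have hconj : ∀ (x : ι → F) (hx : Q x ≠ 0) (hAx : Q (A *ᵥ x) ≠ 0),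
      g * rGL Q hx * g⁻¹ = rGL Q hAx := fun x hx hAx => sim_conj_refl Q ⟨g, hg⟩ x hx hAx
  have hconj2 : ∀ (x y : ι → F) (hx : Q x ≠ 0) (hy : Q y ≠ 0),
      g * (rGL Q hx * rGL Q hy) * g⁻¹ = (g * rGL Q hx * g⁻¹) * (g * rGL Q hy * g⁻¹) := by
    intro x y hx hy
    group
  rcases sq_eq_sq_iff_eq_or_eq_neg.1 hlm with hlam | hlam
  · -- self-adjoint case
    have hsa : ∀ x y, polar Q (A *ᵥ x) y = polar Q x (A *ᵥ y) := by
      intro x y
      have := hadj x y
      rw [hlam] at this
      exact mul_left_cancel₀ hμ0 this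
    by_cases hsqμ : IsSquare (μ : F)
    · -- square multiplier: eigenvectors
      obtain ⟨ε, hε⟩ := hsqμ
      have hε0 : ε ≠ 0 := by
        rintro rfl
        apply hμ0
        rw [hε, mul_zero]
      set g₁ : (ι → F) →ₗ[F] (ι → F) := ε⁻¹ • Matrix.toLin' A with hg₁
      have hg₁app : ∀ x, g₁ x = ε⁻¹ • (A *ᵥ x) := by
        intro x
        rw [hg₁, LinearMap.smul_apply, Matrix.toLin'_apply]
      have hg₁2 : ∀ x, g₁ (g₁ x) = x := by
        intro x
        rw [hg₁app, hg₁app, Matrix.mulVec_smul, hAA, smul_smul, smul_smul, hlam, hε]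
        have : ε⁻¹ * ε⁻¹ * (ε * ε) = 1 := by field_simp
        rw [this, one_smul]
      have hg₁Q : ∀ x, Q (g₁ x) = Q x := by
        intro x
        rw [hg₁app, QuadraticMap.map_smul, hAQ, hε, smul_eq_mul]
        field_simp
      obtain ⟨u, w, hu, hw, hns, hgu, hgw⟩ := exists_eigen_pair h2 Q hQ g₁ hg₁2 hg₁Q
        (by rw [hfr]; omega)
      have heig : ∀ x, (g₁ x = x ∨ g₁ x = -x) → ∃ c : F, c ≠ 0 ∧ A *ᵥ x = c • x := by
        intro x hx
        rcases hx with hx | hx
        · refine ⟨ε, hε0, ?_⟩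
          rw [hg₁app] at hx
          calc A *ᵥ x = ε • (ε⁻¹ • (A *ᵥ x)) := by rw [smul_smul, mul_inv_cancel₀ hε0, one_smul]
            _ = ε • x := by rw [hx]
        · refine ⟨-ε, neg_ne_zero.2 hε0, ?_⟩
          rw [hg₁app] at hx
          calc A *ᵥ x = ε • (ε⁻¹ • (A *ᵥ x)) := by rw [smul_smul, mul_inv_cancel₀ hε0, one_smul]
            _ = (-ε) • x := by rw [hx, smul_neg, neg_smul]
      obtain ⟨cu, hcu0, hcu⟩ := heig u hgu
      obtain ⟨cw, hcw0, hcw⟩ := heig w hgw
      have hAu : Q (A *ᵥ u) ≠ 0 := by rw [hAQ]; exact mul_ne_zero hμ0 hu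
      have hAw : Q (A *ᵥ w) ≠ 0 := by rw [hAQ]; exact mul_ne_zero hμ0 hw
      refine ⟨u, w, hu, hw, hns, ?_⟩
      rw [hconj2, hconj u hu hAu, hconj w hw hAw]
      have e1 : reflIso Q hAu = reflIso Q hu := by
        have hcu' : Q (cu • u) ≠ 0 := by rw [← hcu]; exact hAu
        have : reflIso Q hAu = reflIso Q hcu' := by
          apply reflIso_congr
          rw [hcu]
        rw [this, reflIso_smul Q hu hcu0]
      have e2 : reflIso Q hAw = reflIso Q hw := by
        have hcw' : Q (cw • w) ≠ 0 := by rw [← hcw]; exact hAw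
        have : reflIso Q hAw = reflIso Q hcw' := by
          apply reflIso_congr
          rw [hcw]
        rw [this, reflIso_smul Q hw hcw0]
      simp only [rGL]
      rw [e1, e2]
    · -- nonsquare multiplier: a nonsingular x ⊥ A x
      obtain ⟨x, hx1, hx2⟩ := exists_perp_of_sq_nonsquare h2 Q hQ (Matrix.toLin' A) (μ : F) hsqμ
        (by intro x; rw [Matrix.toLin'_apply, Matrix.toLin'_apply, hAA, hlam])
        (by intro x y; rw [Matrix.toLin'_apply, Matrix.toLin'_apply]; exact hsa x y)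
        (by rw [hfr]; exact hk)
      rw [Matrix.toLin'_apply] at hx1
      have hAx : Q (A *ᵥ x) ≠ 0 := by rw [hAQ]; exact mul_ne_zero hμ0 hx2
      have hAAx : Q (A *ᵥ (A *ᵥ x)) ≠ 0 := by rw [hAQ]; exact mul_ne_zero hμ0 hAx
      refine ⟨x, A *ᵥ x, hx2, hAx, not_isSquare_Q_mul Q g hg hsqμ x hx2, ?_⟩
      rw [hconj2, hconj x hx2 hAx, hconj (A *ᵥ x) hAx hAAx]
      have e1 : reflIso Q hAAx = reflIso Q hx2 := by
        have hc' : Q ((lam : F) • x) ≠ 0 := by rw [← hAA]; exact hAAx
        have : reflIso Q hAAx = reflIso Q hc' := by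
          apply reflIso_congr
          rw [hAA]
        rw [this, reflIso_smul Q hx2 hl0]
      simp only [rGL]
      rw [e1, ← Subgroup.coe_mul, ← Subgroup.coe_mul, reflIso_comm Q hx2 hAx hx1]
  · -- skew-adjoint case
    have hsk : ∀ x y, polar Q (A *ᵥ x) y = - polar Q x (A *ᵥ y) := by
      intro x y
      have := hadj x y
      rw [hlam] at this
      have h3 : (μ : F) * (polar Q (A *ᵥ x) y + polar Q x (A *ᵥ y)) = 0 := by
        linear_combination -this
      have := (mul_eq_zero.1 h3).resolve_left hμ0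
      linear_combination this
    have hperp : ∀ x, polar Q x (A *ᵥ x) = 0 := by
      intro x
      have := hsk x x
      rw [polar_comm Q (A *ᵥ x) x] at this
      have h3 : 2 * polar Q x (A *ᵥ x) = 0 := by linear_combination this
      exact (mul_eq_zero.1 h3).resolve_left h2
    by_cases hsqμ : IsSquare (μ : F)
    · -- impossible: the discriminant character would be trivial
      exfalso
      apply hd
      obtain ⟨ε, hε⟩ := hsqμ
      have hε0 : ε ≠ 0 := by
        rintro rfl
        apply hμ0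
        rw [hε, mul_zero]
      have hJ := gram_det_ne_zero Q hQ
      have hgs := gram_sim Q ⟨g, hg⟩
      have hAAm : A * A = (lam : F) • (1 : Matrix ι ι F) := by
        rw [hA, ← Units.val_mul, hsq, sclHom_coe]
      have hdet := det_eq_one_of_sq_neg_one (ε⁻¹ • A) (gram Q) hJ h2
        (by
          rw [Matrix.transpose_smul, Matrix.smul_mul, Matrix.smul_mul, Matrix.mul_smul, smul_smul]
          show (ε⁻¹ * ε⁻¹) • ((gmat Q ⟨g, hg⟩)ᵀ * gram Q * gmat Q ⟨g, hg⟩) = gram Q
          rw [hgs, smul_smul, ← hμ, hε]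
          have : ε⁻¹ * ε⁻¹ * (ε * ε) = 1 := by field_simp
          rw [this, one_smul])
        (by
          rw [Matrix.smul_mul, Matrix.mul_smul, smul_smul, hAAm, smul_smul, hlam, hε]
          have : ε⁻¹ * ε⁻¹ * -(ε * ε) = -1 := by field_simp
          rw [this, neg_smul, one_smul])
      apply Units.ext
      rw [dHom_coe, Units.val_one, ← hμ, hε]
      rw [Matrix.det_smul, hcard] at hdet
      show A.det * _ = 1
      have : (ε⁻¹) ^ (2 * k) = ((ε * ε) ^ k)⁻¹ := by
        rw [inv_pow, pow_mul, _root_.sq]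
      rw [← this, mul_comm]
      exact hdet
    · have hAx : Q (A *ᵥ v0) ≠ 0 := by rw [hAQ]; exact mul_ne_zero hμ0 hv0
      have hAAx : Q (A *ᵥ (A *ᵥ v0)) ≠ 0 := by rw [hAQ]; exact mul_ne_zero hμ0 hAx
      refine ⟨v0, A *ᵥ v0, hv0, hAx, not_isSquare_Q_mul Q g hg hsqμ v0 hv0, ?_⟩
      rw [hconj2, hconj v0 hv0 hAx, hconj (A *ᵥ v0) hAx hAAx]
      have e1 : reflIso Q hAAx = reflIso Q hv0 := by
        have hc' : Q ((lam : F) • v0) ≠ 0 := by rw [← hAA]; exact hAAx
        have : reflIso Q hAAx = reflIso Q hc' := by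
          apply reflIso_congr
          rw [hAA]
        rw [this, reflIso_smul Q hv0 hl0]
      simp only [rGL]
      rw [e1, ← Subgroup.coe_mul, ← Subgroup.coe_mul, reflIso_comm Q hv0 hAx (hperp v0)]

end main

end Cfsg.Agent.Helper43.POmSplit
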