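import Mathlib
import Cfsg.Agent.Lib.Helper5.OrthAut7
import Cfsg.Agent.Lib.Helper5.OrthLag8
import Cfsg.Agent.Lib.Helper43.POmSplitGrp
import Cfsg.Agent.Lib.Helper43.POmSplitMat

/-!
# Class splitting of involutory similarity-type graph automorphisms of `PΩ⁺_{2m}(q)`, `q` odd
-/

set_option autoImplicit false
set_option linter.unusedSectionVars false

namespace Cfsg.Agent.Helper43.POmSplit

open Matrix QuadraticMap Cfsg.Agent.Helper43 Cfsg.Agent.Helper5.OrthAut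

section aux

variable {F : Type*} [Field F] {ι : Type} [Fintype ι] [DecidableEq ι]
  (Q : QuadraticForm F (ι → F)) (hQ0 : ∃ v : ι → F, Q v ≠ 0) (k : ℕ)
  (hcard : Fintype.card ι = 2 * k)

include hcard in
theorem dHom_sclHom (c : Fˣ) : dHom Q hQ0 k ⟨sclHom c, sclHom_mem_GO Q c⟩ = 1 := by
  have hmu : mult Q ⟨sclHom c, sclHom_mem_GO Q c⟩ = c * c := by
    apply mult_unique Q hQ0
    intro v
    rw [gmat]
    show Q (((sclHom (ι := ι) c : GL ι F) : Matrix ι ι F) *ᵥ v) = _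
    rw [sclHom_mulVec, QuadraticMap.map_smul, Units.val_mul, smul_eq_mul]
  apply Units.ext
  rw [dHom_coe, hmu, Units.val_one, gmat]
  show ((sclHom (ι := ι) c : GL ι F) : Matrix ι ι F).det * _ = 1
  rw [sclHom_det, hcard, Units.val_mul, pow_mul, _root_.sq]
  exact mul_inv_cancel₀ (pow_ne_zero _ (mul_ne_zero (Units.ne_zero _) (Units.ne_zero _)))

theorem dHom_comm (x y : ↥(GO Q)) : dHom Q hQ0 k (x * y * x⁻¹ * y⁻¹) = 1 := by
  rw [map_mul, map_mul, map_mul, map_inv, map_inv, mul_inv_cancel_comm, mul_inv_cancel]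

end aux

section main

variable {F : Type*} [Field F] [Fintype F]

set_option maxHeartbeats 800000 in
theorem main_aux (hodd : Odd (Fintype.card F)) {m : ℕ} (hm : 4 ≤ m)
    (hQ0' : ∃ v : Fin m ⊕ Fin m → F, stdPlus F m v ≠ 0)
    (γ : MulAut (Cfsg.POmega F ⇑(stdPlus F m)))
    (g₀ : GL (Fin m ⊕ Fin m) F) (hg₀' : g₀ ∈ GO (stdPlus F m))
    (hnp : ¬ Cfsg.PreservesSingularClasses (Cfsg.quadFormPlus m F)
      (g₀ : Matrix (Fin m ⊕ Fin m) (Fin m ⊕ Fin m) F))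
    (hγeq : γ = Phi (⇑(stdPlus F m)) ⟨g₀, sim_le_NO _ hg₀'⟩) (hγ2 : orderOf γ = 2) :
    (Cfsg.splitClassCount (inD (stdPlus F m) hQ0' m)
        (Cfsg.Inn (Cfsg.POmega F ⇑(stdPlus F m))) γ = 1 ∨
      Cfsg.splitClassCount (inD (stdPlus F m) hQ0' m)
        (Cfsg.Inn (Cfsg.POmega F ⇑(stdPlus F m))) γ = 2) ∧
    (¬ (Odd m ∧ Fintype.card F % 4 = 3) →
      Cfsg.splitClassCount (inD (stdPlus F m) hQ0' m)
        (Cfsg.Inn (Cfsg.POmega F ⇑(stdPlus F m))) γ = 2) := by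
  classical
  have h2 := Cfsg.Agent.Helper5.OrthAut.two_ne_zero_of_odd_card hodd
  have hfam := stdPlus_isHypFamily F m
  have hnd := stdPlus_nondegenerate F m
  have hcard : Fintype.card (Fin m ⊕ Fin m) = 2 * m := by simp; ring
  have hperf := hperf_of_hyp (stdPlus F m) hnd _ _ hfam (by omega) (by rw [hcard]; omega)
  have hcent := hcent_of_hyp (stdPlus F m) hfam (by omega)
    (Cfsg.Agent.Lead.POmegaCard.hspan_plus m)
  have hidx := Cfsg.Agent.Lead.POmegaCard.index_omega_odd h2 (stdPlus F m) hnd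
    (by rw [hcard]; omega)
  have hq : Fintype.card F % 2 = 1 := Nat.odd_iff.1 hodd
  have hnegiff := Cfsg.Agent.S0790.result (F := F) rfl hodd m (by omega)
  obtain ⟨ν, hν⟩ := exists_nonsquare_unit h2
  obtain ⟨v, hv⟩ := hQ0'
  have hQ0' : ∃ v : Fin m ⊕ Fin m → F, stdPlus F m v ≠ 0 := ⟨v, hv⟩
  have hmu : mult (stdPlus F m) ⟨deltaPlus m ν, deltaPlus_mem m ν⟩ = ν :=
    mult_unique _ ⟨v, hv⟩ _ _ (deltaPlus_sim m ν)
  have hsurj := psiHom_surjective (stdPlus F m) ⟨v, hv⟩ hnd m hcard h2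
    ⟨deltaPlus m ν, deltaPlus_mem m ν⟩ (by rw [hmu]; exact hν)
    (by
      apply Units.ext
      rw [dHom_coe, hmu, Units.val_one]
      show ((deltaPlus m ν : GL (Fin m ⊕ Fin m) F) :
        Matrix (Fin m ⊕ Fin m) (Fin m ⊕ Fin m) F).det * _ = 1
      rw [deltaPlus_det]
      exact mul_inv_cancel₀ (pow_ne_zero _ (Units.ne_zero _))) v hv
  have hTG : Cfsg.Inn (Cfsg.POmega F ⇑(stdPlus F m)) ≤ inD (stdPlus F m) hQ0' m :=
    inn_le_inD (stdPlus F m) hQ0' m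
  have hindex := index_inn_inD (stdPlus F m) hperf hcent hnd h2 hQ0' m hcard hidx hsurj v hv
  by_cases hex : Odd m ∧ Fintype.card F % 4 = 3
  · have hneg : ¬ ∃ g : ↥(Cfsg.isometryGroup F ⇑(stdPlus F m)), g ∈ Cfsg.Omega F ⇑(stdPlus F m) ∧
        ((g : GL (Fin m ⊕ Fin m) F) : Matrix (Fin m ⊕ Fin m) (Fin m ⊕ Fin m) F) = -1 := by
      intro hcon
      have := hnegiff.1 hcon
      rw [pow_mod_four_eq_one_iff _ _ hq] at this
      exact this hex
    refine ⟨?_, fun h => absurd hex h⟩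
    exact count_of_index_two _ _ hTG γ (hindex.2 hneg)
  · have hneg : ∃ g : ↥(Cfsg.isometryGroup F ⇑(stdPlus F m)), g ∈ Cfsg.Omega F ⇑(stdPlus F m) ∧
        ((g : GL (Fin m ⊕ Fin m) F) : Matrix (Fin m ⊕ Fin m) (Fin m ⊕ Fin m) F) = -1 := by
      apply hnegiff.2
      rw [pow_mod_four_eq_one_iff _ _ hq]
      exact hex
    have h4 := hindex.1 hneg
    have hd : dHom (stdPlus F m) hQ0' m ⟨g₀, hg₀'⟩ ≠ 1 := fun h =>
      hnp ((preserves_iff_dHom_plus m h2 hQ0' g₀ hg₀').2 h)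
    have hdneg : dHom (stdPlus F m) hQ0' m ⟨g₀, hg₀'⟩ = -1 :=
      (dHom_sq (stdPlus F m) hQ0' hnd m hcard ⟨g₀, hg₀'⟩).resolve_left hd
    have hγsq : γ * γ = 1 := by
      have := pow_orderOf_eq_one γ
      rwa [hγ2, pow_two] at this
    set G₀ : ↥(NO (⇑(stdPlus F m))) := ⟨g₀, sim_le_NO _ hg₀'⟩ with hG₀
    obtain ⟨lam, hlam⟩ : ∃ lam : Fˣ, g₀ * g₀ = sclHom lam := by
      have hker : G₀ * G₀ ∈ (Phi (⇑(stdPlus F m))).ker := by
        rw [MonoidHom.mem_ker, map_mul, ← hγeq, hγsq]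
      rw [ker_Phi (⇑(stdPlus F m)) hperf hcent, Subgroup.mem_subgroupOf] at hker
      exact exists_sclHom_of_mem hker
    obtain ⟨u, w, hu, hw, hns, hcommuw⟩ := exists_commuting_pair (stdPlus F m) hnd h2 hQ0' m hcard
      (by rw [hcard]; omega) g₀ hg₀' hd lam hlam
    have hn2 : 2 ≤ Fintype.card (Fin m ⊕ Fin m) := by rw [hcard]; omega
    have hSO := rGL_mul_mem_SOG (stdPlus F m) hu hw
    have hGO1 := SOG_le_GO1 (stdPlus F m) hQ0' m hSO
    have hmemNO : rGL (stdPlus F m) hu * rGL (stdPlus F m) hw ∈ NO (⇑(stdPlus F m)) :=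
      sim_le_NO _ (GO1_le_GO (stdPlus F m) hQ0' m hGO1)
    -- the element c
    have hc : ∃ c ∈ inD (stdPlus F m) hQ0' m, c ∉ Cfsg.Inn (Cfsg.POmega F ⇑(stdPlus F m)) ∧
        c * γ = γ * c := by
      refine ⟨Phi (⇑(stdPlus F m)) ⟨rGL (stdPlus F m) hu * rGL (stdPlus F m) hw, hmemNO⟩,
        ⟨_, hGO1, rfl⟩,
        refl_pair_not_inn (stdPlus F m) hperf hcent hnd h2 hn2 hneg hu hw hns hmemNO, ?_⟩
      rw [hγeq, ← map_mul, ← map_mul]
      congr 1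
      apply Subtype.ext
      show rGL (stdPlus F m) hu * rGL (stdPlus F m) hw * g₀ =
        g₀ * (rGL (stdPlus F m) hu * rGL (stdPlus F m) hw)
      have := congrArg (fun x => x * g₀) hcommuw
      simp only [inv_mul_cancel_right] at this
      exact this.symm
    -- the dihedral quotient
    obtain ⟨φ, hφs, hφk⟩ := (pgo_mod_inn_plus hodd hm).2 hex
    have hGP : inD (stdPlus F m) hQ0' m ≤ Cfsg.pgoAut F ⇑(stdPlus F m) := by
      rw [pgoAut_eq, inD]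
      apply Subgroup.map_mono
      intro x hx
      exact GO1_le_GO (stdPlus F m) hQ0' m hx
    have hγP : γ ∈ Cfsg.pgoAut F ⇑(stdPlus F m) := by
      rw [pgoAut_eq, hγeq]
      exact Subgroup.mem_map_of_mem _ (show G₀ ∈ (GO (stdPlus F m)).subgroupOf (NO _) from hg₀')
    have hγG : γ ∉ inD (stdPlus F m) hQ0' m := by
      rintro ⟨b, hb, hbγ⟩
      have hb1 : (b : GL (Fin m ⊕ Fin m) F) ∈ GO1 (stdPlus F m) hQ0' m := hb
      obtain ⟨hbGO, hbd⟩ := (mem_GO1 _ hQ0' m _).1 hb1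
      have hker : b⁻¹ * G₀ ∈ (Phi (⇑(stdPlus F m))).ker := by
        rw [MonoidHom.mem_ker, map_mul, map_inv, hbγ, ← hγeq, inv_mul_cancel]
      rw [ker_Phi (⇑(stdPlus F m)) hperf hcent, Subgroup.mem_subgroupOf] at hker
      obtain ⟨c, hc⟩ := exists_sclHom_of_mem hker
      have hg₀eq : (⟨g₀, hg₀'⟩ : ↥(GO (stdPlus F m))) =
          ⟨(b : GL (Fin m ⊕ Fin m) F), hbGO⟩ * ⟨sclHom c, sclHom_mem_GO (stdPlus F m) c⟩ := by
        apply Subtype.ext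
        show g₀ = (b : GL (Fin m ⊕ Fin m) F) * sclHom c
        rw [← hc]
        show g₀ = (b : GL (Fin m ⊕ Fin m) F) * ((b : GL (Fin m ⊕ Fin m) F)⁻¹ * g₀)
        group
      apply hd
      have hfin := congrArg (dHom (stdPlus F m) hQ0' m) hg₀eq
      rw [map_mul, hbd, dHom_sclHom (stdPlus F m) hQ0' m hcard, one_mul] at hfin
      exact hfin
    have hcommP : ∀ a ∈ Cfsg.pgoAut F ⇑(stdPlus F m), ∀ b ∈ Cfsg.pgoAut F ⇑(stdPlus F m),
        a * b * a⁻¹ * b⁻¹ ∈ inD (stdPlus F m) hQ0' m := by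
      intro a ha b hb
      rw [pgoAut_eq] at ha hb
      obtain ⟨a', ha', rfl⟩ := ha
      obtain ⟨b', hb', rfl⟩ := hb
      have ha1 : (a' : GL (Fin m ⊕ Fin m) F) ∈ GO (stdPlus F m) := ha'
      have hb1 : (b' : GL (Fin m ⊕ Fin m) F) ∈ GO (stdPlus F m) := hb'
      set A : ↥(GO (stdPlus F m)) := ⟨_, ha1⟩ with hAdef
      set B : ↥(GO (stdPlus F m)) := ⟨_, hb1⟩ with hBdef
      refine ⟨a' * b' * a'⁻¹ * b'⁻¹, ?_, by simp⟩
      exact ⟨A * B * A⁻¹ * B⁻¹, dHom_comm (stdPlus F m) hQ0' m A B, rfl⟩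
    have hcovP : ∀ x ∈ Cfsg.pgoAut F ⇑(stdPlus F m),
        x ∈ inD (stdPlus F m) hQ0' m ∨ x * γ⁻¹ ∈ inD (stdPlus F m) hQ0' m := by
      intro x hx
      rw [pgoAut_eq] at hx
      obtain ⟨a', ha', rfl⟩ := hx
      have ha1 : (a' : GL (Fin m ⊕ Fin m) F) ∈ GO (stdPlus F m) := ha'
      set A : ↥(GO (stdPlus F m)) := ⟨_, ha1⟩ with hAdef
      rcases dHom_sq (stdPlus F m) hQ0' hnd m hcard A with h | h
      · left
        exact ⟨a', (mem_GO1 _ hQ0' m _).2 ⟨ha1, h⟩, rfl⟩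
      · right
        refine ⟨a' * G₀⁻¹, ?_, by rw [map_mul, map_inv, ← hγeq]⟩
        have hd1 : dHom (stdPlus F m) hQ0' m
            (A * (⟨g₀, hg₀'⟩ : ↥(GO (stdPlus F m)))⁻¹) = 1 := by
          rw [map_mul, map_inv, h, hdneg, mul_inv_cancel]
        exact ⟨A * (⟨g₀, hg₀'⟩ : ↥(GO (stdPlus F m)))⁻¹, hd1, rfl⟩
    have hg := exists_not_mem_centralizer_mul (Cfsg.pgoAut F ⇑(stdPlus F m))
      (inD (stdPlus F m) hQ0' m) (Cfsg.Inn (Cfsg.POmega F ⇑(stdPlus F m))) hTG hGP φ hφs hφk γ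
      hγP hγG hcommP hcovP
    have hcount := count_of_index_four _ _ hTG γ h4 hc hg
    exact ⟨Or.inr hcount, fun _ => hcount⟩

theorem main (hodd : Odd (Fintype.card F)) {m : ℕ} (hm : 4 ≤ m)
    (γ : MulAut (Cfsg.POmega F (Cfsg.quadFormPlus m F)))
    (hγ : Cfsg.IsSimilarityGraphAutPOmegaPlus m γ) (hγ2 : orderOf γ = 2) :
    (Cfsg.splitClassCount (Cfsg.inndiagPOmegaPlus m F)
        (Cfsg.Inn (Cfsg.POmega F (Cfsg.quadFormPlus m F))) γ = 1 ∨
      Cfsg.splitClassCount (Cfsg.inndiagPOmegaPlus m F)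
        (Cfsg.Inn (Cfsg.POmega F (Cfsg.quadFormPlus m F))) γ = 2) ∧
    (¬ (Odd m ∧ Fintype.card F % 4 = 3) →
      Cfsg.splitClassCount (Cfsg.inndiagPOmegaPlus m F)
        (Cfsg.Inn (Cfsg.POmega F (Cfsg.quadFormPlus m F))) γ = 2) := by
  classical
  have h2 := Cfsg.Agent.Helper5.OrthAut.two_ne_zero_of_odd_card hodd
  have hfam := stdPlus_isHypFamily F m
  have hQ0' := hQ0_of_hyp (stdPlus F m) hfam (by omega)
  obtain ⟨g₀, hg₀, hnp, hind⟩ := hγ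
  have hg₀' : g₀ ∈ GO (stdPlus F m) := hg₀
  have hγeq := (induced_iff (⇑(stdPlus F m)) ⟨g₀, sim_le_NO _ hg₀'⟩ γ).1 hind
  rw [inndiag_eq_inD_plus m h2 hQ0']
  exact main_aux hodd hm hQ0' γ g₀ hg₀' hnp hγeq hγ2

end main

end Cfsg.Agent.Helper43.POmSplit
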