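import Mathlib
import Cfsg.Agent.Lib.Helper43.SpinorNorm
import Cfsg.Agent.S0786

set_option autoImplicit false

/-!
# The spinor criterion in all dimensions, and orthogonal sums (odd characteristic)
-/

namespace Cfsg.Agent.Helper43

open Matrix QuadraticMap

section AllDim

variable {F : Type*} [Field F] [Fintype F] {ι : Type} [Fintype ι] [DecidableEq ι]
variable (Q : QuadraticForm F (ι → F))

theorem isSquare_mul_of_subsingleton [Subsingleton ι] {u v : ι → F} (hu : Q u ≠ 0) :
    IsSquare (Q u * Q v) := by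
  have hu0 : u ≠ 0 := by
    intro h
    rw [h, map_zero] at hu
    exact hu rfl
  obtain ⟨i, hi⟩ : ∃ i, u i ≠ 0 := by
    by_contra hcon
    push Not at hcon
    exact hu0 (funext hcon)
  have hv : v = (v i / u i) • u := by
    funext j
    have : j = i := Subsingleton.elim j i
    rw [this, Pi.smul_apply, smul_eq_mul, div_mul_cancel₀ _ hi]
  rw [hv, QuadraticMap.map_smul]
  refine ⟨(v i / u i) * Q u, ?_⟩
  simp only [smul_eq_mul]
  ring

theorem isSquare_list_prod_of_subsingleton [Subsingleton ι] :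
    ∀ (n : ℕ) (vs : List (ι → F)), vs.length = 2 * n → (∀ v ∈ vs, Q v ≠ 0) →
      IsSquare (vs.map (fun v => Q v)).prod := by
  intro n
  induction n with
  | zero =>
    intro vs hlen _
    have : vs = [] := List.length_eq_zero_iff.1 (by omega)
    subst this
    exact ⟨1, by simp⟩
  | succ n ih =>
    intro vs hlen hvs
    match vs, hlen, hvs with
    | a :: b :: rest, hlen, hvs =>
      have ha : Q a ≠ 0 := hvs a (by simp)
      have hrest : ∀ v ∈ rest, Q v ≠ 0 := fun v hv => hvs v (by simp [hv])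
      have hl : rest.length = 2 * n := by
        simp only [List.length_cons] at hlen
        omega
      have h1 := ih rest hl hrest
      have h2 := isSquare_mul_of_subsingleton Q (v := b) ha
      simp only [List.map_cons, List.prod_cons]
      rw [← mul_assoc]
      exact h2.mul h1

/-- The spinor norm criterion, in every dimension. -/
theorem mem_Omega_iff_of_list_all (h2 : (2 : F) ≠ 0)
    (hQ : (polarBilin Q).Nondegenerate) (g : ↥(Cfsg.isometryGroup F ⇑Q)) (vs : List (ι → F))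
    (hvs : ∀ v ∈ vs, Q v ≠ 0)
    (hg : ((g : GL ι F) : Matrix ι ι F) =
      (vs.map (fun v => Cfsg.reflectionMatrix (⇑Q) v)).prod) :
    g ∈ Cfsg.Omega F ⇑Q ↔ (Even vs.length ∧ IsSquare (vs.map (fun v => Q v)).prod) := by
  classical
  by_cases hn : 2 ≤ Fintype.card ι
  · exact mem_Omega_iff_of_list Q h2 hn hQ g vs hvs hg
  · have hsub : Subsingleton ι := Fintype.card_le_one_iff_subsingleton.1 (by omega)
    have hg' := eq_list_prod_of_coe Q g vs hvs hg
    have hP0 : (vs.map (fun v => Q v)).prod ≠ 0 := by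
      apply List.prod_ne_zero
      intro h0
      obtain ⟨v, hv, hv0⟩ := List.mem_map.1 h0
      exact hvs v hv hv0
    show g ∈ commutator ↥(Cfsg.isometryGroup F ⇑Q) ↔ _
    constructor
    · intro hmem
      have hdet : ((g : GL ι F) : Matrix ι ι F).det = 1 := by
        have h1 := Abelianization.commutator_subset_ker
          (Matrix.GeneralLinearGroup.det.comp (Subgroup.subtype (Cfsg.isometryGroup F ⇑Q))) hmem
        rw [MonoidHom.mem_ker] at h1
        have h3 := congrArg (fun u : Fˣ => (u : F)) h1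
        exact h3
      rw [hg, det_list_reflection Q vs hvs] at hdet
      have hneg : (-1 : F) ≠ 1 := by
        intro h
        apply h2
        have : (1 : F) + 1 = 0 := by
          nth_rewrite 1 [← h]
          exact neg_add_cancel 1
        rw [← one_add_one_eq_two]
        exact this
      have heven : Even vs.length := (neg_one_pow_eq_one_iff_even hneg).1 hdet
      refine ⟨heven, ?_⟩
      obtain ⟨n, hn'⟩ := heven
      exact isSquare_list_prod_of_subsingleton Q n vs (by omega) hvs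
    · rintro ⟨⟨n, hn'⟩, hs⟩
      have hχ : quadraticChar F (vs.map (fun v => Q v)).prod = 1 :=
        (quadraticChar_one_iff_isSquare hP0).2 hs
      have hrho := (rho_list_prod Q h2 n vs (by omega) hvs).1 hχ
      rw [← Abelianization.ker_of, MonoidHom.mem_ker, hg', map_list_prod, List.map_map]
      exact hrho

end AllDim

section SumForm

variable {F : Type*} [Field F] {κ μ : Type} [Fintype κ] [DecidableEq κ] [Fintype μ] [DecidableEq μ]
variable (Q₁ : QuadraticForm F (κ → F)) (Q₂ : QuadraticForm F (μ → F))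

/-- The orthogonal sum `Q₁ ⊕ Q₂` on `F^(κ ⊕ μ)`. -/
noncomputable def sumForm : QuadraticForm F (κ ⊕ μ → F) :=
  Q₁.comp (LinearMap.funLeft F F Sum.inl) + Q₂.comp (LinearMap.funLeft F F Sum.inr)

theorem sumForm_apply (v : κ ⊕ μ → F) :
    sumForm Q₁ Q₂ v = Q₁ (v ∘ Sum.inl) + Q₂ (v ∘ Sum.inr) := rfl

theorem coe_sumForm :
    ⇑(sumForm Q₁ Q₂) = fun v : κ ⊕ μ → F => Q₁ (v ∘ Sum.inl) + Q₂ (v ∘ Sum.inr) := rfl

theorem polar_sumForm (x y : κ ⊕ μ → F) :
    polar (sumForm Q₁ Q₂) x y =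
      polar Q₁ (x ∘ Sum.inl) (y ∘ Sum.inl) + polar Q₂ (x ∘ Sum.inr) (y ∘ Sum.inr) := by
  unfold polar
  simp only [sumForm_apply]
  have e1 : (x + y) ∘ Sum.inl = x ∘ Sum.inl + y ∘ (Sum.inl : κ → κ ⊕ μ) := rfl
  have e2 : (x + y) ∘ Sum.inr = x ∘ Sum.inr + y ∘ (Sum.inr : μ → κ ⊕ μ) := rfl
  rw [e1, e2]
  ring

theorem sumForm_nondegenerate (h₁ : (polarBilin Q₁).Nondegenerate)
    (h₂ : (polarBilin Q₂).Nondegenerate) : (polarBilin (sumForm Q₁ Q₂)).Nondegenerate := by
  rw [(polarBilin_isRefl _).nondegenerate_iff_separatingLeft]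
  intro x hx
  have hl : x ∘ Sum.inl = 0 := by
    apply h₁.1
    intro y
    have := hx (Sum.elim y 0)
    rw [polarBilin_apply_apply, polar_sumForm] at this
    rw [polarBilin_apply_apply]
    have e : (Sum.elim y (0 : μ → F)) ∘ Sum.inr = 0 := rfl
    have e' : (Sum.elim y (0 : μ → F)) ∘ Sum.inl = y := rfl
    rw [e, e', polar_zero_right, add_zero] at this
    exact this
  have hr : x ∘ Sum.inr = 0 := by
    apply h₂.1
    intro y
    have := hx (Sum.elim 0 y)
    rw [polarBilin_apply_apply, polar_sumForm] at this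
    rw [polarBilin_apply_apply]
    have e : (Sum.elim (0 : κ → F) y) ∘ Sum.inl = 0 := rfl
    have e' : (Sum.elim (0 : κ → F) y) ∘ Sum.inr = y := rfl
    rw [e, e', polar_zero_right, zero_add] at this
    exact this
  funext a
  rcases a with a | a
  · exact congrFun hl a
  · exact congrFun hr a

theorem sumForm_elim_zero (v : κ → F) : sumForm Q₁ Q₂ (Sum.elim v 0) = Q₁ v := by
  rw [sumForm_apply]
  have e : (Sum.elim v (0 : μ → F)) ∘ Sum.inr = 0 := rfl
  have e' : (Sum.elim v (0 : μ → F)) ∘ Sum.inl = v := rfl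
  rw [e, e', map_zero, add_zero]

theorem reflectionMatrix_sumForm (v : κ → F) :
    Cfsg.reflectionMatrix (⇑(sumForm Q₁ Q₂)) (Sum.elim v 0) =
      Matrix.fromBlocks (Cfsg.reflectionMatrix (⇑Q₁) v) 0 0 1 := by
  apply matrix_ext_mulVec
  intro x
  rw [reflectionMatrix_mulVec_eq, reflLin_apply, Matrix.fromBlocks_mulVec, sumForm_elim_zero,
    polar_sumForm]
  have e : (Sum.elim v (0 : μ → F)) ∘ Sum.inr = 0 := rfl
  have e' : (Sum.elim v (0 : μ → F)) ∘ Sum.inl = v := rfl
  rw [e, e', polar_zero_left, add_zero, reflectionMatrix_mulVec_eq, reflLin_apply]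
  funext a
  rcases a with a | a
  · simp
  · simp

theorem list_reflection_sumForm (l : List (κ → F)) :
    ((l.map (fun v => (Sum.elim v 0 : κ ⊕ μ → F))).map
      (fun w => Cfsg.reflectionMatrix (⇑(sumForm Q₁ Q₂)) w)).prod =
      Matrix.fromBlocks ((l.map (fun v => Cfsg.reflectionMatrix (⇑Q₁) v)).prod) 0 0 1 := by
  induction l with
  | nil => simp [Matrix.fromBlocks_one]
  | cons a rest ih =>
    simp only [List.map_cons, List.prod_cons] at ih ⊢
    rw [ih, reflectionMatrix_sumForm, Matrix.fromBlocks_multiply]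
    simp

end SumForm

section SumOmega

variable {F : Type*} [Field F] [Fintype F] {κ μ : Type} [Fintype κ] [DecidableEq κ] [Fintype μ]
  [DecidableEq μ]

/-- **Odd characteristic.** An isometry `g₁` of `Q₁` extended by the identity lies in
`Ω(Q₁ ⊕ Q₂)` iff `g₁ ∈ Ω(Q₁)`. -/
theorem blockLeft_mem_Omega_iff_odd (h2 : (2 : F) ≠ 0) (Q₁ : QuadraticForm F (κ → F))
    (Q₂ : QuadraticForm F (μ → F)) (h₁ : (polarBilin Q₁).Nondegenerate)
    (h₂ : (polarBilin Q₂).Nondegenerate) (g₁ : ↥(Cfsg.isometryGroup F ⇑Q₁)) :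
    (∃ g : ↥(Cfsg.isometryGroup F (fun v : κ ⊕ μ → F => Q₁ (v ∘ Sum.inl) + Q₂ (v ∘ Sum.inr))),
      g ∈ Cfsg.Omega F (fun v : κ ⊕ μ → F => Q₁ (v ∘ Sum.inl) + Q₂ (v ∘ Sum.inr)) ∧
      ((g : GL (κ ⊕ μ) F) : Matrix (κ ⊕ μ) (κ ⊕ μ) F) =
        Matrix.fromBlocks ((g₁ : GL κ F) : Matrix κ κ F) 0 0 1) ↔ g₁ ∈ Cfsg.Omega F ⇑Q₁ := by
  classical
  have hexc : Fintype.card F ≠ 2 ∨ Fintype.card κ ≠ 4 := by
    left
    intro h
    have : ringChar F = 2 := FiniteField.even_card_iff_char_two.2 (by rw [h])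
    apply h2
    have hc := ringChar.Nat.cast_ringChar (R := F)
    rw [this] at hc
    exact_mod_cast hc
  obtain ⟨l, hl, hMl⟩ := Cfsg.Agent.S0786.matrix_cd_all Q₁ h₁ hexc
    ((g₁ : GL κ F) : Matrix κ κ F) (fun u => g₁.2 u u)
  have hMl' : ((g₁ : GL κ F) : Matrix κ κ F) =
      (l.map (fun v => Cfsg.reflectionMatrix (⇑Q₁) v)).prod := hMl
  set Q := sumForm Q₁ Q₂ with hQdef
  have hQ : (polarBilin Q).Nondegenerate := sumForm_nondegenerate Q₁ Q₂ h₁ h₂
  set L : List (κ ⊕ μ → F) := l.map (fun v => (Sum.elim v 0 : κ ⊕ μ → F)) with hL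
  have hLne : ∀ w ∈ L, Q w ≠ 0 := by
    intro w hw
    obtain ⟨v, hv, rfl⟩ := List.mem_map.1 hw
    rw [hQdef, sumForm_elim_zero]
    exact hl v hv
  have hblock : Matrix.fromBlocks ((g₁ : GL κ F) : Matrix κ κ F) 0 0 1 =
      (L.map (fun w => Cfsg.reflectionMatrix (⇑Q) w)).prod := by
    rw [hL, hQdef, list_reflection_sumForm, ← hMl']
  have hlen : L.length = l.length := by rw [hL, List.length_map]
  have hprod : (L.map (fun w => Q w)).prod = (l.map (fun v => Q₁ v)).prod := by
    rw [hL, List.map_map]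
    congr 1
    apply List.map_congr_left
    intro v _
    rw [Function.comp_apply, hQdef, sumForm_elim_zero]
  have hcrit₁ := mem_Omega_iff_of_list_all Q₁ h2 h₁ g₁ l hl hMl'
  show (∃ g : ↥(Cfsg.isometryGroup F ⇑Q), g ∈ Cfsg.Omega F ⇑Q ∧ _) ↔ _
  constructor
  · rintro ⟨g, hg, hgM⟩
    have := (mem_Omega_iff_of_list_all Q h2 hQ g L hLne (hgM.trans hblock)).1 hg
    rw [hlen, hprod] at this
    exact hcrit₁.2 this
  · intro hg₁
    have hc := hcrit₁.1 hg₁
    set g₀ : ↥(Cfsg.isometryGroup F ⇑Q) := (L.map (reflIso' Q)).prod with hg₀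
    have hcoe : ((g₀ : GL (κ ⊕ μ) F) : Matrix (κ ⊕ μ) (κ ⊕ μ) F) =
        (L.map (fun v => Cfsg.reflectionMatrix (⇑Q) v)).prod := by
      rw [← coeMatHom_apply Q g₀, hg₀, map_list_prod, List.map_map]
      congr 1
      apply List.map_congr_left
      intro v hv
      rw [Function.comp_apply, coeMatHom_apply, reflIso'_coe Q (hLne v hv)]
    refine ⟨g₀, ?_, hcoe.trans hblock.symm⟩
    rw [mem_Omega_iff_of_list_all Q h2 hQ g₀ L hLne hcoe, hlen, hprod]
    exact hc

end SumOmega

end Cfsg.Agent.Helper43
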