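import Mathlib
import Cfsg.Agent.Lib.Helper43.SpinorDiag
import Cfsg.Agent.Lib.Helper43.SpinorSum

set_option autoImplicit false
set_option linter.unusedSectionVars false

/-!
# The spinor norm of a "torus element": `e_i ↦ α_i⁻¹ e_i`, `f_i ↦ α_i f_i` on a hyperbolic family

Such an isometry is the product over `i` of `r_{e_i - α_i f_i} r_{e_i - f_i}`; it lies in `Ω` iff
`∏ α_i` is a square (odd characteristic).
-/

namespace Cfsg.Agent.Helper43

open Matrix QuadraticMap

section Torus

variable {F : Type*} [Field F] {ι : Type} [Fintype ι] [DecidableEq ι]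
variable (Q : QuadraticForm F (ι → F))

/-- the rotation of one hyperbolic pair as a product of two reflections -/
theorem two_reflection_mulVec {e f : ι → F} (he : Q e = 0) (hf : Q f = 0) (hef : polar Q e f = 1)
    (a : F) (ha : a ≠ 0) (x : ι → F) :
    (Cfsg.reflectionMatrix (⇑Q) (e - a • f) * Cfsg.reflectionMatrix (⇑Q) (e - f)) *ᵥ x =
      x + ((a⁻¹ - 1) * polar Q f x) • e + ((a - 1) * polar Q e x) • f := by
  have hfe : polar Q f e = 1 := by rw [polar_comm]; exact hef
  have hee : polar Q e e = 0 := by
    have := QuadraticMap.polar_self Q e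
    rw [he] at this
    simpa using this
  have hff : polar Q f f = 0 := by
    have := QuadraticMap.polar_self Q f
    rw [hf] at this
    simpa using this
  have hq1 : Q (e - f) = -1 := by
    rw [sub_eq_add_neg, QuadraticMap.map_add Q, QuadraticMap.map_neg, polar_neg_right, he, hf, hef]
    ring
  have hq2 : Q (e - a • f) = -a := by
    rw [sub_eq_add_neg, ← neg_smul, QuadraticMap.map_add Q, QuadraticMap.map_smul, polar_smul_right,
      he, hf, hef, smul_eq_mul, smul_eq_mul]
    ring
  rw [← Matrix.mulVec_mulVec, reflectionMatrix_mulVec_eq, reflectionMatrix_mulVec_eq,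
    reflLin_apply, reflLin_apply, hq1, hq2]
  simp only [polar_sub_left, polar_sub_right, polar_smul_left, polar_smul_right, smul_eq_mul,
    hee, hff, hef, hfe]
  have hna : (-a)⁻¹ = -a⁻¹ := by rw [inv_neg]
  rw [hna, inv_neg, inv_one]
  have h1 : a⁻¹ * a = 1 := inv_mul_cancel₀ ha
  ext j
  simp only [Pi.add_apply, Pi.sub_apply, Pi.smul_apply, smul_eq_mul]
  linear_combination (-(polar Q e x * e j - polar Q e x * f j * a + polar Q f x * f j)) * h1

/-- the product of the rotations of the pairs of a hyperbolic family -/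
theorem torus_list_mulVec {n : ℕ} {e f : Fin n → ι → F} (hef : IsHypFamily Q e f) (a : Fin n → F)
    (ha : ∀ i, a i ≠ 0) :
    ∀ (l : List (Fin n)), l.Nodup → ∀ x : ι → F,
      ((l.map (fun i => Cfsg.reflectionMatrix (⇑Q) (e i - a i • f i) *
        Cfsg.reflectionMatrix (⇑Q) (e i - f i))).prod) *ᵥ x =
        x + (l.map (fun i => (((a i)⁻¹ - 1) * polar Q (f i) x) • e i +
          ((a i - 1) * polar Q (e i) x) • f i)).sum := by
  have hfe : ∀ i j, polar Q (f i) (e j) = if i = j then 1 else 0 := by
    intro i j
    rw [polar_comm, hef.ef j i]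
    simp only [eq_comm]
  intro l
  induction l with
  | nil =>
    intro _ x
    simp
  | cons i rest ih =>
    intro hnd x
    have hnd' := List.nodup_cons.1 hnd
    simp only [List.map_cons, List.prod_cons, List.sum_cons]
    rw [← Matrix.mulVec_mulVec, ih hnd'.2 x,
      two_reflection_mulVec Q (hef.qe i) (hef.qf i) (by rw [hef.ef, if_pos rfl]) (a i) (ha i)]
    have hzero : ∀ (l' : List (Fin n)), (∀ j ∈ l', j ≠ i) →
        polar Q (f i) (l'.map (fun j => (((a j)⁻¹ - 1) * polar Q (f j) x) • e j +
          ((a j - 1) * polar Q (e j) x) • f j)).sum = 0 ∧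
        polar Q (e i) (l'.map (fun j => (((a j)⁻¹ - 1) * polar Q (f j) x) • e j +
          ((a j - 1) * polar Q (e j) x) • f j)).sum = 0 := by
      intro l'
      induction l' with
      | nil =>
        intro _
        simp
      | cons j l'' ih' =>
        intro hj
        have hji : j ≠ i := hj j (by simp)
        have hij : i ≠ j := fun h => hji h.symm
        obtain ⟨h1, h3⟩ := ih' (fun c hc => hj c (by simp [hc]))
        simp only [List.map_cons, List.sum_cons]
        constructor
        · rw [polar_add_right, polar_add_right, polar_smul_right, polar_smul_right, hfe, hef.ff,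
            if_neg hij, h1]
          simp
        · rw [polar_add_right, polar_add_right, polar_smul_right, polar_smul_right, hef.ee, hef.ef,
            if_neg hij, h3]
          simp
    obtain ⟨hz1, hz2⟩ := hzero rest (fun j hj hji => hnd'.1 (hji ▸ hj))
    rw [polar_add_right, polar_add_right, hz1, hz2, add_zero, add_zero]
    abel

/-- flattening the list of pairs -/
theorem torus_flatMap_prod {n : ℕ} (e f : Fin n → ι → F) (a : Fin n → F) (l : List (Fin n)) :
    ((l.flatMap (fun i => [e i - a i • f i, e i - f i])).map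
      (fun v => Cfsg.reflectionMatrix (⇑Q) v)).prod =
    (l.map (fun i => Cfsg.reflectionMatrix (⇑Q) (e i - a i • f i) *
        Cfsg.reflectionMatrix (⇑Q) (e i - f i))).prod := by
  induction l with
  | nil => simp
  | cons i rest ih =>
    rw [List.flatMap_cons, List.map_append, List.prod_append, ih]
    simp [Matrix.mul_assoc]

theorem torus_flatMap_Q {n : ℕ} {e f : Fin n → ι → F} (hef : IsHypFamily Q e f) (a : Fin n → F)
    (l : List (Fin n)) :
    ((l.flatMap (fun i => [e i - a i • f i, e i - f i])).map (fun v => Q v)).prod =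
      (l.map a).prod := by
  induction l with
  | nil => simp
  | cons i rest ih =>
    have hq1 : Q (e i - f i) = -1 := by
      rw [sub_eq_add_neg, QuadraticMap.map_add Q, QuadraticMap.map_neg, polar_neg_right, hef.qe,
        hef.qf, hef.ef, if_pos rfl]
      ring
    have hq2 : Q (e i - a i • f i) = -a i := by
      rw [sub_eq_add_neg, ← neg_smul, QuadraticMap.map_add Q, QuadraticMap.map_smul,
        polar_smul_right, hef.qe, hef.qf, hef.ef, if_pos rfl, smul_eq_mul, smul_eq_mul]
      ring
    rw [List.flatMap_cons, List.map_append, List.prod_append, ih]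
    simp only [List.map_cons, List.map_nil, List.prod_cons, List.prod_nil, hq1, hq2]
    ring

end Torus

section Criterion

variable {F : Type*} [Field F] [Fintype F] {ι : Type} [Fintype ι] [DecidableEq ι]
variable (Q : QuadraticForm F (ι → F))

/-- Membership in `Ω` of the torus element `e_i ↦ a_i⁻¹ e_i`, `f_i ↦ a_i f_i`. -/
theorem exists_mem_Omega_iff_of_torus (h2 : (2 : F) ≠ 0) (hQ : (polarBilin Q).Nondegenerate)
    {n : ℕ} {e f : Fin n → ι → F} (hef : IsHypFamily Q e f) (a : Fin n → F) (ha : ∀ i, a i ≠ 0)
    (M : Matrix ι ι F)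
    (hM : ∀ x, M *ᵥ x = x + ∑ i, ((((a i)⁻¹ - 1) * polar Q (f i) x) • e i +
      ((a i - 1) * polar Q (e i) x) • f i)) :
    (∃ g : ↥(Cfsg.isometryGroup F ⇑Q), g ∈ Cfsg.Omega F ⇑Q ∧
      ((g : GL ι F) : Matrix ι ι F) = M) ↔ IsSquare (∏ i, a i) := by
  classical
  set l : List (Fin n) := (Finset.univ : Finset (Fin n)).toList with hl
  set L : List (ι → F) := l.flatMap (fun i => [e i - a i • f i, e i - f i]) with hL
  have hq1 : ∀ i, Q (e i - f i) = -1 := by
    intro i
    rw [sub_eq_add_neg, QuadraticMap.map_add Q, QuadraticMap.map_neg, polar_neg_right, hef.qe,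
      hef.qf, hef.ef, if_pos rfl]
    ring
  have hq2 : ∀ i, Q (e i - a i • f i) = -a i := by
    intro i
    rw [sub_eq_add_neg, ← neg_smul, QuadraticMap.map_add Q, QuadraticMap.map_smul,
      polar_smul_right, hef.qe, hef.qf, hef.ef, if_pos rfl, smul_eq_mul, smul_eq_mul]
    ring
  have hLne : ∀ v ∈ L, Q v ≠ 0 := by
    intro v hv
    rw [hL, List.mem_flatMap] at hv
    obtain ⟨i, _, hvi⟩ := hv
    simp only [List.mem_cons, List.mem_nil_iff, or_false] at hvi
    rcases hvi with rfl | rfl
    · rw [hq2]; exact neg_ne_zero.2 (ha i)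
    · rw [hq1]; exact neg_ne_zero.2 one_ne_zero
  have hMprod : M = (L.map (fun v => Cfsg.reflectionMatrix (⇑Q) v)).prod := by
    apply matrix_ext_mulVec
    intro x
    rw [hM x, hL, torus_flatMap_prod Q e f a l,
      torus_list_mulVec Q hef a ha l (Finset.nodup_toList _) x, hl, Finset.sum_map_toList]
  have hlen : Even L.length := by
    rw [hL]
    have : ∀ l' : List (Fin n),
        (l'.flatMap (fun i => [e i - a i • f i, e i - f i])).length = 2 * l'.length := by
      intro l'
      induction l' with
      | nil => simp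
      | cons i rest ih =>
        rw [List.flatMap_cons, List.length_append, ih]
        simp
        ring
    rw [this]
    exact even_two_mul _
  have hprod : (L.map (fun v => Q v)).prod = ∏ i, a i := by
    rw [hL, torus_flatMap_Q Q hef a l, hl]
    exact Finset.prod_map_toList _ _
  constructor
  · rintro ⟨g, hg, hgM⟩
    have := (mem_Omega_iff_of_list_all Q h2 hQ g L hLne (hgM.trans hMprod)).1 hg
    rw [hprod] at this
    exact this.2
  · intro h
    set g₀ : ↥(Cfsg.isometryGroup F ⇑Q) := (L.map (reflIso' Q)).prod with hg₀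
    have hcoe : ((g₀ : GL ι F) : Matrix ι ι F) =
        (L.map (fun v => Cfsg.reflectionMatrix (⇑Q) v)).prod := by
      rw [← coeMatHom_apply Q g₀, hg₀, map_list_prod, List.map_map]
      congr 1
      apply List.map_congr_left
      intro v hv
      rw [Function.comp_apply, coeMatHom_apply, reflIso'_coe Q (hLne v hv)]
    refine ⟨g₀, ?_, hcoe.trans hMprod.symm⟩
    rw [mem_Omega_iff_of_list_all Q h2 hQ g₀ L hLne hcoe, hprod]
    exact ⟨hlen, h⟩

end Criterion

end Cfsg.Agent.Helper43
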