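import Mathlib
import Cfsg.Agent.Lib.Helper43.NormSurj

/-!
# Abstract ring-theoretic part of "semisimple conjugacy in Sp is controlled by GL"
-/

set_option autoImplicit false

namespace Cfsg.Agent.Helper43.SympConj

/-- an anti-involution of a ring -/
structure AntiInv (R : Type*) [Ring R] where
  dag : R → R
  add : ∀ x y, dag (x + y) = dag x + dag y
  mul : ∀ x y, dag (x * y) = dag y * dag x
  one : dag 1 = 1
  invol : ∀ x, dag (dag x) = x

section basics

variable {R : Type*} [Ring R] (D : AntiInv R)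

theorem AntiInv.zero : D.dag 0 = 0 := by
  have := D.add 0 0
  rw [add_zero] at this
  exact left_eq_add.mp this

theorem AntiInv.neg (x : R) : D.dag (-x) = -D.dag x := by
  have := D.add x (-x)
  rw [add_neg_cancel, D.zero] at this
  exact (neg_eq_of_add_eq_zero_right this.symm).symm

theorem AntiInv.sub (x y : R) : D.dag (x - y) = D.dag x - D.dag y := by
  rw [sub_eq_add_neg, D.add, D.neg, sub_eq_add_neg]

theorem AntiInv.pow (x : R) (n : ℕ) : D.dag (x ^ n) = D.dag x ^ n := by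
  induction n with
  | zero => simp [D.one]
  | succ n ih => rw [pow_succ, D.mul, ih, pow_succ']

/-- Witt property: `dag`-fixed idempotents conjugate under units are conjugate under isometries -/
def WittProp : Prop :=
  ∀ e f g gi : R, e * e = e → D.dag e = e → f * f = f → D.dag f = f → g * gi = 1 → gi * g = 1 →
    f = g * e * gi → ∃ T : R, D.dag T * T = 1 ∧ T * D.dag T = 1 ∧ T * e = f * T

/-- `H = g† g` commutes with `A` when `A` and `g A g⁻¹` are isometries -/
theorem H_comm (A Ai g gi : R) (hA : A * Ai = 1) (hA' : Ai * A = 1) (hdA : D.dag A = Ai)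
    (hg : g * gi = 1) (hg' : gi * g = 1) (hB : D.dag (g * A * gi) = g * Ai * gi) :
    (D.dag g * g) * A = A * (D.dag g * g) := by
  have h1 : D.dag gi * Ai * D.dag g = g * Ai * gi := by
    rw [← hB, D.mul, D.mul, hdA, mul_assoc]
  have h0 : D.dag g * D.dag gi = 1 := by rw [← D.mul, hg', D.one]
  have h2 : Ai * (D.dag g * g) = (D.dag g * g) * Ai := by
    calc Ai * (D.dag g * g) = (D.dag g * D.dag gi) * Ai * (D.dag g * g) := by rw [h0, one_mul]
      _ = D.dag g * (D.dag gi * Ai * D.dag g) * g := by simp only [mul_assoc]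
      _ = D.dag g * (g * Ai * gi) * g := by rw [h1]
      _ = (D.dag g * g) * Ai * (gi * g) := by simp only [mul_assoc]
      _ = (D.dag g * g) * Ai := by rw [hg', mul_one]
  calc (D.dag g * g) * A = (A * Ai) * (D.dag g * g) * A := by rw [hA, one_mul]
    _ = A * (Ai * (D.dag g * g)) * A := by simp only [mul_assoc]
    _ = A * ((D.dag g * g) * Ai) * A := by rw [h2]
    _ = A * (D.dag g * g) * (Ai * A) := by simp only [mul_assoc]
    _ = A * (D.dag g * g) := by rw [hA', mul_one]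

/-- the Fitting idempotent `(X - ε)^n` of an isometry is `dag`-fixed -/
theorem dag_fixed (X Xi : R) (hX : X * Xi = 1) (hX' : Xi * X = 1) (hd : D.dag X = Xi)
    (ε : R) (hεc : ∀ x, ε * x = x * ε) (hε2 : ε * ε = 1) (hdε : D.dag ε = ε) (n : ℕ)
    (hid : (X - ε) ^ n * (X - ε) ^ n = (X - ε) ^ n) :
    D.dag ((X - ε) ^ n) = (X - ε) ^ n := by
  set a := (X - ε) ^ n with ha
  set w₀ := -(ε * Xi) with hw₀
  set v₀ := -(ε * X) with hv₀
  have hXXi : Commute X Xi := by rw [Commute, SemiconjBy, hX, hX']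
  have hεX : Commute ε X := hεc X
  have hεXi : Commute ε Xi := hεc Xi
  have hwv : w₀ * v₀ = 1 := by
    rw [hw₀, hv₀, neg_mul_neg]
    calc ε * Xi * (ε * X) = (ε * ε) * (Xi * X) := by
          rw [mul_assoc, ← mul_assoc Xi, ← hεc Xi]; simp only [mul_assoc]
      _ = 1 := by rw [hε2, hX', mul_one]
  have hcomm1 : Commute w₀ (X - ε) := by
    rw [hw₀]
    apply Commute.neg_left
    apply Commute.mul_left
    · exact Commute.sub_right hεX (Commute.refl ε)
    · exact Commute.sub_right hXXi.symm (hεXi.symm)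
  have hcomm2 : Commute v₀ (X - ε) := by
    rw [hv₀]
    apply Commute.neg_left
    apply Commute.mul_left
    · exact Commute.sub_right hεX (Commute.refl ε)
    · exact Commute.sub_right (Commute.refl X) (hεX.symm)
  have hdX : D.dag (X - ε) = w₀ * (X - ε) := by
    rw [D.sub, hd, hdε, hw₀, neg_mul, mul_sub, mul_assoc, hX', mul_one, mul_assoc ε Xi ε,
      ← hεc Xi, ← mul_assoc, hε2, one_mul]
    abel
  have hda : D.dag a = w₀ ^ n * a := by
    rw [ha, D.pow, hdX, hcomm1.mul_pow]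
  have hwa : Commute (w₀ ^ n) a := (hcomm1.pow_pow n n)
  have hva : Commute (v₀ ^ n) a := (hcomm2.pow_pow n n)
  have hwvn : w₀ ^ n * v₀ ^ n = 1 := by
    have hc : Commute w₀ v₀ := by
      rw [hw₀, hv₀]
      apply Commute.neg_left; apply Commute.neg_right
      apply Commute.mul_left
      · apply Commute.mul_right (Commute.refl ε) hεX
      · apply Commute.mul_right hεXi.symm hXXi.symm
    rw [← hc.mul_pow, hwv, one_pow]
  have hvwn : v₀ ^ n * w₀ ^ n = 1 := by
    have hc : Commute v₀ w₀ := by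
      rw [hw₀, hv₀]
      apply Commute.neg_left; apply Commute.neg_right
      apply Commute.mul_left
      · apply Commute.mul_right (Commute.refl ε) hεXi
      · apply Commute.mul_right hεX.symm hXXi
    have hvw : v₀ * w₀ = 1 := by rw [hc.eq, hwv]
    rw [← hc.mul_pow, hvw, one_pow]
  set a' := D.dag a with ha'
  have hida' : a' * a' = a' := by rw [ha', ← D.mul, hid]
  have h1 : a' * a = a' := by
    rw [hda, mul_assoc, hid]
  have h2 : a = v₀ ^ n * a' := by
    rw [hda, ← mul_assoc, hvwn, one_mul]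
  have h3 : a * a' = a := by
    calc a * a' = v₀ ^ n * a' * a' := by rw [← h2]
      _ = v₀ ^ n * (a' * a') := by rw [mul_assoc]
      _ = a := by rw [hida', ← h2]
  have h4 : a * a' = a' := by
    rw [hda, ← mul_assoc, ← hwa.eq, mul_assoc, hid]
  calc a' = a * a' := h4.symm
    _ = a := h3

/-- one round: kill the `e`-part of `H = g† g` by an element commuting with `A` -/
theorem round (hZ : WittProp D) (A g gi e ε : R) (hεc : ∀ x, ε * x = x * ε)
    (hg : g * gi = 1) (hg' : gi * g = 1)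
    (he : e * e = e) (hde : D.dag e = e) (hAe : A * e = ε * e) (heA : e * A = ε * e)
    (hf : D.dag (g * e * gi) = g * e * gi) :
    ∃ c ci : R, c * ci = 1 ∧ ci * c = 1 ∧ c * A = A * c ∧ ci * A = A * ci ∧
      D.dag (g * ci) * (g * ci) = e + (1 - e) * (D.dag g * g) := by
  set H := D.dag g * g with hH
  set f := g * e * gi with hfdef
  have hff : f * f = f := by
    rw [hfdef]
    calc g * e * gi * (g * e * gi) = g * e * (gi * g) * e * gi := by simp only [mul_assoc]
      _ = g * (e * e) * gi := by rw [hg', mul_one]; simp only [mul_assoc]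
      _ = g * e * gi := by rw [he]
  obtain ⟨T, hT1, hT2, hTe⟩ := hZ e f g gi he hde hff hf hg hg' rfl
  set Ti := D.dag T with hTi
  have hdTi : D.dag Ti = T := D.invol T
  have heTi : e * Ti = Ti * f := by
    calc e * Ti = (Ti * T) * e * Ti := by rw [hT1, one_mul]
      _ = Ti * (T * e) * Ti := by simp only [mul_assoc]
      _ = Ti * (f * T) * Ti := by rw [hTe]
      _ = Ti * f * (T * Ti) := by simp only [mul_assoc]
      _ = Ti * f := by rw [hT2, mul_one]
  have hfg : f * g = g * e := by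
    rw [hfdef, mul_assoc, hg', mul_one]
  have hgif : gi * f = e * gi := by
    rw [hfdef, ← mul_assoc, ← mul_assoc, hg', one_mul]
  set c₁ := Ti * g * e with hc₁
  set d₁ := e * gi * T with hd₁
  have hec₁ : e * c₁ = c₁ := by
    rw [hc₁]
    calc e * (Ti * g * e) = (e * Ti) * g * e := by simp only [mul_assoc]
      _ = Ti * (f * g) * e := by rw [heTi]; simp only [mul_assoc]
      _ = Ti * g * (e * e) := by rw [hfg]; simp only [mul_assoc]
      _ = Ti * g * e := by rw [he]
  have hc₁e : c₁ * e = c₁ := by rw [hc₁, mul_assoc, he]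
  have hed₁ : e * d₁ = d₁ := by rw [hd₁, ← mul_assoc, ← mul_assoc, he]
  have hd₁e : d₁ * e = d₁ := by
    rw [hd₁]
    calc e * gi * T * e = e * gi * (T * e) := by simp only [mul_assoc]
      _ = e * (gi * f) * T := by rw [hTe]; simp only [mul_assoc]
      _ = (e * e) * gi * T := by rw [hgif]; simp only [mul_assoc]
      _ = e * gi * T := by rw [he]
  have hc₁d₁ : c₁ * d₁ = e := by
    rw [hc₁, hd₁]
    calc Ti * g * e * (e * gi * T) = Ti * (g * (e * e) * gi) * T := by simp only [mul_assoc]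
      _ = Ti * f * T := by rw [he]
      _ = Ti * (f * T) := by rw [mul_assoc]
      _ = (Ti * T) * e := by rw [← hTe, mul_assoc]
      _ = e := by rw [hT1, one_mul]
  have hd₁c₁ : d₁ * c₁ = e := by
    rw [hc₁, hd₁]
    calc e * gi * T * (Ti * g * e) = e * gi * (T * Ti) * g * e := by simp only [mul_assoc]
      _ = e * (gi * g) * e := by rw [hT2, mul_one]; simp only [mul_assoc]
      _ = e := by rw [hg', mul_one, he]
  have hc₁0 : c₁ * (1 - e) = 0 := by rw [mul_sub, mul_one, hc₁e, sub_self]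
  have h0c₁ : (1 - e) * c₁ = 0 := by rw [sub_mul, one_mul, hec₁, sub_self]
  have hd₁0 : d₁ * (1 - e) = 0 := by rw [mul_sub, mul_one, hd₁e, sub_self]
  have h0d₁ : (1 - e) * d₁ = 0 := by rw [sub_mul, one_mul, hed₁, sub_self]
  have h1e : (1 - e) * (1 - e) = 1 - e := by
    rw [mul_sub, mul_one, sub_mul, one_mul, he, sub_self, sub_zero]
  have he1 : e * (1 - e) = 0 := by rw [mul_sub, mul_one, he, sub_self]
  have h1ee : (1 - e) * e = 0 := by rw [sub_mul, one_mul, he, sub_self]
  have hcci : (c₁ + (1 - e)) * (d₁ + (1 - e)) = 1 := by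
    rw [add_mul, mul_add, mul_add, hc₁d₁, hc₁0, h0d₁, h1e]; abel
  have hcic : (d₁ + (1 - e)) * (c₁ + (1 - e)) = 1 := by
    rw [add_mul, mul_add, mul_add, hd₁c₁, hd₁0, h0c₁, h1e]; abel
  have hc₁A : c₁ * A = ε * c₁ := by
    calc c₁ * A = Ti * g * (e * A) := by rw [hc₁]; simp only [mul_assoc]
      _ = Ti * g * (ε * e) := by rw [heA]
      _ = ε * c₁ := by
        rw [hc₁, ← mul_assoc (Ti * g), ← hεc (Ti * g)]; simp only [mul_assoc]
  have hAc₁ : A * c₁ = ε * c₁ := by
    calc A * c₁ = A * (e * c₁) := by rw [hec₁]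
      _ = (A * e) * c₁ := by rw [mul_assoc]
      _ = ε * (e * c₁) := by rw [hAe, mul_assoc]
      _ = ε * c₁ := by rw [hec₁]
  have hd₁A : d₁ * A = ε * d₁ := by
    calc d₁ * A = (d₁ * e) * A := by rw [hd₁e]
      _ = d₁ * (e * A) := by rw [mul_assoc]
      _ = d₁ * (ε * e) := by rw [heA]
      _ = ε * (d₁ * e) := by rw [← mul_assoc, ← hεc d₁, mul_assoc]
      _ = ε * d₁ := by rw [hd₁e]
  have hAd₁ : A * d₁ = ε * d₁ := by
    calc A * d₁ = A * (e * d₁) := by rw [hed₁]
      _ = (A * e) * d₁ := by rw [mul_assoc]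
      _ = ε * (e * d₁) := by rw [hAe, mul_assoc]
      _ = ε * d₁ := by rw [hed₁]
  have h1eA : (1 - e) * A = A * (1 - e) := by
    rw [sub_mul, one_mul, mul_sub, mul_one, heA, hAe]
  -- H commutes with e
  have hHe : e * H = H * e := by
    have h1 : D.dag gi * e * D.dag g = f := by
      have : D.dag f = D.dag gi * e * D.dag g := by rw [hfdef, D.mul, D.mul, hde, mul_assoc]
      rw [← this, hf]
    have h0 : D.dag g * D.dag gi = 1 := by rw [← D.mul, hg', D.one]
    calc e * H = (D.dag g * D.dag gi) * e * (D.dag g * g) := by rw [h0, one_mul]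
      _ = D.dag g * (D.dag gi * e * D.dag g) * g := by simp only [mul_assoc]
      _ = D.dag g * f * g := by rw [h1]
      _ = (D.dag g * g) * e * (gi * g) := by rw [hfdef]; simp only [mul_assoc]
      _ = H * e := by rw [hg', mul_one]
  have hdc₁ : D.dag c₁ = e * D.dag g * T := by
    rw [hc₁, D.mul, D.mul, hde, hdTi, mul_assoc]
  have hdc₁c₁ : D.dag c₁ * c₁ = e * H * e := by
    rw [hdc₁, hc₁]
    calc e * D.dag g * T * (Ti * g * e) = e * D.dag g * (T * Ti) * g * e := by
          simp only [mul_assoc]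
      _ = e * (D.dag g * g) * e := by rw [hT2, mul_one]; simp only [mul_assoc]
  have hd1e : D.dag (1 - e) = 1 - e := by rw [D.sub, D.one, hde]
  have hdc₁0 : D.dag c₁ * (1 - e) = 0 := by
    have := congrArg D.dag h0c₁
    rw [D.mul, hd1e, D.zero] at this
    exact this
  set c := c₁ + (1 - e) with hc
  set ci := d₁ + (1 - e) with hci
  have hdcc : D.dag c * c = e * H * e + (1 - e) := by
    rw [hc, D.add, hd1e, add_mul, mul_add, mul_add, hdc₁c₁, hdc₁0, h0c₁, h1e]; abel
  set K := e + (1 - e) * H with hK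
  have hMK : (e * H * e + (1 - e)) * K = H := by
    rw [hK, add_mul, mul_add, mul_add]
    have t1 : e * H * e * e = e * H := by rw [mul_assoc, he, mul_assoc, ← hHe, ← mul_assoc, he]
    have t2 : e * H * e * ((1 - e) * H) = 0 := by
      rw [mul_assoc (e * H), ← mul_assoc e (1 - e), he1, zero_mul, mul_zero]
    have t3 : (1 - e) * e = 0 := h1ee
    have t4 : (1 - e) * ((1 - e) * H) = (1 - e) * H := by rw [← mul_assoc, h1e]
    rw [t1, t2, t3, t4, sub_mul, one_mul]; abel
  have hcK : c * K = K * c := by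
    have l1 : c * K = c₁ + (1 - e) * H := by
      rw [hc, hK, add_mul, mul_add, mul_add, hc₁e, ← mul_assoc c₁, hc₁0, zero_mul, h1ee,
        ← mul_assoc, h1e]; abel
    have l2 : K * c = c₁ + (1 - e) * H := by
      rw [hc, hK, add_mul, mul_add, mul_add, hec₁, he1]
      have t1 : (1 - e) * H * c₁ = 0 := by
        calc (1 - e) * H * c₁ = (1 - e) * H * (e * c₁) := by rw [hec₁]
          _ = (1 - e) * (H * e) * c₁ := by simp only [mul_assoc]
          _ = ((1 - e) * e) * H * c₁ := by rw [← hHe]; simp only [mul_assoc]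
          _ = 0 := by rw [h1ee, zero_mul, zero_mul]
      have t2 : (1 - e) * H * (1 - e) = (1 - e) * H := by
        have : H * (1 - e) = (1 - e) * H := by
          rw [mul_sub, mul_one, sub_mul, one_mul, hHe]
        rw [mul_assoc, this, ← mul_assoc, h1e]
      rw [t1, t2]; abel
    rw [l1, l2]
  refine ⟨c, ci, hcci, hcic, ?_, ?_, ?_⟩
  · rw [hc, add_mul, mul_add, hc₁A, hAc₁, h1eA]
  · rw [hci, add_mul, mul_add, hd₁A, hAd₁, h1eA]
  · have hdci : D.dag ci * D.dag c = 1 := by rw [← D.mul, hcci, D.one]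
    calc D.dag (g * ci) * (g * ci) = D.dag ci * H * ci := by
          rw [D.mul, hH]; simp only [mul_assoc]
      _ = D.dag ci * ((e * H * e + (1 - e)) * K) * ci := by rw [hMK]
      _ = D.dag ci * (D.dag c * c * K) * ci := by rw [hdcc]
      _ = (D.dag ci * D.dag c) * (c * K) * ci := by simp only [mul_assoc]
      _ = K * (c * ci) := by rw [hdci, one_mul, hcK, mul_assoc]
      _ = K := by rw [hcci, mul_one]

end basics

section corner

universe u

/-- corner version of norm surjectivity -/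
theorem corner_norm {S : Type u} [CommRing S] [Finite S] (σ : S →+* S) (hσ : ∀ x, σ (σ x) = x)
    (f : S) (hff : f * f = f) (hσf : σ f = f) (θ v : S) (hθ : (θ - σ θ) * v = f)
    (r : S) (hr : IsUnit r) (hfix : σ r = r) (hr1 : r * (1 - f) = 1 - f) :
    ∃ s, σ s * s = r := by
  classical
  set I : Ideal S := Ideal.span {1 - f} with hI
  have hle : I ≤ I.comap σ := by
    intro a ha
    rw [hI, Ideal.mem_span_singleton'] at ha
    obtain ⟨c, rfl⟩ := ha
    rw [Ideal.mem_comap, hI, Ideal.mem_span_singleton']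
    exact ⟨σ c, by rw [map_mul, map_sub, map_one, hσf]⟩
  let σ' : S ⧸ I →+* S ⧸ I := Ideal.quotientMap I σ hle
  have hσ'mk : ∀ x, σ' (Ideal.Quotient.mk I x) = Ideal.Quotient.mk I (σ x) := fun x =>
    Ideal.quotientMap_mk
  haveI : Finite (S ⧸ I) := Finite.of_surjective _ Ideal.Quotient.mk_surjective
  have hσ' : ∀ x, σ' (σ' x) = x := by
    intro x
    obtain ⟨x, rfl⟩ := Ideal.Quotient.mk_surjective x
    rw [hσ'mk, hσ'mk, hσ]
  have hf1 : Ideal.Quotient.mk I f = 1 := by
    have : Ideal.Quotient.mk I (1 - f) = 0 :=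
      Ideal.Quotient.eq_zero_iff_mem.2 (Ideal.subset_span rfl)
    rw [map_sub, map_one, sub_eq_zero] at this
    exact this.symm
  have hθ' : IsUnit (Ideal.Quotient.mk I θ - σ' (Ideal.Quotient.mk I θ)) := by
    apply IsUnit.of_mul_eq_one (Ideal.Quotient.mk I v)
    rw [hσ'mk, ← map_sub, ← map_mul, hθ, hf1]
  obtain ⟨s', hs'⟩ := NormSurj.exists_norm_eq σ' hσ' (Ideal.Quotient.mk I θ) hθ'
    (Ideal.Quotient.mk I r) (hr.map _) (by rw [hσ'mk, hfix])
  obtain ⟨s₀, rfl⟩ := Ideal.Quotient.mk_surjective s'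
  have hmem : σ s₀ * s₀ - r ∈ I := by
    rw [← Ideal.Quotient.eq_zero_iff_mem, map_sub, map_mul, ← hσ'mk, hs', sub_self]
  rw [hI, Ideal.mem_span_singleton'] at hmem
  obtain ⟨c, hc⟩ := hmem
  refine ⟨f * s₀ + (1 - f), ?_⟩
  rw [map_add, map_mul, map_sub, map_one, hσf]
  linear_combination (-f) * hc - hr1 + (σ s₀ * s₀ - c - σ s₀ - s₀ + 1) * hff

end corner

section assembly

variable {R : Type*} [Ring R] (D : AntiInv R)

theorem conj_pow (g gi x : R) (hg : g * gi = 1) (hg' : gi * g = 1) (n : ℕ) :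
    g * x ^ n * gi = (g * x * gi) ^ n := by
  induction n with
  | zero => simp [hg]
  | succ n ih =>
    rw [pow_succ, pow_succ, ← ih]
    calc g * (x ^ n * x) * gi = g * x ^ n * 1 * x * gi := by simp only [mul_assoc, one_mul]
      _ = g * x ^ n * (gi * g) * x * gi := by rw [hg']
      _ = g * x ^ n * gi * (g * x * gi) := by simp only [mul_assoc]

theorem idem_compl (a : R) (ha : a * a = a) : (1 - a) * (1 - a) = 1 - a := by
  rw [mul_sub, mul_one, sub_mul, one_mul, ha, sub_self, sub_zero]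

/-- norm surjectivity in a commutative `dag`-closed finite subring, corner version -/
theorem exists_norm_subring_corner [Finite R] (S : Subring R)
    (hcomm : ∀ x ∈ S, ∀ y ∈ S, x * y = y * x) (hstar : ∀ x ∈ S, D.dag x ∈ S)
    (f : R) (hfS : f ∈ S) (hff : f * f = f) (hdf : D.dag f = f)
    (θ v : R) (hθS : θ ∈ S) (hvS : v ∈ S) (hθ : (θ - D.dag θ) * v = f)
    (H : R) (hHS : H ∈ S) (hH : IsUnit H) (hHd : D.dag H = H) (hH1 : H * (1 - f) = 1 - f) :
    ∃ c ∈ S, ∃ ci ∈ S, c * ci = 1 ∧ ci * c = 1 ∧ D.dag c * c = H := by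
  classical
  letI : CommRing S := { (inferInstance : Ring S) with
    mul_comm := fun x y => Subtype.ext (hcomm x.1 x.2 y.1 y.2) }
  let σ : S →+* S :=
    { toFun := fun x => ⟨D.dag x.1, hstar x.1 x.2⟩
      map_one' := Subtype.ext D.one
      map_mul' := fun x y => Subtype.ext (by
        show D.dag (x.1 * y.1) = D.dag x.1 * D.dag y.1
        rw [D.mul, hcomm _ (hstar _ y.2) _ (hstar _ x.2)])
      map_zero' := Subtype.ext D.zero
      map_add' := fun x y => Subtype.ext (D.add x.1 y.1) }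
  have hσ : ∀ x, σ (σ x) = x := fun x => Subtype.ext (D.invol x.1)
  have hunit : ∀ x : S, IsUnit (x : R) → IsUnit x := by
    intro x hx
    have hinj : Function.Injective (fun y : S => x * y) := by
      intro y z hyz
      have h1 : (x : R) * y = x * z := congrArg Subtype.val hyz
      exact Subtype.ext (hx.mul_left_cancel h1)
    obtain ⟨y, hy⟩ := (Finite.injective_iff_surjective.1 hinj) 1
    exact IsUnit.of_mul_eq_one y hy
  obtain ⟨s, hs⟩ := corner_norm σ hσ ⟨f, hfS⟩ (Subtype.ext hff) (Subtype.ext hdf) ⟨θ, hθS⟩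
    ⟨v, hvS⟩ (Subtype.ext hθ) ⟨H, hHS⟩ (hunit _ hH) (Subtype.ext hHd) (Subtype.ext hH1)
  have hsu : IsUnit s := by
    have : IsUnit (σ s * s) := by rw [hs]; exact hunit _ hH
    exact isUnit_of_mul_isUnit_right this
  obtain ⟨su, rfl⟩ := hsu
  refine ⟨su.1.1, su.1.2, (su⁻¹ : Sˣ).1.1, (su⁻¹ : Sˣ).1.2, ?_, ?_, congrArg Subtype.val hs⟩
  · have := congrArg Subtype.val (su.mul_inv)
    exact this
  · have := congrArg Subtype.val (su.inv_mul)
    exact this

/-- **abstract main theorem**: isometries `A` and `g A g⁻¹`, with Fitting data at the eigenvalues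
`±1`, are conjugate under an isometry. -/
theorem main_abs [Finite R] (hZ : WittProp D) (A Ai g gi : R) (hA : A * Ai = 1) (hA' : Ai * A = 1)
    (hdA : D.dag A = Ai) (hg : g * gi = 1) (hg' : gi * g = 1)
    (hB : D.dag (g * A * gi) = g * Ai * gi)
    (n₁ n₂ : ℕ) (hn₁ : 1 ≤ n₁) (hn₂ : 1 ≤ n₂)
    (hi₁ : (A - 1) ^ n₁ * (A - 1) ^ n₁ = (A - 1) ^ n₁)
    (hi₂ : (A + 1) ^ n₂ * (A + 1) ^ n₂ = (A + 1) ^ n₂)
    (hk₁ : (A - 1) * (1 - (A - 1) ^ n₁) = 0) (hk₂ : (A + 1) * (1 - (A + 1) ^ n₂) = 0) :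
    ∃ u ui : R, u * ui = 1 ∧ ui * u = 1 ∧ D.dag u * u = 1 ∧ u * A = (g * A * gi) * u := by
  classical
  set B := g * A * gi with hBdef
  set Bi := g * Ai * gi with hBidef
  have hBBi : B * Bi = 1 := by
    rw [hBdef, hBidef]
    calc g * A * gi * (g * Ai * gi) = g * A * (gi * g) * Ai * gi := by simp only [mul_assoc]
      _ = g * (A * Ai) * gi := by rw [hg', mul_one]; simp only [mul_assoc]
      _ = 1 := by rw [hA, mul_one, hg]
  have hBiB : Bi * B = 1 := by
    rw [hBdef, hBidef]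
    calc g * Ai * gi * (g * A * gi) = g * Ai * (gi * g) * A * gi := by simp only [mul_assoc]
      _ = g * (Ai * A) * gi := by rw [hg', mul_one]; simp only [mul_assoc]
      _ = 1 := by rw [hA', mul_one, hg]
  set a₁ := (A - 1) ^ n₁ with ha₁
  set a₂ := (A + 1) ^ n₂ with ha₂
  set e₁ := 1 - a₁ with he₁
  set e₂ := 1 - a₂ with he₂
  have hone_c : ∀ x : R, (1 : R) * x = x * 1 := fun x => by rw [one_mul, mul_one]
  have hneg_c : ∀ x : R, (-1 : R) * x = x * (-1) := fun x => by simp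
  -- commutation facts
  have hcA1 : Commute A (A - 1) := Commute.sub_right (Commute.refl A) (Commute.one_right A)
  have hcA2 : Commute A (A + 1) := Commute.add_right (Commute.refl A) (Commute.one_right A)
  have hcAa₁ : Commute A a₁ := hcA1.pow_right n₁
  have hcAa₂ : Commute A a₂ := hcA2.pow_right n₂
  have hcAe₁ : Commute A e₁ := Commute.sub_right (Commute.one_right A) hcAa₁
  have hcAe₂ : Commute A e₂ := Commute.sub_right (Commute.one_right A) hcAa₂
  -- dag-fixedness
  have hda₁ : D.dag a₁ = a₁ := by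
    have := dag_fixed D A Ai hA hA' hdA 1 hone_c (one_mul 1) D.one n₁ hi₁
    exact this
  have hda₂ : D.dag a₂ = a₂ := by
    have h := dag_fixed D A Ai hA hA' hdA (-1) hneg_c (by simp) (by rw [D.neg, D.one]) n₂
    simp only [sub_neg_eq_add] at h
    exact h hi₂
  have hde₁ : D.dag e₁ = e₁ := by rw [he₁, D.sub, D.one, hda₁]
  have hde₂ : D.dag e₂ = e₂ := by rw [he₂, D.sub, D.one, hda₂]
  have hee₁ : e₁ * e₁ = e₁ := idem_compl a₁ hi₁
  have hee₂ : e₂ * e₂ = e₂ := idem_compl a₂ hi₂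
  have hAe₁ : A * e₁ = 1 * e₁ := by
    rw [one_mul]
    have : (A - 1) * e₁ = 0 := hk₁
    rw [sub_mul, one_mul, sub_eq_zero] at this
    exact this
  have he₁A : e₁ * A = 1 * e₁ := by rw [← hcAe₁.eq, hAe₁]
  have hAe₂ : A * e₂ = (-1) * e₂ := by
    have : (A + 1) * e₂ = 0 := hk₂
    rw [add_mul, one_mul] at this
    rw [neg_one_mul]
    exact eq_neg_of_add_eq_zero_left this
  have he₂A : e₂ * A = (-1) * e₂ := by rw [← hcAe₂.eq, hAe₂]
  -- conjugated idempotents are dag-fixed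
  have hconj_sub : ∀ x : R, g * (1 - x) * gi = 1 - g * x * gi := by
    intro x
    rw [mul_sub, mul_one, sub_mul, hg]
  have hB1 : g * (A - 1) * gi = B - 1 := by rw [mul_sub, mul_one, sub_mul, hg]
  have hB2 : g * (A + 1) * gi = B + 1 := by rw [mul_add, mul_one, add_mul, hg]
  have hdB : D.dag B = Bi := hB
  have hf₁ : D.dag (g * e₁ * gi) = g * e₁ * gi := by
    rw [he₁, hconj_sub, ha₁, conj_pow g gi _ hg hg', hB1, D.sub, D.one]
    congr 1
    apply dag_fixed D B Bi hBBi hBiB hdB 1 hone_c (one_mul 1) D.one n₁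
    rw [← hB1, ← conj_pow g gi _ hg hg']
    calc g * (A - 1) ^ n₁ * gi * (g * (A - 1) ^ n₁ * gi)
        = g * (A - 1) ^ n₁ * (gi * g) * (A - 1) ^ n₁ * gi := by simp only [mul_assoc]
      _ = g * ((A - 1) ^ n₁ * (A - 1) ^ n₁) * gi := by rw [hg', mul_one]; simp only [mul_assoc]
      _ = g * (A - 1) ^ n₁ * gi := by rw [hi₁]
  have hf₂ : D.dag (g * e₂ * gi) = g * e₂ * gi := by
    rw [he₂, hconj_sub, ha₂, conj_pow g gi _ hg hg', hB2, D.sub, D.one]
    congr 1
    have h := dag_fixed D B Bi hBBi hBiB hdB (-1) hneg_c (by simp) (by rw [D.neg, D.one]) n₂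
    simp only [sub_neg_eq_add] at h
    apply h
    rw [← hB2, ← conj_pow g gi _ hg hg']
    calc g * (A + 1) ^ n₂ * gi * (g * (A + 1) ^ n₂ * gi)
        = g * (A + 1) ^ n₂ * (gi * g) * (A + 1) ^ n₂ * gi := by simp only [mul_assoc]
      _ = g * ((A + 1) ^ n₂ * (A + 1) ^ n₂) * gi := by rw [hg', mul_one]; simp only [mul_assoc]
      _ = g * (A + 1) ^ n₂ * gi := by rw [hi₂]
  -- round 1
  obtain ⟨c₁, c₁i, hc₁1, hc₁2, hc₁A, hc₁iA, hH₁⟩ :=
    round D hZ A g gi e₁ 1 hone_c hg hg' hee₁ hde₁ hAe₁ he₁A hf₁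
  set g₁ := g * c₁i with hg₁
  set g₁i := c₁ * gi with hg₁i
  have hg₁1 : g₁ * g₁i = 1 := by
    rw [hg₁, hg₁i]
    calc g * c₁i * (c₁ * gi) = g * (c₁i * c₁) * gi := by simp only [mul_assoc]
      _ = 1 := by rw [hc₁2, mul_one, hg]
  have hg₁2 : g₁i * g₁ = 1 := by
    rw [hg₁, hg₁i]
    calc c₁ * gi * (g * c₁i) = c₁ * (gi * g) * c₁i := by simp only [mul_assoc]
      _ = 1 := by rw [hg', mul_one, hc₁1]
  have hcc₁e₂ : Commute c₁ e₂ := by
    have h1 : Commute c₁ A := hc₁A
    exact Commute.sub_right (Commute.one_right c₁)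
      ((Commute.add_right h1 (Commute.one_right c₁)).pow_right n₂)
  have hcc₁ie₂ : Commute c₁i e₂ := by
    have h1 : Commute c₁i A := hc₁iA
    exact Commute.sub_right (Commute.one_right c₁i)
      ((Commute.add_right h1 (Commute.one_right c₁i)).pow_right n₂)
  have hg₁e₂ : g₁ * e₂ * g₁i = g * e₂ * gi := by
    rw [hg₁, hg₁i]
    calc g * c₁i * e₂ * (c₁ * gi) = g * (c₁i * e₂) * c₁ * gi := by simp only [mul_assoc]
      _ = g * (e₂ * c₁i) * c₁ * gi := by rw [hcc₁ie₂.eq]
      _ = g * e₂ * (c₁i * c₁) * gi := by simp only [mul_assoc]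
      _ = g * e₂ * gi := by rw [hc₁2, mul_one]
  have hf₂' : D.dag (g₁ * e₂ * g₁i) = g₁ * e₂ * g₁i := by rw [hg₁e₂, hf₂]
  -- round 2
  obtain ⟨c₂, c₂i, hc₂1, hc₂2, hc₂A, hc₂iA, hH₂⟩ :=
    round D hZ A g₁ g₁i e₂ (-1) hneg_c hg₁1 hg₁2 hee₂ hde₂ hAe₂ he₂A hf₂'
  set g₂ := g₁ * c₂i with hg₂
  set g₂i := c₂ * g₁i with hg₂i
  have hg₂1 : g₂ * g₂i = 1 := by
    rw [hg₂, hg₂i]
    calc g₁ * c₂i * (c₂ * g₁i) = g₁ * (c₂i * c₂) * g₁i := by simp only [mul_assoc]
      _ = 1 := by rw [hc₂2, mul_one, hg₁1]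
  have hg₂2 : g₂i * g₂ = 1 := by
    rw [hg₂, hg₂i]
    calc c₂ * g₁i * (g₁ * c₂i) = c₂ * (g₁i * g₁) * c₂i := by simp only [mul_assoc]
      _ = 1 := by rw [hg₁2, mul_one, hc₂1]
  -- g₂ still conjugates A to B
  have hg₂A : g₂ * A = B * g₂ := by
    rw [hg₂, hg₁, hBdef]
    calc g * c₁i * c₂i * A = g * A * (c₁i * c₂i) := by
          rw [mul_assoc, mul_assoc, mul_assoc, hc₂iA, ← mul_assoc c₁i, hc₁iA]
          simp only [mul_assoc]
      _ = g * A * gi * (g * c₁i * c₂i) := by
          have : gi * (g * c₁i * c₂i) = c₁i * c₂i := by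
            rw [← mul_assoc, ← mul_assoc, hg', one_mul]
          rw [mul_assoc (g * A), this]
  have hg₂B : g₂ * A * g₂i = B := by
    rw [hg₂A, mul_assoc, hg₂1, mul_one]
  have hg₂Ai : g₂ * Ai * g₂i = Bi := by
    have h1 : g₂ * Ai = Bi * g₂ := by
      calc g₂ * Ai = (Bi * B) * g₂ * Ai := by rw [hBiB, one_mul]
        _ = Bi * (B * g₂) * Ai := by simp only [mul_assoc]
        _ = Bi * (g₂ * A) * Ai := by rw [hg₂A]
        _ = Bi * g₂ * (A * Ai) := by simp only [mul_assoc]
        _ = Bi * g₂ := by rw [hA, mul_one]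
    rw [h1, mul_assoc, hg₂1, mul_one]
  set H := D.dag g * g with hH
  set H₂ := D.dag g₂ * g₂ with hH₂def
  have hH₂A : H₂ * A = A * H₂ :=
    H_comm D A Ai g₂ g₂i hA hA' hdA hg₂1 hg₂2 (by rw [hg₂B, hg₂Ai]; exact hB)
  have hHA : H * A = A * H := H_comm D A Ai g gi hA hA' hdA hg hg' hB
  -- formula for H₂
  set f := a₂ * a₁ with hf
  have hH₂f : H₂ = (1 - f) + f * H := by
    rw [hH₂, hH₁, hf, he₂, he₁]
    noncomm_ring
  have hca₁a₂ : Commute a₁ a₂ := by
    have : Commute (A - 1) (A + 1) :=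
      Commute.add_right (Commute.sub_left (Commute.refl A) (Commute.one_left A))
        (Commute.one_right _)
    exact this.pow_pow n₁ n₂
  have hff : f * f = f := by
    rw [hf]
    calc a₂ * a₁ * (a₂ * a₁) = a₂ * (a₁ * a₂) * a₁ := by simp only [mul_assoc]
      _ = a₂ * (a₂ * a₁) * a₁ := by rw [hca₁a₂.eq]
      _ = (a₂ * a₂) * (a₁ * a₁) := by simp only [mul_assoc]
      _ = a₂ * a₁ := by rw [hi₁, hi₂]
  have hdf : D.dag f = f := by rw [hf, D.mul, hda₁, hda₂, hca₁a₂.eq]
  have hcfA : Commute f A := (Commute.mul_left hcAa₂.symm hcAa₁.symm)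
  have hcHf : Commute H f := by
    have h1 : Commute H A := hHA
    have h2 : Commute H (A - 1) := Commute.sub_right h1 (Commute.one_right H)
    have h3 : Commute H (A + 1) := Commute.add_right h1 (Commute.one_right H)
    exact Commute.mul_right (h3.pow_right n₂) (h2.pow_right n₁)
  have hH₂1 : H₂ * (1 - f) = 1 - f := by
    rw [hH₂f, add_mul, idem_compl f hff]
    have h1 : H * (1 - f) = (1 - f) * H := by
      rw [mul_sub, mul_one, sub_mul, one_mul, hcHf.eq]
    have h2 : f * H * (1 - f) = 0 := by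
      rw [mul_assoc, h1, ← mul_assoc, mul_sub, mul_one, hff, sub_self, zero_mul]
    rw [h2, add_zero]
  have hdH₂ : D.dag H₂ = H₂ := by rw [hH₂def, D.mul, D.invol]
  have hH₂U : IsUnit H₂ := by
    have h1 : IsUnit g₂ := ⟨⟨g₂, g₂i, hg₂1, hg₂2⟩, rfl⟩
    have h2 : IsUnit (D.dag g₂) :=
      ⟨⟨D.dag g₂, D.dag g₂i, by rw [← D.mul, hg₂2, D.one], by rw [← D.mul, hg₂1, D.one]⟩, rfl⟩
    exact h2.mul h1
  -- the commutative subring
  set S : Subring R := Subring.closure {A, Ai, H₂} with hS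
  have hAS : A ∈ S := Subring.subset_closure (by simp)
  have hAiS : Ai ∈ S := Subring.subset_closure (by simp)
  have hH₂S : H₂ ∈ S := Subring.subset_closure (by simp)
  have hH₂Ai : H₂ * Ai = Ai * H₂ := by
    calc H₂ * Ai = (Ai * A) * H₂ * Ai := by rw [hA', one_mul]
      _ = Ai * (A * H₂) * Ai := by simp only [mul_assoc]
      _ = Ai * (H₂ * A) * Ai := by rw [hH₂A]
      _ = Ai * H₂ * (A * Ai) := by simp only [mul_assoc]
      _ = Ai * H₂ := by rw [hA, mul_one]
  have hgen : ∀ x ∈ ({A, Ai, H₂} : Set R), ∀ y ∈ ({A, Ai, H₂} : Set R), x * y = y * x := by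
    intro x hx y hy
    simp only [Set.mem_insert_iff, Set.mem_singleton_iff] at hx hy
    rcases hx with rfl | rfl | rfl <;> rcases hy with rfl | rfl | rfl
    · rfl
    · rw [hA, hA']
    · exact hH₂A.symm
    · rw [hA, hA']
    · rfl
    · exact hH₂Ai.symm
    · exact hH₂A
    · exact hH₂Ai
    · rfl
  have hcomm : ∀ x ∈ S, ∀ y ∈ S, x * y = y * x := by
    intro x hx y hy
    have := (Subring.closureCommRingOfComm hgen).mul_comm ⟨x, hx⟩ ⟨y, hy⟩
    exact congrArg Subtype.val this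
  have hstar : ∀ x ∈ S, D.dag x ∈ S := by
    intro x hx
    induction hx using Subring.closure_induction with
    | mem x hx =>
      simp only [Set.mem_insert_iff, Set.mem_singleton_iff] at hx
      rcases hx with rfl | rfl | rfl
      · rw [hdA]; exact hAiS
      · rw [← hdA, D.invol]; exact hAS
      · rw [hdH₂]; exact hH₂S
    | zero => rw [D.zero]; exact S.zero_mem
    | one => rw [D.one]; exact S.one_mem
    | add x y _ _ hx hy => rw [D.add]; exact S.add_mem hx hy
    | neg x _ hx => rw [D.neg]; exact S.neg_mem hx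
    | mul x y _ _ hx hy => rw [D.mul]; exact S.mul_mem hy hx
  have hA1S : A - 1 ∈ S := S.sub_mem hAS S.one_mem
  have hA2S : A + 1 ∈ S := S.add_mem hAS S.one_mem
  have hfS : f ∈ S := S.mul_mem (S.pow_mem hA2S n₂) (S.pow_mem hA1S n₁)
  set v := A * ((A + 1) ^ (n₂ - 1) * (A - 1) ^ (n₁ - 1)) with hv
  have hvS : v ∈ S :=
    S.mul_mem hAS (S.mul_mem (S.pow_mem hA2S _) (S.pow_mem hA1S _))
  have hθ : (A - D.dag A) * v = f := by
    rw [hdA, hv, hf, ha₁, ha₂]
    have h1 : (A - Ai) * A = (A + 1) * (A - 1) := by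
      rw [sub_mul, hA']; noncomm_ring
    have hc12 : Commute (A - 1) (A + 1) :=
      Commute.add_right (Commute.sub_left (Commute.refl A) (Commute.one_left A))
        (Commute.one_right _)
    obtain ⟨k₁, rfl⟩ : ∃ k, n₁ = k + 1 := ⟨n₁ - 1, by omega⟩
    obtain ⟨k₂, rfl⟩ : ∃ k, n₂ = k + 1 := ⟨n₂ - 1, by omega⟩
    simp only [Nat.add_sub_cancel]
    calc (A - Ai) * (A * ((A + 1) ^ k₂ * (A - 1) ^ k₁))
        = ((A - Ai) * A) * ((A + 1) ^ k₂ * (A - 1) ^ k₁) := by rw [mul_assoc]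
      _ = (A + 1) * (A - 1) * ((A + 1) ^ k₂ * (A - 1) ^ k₁) := by rw [h1]
      _ = (A + 1) * ((A - 1) * (A + 1) ^ k₂) * (A - 1) ^ k₁ := by simp only [mul_assoc]
      _ = (A + 1) * ((A + 1) ^ k₂ * (A - 1)) * (A - 1) ^ k₁ := by
          rw [(hc12.pow_right k₂).eq]
      _ = ((A + 1) * (A + 1) ^ k₂) * ((A - 1) * (A - 1) ^ k₁) := by simp only [mul_assoc]
      _ = (A + 1) ^ (k₂ + 1) * (A - 1) ^ (k₁ + 1) := by rw [← pow_succ', ← pow_succ']
  obtain ⟨s, hsS, si, hsiS, hs1, hs2, hss⟩ := exists_norm_subring_corner D S hcomm hstar f hfS hff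
    hdf A v hAS hvS hθ H₂ hH₂S hH₂U hdH₂ hH₂1
  have hsiA : si * A = A * si := hcomm si hsiS A hAS
  refine ⟨g₂ * si, s * g₂i, ?_, ?_, ?_, ?_⟩
  · calc g₂ * si * (s * g₂i) = g₂ * (si * s) * g₂i := by simp only [mul_assoc]
      _ = 1 := by rw [hs2, mul_one, hg₂1]
  · calc s * g₂i * (g₂ * si) = s * (g₂i * g₂) * si := by simp only [mul_assoc]
      _ = 1 := by rw [hg₂2, mul_one, hs1]
  · have hdsi : D.dag si * D.dag s = 1 := by rw [← D.mul, hs1, D.one]
    calc D.dag (g₂ * si) * (g₂ * si) = D.dag si * (D.dag g₂ * g₂) * si := by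
          rw [D.mul]; simp only [mul_assoc]
      _ = D.dag si * (D.dag s * s) * si := by rw [← hH₂def, hss]
      _ = (D.dag si * D.dag s) * (s * si) := by simp only [mul_assoc]
      _ = 1 := by rw [hdsi, hs1, one_mul]
  · calc g₂ * si * A = g₂ * (si * A) := mul_assoc _ _ _
      _ = g₂ * (A * si) := by rw [hsiA]
      _ = g₂ * A * si := (mul_assoc _ _ _).symm
      _ = B * g₂ * si := by rw [hg₂A]
      _ = B * (g₂ * si) := mul_assoc _ _ _

end assembly

end Cfsg.Agent.Helper43.SympConj
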