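import Mathlib
import Cfsg.Agent.Lib.Helper43.SympConjAbs

/-!
# Abstract part of "odd-order semisimple conjugacy in O(Q) is controlled by GL"
-/

set_option autoImplicit false

namespace Cfsg.Agent.Helper43.SympConj

section orth

variable {R : Type*} [Ring R] (D : AntiInv R)

/-- For isometries `A`, `g A g⁻¹` with `A` of odd order: after modifying `g` by a unit commuting
with `A`, `g† g` is the identity on the Fitting image `f = (A - 1)^n₁` of `A - 1`. -/
theorem main_abs_orth [Finite R] (A Ai g gi : R) (hA : A * Ai = 1) (hA' : Ai * A = 1)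
    (hdA : D.dag A = Ai) (hg : g * gi = 1) (hg' : gi * g = 1)
    (hB : D.dag (g * A * gi) = g * Ai * gi)
    (N : ℕ) (hN : Odd N) (hAN : A ^ N = 1)
    (n₁ n₂ : ℕ) (hn₁ : 1 ≤ n₁) (hn₂ : 1 ≤ n₂)
    (hi₁ : (A - 1) ^ n₁ * (A - 1) ^ n₁ = (A - 1) ^ n₁)
    (hi₂ : (A + 1) ^ n₂ * (A + 1) ^ n₂ = (A + 1) ^ n₂)
    (hk₂ : (A + 1) * (1 - (A + 1) ^ n₂) = 0) :
    ∃ c ci : R, c * ci = 1 ∧ ci * c = 1 ∧ c * A = A * c ∧ ci * A = A * ci ∧
      (D.dag (g * ci) * (g * ci)) * (A - 1) ^ n₁ = (A - 1) ^ n₁ := by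
  classical
  set a₁ := (A - 1) ^ n₁ with ha₁
  set a₂ := (A + 1) ^ n₂ with ha₂
  set e₂ := 1 - a₂ with he₂
  have hone_c : ∀ x : R, (1 : R) * x = x * 1 := fun x => by rw [one_mul, mul_one]
  have hcA1 : Commute A (A - 1) := Commute.sub_right (Commute.refl A) (Commute.one_right A)
  have hcA2 : Commute A (A + 1) := Commute.add_right (Commute.refl A) (Commute.one_right A)
  have hcAa₁ : Commute A a₁ := hcA1.pow_right n₁
  have hcAa₂ : Commute A a₂ := hcA2.pow_right n₂
  have hc12 : Commute (A - 1) (A + 1) :=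
    Commute.add_right (Commute.sub_left (Commute.refl A) (Commute.one_left A))
      (Commute.one_right _)
  have hca₁a₂ : Commute a₁ a₂ := hc12.pow_pow n₁ n₂
  -- e₂ = 0-ish: (A - 1) e₂ = 0
  have hAe₂ : A * e₂ = -e₂ := by
    have : (A + 1) * e₂ = 0 := hk₂
    rw [add_mul, one_mul] at this
    exact eq_neg_of_add_eq_zero_left this
  have hpow : ∀ j : ℕ, A ^ j * e₂ = (-1) ^ j * e₂ := by
    intro j
    induction j with
    | zero => simp
    | succ j ih =>
      rw [pow_succ, mul_assoc, hAe₂, mul_neg, ih, pow_succ]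
      noncomm_ring
  have h2e₂ : e₂ + e₂ = 0 := by
    have := hpow N
    rw [hAN, one_mul, hN.neg_one_pow, neg_one_mul] at this
    exact add_eq_zero_iff_eq_neg.2 this
  have hA1e₂ : (A - 1) * e₂ = 0 := by
    rw [sub_mul, one_mul, hAe₂, ← neg_add', h2e₂, neg_zero]
  have ha₁e₂ : a₁ * e₂ = 0 := by
    obtain ⟨k₁, rfl⟩ : ∃ k, n₁ = k + 1 := ⟨n₁ - 1, by omega⟩
    rw [ha₁, pow_succ, mul_assoc, hA1e₂, mul_zero]
  have ha₂a₁ : a₂ * a₁ = a₁ := by
    have h1 : a₂ = 1 - e₂ := by rw [he₂]; abel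
    rw [← hca₁a₂.eq, h1, mul_sub, mul_one, ha₁e₂, sub_zero]
  -- H and the subring
  set H := D.dag g * g with hH
  have hHA : H * A = A * H := H_comm D A Ai g gi hA hA' hdA hg hg' hB
  have hHAi : H * Ai = Ai * H := by
    calc H * Ai = (Ai * A) * H * Ai := by rw [hA', one_mul]
      _ = Ai * (A * H) * Ai := by simp only [mul_assoc]
      _ = Ai * (H * A) * Ai := by rw [hHA]
      _ = Ai * H * (A * Ai) := by simp only [mul_assoc]
      _ = Ai * H := by rw [hA, mul_one]
  have hdH : D.dag H = H := by rw [hH, D.mul, D.invol]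
  set S : Subring R := Subring.closure {A, Ai, H} with hS
  have hAS : A ∈ S := Subring.subset_closure (by simp)
  have hAiS : Ai ∈ S := Subring.subset_closure (by simp)
  have hHS : H ∈ S := Subring.subset_closure (by simp)
  have hgen : ∀ x ∈ ({A, Ai, H} : Set R), ∀ y ∈ ({A, Ai, H} : Set R), x * y = y * x := by
    intro x hx y hy
    simp only [Set.mem_insert_iff, Set.mem_singleton_iff] at hx hy
    rcases hx with rfl | rfl | rfl <;> rcases hy with rfl | rfl | rfl
    · rfl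
    · rw [hA, hA']
    · exact hHA.symm
    · rw [hA, hA']
    · rfl
    · exact hHAi.symm
    · exact hHA
    · exact hHAi
    · rfl
  have hcomm : ∀ x ∈ S, ∀ y ∈ S, x * y = y * x := by
    intro x hx y hy
    have := (Subring.closureCommRingOfComm hgen).mul_comm ⟨x, hx⟩ ⟨y, hy⟩
    exact congrArg Subtype.val this
  have hstar : ∀ x ∈ S, D.dag x ∈ S := by
    intro x hx
    induction hx using Subring.closure_induction with
    | mem x hx =>
      simp only [Set.mem_insert_iff, Set.mem_singleton_iff] at hx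
      rcases hx with rfl | rfl | rfl
      · rw [hdA]; exact hAiS
      · rw [← hdA, D.invol]; exact hAS
      · rw [hdH]; exact hHS
    | zero => rw [D.zero]; exact S.zero_mem
    | one => rw [D.one]; exact S.one_mem
    | add x y _ _ hx hy => rw [D.add]; exact S.add_mem hx hy
    | neg x _ hx => rw [D.neg]; exact S.neg_mem hx
    | mul x y _ _ hx hy => rw [D.mul]; exact S.mul_mem hy hx
  have hA1S : A - 1 ∈ S := S.sub_mem hAS S.one_mem
  have hA2S : A + 1 ∈ S := S.add_mem hAS S.one_mem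
  obtain ⟨f, hf⟩ : ∃ f : R, f = a₁ := ⟨_, rfl⟩
  have hfS : f ∈ S := by rw [hf]; exact S.pow_mem hA1S n₁
  have hff : f * f = f := by rw [hf]; exact hi₁
  have hdf : D.dag f = f := by
    rw [hf]; exact dag_fixed D A Ai hA hA' hdA 1 hone_c (one_mul 1) D.one n₁ hi₁
  set v := A * ((A + 1) ^ (n₂ - 1) * (A - 1) ^ (n₁ - 1)) with hv
  have hvS : v ∈ S :=
    S.mul_mem hAS (S.mul_mem (S.pow_mem hA2S _) (S.pow_mem hA1S _))
  have hθ : (A - D.dag A) * v = f := by
    rw [hdA, hv, hf, ← ha₂a₁, ha₁, ha₂]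
    have h1 : (A - Ai) * A = (A + 1) * (A - 1) := by
      rw [sub_mul, hA']; noncomm_ring
    obtain ⟨k₁, rfl⟩ : ∃ k, n₁ = k + 1 := ⟨n₁ - 1, by omega⟩
    obtain ⟨k₂, rfl⟩ : ∃ k, n₂ = k + 1 := ⟨n₂ - 1, by omega⟩
    simp only [Nat.add_sub_cancel]
    calc (A - Ai) * (A * ((A + 1) ^ k₂ * (A - 1) ^ k₁))
        = ((A - Ai) * A) * ((A + 1) ^ k₂ * (A - 1) ^ k₁) := by rw [mul_assoc]
      _ = (A + 1) * (A - 1) * ((A + 1) ^ k₂ * (A - 1) ^ k₁) := by rw [h1]
      _ = (A + 1) * ((A - 1) * (A + 1) ^ k₂) * (A - 1) ^ k₁ := by simp only [mul_assoc]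
      _ = (A + 1) * ((A + 1) ^ k₂ * (A - 1)) * (A - 1) ^ k₁ := by
          rw [(hc12.pow_right k₂).eq]
      _ = ((A + 1) * (A + 1) ^ k₂) * ((A - 1) * (A - 1) ^ k₁) := by simp only [mul_assoc]
      _ = (A + 1) ^ (k₂ + 1) * (A - 1) ^ (k₁ + 1) := by rw [← pow_succ', ← pow_succ']
  -- r = (1 - f) + f H
  set r := (1 - f) + f * H with hr
  have hrS : r ∈ S := S.add_mem (S.sub_mem S.one_mem hfS) (S.mul_mem hfS hHS)
  have hfH : f * H = H * f := hcomm f hfS H hHS
  have h1f : (1 - f) * (1 - f) = 1 - f := idem_compl f hff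
  have hf1f : f * (1 - f) = 0 := by rw [mul_sub, mul_one, hff, sub_self]
  have h1ff : (1 - f) * f = 0 := by rw [sub_mul, one_mul, hff, sub_self]
  have hdr : D.dag r = r := by
    rw [hr, D.add, D.sub, D.one, D.mul, hdf, hdH, hfH]
  have hr1 : r * (1 - f) = 1 - f := by
    rw [hr, add_mul, h1f, mul_assoc]
    have : H * (1 - f) = (1 - f) * H := by rw [mul_sub, mul_one, sub_mul, one_mul, hfH]
    rw [this, ← mul_assoc, hf1f, zero_mul, add_zero]
  -- r is a unit
  set Hi := gi * D.dag gi with hHi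
  have hHHi : H * Hi = 1 := by
    rw [hH, hHi]
    calc D.dag g * g * (gi * D.dag gi) = D.dag g * (g * gi) * D.dag gi := by simp only [mul_assoc]
      _ = D.dag (gi * g) := by rw [hg, mul_one, D.mul]
      _ = 1 := by rw [hg', D.one]
  have hHiH : Hi * H = 1 := by
    rw [hH, hHi]
    calc gi * D.dag gi * (D.dag g * g) = gi * (D.dag gi * D.dag g) * g := by simp only [mul_assoc]
      _ = gi * D.dag (g * gi) * g := by rw [D.mul]
      _ = 1 := by rw [hg, D.one, mul_one, hg']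
  have hfHi : f * Hi = Hi * f := by
    calc f * Hi = (Hi * H) * f * Hi := by rw [hHiH, one_mul]
      _ = Hi * (H * f) * Hi := by simp only [mul_assoc]
      _ = Hi * (f * H) * Hi := by rw [hfH]
      _ = Hi * f * (H * Hi) := by simp only [mul_assoc]
      _ = Hi * f := by rw [hHHi, mul_one]
  have hrU : IsUnit r := by
    refine ⟨⟨r, (1 - f) + f * Hi, ?_, ?_⟩, rfl⟩
    · rw [hr, add_mul, mul_add, mul_add, h1f]
      have t1 : (1 - f) * (f * Hi) = 0 := by rw [← mul_assoc, h1ff, zero_mul]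
      have t2 : f * H * (1 - f) = 0 := by
        rw [mul_assoc]
        have : H * (1 - f) = (1 - f) * H := by rw [mul_sub, mul_one, sub_mul, one_mul, hfH]
        rw [this, ← mul_assoc, hf1f, zero_mul]
      have t3 : f * H * (f * Hi) = f := by
        calc f * H * (f * Hi) = f * (H * f) * Hi := by simp only [mul_assoc]
          _ = f * (f * H) * Hi := by rw [hfH]
          _ = (f * f) * (H * Hi) := by simp only [mul_assoc]
          _ = f := by rw [hff, hHHi, mul_one]
      rw [t1, t2, t3]; abel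
    · rw [hr, add_mul, mul_add, mul_add, h1f]
      have t1 : (1 - f) * (f * H) = 0 := by rw [← mul_assoc, h1ff, zero_mul]
      have t2 : f * Hi * (1 - f) = 0 := by
        rw [mul_assoc]
        have : Hi * (1 - f) = (1 - f) * Hi := by rw [mul_sub, mul_one, sub_mul, one_mul, hfHi]
        rw [this, ← mul_assoc, hf1f, zero_mul]
      have t3 : f * Hi * (f * H) = f := by
        calc f * Hi * (f * H) = f * (Hi * f) * H := by simp only [mul_assoc]
          _ = f * (f * Hi) * H := by rw [hfHi]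
          _ = (f * f) * (Hi * H) := by simp only [mul_assoc]
          _ = f := by rw [hff, hHiH, mul_one]
      rw [t1, t2, t3]; abel
  obtain ⟨s, hsS, si, hsiS, hs1, hs2, hss⟩ := exists_norm_subring_corner D S hcomm hstar f hfS hff
    hdf A v hAS hvS hθ r hrS hrU hdr hr1
  refine ⟨s, si, hs1, hs2, hcomm s hsS A hAS, hcomm si hsiS A hAS, ?_⟩
  -- computation in the commutative ring S
  have hdsiS : D.dag si ∈ S := hstar si hsiS
  have hdsS : D.dag s ∈ S := hstar s hsS
  have hds : D.dag s * D.dag si = 1 := by rw [← D.mul, hs2, D.one]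
  letI : CommRing S := { (inferInstance : Ring S) with
    mul_comm := fun x y => Subtype.ext (hcomm x.1 x.2 y.1 y.2) }
  have key : (⟨D.dag si, hdsiS⟩ : S) * ⟨H, hHS⟩ * ⟨si, hsiS⟩ * ⟨f, hfS⟩ = ⟨f, hfS⟩ := by
    have e1 : (⟨s, hsS⟩ : S) * ⟨si, hsiS⟩ = 1 := Subtype.ext hs1
    have e2 : (⟨D.dag s, hdsS⟩ : S) * ⟨D.dag si, hdsiS⟩ = 1 := Subtype.ext hds
    have e3 : (⟨D.dag s, hdsS⟩ : S) * ⟨s, hsS⟩ = (1 - ⟨f, hfS⟩) + ⟨f, hfS⟩ * ⟨H, hHS⟩ :=
      Subtype.ext hss
    have e4 : (⟨f, hfS⟩ : S) * ⟨f, hfS⟩ = ⟨f, hfS⟩ := Subtype.ext hff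
    generalize (⟨s, hsS⟩ : S) = s' at *
    generalize (⟨si, hsiS⟩ : S) = si' at *
    generalize (⟨D.dag s, hdsS⟩ : S) = ds' at *
    generalize (⟨D.dag si, hdsiS⟩ : S) = dsi' at *
    generalize (⟨H, hHS⟩ : S) = H' at *
    generalize (⟨f, hfS⟩ : S) = f' at *
    linear_combination (-((H' - 1) * dsi' * si')) * e4 + (f' * s' * si') * e2 + f' * e1
      - (f' * dsi' * si') * e3
  have key' := congrArg Subtype.val key
  rw [← hf]
  calc D.dag (g * si) * (g * si) * f = D.dag si * H * si * f := by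
        rw [D.mul, hH]; simp only [mul_assoc]
    _ = f := key'

end orth

end Cfsg.Agent.Helper43.SympConj
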