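import Mathlib
import Cfsg.Prelude.Def_ClassicalGeometry
import Cfsg.Agent.Lib.Helper43.SympConjAbs
import Cfsg.Agent.S0775
import Cfsg.Agent.S2167

/-!
# Semisimple conjugacy in `Sp_2m(F)` is controlled by `GL_2m(F)`
-/

set_option autoImplicit false

namespace Cfsg.Agent.Helper43.SympConj

open Matrix Module

section dagJ

variable {m : ℕ} {F : Type*} [Field F]

local notation "Mat" => Matrix (Fin m ⊕ Fin m) (Fin m ⊕ Fin m) F

/-- the symplectic adjoint -/
def dagJ (M : Mat) : Mat := -(J (Fin m) F * Mᵀ * J (Fin m) F)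

theorem J_mul_J : J (Fin m) F * J (Fin m) F = -1 := Matrix.J_squared _ _

theorem dagJ_mul (M N : Mat) : dagJ (M * N) = dagJ N * dagJ M := by
  unfold dagJ
  rw [transpose_mul, neg_mul_neg]
  calc -(J (Fin m) F * (Nᵀ * Mᵀ) * J (Fin m) F)
      = J (Fin m) F * Nᵀ * (-1) * Mᵀ * J (Fin m) F := by
        simp only [Matrix.mul_assoc, Matrix.mul_neg, Matrix.neg_mul, Matrix.one_mul]
    _ = J (Fin m) F * Nᵀ * (J (Fin m) F * J (Fin m) F) * Mᵀ * J (Fin m) F := by rw [J_mul_J]
    _ = J (Fin m) F * Nᵀ * J (Fin m) F * (J (Fin m) F * Mᵀ * J (Fin m) F) := by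
        simp only [Matrix.mul_assoc]

theorem dagJ_add (M N : Mat) : dagJ (M + N) = dagJ M + dagJ N := by
  unfold dagJ
  rw [transpose_add, Matrix.mul_add, Matrix.add_mul, neg_add]

theorem dagJ_one : dagJ (1 : Mat) = 1 := by
  unfold dagJ
  rw [transpose_one, Matrix.mul_one, J_mul_J, neg_neg]

theorem dagJ_dagJ (M : Mat) : dagJ (dagJ M) = M := by
  unfold dagJ
  rw [transpose_neg, transpose_mul, transpose_mul, transpose_transpose, Matrix.J_transpose]
  calc -(J (Fin m) F * -(-J (Fin m) F * (M * -J (Fin m) F)) * J (Fin m) F)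
      = (J (Fin m) F * J (Fin m) F) * M * (J (Fin m) F * J (Fin m) F) := by
        simp only [Matrix.mul_assoc, Matrix.mul_neg, Matrix.neg_mul, neg_neg]
    _ = M := by rw [J_mul_J]; simp

/-- the symplectic adjoint as an anti-involution -/
def sympD (m : ℕ) (F : Type*) [Field F] : AntiInv (Matrix (Fin m ⊕ Fin m) (Fin m ⊕ Fin m) F) where
  dag := dagJ
  add := dagJ_add
  mul := dagJ_mul
  one := dagJ_one
  invol := dagJ_dagJ

theorem mem_symplectic_iff_dag (A : Mat) :
    A ∈ Matrix.symplecticGroup (Fin m) F ↔ dagJ A * A = 1 := by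
  rw [SymplecticGroup.mem_iff']
  unfold dagJ
  constructor
  · intro h
    rw [Matrix.neg_mul, Matrix.mul_assoc, Matrix.mul_assoc, ← Matrix.mul_assoc Aᵀ, h, J_mul_J,
      neg_neg]
  · intro h
    have h1 : J (Fin m) F * (Aᵀ * J (Fin m) F * A) = -1 := by
      have : -(J (Fin m) F * Aᵀ * J (Fin m) F) * A = -(J (Fin m) F * (Aᵀ * J (Fin m) F * A)) := by
        simp only [Matrix.mul_assoc, Matrix.neg_mul]
      rw [this] at h
      rw [← h, neg_neg]
    calc Aᵀ * J (Fin m) F * A = -(J (Fin m) F * J (Fin m) F) * (Aᵀ * J (Fin m) F * A) := by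
          rw [J_mul_J, neg_neg, Matrix.one_mul]
      _ = -(J (Fin m) F * (J (Fin m) F * (Aᵀ * J (Fin m) F * A))) := by
          rw [Matrix.neg_mul, Matrix.mul_assoc]
      _ = J (Fin m) F := by rw [h1]; simp

theorem sympForm_dag (M : Mat) (x y : Fin m ⊕ Fin m → F) :
    Cfsg.sympForm m F (M *ᵥ x) y = Cfsg.sympForm m F x (dagJ M *ᵥ y) := by
  unfold Cfsg.sympForm dagJ
  have : J (Fin m) F * -(J (Fin m) F * Mᵀ * J (Fin m) F) = Mᵀ * J (Fin m) F := by
    calc J (Fin m) F * -(J (Fin m) F * Mᵀ * J (Fin m) F)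
        = -((J (Fin m) F * J (Fin m) F) * Mᵀ * J (Fin m) F) := by
          simp only [Matrix.mul_assoc, Matrix.mul_neg]
      _ = Mᵀ * J (Fin m) F := by rw [J_mul_J]; simp
  rw [Matrix.mulVec_mulVec, this, ← Matrix.mulVec_mulVec, Matrix.dotProduct_mulVec x Mᵀ,
    Matrix.vecMul_transpose]

theorem sympForm_dag' (M : Mat) (x y : Fin m ⊕ Fin m → F) :
    Cfsg.sympForm m F x (M *ᵥ y) = Cfsg.sympForm m F (dagJ M *ᵥ x) y := by
  rw [sympForm_dag, dagJ_dagJ]

theorem sympForm_nondeg_left (u : Fin m ⊕ Fin m → F)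
    (h : ∀ v, Cfsg.sympForm m F u v = 0) : u = 0 := by
  by_contra h0
  obtain ⟨v, hv⟩ := Cfsg.Agent.Helper13.exists_partner h0
  rw [h v] at hv
  exact zero_ne_one hv

open Cfsg.Agent.S0776 in
/-- **Witt property** for the symplectic adjoint. -/
theorem wittProp_symp : WittProp (sympD m F) := by
  classical
  intro e f g gi he hde hf hdf hg hg' hfg
  change dagJ e = e at hde
  change dagJ f = f at hdf
  let U : Submodule F (Fin m ⊕ Fin m → F) := LinearMap.range (Matrix.mulVecLin e)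
  let U' : Submodule F (Fin m ⊕ Fin m → F) := LinearMap.range (Matrix.mulVecLin f)
  have memU : ∀ x, x ∈ U ↔ e *ᵥ x = x := by
    intro x
    constructor
    · rintro ⟨y, rfl⟩
      rw [Matrix.mulVecLin_apply, Matrix.mulVec_mulVec, he]
    · intro h
      exact ⟨x, h⟩
  have memU' : ∀ x, x ∈ U' ↔ f *ᵥ x = x := by
    intro x
    constructor
    · rintro ⟨y, rfl⟩
      rw [Matrix.mulVecLin_apply, Matrix.mulVec_mulVec, hf]
    · intro h
      exact ⟨x, h⟩
  have eU : ∀ y, e *ᵥ y ∈ U := fun y => ⟨y, rfl⟩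
  have fU' : ∀ y, f *ᵥ y ∈ U' := fun y => ⟨y, rfl⟩
  -- nondegeneracy
  have hndU : ∀ u ∈ U, (∀ v ∈ U, Cfsg.sympForm m F u v = 0) → u = 0 := by
    intro u hu h
    apply sympForm_nondeg_left
    intro y
    have h1 : Cfsg.sympForm m F u y = Cfsg.sympForm m F u (e *ᵥ y) := by
      rw [sympForm_dag', hde, (memU u).1 hu]
    rw [h1]
    exact h _ (eU y)
  have hndU' : ∀ u ∈ U', (∀ v ∈ U', Cfsg.sympForm m F u v = 0) → u = 0 := by
    intro u hu h
    apply sympForm_nondeg_left
    intro y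
    have h1 : Cfsg.sympForm m F u y = Cfsg.sympForm m F u (f *ᵥ y) := by
      rw [sympForm_dag', hdf, (memU' u).1 hu]
    rw [h1]
    exact h _ (fU' y)
  -- ranks
  have hgdet : IsUnit g.det := (Matrix.isUnit_iff_isUnit_det g).1 ⟨⟨g, gi, hg, hg'⟩, rfl⟩
  have hgidet : IsUnit gi.det := (Matrix.isUnit_iff_isUnit_det gi).1 ⟨⟨gi, g, hg', hg⟩, rfl⟩
  have hrank : finrank F U' = finrank F U := by
    show f.rank = e.rank
    rw [hfg, Matrix.rank_mul_eq_left_of_isUnit_det gi _ hgidet,
      Matrix.rank_mul_eq_right_of_isUnit_det g _ hgdet]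
  -- evenness
  obtain ⟨k, hk⟩ := Cfsg.Agent.S2167.alt_even_aux (finrank F U) U rfl ((sB m F).restrict U)
    (by
      intro u
      rw [LinearMap.BilinForm.restrict_apply, LinearMap.domRestrict_apply]
      exact sB_alt _)
  have hker : LinearMap.ker ((sB m F).restrict U) = ⊥ := by
    rw [eq_bot_iff]
    intro u hu
    rw [LinearMap.mem_ker] at hu
    rw [Submodule.mem_bot]
    apply Subtype.ext
    apply hndU _ u.2
    intro v hv
    have := congrArg (fun φ => φ ⟨v, hv⟩) hu
    simp only [LinearMap.BilinForm.restrict_apply, LinearMap.domRestrict_apply,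
      LinearMap.zero_apply, sB_apply] at this
    exact this
  rw [hker, finrank_bot, zero_add] at hk
  obtain ⟨b, hb⟩ := exists_sympBasis U k hk hndU
  obtain ⟨b', hb'⟩ := exists_sympBasis U' k (hrank.trans hk) hndU'
  -- families
  let x : Fin (k + k) → (Fin m ⊕ Fin m → F) := fun i => (b (finSumFinEquiv.symm i) : Fin m ⊕ Fin m → F)
  let y : Fin (k + k) → (Fin m ⊕ Fin m → F) := fun i => (b' (finSumFinEquiv.symm i) : Fin m ⊕ Fin m → F)
  have hx : LinearIndependent F x := by
    have h1 : LinearIndependent F (fun j => (b j : Fin m ⊕ Fin m → F)) :=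
      b.linearIndependent.map' U.subtype (Submodule.ker_subtype U)
    exact h1.comp _ (Equiv.injective _)
  have hy : LinearIndependent F y := by
    have h1 : LinearIndependent F (fun j => (b' j : Fin m ⊕ Fin m → F)) :=
      b'.linearIndependent.map' U'.subtype (Submodule.ker_subtype U')
    exact h1.comp _ (Equiv.injective _)
  have hxy : ∀ i j, sB m F (y i) (y j) = sB m F (x i) (x j) := by
    intro i j
    rw [sB_apply, sB_apply]
    show Cfsg.sympForm m F (b' _ : Fin m ⊕ Fin m → F) (b' _) =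
      Cfsg.sympForm m F (b _ : Fin m ⊕ Fin m → F) (b _)
    rw [hb, hb']
  obtain ⟨gW, hiso, hmap⟩ := Cfsg.Agent.S0749.witt_family (sB m F) sB_nondeg sB_alt (k + k) x y
    hx hy hxy
  have hmapb : ∀ j, gW (b j : Fin m ⊕ Fin m → F) = (b' j : Fin m ⊕ Fin m → F) := by
    intro j
    have := hmap (finSumFinEquiv j)
    simpa [x, y] using this
  set T : Mat := LinearMap.toMatrix' gW.toLinearMap with hT
  have hTv : ∀ v, T *ᵥ v = gW v := by
    intro v
    rw [hT, ← Matrix.toLin'_apply, Matrix.toLin'_toMatrix']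
    rfl
  have hTpres : ∀ u v, Cfsg.sympForm m F (T *ᵥ u) (T *ᵥ v) = Cfsg.sympForm m F u v := by
    intro u v
    rw [hTv, hTv, ← sB_apply, ← sB_apply]
    exact hiso u v
  have hTsp : T ∈ Matrix.symplecticGroup (Fin m) F :=
    Cfsg.Agent.S0775.mem_symplectic_of_preserves T hTpres
  have hT1 : dagJ T * T = 1 := (mem_symplectic_iff_dag T).1 hTsp
  have hT2 : T * dagJ T = 1 := mul_eq_one_comm.1 hT1
  refine ⟨T, hT1, hT2, ?_⟩
  -- gW maps U onto U'
  have hgU : ∀ u ∈ U, gW u ∈ U' := by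
    intro u hu
    have h1 : u = ∑ j, (b.repr ⟨u, hu⟩ j) • (b j : Fin m ⊕ Fin m → F) := by
      have h0 := congrArg (fun w : U => (w : Fin m ⊕ Fin m → F)) (b.sum_repr ⟨u, hu⟩)
      simp only [Submodule.coe_sum, Submodule.coe_smul] at h0
      exact h0.symm
    rw [h1, map_sum]
    apply Submodule.sum_mem
    intro j _
    rw [map_smul, hmapb]
    exact Submodule.smul_mem _ _ (b' j).2
  have hgU' : ∀ w ∈ U', ∃ u ∈ U, gW u = w := by
    intro w hw
    refine ⟨∑ j, (b'.repr ⟨w, hw⟩ j) • (b j : Fin m ⊕ Fin m → F), ?_, ?_⟩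
    · apply Submodule.sum_mem
      intro j _
      exact Submodule.smul_mem _ _ (b j).2
    · rw [map_sum]
      have h0 := congrArg (fun w : U' => (w : Fin m ⊕ Fin m → F)) (b'.sum_repr ⟨w, hw⟩)
      simp only [Submodule.coe_sum, Submodule.coe_smul] at h0
      calc ∑ j, gW ((b'.repr ⟨w, hw⟩ j) • (b j : Fin m ⊕ Fin m → F))
          = ∑ j, (b'.repr ⟨w, hw⟩ j) • (b' j : Fin m ⊕ Fin m → F) := by
            apply Finset.sum_congr rfl
            intro j _
            rw [map_smul, hmapb]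
        _ = w := h0
  apply Matrix.mulVec_injective
  funext v
  rw [← Matrix.mulVec_mulVec, ← Matrix.mulVec_mulVec]
  -- decompose v
  set z := v - e *ᵥ v with hz
  have hez : e *ᵥ z = 0 := by
    rw [hz, Matrix.mulVec_sub, Matrix.mulVec_mulVec, he, sub_self]
  have hzU : ∀ u ∈ U, Cfsg.sympForm m F z u = 0 := by
    intro u hu
    rw [← (memU u).1 hu, sympForm_dag', hde, hez]
    unfold Cfsg.sympForm
    simp
  have hTz : f *ᵥ (T *ᵥ z) = 0 := by
    apply sympForm_nondeg_left
    intro w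
    rw [sympForm_dag, hdf]
    obtain ⟨u, hu, huw⟩ := hgU' (f *ᵥ w) (fU' w)
    rw [← huw, ← hTv u, hTpres]
    exact hzU u hu
  have hv : v = e *ᵥ v + z := by rw [hz]; abel
  have hTe : f *ᵥ (T *ᵥ (e *ᵥ v)) = T *ᵥ (e *ᵥ v) := by
    rw [hTv]
    exact (memU' _).1 (hgU _ (eU v))
  conv_rhs => rw [hv, Matrix.mulVec_add, Matrix.mulVec_add, hTz, add_zero, hTe]

end dagJ

section fitting

/-- Fitting: some positive power of an element of a finite ring is idempotent -/
theorem exists_pow_idem {R : Type*} [Ring R] [Finite R] (a : R) :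
    ∃ n : ℕ, 1 ≤ n ∧ a ^ n * a ^ n = a ^ n := by
  obtain ⟨i, j, hij, hpow⟩ : ∃ i j : ℕ, i < j ∧ a ^ i = a ^ j := by
    obtain ⟨i, j, hne, h⟩ := Finite.exists_ne_map_eq_of_infinite (fun n : ℕ => a ^ n)
    rcases lt_or_gt_of_ne hne with h1 | h1
    · exact ⟨i, j, h1, h⟩
    · exact ⟨j, i, h1, h.symm⟩
  obtain ⟨d, rfl⟩ : ∃ d, j = i + d := ⟨j - i, by omega⟩
  have hd : 1 ≤ d := by omega
  have hk : ∀ k : ℕ, a ^ (i + k * d) = a ^ i := by
    intro k
    induction k with
    | zero => simp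
    | succ k ih =>
      calc a ^ (i + (k + 1) * d) = a ^ (i + d) * a ^ (k * d) := by rw [← pow_add]; congr 1; ring
        _ = a ^ i * a ^ (k * d) := by rw [← hpow]
        _ = a ^ (i + k * d) := by rw [← pow_add]
        _ = a ^ i := ih
  refine ⟨(i + 1) * d, by nlinarith, ?_⟩
  have hni : i ≤ (i + 1) * d := by nlinarith
  calc a ^ ((i + 1) * d) * a ^ ((i + 1) * d)
      = a ^ ((i + 1) * d - i) * a ^ (i + (i + 1) * d) := by
        rw [← pow_add, ← pow_add]; congr 1; omega
    _ = a ^ ((i + 1) * d - i) * a ^ i := by rw [hk]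
    _ = a ^ ((i + 1) * d) := by rw [← pow_add]; congr 1; omega

/-- semisimplicity: the Fitting idempotent of `u - 1` kills `u - 1` when `u` has order prime
to the characteristic -/
theorem kernel_lemma {F R : Type*} [Field F] [Ring R] [Algebra F R] (p : ℕ) [Fact p.Prime]
    [CharP F p] (u : R) (M : ℕ) (hM : u ^ M = 1) (hcop : M.Coprime p) (n' : ℕ)
    (hid : (u - 1) ^ n' * (u - 1) ^ n' = (u - 1) ^ n') :
    (u - 1) * (1 - (u - 1) ^ n') = 0 := by
  have hp : p.Prime := Fact.out
  have hM0 : M ≠ 0 := by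
    rintro rfl
    rw [Nat.coprime_zero_left] at hcop
    exact hp.one_lt.ne' hcop
  set e := 1 - (u - 1) ^ n' with he
  have hae : (u - 1) ^ n' * e = 0 := by rw [he, mul_sub, mul_one, hid, sub_self]
  have hn'le : n' ≤ p ^ n' := (Nat.lt_pow_self hp.one_lt).le
  have hpk : (u - 1) ^ (p ^ n') * e = 0 := by
    have : (u - 1) ^ (p ^ n') = (u - 1) ^ (p ^ n' - n') * (u - 1) ^ n' := by
      rw [← pow_add]; congr 1; omega
    rw [this, mul_assoc, hae, mul_zero]
  have hfrob : (u - 1) ^ (p ^ n') = u ^ (p ^ n') - 1 := by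
    have hpoly : ((Polynomial.X : Polynomial F) - 1) ^ (p ^ n') = Polynomial.X ^ (p ^ n') - 1 := by
      rw [sub_pow_char_pow, one_pow]
    have := congrArg (Polynomial.aeval u) hpoly
    simpa using this
  have hue : u ^ (p ^ n') * e = e := by
    rw [hfrob, sub_mul, one_mul, sub_eq_zero] at hpk
    exact hpk
  -- units
  have huu : u * u ^ (M - 1) = 1 := by rw [← pow_succ', Nat.sub_add_cancel (by omega), hM]
  have huu' : u ^ (M - 1) * u = 1 := by rw [← pow_succ, Nat.sub_add_cancel (by omega), hM]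
  set uU : Rˣ := ⟨u, u ^ (M - 1), huu, huu'⟩ with huU
  have hstab1 : uU ^ (p ^ n') ∈ MulAction.stabilizer Rˣ e := by
    rw [MulAction.mem_stabilizer_iff, Units.smul_def, Units.val_pow_eq_pow_val, smul_eq_mul]
    exact hue
  have huM : uU ^ M = 1 := by
    apply Units.ext
    rw [Units.val_pow_eq_pow_val, Units.val_one]
    exact hM
  have hcop' : Nat.Coprime (p ^ n') M := (Nat.Coprime.pow_left n' hcop.symm)
  have hbez := Int.gcd_eq_gcd_ab (p ^ n' : ℕ) M
  rw [show Int.gcd ((p ^ n' : ℕ) : ℤ) (M : ℤ) = 1 from by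
    rw [Int.gcd_natCast_natCast]; exact hcop'] at hbez
  have hu1 : uU = (uU ^ (p ^ n')) ^ (Int.gcdA (p ^ n' : ℕ) M) * (uU ^ M) ^ (Int.gcdB (p ^ n' : ℕ) M) := by
    rw [← _root_.zpow_natCast uU (p ^ n'), ← _root_.zpow_natCast uU M, ← _root_.zpow_mul,
      ← _root_.zpow_mul, ← _root_.zpow_add]
    have : ((p ^ n' : ℕ) : ℤ) * Int.gcdA (p ^ n' : ℕ) M + (M : ℤ) * Int.gcdB (p ^ n' : ℕ) M = 1 := by
      rw [← hbez]; rfl
    rw [this, _root_.zpow_one]
  have hstab : uU ∈ MulAction.stabilizer Rˣ e := by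
    rw [hu1, huM, _root_.one_zpow, mul_one]
    exact Subgroup.zpow_mem _ hstab1 _
  rw [MulAction.mem_stabilizer_iff, Units.smul_def, smul_eq_mul] at hstab
  rw [sub_mul, one_mul, sub_eq_zero]
  exact hstab

end fitting

section main

variable {m : ℕ} {F : Type*} [Field F] [Fintype F]

local notation "Mat" => Matrix (Fin m ⊕ Fin m) (Fin m ⊕ Fin m) F

/-- **Semisimple conjugacy in `Sp_2m(F)` is controlled by `GL_2m(F)`.** -/
theorem sp_conj_iff {p : ℕ} [Fact p.Prime] [CharP F p] (A B : Matrix.symplecticGroup (Fin m) F)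
    (hA : (orderOf A).Coprime p) :
    IsConj A B ↔ IsConj (A : Mat) (B : Mat) := by
  classical
  have hp : p.Prime := Fact.out
  constructor
  · intro h
    exact (Matrix.symplecticGroup (Fin m) F).subtype.map_isConj h
  · rintro ⟨gU, hgU⟩
    set AM : Mat := (A : Mat) with hAM
    set BM : Mat := (B : Mat) with hBM
    set g : Mat := (gU : Mat) with hg
    set gi : Mat := ((gU⁻¹ : Matˣ) : Mat) with hgi
    have hggi : g * gi = 1 := by rw [hg, hgi, ← Units.val_mul, mul_inv_cancel]; rfl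
    have hgig : gi * g = 1 := by rw [hg, hgi, ← Units.val_mul, inv_mul_cancel]; rfl
    have hgAB : g * AM = BM * g := hgU
    have hA1 : dagJ AM * AM = 1 := (mem_symplectic_iff_dag AM).1 A.2
    have hA2 : AM * dagJ AM = 1 := mul_eq_one_comm.1 hA1
    have hB1 : dagJ BM * BM = 1 := (mem_symplectic_iff_dag BM).1 B.2
    have hgAgi : g * AM * gi = BM := by rw [hgAB, Matrix.mul_assoc, hggi, Matrix.mul_one]
    have hBdag : (sympD m F).dag (g * AM * gi) = g * dagJ AM * gi := by
      show dagJ (g * AM * gi) = _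
      rw [hgAgi]
      have h1 : (g * dagJ AM * gi) * BM = 1 := by
        rw [← hgAgi]
        calc g * dagJ AM * gi * (g * AM * gi) = g * dagJ AM * (gi * g) * AM * gi := by
              simp only [Matrix.mul_assoc]
          _ = g * (dagJ AM * AM) * gi := by rw [hgig, Matrix.mul_one]; simp only [Matrix.mul_assoc]
          _ = 1 := by rw [hA1, Matrix.mul_one, hggi]
      have hB2 : BM * dagJ BM = 1 := mul_eq_one_comm.1 hB1
      calc dagJ BM = (g * dagJ AM * gi * BM) * dagJ BM := by rw [h1, Matrix.one_mul]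
        _ = g * dagJ AM * gi * (BM * dagJ BM) := by rw [Matrix.mul_assoc]
        _ = g * dagJ AM * gi := by rw [hB2, Matrix.mul_one]
    -- order
    set N := orderOf A with hN
    have hAN : AM ^ N = 1 := by
      have h1 := pow_orderOf_eq_one A
      have h2 := congrArg Subtype.val h1
      rw [SubmonoidClass.coe_pow] at h2
      exact h2
    -- Fitting data
    obtain ⟨n₁, hn₁, hi₁⟩ := exists_pow_idem (AM - 1)
    obtain ⟨n₂, hn₂, hi₂⟩ := exists_pow_idem (AM + 1)
    have hk₁ : (AM - 1) * (1 - (AM - 1) ^ n₁) = 0 :=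
      kernel_lemma (F := F) p AM N hAN hA n₁ hi₁
    have hk₂ : (AM + 1) * (1 - (AM + 1) ^ n₂) = 0 := by
      by_cases hp2 : p = 2
      · subst hp2
        have h2 : (2 : Mat) = 0 := by
          have : (2 : F) = 0 := by
            have := CharP.cast_eq_zero F 2
            exact_mod_cast this
          have h3 : (2 : Mat) = algebraMap F Mat 2 := (map_ofNat (algebraMap F Mat) 2).symm
          rw [h3, this, map_zero]
        have h11 : AM + 1 = AM - 1 := by
          have : (1 : Mat) = -1 := by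
            rw [eq_neg_iff_add_eq_zero, one_add_one_eq_two, h2]
          rw [sub_eq_add_neg, ← this]
        rw [h11] at hi₂ ⊢
        exact kernel_lemma (F := F) 2 AM N hAN hA n₂ hi₂
      · have hodd : Nat.Coprime 2 p := by
          rw [Nat.coprime_primes Nat.prime_two hp]
          exact fun h => hp2 h.symm
        have hu1 : (-AM - 1) = -(AM + 1) := by abel
        have hsq : ∀ k : ℕ, (-AM - 1) ^ (2 * k) = (AM + 1) ^ (2 * k) := by
          intro k
          rw [hu1, pow_mul, pow_mul, neg_sq]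
        have hpow2 : (AM + 1) ^ (2 * n₂) = (AM + 1) ^ n₂ := by
          rw [two_mul, pow_add, hi₂]
        have hM : (-AM) ^ (2 * N) = 1 := by
          rw [pow_mul, neg_sq, ← pow_mul, mul_comm, pow_mul, hAN, one_pow]
        have := kernel_lemma (F := F) p (-AM) (2 * N) hM (Nat.Coprime.mul_left hodd hA) (2 * n₂)
          (by rw [hsq, hpow2, hi₂])
        rw [hsq, hpow2, hu1, neg_mul, neg_eq_zero] at this
        exact this
    obtain ⟨u, ui, hu1, hu2, hu3, hu4⟩ := main_abs (sympD m F) wittProp_symp AM (dagJ AM) g gi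
      hA2 hA1 rfl hggi hgig hBdag n₁ n₂ hn₁ hn₂ hi₁ hi₂ hk₁ hk₂
    have humem : u ∈ Matrix.symplecticGroup (Fin m) F := (mem_symplectic_iff_dag u).2 hu3
    rw [isConj_iff]
    refine ⟨⟨u, humem⟩, ?_⟩
    rw [mul_inv_eq_iff_eq_mul]
    apply Subtype.ext
    show u * AM = BM * u
    rw [hu4, hgAgi]

end main

end Cfsg.Agent.Helper43.SympConj
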