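import Mathlib
import Cfsg.Prelude.Def_Classical
import Cfsg.Agent.Lib.Helper43.OrthConjAbs
import Cfsg.Agent.Lib.Helper43.SympConj
import Cfsg.Agent.Lib.Helper14.WittQuad

/-!
# Odd-order semisimple conjugacy in `O(Q)` is controlled by `GL`
-/

set_option autoImplicit false

namespace Cfsg.Agent.Helper43.OrthConj

open Matrix Module QuadraticMap Cfsg.Agent.Helper43.SympConj

section dagG

variable {ι : Type*} [Fintype ι] [DecidableEq ι] {F : Type*} [Field F]

/-- adjoint with respect to the symmetric form with Gram matrix `G` -/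
def dagG (G Gi : Matrix ι ι F) (M : Matrix ι ι F) : Matrix ι ι F := Gi * Mᵀ * G

variable (G Gi : Matrix ι ι F) (hG : G * Gi = 1) (hG' : Gi * G = 1) (hGs : Gᵀ = G)

include hG in
theorem dagG_mul (M N : Matrix ι ι F) : dagG G Gi (M * N) = dagG G Gi N * dagG G Gi M := by
  unfold dagG
  rw [transpose_mul]
  calc Gi * (Nᵀ * Mᵀ) * G = Gi * Nᵀ * 1 * Mᵀ * G := by simp only [Matrix.mul_assoc, Matrix.one_mul]
    _ = Gi * Nᵀ * (G * Gi) * Mᵀ * G := by rw [hG]
    _ = Gi * Nᵀ * G * (Gi * Mᵀ * G) := by simp only [Matrix.mul_assoc]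

theorem dagG_add (M N : Matrix ι ι F) : dagG G Gi (M + N) = dagG G Gi M + dagG G Gi N := by
  unfold dagG
  rw [transpose_add, Matrix.mul_add, Matrix.add_mul]

include hG' in
theorem dagG_one : dagG G Gi (1 : Matrix ι ι F) = 1 := by
  unfold dagG
  rw [transpose_one, Matrix.mul_one, hG']

include hG hG' hGs in
theorem dagG_dagG (M : Matrix ι ι F) : dagG G Gi (dagG G Gi M) = M := by
  unfold dagG
  have hGit : Giᵀ * G = 1 := by
    have := congrArg Matrix.transpose hG
    rw [transpose_mul, transpose_one, hGs] at this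
    exact this
  rw [transpose_mul, transpose_mul, transpose_transpose, hGs]
  calc Gi * (G * (M * Giᵀ)) * G = (Gi * G) * M * (Giᵀ * G) := by simp only [Matrix.mul_assoc]
    _ = M := by rw [hG', hGit, Matrix.one_mul, Matrix.mul_one]

/-- the anti-involution attached to a symmetric invertible Gram matrix -/
def gramD : AntiInv (Matrix ι ι F) where
  dag := dagG G Gi
  add := dagG_add G Gi
  mul := dagG_mul G Gi hG
  one := dagG_one G Gi hG'
  invol := dagG_dagG G Gi hG hG' hGs

include hG in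
theorem form_dag (M : Matrix ι ι F) (x y : ι → F) :
    (M *ᵥ x) ⬝ᵥ (G *ᵥ y) = x ⬝ᵥ (G *ᵥ (dagG G Gi M *ᵥ y)) := by
  unfold dagG
  rw [Matrix.mulVec_mulVec, ← Matrix.mul_assoc, ← Matrix.mul_assoc, hG, Matrix.one_mul,
    ← Matrix.mulVec_mulVec, Matrix.dotProduct_mulVec x Mᵀ, Matrix.vecMul_transpose]

end dagG

section gram

variable {n : ℕ} {F : Type*} [Field F]

/-- Gram matrix of the polar form -/
noncomputable def gramQ (Q : QuadraticForm F (Fin n → F)) : Matrix (Fin n) (Fin n) F :=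
  LinearMap.BilinForm.toMatrix' (polarBilin Q)

theorem polar_eq (Q : QuadraticForm F (Fin n → F)) (x y : Fin n → F) :
    polar Q x y = x ⬝ᵥ (gramQ Q *ᵥ y) := by
  have h1 : polarBilin Q = Matrix.toBilin' (gramQ Q) := by
    unfold gramQ
    rw [Matrix.toBilin'_toMatrix']
  have h2 : polar Q x y = polarBilin Q x y := rfl
  rw [h2, h1, Matrix.toBilin'_apply']

theorem gramQ_symm (Q : QuadraticForm F (Fin n → F)) : (gramQ Q)ᵀ = gramQ Q := by
  ext i j
  unfold gramQ
  rw [transpose_apply, LinearMap.BilinForm.toMatrix'_apply, LinearMap.BilinForm.toMatrix'_apply]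
  exact polar_comm _ _ _

theorem gramQ_isUnit (Q : QuadraticForm F (Fin n → F)) (hQ : (polarBilin Q).Nondegenerate) :
    IsUnit (gramQ Q) := by
  rw [← Matrix.mulVec_injective_iff_isUnit]
  intro v w hvw
  have hv : gramQ Q *ᵥ (v - w) = 0 := by rw [Matrix.mulVec_sub, hvw, sub_self]
  have : v - w = 0 := by
    apply hQ.2 (v - w)
    intro u
    show polar Q u (v - w) = 0
    rw [polar_eq, hv, dotProduct_zero]
  exact sub_eq_zero.1 this

theorem Q_sub (Q : QuadraticForm F (Fin n → F)) (a b : Fin n → F) :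
    Q (a - b) = Q a + Q b - polar Q a b := by
  have h1 : polar Q (a - b) b = Q a - Q (a - b) - Q b := by
    unfold polar; rw [sub_add_cancel]
  have h2 : polar Q (a - b) b = polar Q a b - polar Q b b := polar_sub_left Q a b b
  have h3 : polar Q b b = 2 * Q b := by
    have := QuadraticMap.polar_self Q b
    simpa [two_mul] using this
  linear_combination h1 - h2 + h3

theorem polar_mulVec (Q : QuadraticForm F (Fin n → F)) (M : Matrix (Fin n) (Fin n) F)
    (hM : ∀ v, Q (M *ᵥ v) = Q v) (x y : Fin n → F) :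
    polar Q (M *ᵥ x) (M *ᵥ y) = polar Q x y := by
  unfold polar
  rw [← Matrix.mulVec_add, hM, hM, hM]

theorem eq_of_form_right (G Gi : Matrix (Fin n) (Fin n) F) (hG' : Gi * G = 1)
    (u u' : Fin n → F) (h : ∀ x, x ⬝ᵥ (G *ᵥ u) = x ⬝ᵥ (G *ᵥ u')) : u = u' := by
  have h1 : G *ᵥ u = G *ᵥ u' := by
    funext i
    have := h (Pi.single i 1)
    simpa using this
  have h2 := congrArg (fun w => Gi *ᵥ w) h1
  simp only [Matrix.mulVec_mulVec, hG', Matrix.one_mulVec] at h2
  exact h2

theorem eq_zero_of_form_left (G Gi : Matrix (Fin n) (Fin n) F) (hG : G * Gi = 1)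
    (a : Fin n → F) (h : ∀ y, a ⬝ᵥ (G *ᵥ y) = 0) : a = 0 := by
  have h1 : a ᵥ* G = 0 := by
    funext i
    have := h (Pi.single i 1)
    rw [Matrix.dotProduct_mulVec] at this
    simpa using this
  have h2 := congrArg (fun w => w ᵥ* Gi) h1
  simp only [Matrix.vecMul_vecMul, hG, Matrix.vecMul_one, Matrix.zero_vecMul] at h2
  exact h2

end gram

section main

variable {n : ℕ} {F : Type*} [Field F] [Fintype F]

local notation "Mat" => Matrix (Fin n) (Fin n) F

theorem mem_iso_iff (Q : (Fin n → F) → F) (g : GL (Fin n) F) :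
    g ∈ Cfsg.isometryGroup F Q ↔ ∀ u, Q ((g : Mat) *ᵥ u) = Q u := by
  unfold Cfsg.isometryGroup Cfsg.preserving
  constructor
  · intro h u
    exact h u u
  · intro h u _
    exact h u

/-- **Odd-order semisimple conjugacy in `O(Q)` is controlled by `GL`.** -/
theorem orth_conj_iff {p : ℕ} [Fact p.Prime] [CharP F p] (Q : QuadraticForm F (Fin n → F))
    (hQ : (polarBilin Q).Nondegenerate) (A B : ↥(Cfsg.isometryGroup F ⇑Q))
    (hodd : Odd (orderOf A)) (hA : (orderOf A).Coprime p) :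
    IsConj A B ↔ IsConj ((A : GL (Fin n) F) : Mat) ((B : GL (Fin n) F) : Mat) := by
  classical
  have hp : p.Prime := Fact.out
  constructor
  · intro h
    exact ((Units.coeHom Mat).comp (Subgroup.subtype _)).map_isConj h
  · rintro ⟨gU, hgU⟩
    set AM : Mat := ((A : GL (Fin n) F) : Mat) with hAM
    set BM : Mat := ((B : GL (Fin n) F) : Mat) with hBM
    set g : Mat := (gU : Mat) with hg
    set gi : Mat := ((gU⁻¹ : Matˣ) : Mat) with hgi
    have hggi : g * gi = 1 := by rw [hg, hgi, ← Units.val_mul, mul_inv_cancel]; rfl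
    have hgig : gi * g = 1 := by rw [hg, hgi, ← Units.val_mul, inv_mul_cancel]; rfl
    have hgAB : g * AM = BM * g := hgU
    have hAQ : ∀ v, Q (AM *ᵥ v) = Q v := (mem_iso_iff _ _).1 A.2
    have hBQ : ∀ v, Q (BM *ᵥ v) = Q v := (mem_iso_iff _ _).1 B.2
    -- Gram matrix
    set G := gramQ Q with hGdef
    obtain ⟨Gi, hG⟩ := (gramQ_isUnit Q hQ).exists_right_inv
    have hG' : Gi * G = 1 := mul_eq_one_comm.1 hG
    have hGs : Gᵀ = G := gramQ_symm Q
    set D := gramD G Gi hG hG' hGs with hD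
    have hDdag : ∀ M, D.dag M = dagG G Gi M := fun M => rfl
    have hiso_dag : ∀ M : Mat, (∀ v, Q (M *ᵥ v) = Q v) → dagG G Gi M * M = 1 := by
      intro M hM
      apply Matrix.mulVec_injective
      funext y
      rw [Matrix.one_mulVec]
      apply eq_of_form_right G Gi hG'
      intro x
      rw [← Matrix.mulVec_mulVec, ← form_dag G Gi hG, ← polar_eq, ← polar_eq, polar_mulVec Q M hM]
    have hA1 : dagG G Gi AM * AM = 1 := hiso_dag AM hAQ
    have hA2 : AM * dagG G Gi AM = 1 := mul_eq_one_comm.1 hA1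
    have hB1 : dagG G Gi BM * BM = 1 := hiso_dag BM hBQ
    have hgAgi : g * AM * gi = BM := by rw [hgAB, Matrix.mul_assoc, hggi, Matrix.mul_one]
    have hBdag : D.dag (g * AM * gi) = g * dagG G Gi AM * gi := by
      rw [hDdag, hgAgi]
      have h1 : (g * dagG G Gi AM * gi) * BM = 1 := by
        rw [← hgAgi]
        calc g * dagG G Gi AM * gi * (g * AM * gi)
            = g * dagG G Gi AM * (gi * g) * AM * gi := by simp only [Matrix.mul_assoc]
          _ = g * (dagG G Gi AM * AM) * gi := by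
              rw [hgig, Matrix.mul_one]; simp only [Matrix.mul_assoc]
          _ = 1 := by rw [hA1, Matrix.mul_one, hggi]
      have hB2 : BM * dagG G Gi BM = 1 := mul_eq_one_comm.1 hB1
      calc dagG G Gi BM = (g * dagG G Gi AM * gi * BM) * dagG G Gi BM := by
            rw [h1, Matrix.one_mul]
        _ = g * dagG G Gi AM * gi * (BM * dagG G Gi BM) := by rw [Matrix.mul_assoc]
        _ = g * dagG G Gi AM * gi := by rw [hB2, Matrix.mul_one]
    -- order
    set N := orderOf A with hN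
    have hAN : AM ^ N = 1 := by
      have h1 := pow_orderOf_eq_one A
      have h2 := congrArg (fun x : ↥(Cfsg.isometryGroup F ⇑Q) => ((x : GL (Fin n) F) : Mat)) h1
      simp only [SubgroupClass.coe_pow, Units.val_pow_eq_pow_val, OneMemClass.coe_one,
        Units.val_one] at h2
      exact h2
    -- Fitting data
    obtain ⟨n₁, hn₁, hi₁⟩ := exists_pow_idem (AM - 1)
    obtain ⟨n₂, hn₂, hi₂⟩ := exists_pow_idem (AM + 1)
    have hk₁ : (AM - 1) * (1 - (AM - 1) ^ n₁) = 0 :=
      kernel_lemma (F := F) p AM N hAN hA n₁ hi₁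
    have hk₂ : (AM + 1) * (1 - (AM + 1) ^ n₂) = 0 := by
      by_cases hp2 : p = 2
      · subst hp2
        have h2 : (2 : Mat) = 0 := by
          have : (2 : F) = 0 := by
            have := CharP.cast_eq_zero F 2
            exact_mod_cast this
          have h3 : (2 : Mat) = algebraMap F Mat 2 := (map_ofNat (algebraMap F Mat) 2).symm
          rw [h3, this, map_zero]
        have h11 : AM + 1 = AM - 1 := by
          have : (1 : Mat) = -1 := by
            rw [eq_neg_iff_add_eq_zero, one_add_one_eq_two, h2]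
          rw [sub_eq_add_neg, ← this]
        rw [h11] at hi₂ ⊢
        exact kernel_lemma (F := F) 2 AM N hAN hA n₂ hi₂
      · have hodd2 : Nat.Coprime 2 p := by
          rw [Nat.coprime_primes Nat.prime_two hp]
          exact fun h => hp2 h.symm
        have hu1 : (-AM - 1) = -(AM + 1) := by abel
        have hsq : ∀ k : ℕ, (-AM - 1) ^ (2 * k) = (AM + 1) ^ (2 * k) := by
          intro k
          rw [hu1, pow_mul, pow_mul, neg_sq]
        have hpow2 : (AM + 1) ^ (2 * n₂) = (AM + 1) ^ n₂ := by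
          rw [two_mul, pow_add, hi₂]
        have hM : (-AM) ^ (2 * N) = 1 := by
          rw [pow_mul, neg_sq, ← pow_mul, mul_comm, pow_mul, hAN, one_pow]
        have := kernel_lemma (F := F) p (-AM) (2 * N) hM (Nat.Coprime.mul_left hodd2 hA) (2 * n₂)
          (by rw [hsq, hpow2, hi₂])
        rw [hsq, hpow2, hu1, neg_mul, neg_eq_zero] at this
        exact this
    obtain ⟨c, ci, hc1, hc2, hcA, hciA, hHf⟩ := main_abs_orth D AM (dagG G Gi AM) g gi
      hA2 hA1 rfl hggi hgig hBdag N hodd hAN n₁ n₂ hn₁ hn₂ hi₁ hi₂ hk₂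
    rw [hDdag] at hHf
    -- geometric part
    obtain ⟨f, hf⟩ : ∃ f : Mat, f = (AM - 1) ^ n₁ := ⟨_, rfl⟩
    obtain ⟨g', hg'⟩ : ∃ g' : Mat, g' = g * ci := ⟨_, rfl⟩
    obtain ⟨g'i, hg'i⟩ : ∃ g'i : Mat, g'i = c * gi := ⟨_, rfl⟩
    rw [← hf, ← hg'] at hHf
    rw [← hf] at hi₁ hk₁
    have hg'1 : g' * g'i = 1 := by
      rw [hg', hg'i]
      calc g * ci * (c * gi) = g * (ci * c) * gi := by simp only [Matrix.mul_assoc]
        _ = 1 := by rw [hc2, Matrix.mul_one, hggi]
    have hg'2 : g'i * g' = 1 := mul_eq_one_comm.1 hg'1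
    have hg'A : g' * AM = BM * g' := by
      rw [hg']
      calc g * ci * AM = g * (ci * AM) := by rw [Matrix.mul_assoc]
        _ = g * AM * ci := by rw [hciA, Matrix.mul_assoc]
        _ = BM * (g * ci) := by rw [hgAB, Matrix.mul_assoc]
    have hcAf : AM * f = f * AM := by
      rw [hf]
      exact ((Commute.sub_right (Commute.refl AM) (Commute.one_right AM)).pow_right n₁).eq
    have hcA1f : ∀ k : ℕ, (AM - 1) ^ k * f = f * (AM - 1) ^ k := by
      intro k
      rw [hf, ← pow_add, ← pow_add, add_comm]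
    have hdf : dagG G Gi f = f := by
      have := dag_fixed D AM (dagG G Gi AM) hA2 hA1 rfl 1 (fun x => by rw [one_mul, mul_one])
        (one_mul 1) D.one n₁ (by rw [← hf]; exact hi₁)
      rw [← hf] at this
      exact this
    have hff : f * f = f := hi₁
    have hpowf : (AM - 1) * (AM - 1) ^ (n₁ - 1) = f := by
      rw [← pow_succ', Nat.sub_add_cancel hn₁, hf]
    -- polar isometry on range f
    have hpolU : ∀ x y, polar Q (g' *ᵥ (f *ᵥ x)) (g' *ᵥ (f *ᵥ y)) = polar Q (f *ᵥ x) (f *ᵥ y) := by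
      intro x y
      have h3 : dagG G Gi g' *ᵥ (g' *ᵥ (f *ᵥ y)) = f *ᵥ y := by
        rw [Matrix.mulVec_mulVec, Matrix.mulVec_mulVec, hHf]
      rw [polar_eq, polar_eq, form_dag G Gi hG, h3]
    -- Q isometry on range f
    have hQU : ∀ x, Q (g' *ᵥ (f *ᵥ x)) = Q (f *ᵥ x) := by
      intro x
      obtain ⟨z, hz⟩ : ∃ z, z = ((AM - 1) ^ (n₁ - 1)) *ᵥ (f *ᵥ x) := ⟨_, rfl⟩
      have hzU : z = f *ᵥ (((AM - 1) ^ (n₁ - 1)) *ᵥ x) := by
        rw [hz, Matrix.mulVec_mulVec, Matrix.mulVec_mulVec, hcA1f]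
      have hAz : AM *ᵥ z = f *ᵥ (AM *ᵥ (((AM - 1) ^ (n₁ - 1)) *ᵥ x)) := by
        rw [hzU, Matrix.mulVec_mulVec, hcAf, ← Matrix.mulVec_mulVec]
      have hu : f *ᵥ x = AM *ᵥ z - z := by
        have h1 : (AM - 1) *ᵥ z = f *ᵥ x := by
          rw [hz, Matrix.mulVec_mulVec, hpowf, Matrix.mulVec_mulVec, hff]
        rw [← h1, Matrix.sub_mulVec, Matrix.one_mulVec]
      have e1 : Q (g' *ᵥ (AM *ᵥ z - z)) = Q (BM *ᵥ (g' *ᵥ z) - g' *ᵥ z) := by
        rw [Matrix.mulVec_sub, Matrix.mulVec_mulVec, hg'A, ← Matrix.mulVec_mulVec]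
      rw [hu, e1, Q_sub, Q_sub, hBQ, hAQ]
      have p1 : polar Q (g' *ᵥ z) (g' *ᵥ z) = polar Q z z := by
        rw [hzU]; exact hpolU _ _
      have p2 : polar Q (BM *ᵥ (g' *ᵥ z)) (g' *ᵥ z) = polar Q (AM *ᵥ z) z := by
        rw [Matrix.mulVec_mulVec, ← hg'A, ← Matrix.mulVec_mulVec, hAz, hzU]
        exact hpolU _ _
      have q1 : polar Q (g' *ᵥ z) (g' *ᵥ z) = 2 * Q (g' *ᵥ z) := by
        have := QuadraticMap.polar_self Q (g' *ᵥ z)
        simpa [two_mul] using this
      have q2 : polar Q z z = 2 * Q z := by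
        have := QuadraticMap.polar_self Q z
        simpa [two_mul] using this
      linear_combination p1 - q1 + q2 - p2
    -- Witt extension
    let U : Submodule F (Fin n → F) := LinearMap.range (Matrix.mulVecLin f)
    let φ : U →ₗ[F] (Fin n → F) := (Matrix.mulVecLin g').comp U.subtype
    have hφinj : Function.Injective φ := by
      intro a b hab
      have h1 : g' *ᵥ (a : Fin n → F) = g' *ᵥ (b : Fin n → F) := hab
      have h2 := congrArg (fun w => g'i *ᵥ w) h1
      simp only [Matrix.mulVec_mulVec, hg'2, Matrix.one_mulVec] at h2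
      exact Subtype.ext h2
    have hφQ : ∀ u : U, Q (φ u) = Q (u : Fin n → F) := by
      rintro ⟨u, x, rfl⟩
      exact hQU x
    obtain ⟨T, hTQ, hTU⟩ := Cfsg.Agent.Helper14.Witt.witt_aux Q hQ _ U rfl φ hφinj hφQ
    have hTf : ∀ x, T (f *ᵥ x) = g' *ᵥ (f *ᵥ x) := fun x => hTU ⟨f *ᵥ x, x, rfl⟩
    have hTpol : ∀ a b, polar Q (T a) (T b) = polar Q a b := by
      intro a b; unfold polar; rw [← map_add, hTQ, hTQ, hTQ]
    obtain ⟨TM, hTM⟩ : ∃ TM : Mat, TM = LinearMap.toMatrix' T.toLinearMap := ⟨_, rfl⟩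
    have hTv : ∀ v, TM *ᵥ v = T v := by
      intro v
      rw [hTM, ← Matrix.toLin'_apply, Matrix.toLin'_toMatrix']; rfl
    obtain ⟨TMi, hTMi⟩ : ∃ TMi : Mat, TMi = LinearMap.toMatrix' T.symm.toLinearMap := ⟨_, rfl⟩
    have hTT : TM * TMi = 1 := by
      rw [hTM, hTMi, ← LinearMap.toMatrix'_comp]
      have : T.toLinearMap ∘ₗ T.symm.toLinearMap = LinearMap.id := by
        ext v; simp
      rw [this, LinearMap.toMatrix'_id]
    have hTT' : TMi * TM = 1 := mul_eq_one_comm.1 hTT
    -- the B-side idempotent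
    have hB2 : BM * dagG G Gi BM = 1 := mul_eq_one_comm.1 hB1
    obtain ⟨fB, hfB⟩ : ∃ fB : Mat, fB = g' * f * g'i := ⟨_, rfl⟩
    have hg'AB : g' * AM * g'i = BM := by rw [hg'A, Matrix.mul_assoc, hg'1, Matrix.mul_one]
    have hfBpow : fB = (BM - 1) ^ n₁ := by
      rw [hfB, hf, conj_pow g' g'i _ hg'1 hg'2, mul_sub, mul_one, sub_mul, hg'AB, hg'1]
    have hfBfB : fB * fB = fB := by
      rw [hfB]
      calc g' * f * g'i * (g' * f * g'i) = g' * f * (g'i * g') * f * g'i := by
            simp only [Matrix.mul_assoc]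
        _ = g' * (f * f) * g'i := by rw [hg'2, Matrix.mul_one]; simp only [Matrix.mul_assoc]
        _ = g' * f * g'i := by rw [hff]
    have hdfB : dagG G Gi fB = fB := by
      have := dag_fixed D BM (dagG G Gi BM) hB2 hB1 rfl 1 (fun x => by rw [one_mul, mul_one])
        (one_mul 1) D.one n₁ (by rw [← hfBpow]; exact hfBfB)
      rw [← hfBpow] at this
      exact this
    have hkB : (BM - 1) * (1 - fB) = 0 := by
      have h1 : BM - 1 = g' * (AM - 1) * g'i := by
        rw [mul_sub, mul_one, sub_mul, hg'AB, hg'1]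
      have h2 : 1 - fB = g' * (1 - f) * g'i := by
        rw [mul_sub, mul_one, sub_mul, hg'1, hfB]
      rw [h1, h2]
      calc g' * (AM - 1) * g'i * (g' * (1 - f) * g'i)
          = g' * (AM - 1) * (g'i * g') * (1 - f) * g'i := by simp only [Matrix.mul_assoc]
        _ = g' * ((AM - 1) * (1 - f)) * g'i := by
            rw [hg'2, Matrix.mul_one]; simp only [Matrix.mul_assoc]
        _ = 0 := by rw [hk₁, Matrix.mul_zero, Matrix.zero_mul]
    -- conjugation
    have hconj : TM * AM = BM * TM := by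
      apply Matrix.mulVec_injective
      funext v
      rw [← Matrix.mulVec_mulVec, ← Matrix.mulVec_mulVec, hTv, hTv]
      obtain ⟨w, hw⟩ : ∃ w, w = v - f *ᵥ v := ⟨_, rfl⟩
      have hv : v = f *ᵥ v + w := by rw [hw]; abel
      have hfw : f *ᵥ w = 0 := by
        rw [hw, Matrix.mulVec_sub, Matrix.mulVec_mulVec, hff, sub_self]
      have hAw : AM *ᵥ w = w := by
        have h1 : (AM - 1) *ᵥ w = 0 := by
          have : w = (1 - f) *ᵥ v := by rw [hw, Matrix.sub_mulVec, Matrix.one_mulVec]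
          rw [this, Matrix.mulVec_mulVec, hk₁, Matrix.zero_mulVec]
        rw [Matrix.sub_mulVec, Matrix.one_mulVec, sub_eq_zero] at h1
        exact h1
      have h1 : T (AM *ᵥ (f *ᵥ v)) = BM *ᵥ T (f *ᵥ v) := by
        have : AM *ᵥ (f *ᵥ v) = f *ᵥ (AM *ᵥ v) := by
          rw [Matrix.mulVec_mulVec, hcAf, ← Matrix.mulVec_mulVec]
        rw [this, hTf, ← this, hTf, Matrix.mulVec_mulVec, hg'A, ← Matrix.mulVec_mulVec]
      have h2 : BM *ᵥ T w = T w := by
        have hperp : ∀ y, (T w) ⬝ᵥ (G *ᵥ (fB *ᵥ y)) = 0 := by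
          intro y
          have e1 : fB *ᵥ y = T (f *ᵥ (g'i *ᵥ y)) := by
            rw [hTf, hfB, Matrix.mulVec_mulVec, Matrix.mulVec_mulVec, Matrix.mul_assoc]
          rw [e1, ← polar_eq, hTpol, polar_eq, ← hdf, ← form_dag G Gi hG, hfw, zero_dotProduct]
        have hfBT : fB *ᵥ T w = 0 := by
          apply eq_zero_of_form_left G Gi hG
          intro y
          rw [form_dag G Gi hG, hdfB]
          exact hperp y
        have h3 : (BM - 1) *ᵥ T w = 0 := by
          have : T w = (1 - fB) *ᵥ T w := by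
            rw [Matrix.sub_mulVec, Matrix.one_mulVec, hfBT, sub_zero]
          rw [this, Matrix.mulVec_mulVec, hkB, Matrix.zero_mulVec]
        rw [Matrix.sub_mulVec, Matrix.one_mulVec, sub_eq_zero] at h3
        exact h3
      conv_lhs => rw [hv, Matrix.mulVec_add, map_add, h1, hAw]
      conv_rhs => rw [hv, map_add, Matrix.mulVec_add, h2]
    have hTMQ : ∀ v, Q (TM *ᵥ v) = Q v := fun v => by rw [hTv, hTQ]
    let TU : GL (Fin n) F := ⟨TM, TMi, hTT, hTT'⟩
    have hTUmem : TU ∈ Cfsg.isometryGroup F ⇑Q := (mem_iso_iff _ _).2 hTMQ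
    rw [isConj_iff]
    refine ⟨⟨TU, hTUmem⟩, ?_⟩
    rw [mul_inv_eq_iff_eq_mul]
    apply Subtype.ext
    apply Units.ext
    show TM * AM = BM * TM
    exact hconj

end main

end Cfsg.Agent.Helper43.OrthConj
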