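import Mathlib

set_option autoImplicit false

namespace Cfsg.Agent.Helper43

open Module QuadraticMap

section

variable {F V : Type*} [Field F] [Finite F] [CharP F 2] [AddCommGroup V] [Module F V]
  [FiniteDimensional F V]

/-- In characteristic two over a finite field, an endomorphism preserving a nondegenerate bilinear form `Bs`
that is the polar form of a quadratic form `Q₀` preserves some quadratic form with the same polar form. -/
theorem exists_invariant_quadratic (Bs : LinearMap.BilinForm F V) (hBs : Bs.Nondegenerate)
    (Q₀ : QuadraticForm F V) (hQ₀ : ∀ u v, polar Q₀ u v = Bs u v)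
    (a : V →ₗ[F] V) (ha : ∀ u v, Bs (a u) (a v) = Bs u v) :
    ∃ Q : QuadraticForm F V, (∀ u v, polar Q u v = Bs u v) ∧ ∀ v, Q (a v) = Q v := by
  have : ExpChar F 2 := ExpChar.prime Nat.prime_two
  -- symmetry of Bs
  have hsymm : ∀ u v, Bs u v = Bs v u := by
    intro u v
    rw [← hQ₀, ← hQ₀, polar_comm]
  have hadd : ∀ x y, Q₀ (x + y) = Q₀ x + Q₀ y + Bs x y := by
    intro x y
    rw [← hQ₀]; unfold polar; ring
  -- the defect D
  set D : V → F := fun v => Q₀ (a v) + Q₀ v with hD
  have hDadd : ∀ u v, D (u + v) = D u + D v := by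
    intro u v
    simp only [hD, map_add, hadd, ha]
    have := CharTwo.add_self_eq_zero (Bs u v)
    linear_combination this
  have hDsmul : ∀ (c : F) v, D (c • v) = c ^ 2 * D v := by
    intro c v
    simp only [hD, map_smul, QuadraticMap.map_smul, smul_eq_mul]
    ring
  -- square root
  let sq := (frobeniusEquiv F 2).symm
  have hsq : ∀ x : F, (sq x) ^ 2 = x := fun x => frobeniusEquiv_symm_pow_p F 2 x
  have hsq_inj : ∀ x y : F, x ^ 2 = y ^ 2 → x = y := by
    intro x y h
    have := (frobeniusEquiv F 2).injective (a₁ := x) (a₂ := y) (by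
      simpa [frobeniusEquiv_apply, frobenius_def] using h)
    exact this
  let lam : V →ₗ[F] F :=
    { toFun := fun v => sq (D v)
      map_add' := by
        intro u v
        apply hsq_inj
        rw [hsq, CharTwo.add_sq, hsq, hsq, hDadd]
      map_smul' := by
        intro c v
        apply hsq_inj
        rw [hsq, RingHom.id_apply, smul_eq_mul, mul_pow, hsq, hDsmul] }
  have hlam : ∀ v, (lam v) ^ 2 = D v := fun v => hsq (D v)
  -- represent lam by a vector
  set w₀ := (LinearMap.BilinForm.toDual Bs hBs).symm lam with hw₀
  have hw₀' : ∀ v, Bs w₀ v = lam v := by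
    intro v
    rw [← LinearMap.BilinForm.toDual_def hBs, hw₀, LinearEquiv.apply_symm_apply]
  -- w₀ is orthogonal to the fixed space
  set T : V →ₗ[F] V := a - LinearMap.id with hT
  have hker : ∀ k ∈ LinearMap.ker T, a k = k := by
    intro k hk
    have : T k = 0 := hk
    rw [hT, LinearMap.sub_apply, LinearMap.id_apply, sub_eq_zero] at this
    exact this
  have hrange : LinearMap.range T = LinearMap.BilinForm.orthogonal Bs (LinearMap.ker T) := by
    apply Submodule.eq_of_le_of_finrank_eq
    · rintro _ ⟨x, rfl⟩
      rw [LinearMap.BilinForm.mem_orthogonal_iff]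
      intro k hk
      show Bs k (T x) = 0
      rw [hT, LinearMap.sub_apply, LinearMap.id_apply, map_sub]
      nth_rewrite 1 [← hker k hk]
      rw [ha, sub_self]
    · rw [LinearMap.BilinForm.finrank_orthogonal hBs]
      have := T.finrank_range_add_finrank_ker
      omega
  have hw₀mem : w₀ ∈ LinearMap.range T := by
    rw [hrange, LinearMap.BilinForm.mem_orthogonal_iff]
    intro k hk
    show Bs k w₀ = 0
    rw [hsymm, hw₀']
    have hDk : D k = 0 := by
      simp only [hD, hker k hk]
      exact CharTwo.add_self_eq_zero _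
    have := hlam k
    rw [hDk] at this
    exact pow_eq_zero_iff (by norm_num) |>.mp this
  obtain ⟨w', hw'⟩ := hw₀mem
  have hw'₂ : w₀ = a w' + w' := by
    rw [← hw', hT, LinearMap.sub_apply, LinearMap.id_apply, sub_eq_add_neg]
    congr 1
    have : (2 : F) = 0 := CharTwo.two_eq_zero
    have h2 : (2 : F) • w' = 0 := by rw [this, zero_smul]
    rw [two_smul] at h2
    exact (eq_neg_of_add_eq_zero_left h2).symm
  -- the new quadratic form
  set mu : V →ₗ[F] F := Bs.flip (a w') with hmu
  have hmu' : ∀ v, mu v = Bs v (a w') := fun v => rfl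
  refine ⟨Q₀ + linMulLin mu mu, ?_, ?_⟩
  · intro u v
    have h1 : polar (⇑(Q₀ + linMulLin mu mu)) u v = polar Q₀ u v + polar (linMulLin mu mu) u v := by
      rw [FunLike.coe_add, polar_add]
    rw [h1, hQ₀]
    have h2 : polar (linMulLin mu mu) u v = 0 := by
      unfold polar
      simp only [linMulLin_apply, map_add]
      have := CharTwo.add_self_eq_zero (mu u * mu v)
      linear_combination this
    rw [h2, add_zero]
  · intro v
    simp only [add_apply, linMulLin_apply, hmu']
    have hD' : Q₀ (a v) = Q₀ v + D v := by
      simp only [hD]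
      have := CharTwo.add_self_eq_zero (Q₀ v)
      linear_combination -this
    rw [hD', ← hlam v, ← hw₀', hsymm w₀ v, hw'₂, map_add, ha]
    have := CharTwo.add_sq (Bs v (a w')) (Bs v w')
    have h3 := CharTwo.add_self_eq_zero (Bs v w' * Bs v w')
    linear_combination this + h3

end

end Cfsg.Agent.Helper43
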