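import Mathlib
import Cfsg.Agent.Lib.Helper43.OMin4

set_option autoImplicit false
set_option linter.unusedSectionVars false

/-!
# Index bookkeeping in `ΓO(Q)`: the order of `Out(PΩ(Q))` in odd characteristic
-/

namespace Cfsg.Agent.Helper43.OMin

open Matrix QuadraticMap Cfsg.Agent.Helper13 Cfsg.Agent.Helper43 Cfsg.Agent.Helper43.OGam
  Cfsg.Agent.Helper5.OrthAut Cfsg.Agent.Helper16.OSemiAut

section sighom

variable {F : Type*} [Field F] {ι : Type} [Fintype ι] [DecidableEq ι] [Nonempty ι]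
  (Q : (ι → F) → F)

theorem sig_unique (L : GamO Q) (σ : F ≃+* F)
    (h : ∀ (c : F) (x : ι → F),
      (L : Equiv.Perm (ι → F)) (c • x) = σ c • (L : Equiv.Perm (ι → F)) x) :
    sig Q L = σ := by
  obtain ⟨i₀⟩ := ‹Nonempty ι›
  apply RingEquiv.ext
  intro c
  obtain ⟨x, hx⟩ := (L : Equiv.Perm (ι → F)).surjective (Pi.single i₀ 1)
  have h1 : (L : Equiv.Perm (ι → F)) (c • x) = sig Q L c • (L : Equiv.Perm (ι → F)) x :=
    sig_spec Q L c x
  rw [h c x, hx] at h1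
  have := congrFun h1 i₀
  simpa using this.symm

/-- The field automorphism of a semisimilarity, as a homomorphism. -/
noncomputable def sigHom : GamO Q →* RingAut F where
  toFun := sig Q
  map_one' := sig_unique Q 1 1 (fun c x => rfl)
  map_mul' L M := sig_unique Q (L * M) (sig Q L * sig Q M) (fun c x => by
    show (L : Equiv.Perm (ι → F)) ((M : Equiv.Perm (ι → F)) (c • x)) =
      (sig Q L * sig Q M) c • (L : Equiv.Perm (ι → F)) ((M : Equiv.Perm (ι → F)) x)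
    have hM : (M : Equiv.Perm (ι → F)) (c • x) = sig Q M c • (M : Equiv.Perm (ι → F)) x :=
      sig_spec Q M c x
    rw [hM]
    exact sig_spec Q L (sig Q M c) ((M : Equiv.Perm (ι → F)) x))

theorem sigHom_apply (L : GamO Q) : sigHom Q L = sig Q L := rfl

theorem sigHom_ker : (sigHom Q).ker = Lin Q := by
  ext L
  rw [MonoidHom.mem_ker, mem_Lin, sigHom_apply]
  constructor
  · intro h c x
    have h1 : (L : Equiv.Perm (ι → F)) (c • x) = sig Q L c • (L : Equiv.Perm (ι → F)) x :=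
      sig_spec Q L c x
    rw [h] at h1
    exact h1
  · intro h
    exact sig_unique Q L 1 h

theorem index_Lin [Fintype F] (p f : ℕ) [Fact p.Prime] (hF : Fintype.card F = p ^ f)
    (hsurj : ∀ σ : F ≃+* F, ∃ L : GamO Q, ∀ (c : F) (x : ι → F),
      (L : Equiv.Perm (ι → F)) (c • x) = σ c • (L : Equiv.Perm (ι → F)) x) :
    (Lin Q).index = f := by
  have hchar : CharP F p := charP_of_card_eq_prime_pow hF
  rw [← sigHom_ker, Subgroup.index_ker]
  have hr : (sigHom Q).range = ⊤ := by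
    rw [MonoidHom.range_eq_top]
    intro σ
    obtain ⟨L, hL⟩ := hsurj σ
    exact ⟨L, sig_unique Q L σ hL⟩
  rw [hr, Subgroup.card_top]
  exact (Cfsg.Agent.Helper41.ringAut_cyclic_card (F := F) p f hF).2

end sighom

section muhom

variable {F : Type*} [Field F] {ι : Type} [Fintype ι] [DecidableEq ι] [Nonempty ι]
  (Q : QuadraticForm F (ι → F))

theorem Lin_mu_spec (L : GamO ⇑Q) (hL : L ∈ Lin ⇑Q) (x : ι → F) :
    Q ((L : Equiv.Perm (ι → F)) x) = (mu ⇑Q L : F) * Q x := by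
  have h1 := mu_spec ⇑Q L x
  have h2 : sig ⇑Q L = 1 := sig_unique ⇑Q L 1 hL
  rw [h2] at h1
  exact h1

theorem mu_unique (v₁ : ι → F) (hv₁ : Q v₁ ≠ 0) (L : GamO ⇑Q) (hL : L ∈ Lin ⇑Q) (ν : Fˣ)
    (h : ∀ x, Q ((L : Equiv.Perm (ι → F)) x) = (ν : F) * Q x) : mu ⇑Q L = ν := by
  apply Units.ext
  have := Lin_mu_spec Q L hL v₁
  rw [h v₁] at this
  exact (mul_right_cancel₀ hv₁ this).symm

/-- The multiplier of a similarity, as a homomorphism. -/
noncomputable def muHom (v₁ : ι → F) (hv₁ : Q v₁ ≠ 0) : ↥(Lin ⇑Q) →* Fˣ where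
  toFun L := mu ⇑Q L.1
  map_one' := mu_unique Q v₁ hv₁ 1 (one_mem _) 1 (fun x => by simp)
  map_mul' L M := mu_unique Q v₁ hv₁ _ (mul_mem L.2 M.2) _ (fun x => by
    show Q ((L.1 : Equiv.Perm (ι → F)) ((M.1 : Equiv.Perm (ι → F)) x)) = _
    rw [Lin_mu_spec Q L.1 L.2, Lin_mu_spec Q M.1 M.2, Units.val_mul, mul_assoc])

theorem muHom_apply (v₁ : ι → F) (hv₁ : Q v₁ ≠ 0) (L : ↥(Lin ⇑Q)) :
    muHom Q v₁ hv₁ L = mu ⇑Q L.1 := rfl

variable [Fintype F] [DecidableEq F]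

/-- The square class of the multiplier. -/
noncomputable def sqHom (v₁ : ι → F) (hv₁ : Q v₁ ≠ 0) : ↥(Lin ⇑Q) →* ℤˣ :=
  (quadraticChar F).toUnitHom.comp (muHom Q v₁ hv₁)

theorem mem_ker_sqHom (v₁ : ι → F) (hv₁ : Q v₁ ≠ 0) (L : ↥(Lin ⇑Q)) :
    L ∈ (sqHom Q v₁ hv₁).ker ↔ IsSquare ((mu ⇑Q L.1 : Fˣ) : F) := by
  rw [MonoidHom.mem_ker, sqHom, MonoidHom.comp_apply, muHom_apply,
    ← quadraticChar_one_iff_isSquare (Units.ne_zero _), ← MulChar.coe_toUnitHom]
  constructor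
  · intro h
    rw [h]; rfl
  · intro h
    exact Units.ext h

theorem index_ker_sqHom (v₁ : ι → F) (hv₁ : Q v₁ ≠ 0)
    (hδ : ∃ L : ↥(Lin ⇑Q), ¬ IsSquare ((mu ⇑Q L.1 : Fˣ) : F)) :
    (sqHom Q v₁ hv₁).ker.index = 2 := by
  rw [Subgroup.index_ker]
  have hr : (sqHom Q v₁ hv₁).range = ⊤ := by
    rw [MonoidHom.range_eq_top]
    intro u
    rcases Int.units_eq_one_or u with rfl | rfl
    · exact ⟨1, map_one _⟩
    · obtain ⟨L, hL⟩ := hδ
      refine ⟨L, ?_⟩
      apply Units.ext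
      rw [sqHom, MonoidHom.comp_apply, muHom_apply, MulChar.coe_toUnitHom]
      exact quadraticChar_neg_one_iff_not_isSquare.mpr hL
  rw [hr, Subgroup.card_top]
  simp

end muhom

end Cfsg.Agent.Helper43.OMin
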