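import Mathlib
import Cfsg.Agent.Lib.Helper43.OMin5

set_option autoImplicit false
set_option linter.unusedSectionVars false

/-!
# The order of `Out(PΩ(Q))` in odd characteristic, given `Aut = PΓO`
-/

namespace Cfsg.Agent.Helper43.OMin

open Matrix QuadraticMap Cfsg.Agent.Helper13 Cfsg.Agent.Helper43 Cfsg.Agent.Helper43.OGam
  Cfsg.Agent.Helper5.OrthAut Cfsg.Agent.Helper16.OSemiAut

section generic

variable {F : Type*} [Field F] {ι : Type} [Fintype ι] [DecidableEq ι] (Q : (ι → F) → F)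

/-- Isometries as semisimilarities, as a homomorphism. -/
def isoGamHom : ↥(Cfsg.isometryGroup F Q) →* GamO Q where
  toFun := isoGam Q
  map_one' := by
    apply Subtype.ext
    apply Equiv.ext
    intro x
    rw [isoGam_apply]
    simp
  map_mul' g h := by
    apply Subtype.ext
    apply Equiv.ext
    intro x
    show _ = (isoGam Q g : Equiv.Perm (ι → F)) ((isoGam Q h : Equiv.Perm (ι → F)) x)
    rw [isoGam_apply, isoGam_apply, isoGam_apply, Matrix.mulVec_mulVec]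
    rfl

theorem isoGamHom_apply (g : ↥(Cfsg.isometryGroup F Q)) (x : ι → F) :
    (isoGamHom Q g : Equiv.Perm (ι → F)) x = ((g : GL ι F) : Matrix ι ι F) *ᵥ x := rfl

/-- The preimage of the inner automorphisms. -/
noncomputable def A0 : Subgroup (GamO Q) := (Cfsg.Inn (Cfsg.POmega F Q)).comap (Theta Q)

instance A0_normal : (A0 Q).Normal := by
  unfold A0
  infer_instance

theorem mem_A0 (L : GamO Q) : L ∈ A0 Q ↔ Theta Q L ∈ Cfsg.Inn (Cfsg.POmega F Q) := Iff.rfl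

theorem index_A0 (hsurj : Function.Surjective (Theta Q)) :
    (A0 Q).index = Nat.card (Cfsg.Out (Cfsg.POmega F Q)) := by
  unfold A0
  rw [Subgroup.index_comap_of_surjective _ hsurj]
  rfl

end generic

section quad

variable {F : Type*} [Field F] [Fintype F] {ι : Type} [Fintype ι] [DecidableEq ι]
  (Q : QuadraticForm F (ι → F))

/-- A similarity whose multiplier is a square is a scalar times an isometry. -/
theorem exists_iso_of_sq (hι : Nonempty ι) (L : GamO ⇑Q) (hL : L ∈ Lin ⇑Q) (c : F)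
    (hc : ((mu ⇑Q L : Fˣ) : F) = c * c) :
    ∃ (g : ↥(Cfsg.isometryGroup F ⇑Q)), c ≠ 0 ∧
      ∀ x, (L : Equiv.Perm (ι → F)) x = c • (((g : GL ι F) : Matrix ι ι F) *ᵥ x) := by
  have hlin' : ∀ (c : F) (x : ι → F),
      toAdd (⇑Q) L (c • x) = (RingEquiv.refl F) c • toAdd (⇑Q) L x := hL
  set g : GL ι F := colGL (RingEquiv.refl F) (toAdd (⇑Q) L) hlin' with hgdef
  have hg : ∀ x, (L : Equiv.Perm (ι → F)) x = (g : Matrix ι ι F) *ᵥ x := by
    intro x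
    have := colMat_mulVec (RingEquiv.refl F) (toAdd (⇑Q) L) hlin' x
    rw [hgdef, colGL_coe]
    exact this.symm
  have hsim : ∀ x, Q ((g : Matrix ι ι F) *ᵥ x) = (mu (⇑Q) L : F) * Q x := by
    intro x
    rw [← hg]
    exact Lin_mu_spec Q L hL x
  have hc0 : c ≠ 0 := by
    intro h
    rw [h, mul_zero] at hc
    exact Units.ne_zero _ hc
  set cu : Fˣ := Units.mk0 c hc0 with hcu
  set s : GL ι F := (sclHom cu)⁻¹ * g with hs
  have hsmv : ∀ x, (s : Matrix ι ι F) *ᵥ x = c⁻¹ • ((g : Matrix ι ι F) *ᵥ x) := by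
    intro x
    rw [hs, Units.val_mul, ← Matrix.mulVec_mulVec, ← map_inv, sclHom_mulVec]
    simp [hcu]
  have hsO : s ∈ Cfsg.isometryGroup F ⇑Q := by
    rw [mem_iso_iff]
    intro x
    rw [hsmv, QuadraticMap.map_smul, smul_eq_mul, hsim, hc]
    field_simp
  refine ⟨⟨s, hsO⟩, hc0, fun x => ?_⟩
  show _ = c • ((s : Matrix ι ι F) *ᵥ x)
  rw [hsmv, hg, smul_smul, mul_inv_cancel₀ hc0, one_smul]

variable (hQ : (polarBilin Q).Nondegenerate) {k : ℕ}
  (e f : Fin k → (ι → F)) (hef : IsHypFamily Q e f) (hk : 3 ≤ k) (hn : 5 ≤ Fintype.card ι)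

include hQ hef hk hn in
/-- Elements of the preimage of `Inn` are scalar multiples of elements of `Ω`. -/
theorem exists_of_mem_A0 (L : GamO ⇑Q) (hL : L ∈ A0 ⇑Q) :
    ∃ (s : ↥(Cfsg.Omega F ⇑Q)) (c : F), c ≠ 0 ∧ ∀ x, (L : Equiv.Perm (ι → F)) x =
      c • ((((s : ↥(Cfsg.isometryGroup F ⇑Q)) : GL ι F) : Matrix ι ι F) *ᵥ x) := by
  obtain ⟨t, ht⟩ := hL
  obtain ⟨s, rfl⟩ := QuotientGroup.mk_surjective t
  have hS : Theta ⇑Q (isoGam ⇑Q (s : ↥(Cfsg.isometryGroup F ⇑Q))) =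
      MulAut.conj (QuotientGroup.mk s : Cfsg.POmega F ⇑Q) :=
    Theta_of_omega ⇑Q _ s 1 (fun x => by rw [one_smul]; rfl)
  have h1 : Theta ⇑Q ((isoGam ⇑Q (s : ↥(Cfsg.isometryGroup F ⇑Q)))⁻¹ * L) = 1 := by
    rw [map_mul, map_inv, hS, ← ht, inv_mul_cancel]
  obtain ⟨⟨a', ha'0, ha'⟩, -⟩ := rigid Q hQ e f hef hk hn _ h1
    (sig ⇑Q ((isoGam ⇑Q (s : ↥(Cfsg.isometryGroup F ⇑Q)))⁻¹ * L))
    (sig_spec ⇑Q ((isoGam ⇑Q (s : ↥(Cfsg.isometryGroup F ⇑Q)))⁻¹ * L))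
  refine ⟨s, a', ha'0, fun x => ?_⟩
  have h3 : ((isoGam ⇑Q (s : ↥(Cfsg.isometryGroup F ⇑Q)) : GamO ⇑Q) : Equiv.Perm (ι → F))⁻¹
      ((L : Equiv.Perm (ι → F)) x) = a' • x := ha' x
  have h4 : (L : Equiv.Perm (ι → F)) x =
      ((isoGam ⇑Q (s : ↥(Cfsg.isometryGroup F ⇑Q)) : GamO ⇑Q) : Equiv.Perm (ι → F))
        (a' • x) := by
    rw [← h3, perm_apply_inv]
  rw [h4, isoGam_apply, Matrix.mulVec_smul]

theorem mem_A0_of (L : GamO ⇑Q) (s : ↥(Cfsg.isometryGroup F ⇑Q)) (hs : s ∈ Cfsg.Omega F ⇑Q)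
    (c : F) (h : ∀ x, (L : Equiv.Perm (ι → F)) x = c • (((s : GL ι F) : Matrix ι ι F) *ᵥ x)) :
    L ∈ A0 ⇑Q :=
  Theta_of_omega_mem ⇑Q L s hs c h

end quad

section chain

variable {F : Type*} [Field F] [Fintype F] [DecidableEq F] {ι : Type} [Fintype ι] [DecidableEq ι]
  [Nonempty ι] (Q : QuadraticForm F (ι → F)) (v₁ : ι → F) (hv₁ : Q v₁ ≠ 0)

/-- The similarities whose multiplier is a square. -/
noncomputable def A1 : Subgroup (GamO ⇑Q) := (sqHom Q v₁ hv₁).ker.map (Lin ⇑Q).subtype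

theorem mem_A1 (L : GamO ⇑Q) :
    L ∈ A1 Q v₁ hv₁ ↔ L ∈ Lin ⇑Q ∧ IsSquare ((mu ⇑Q L : Fˣ) : F) := by
  constructor
  · rintro ⟨L', hL', rfl⟩
    exact ⟨L'.2, (mem_ker_sqHom Q v₁ hv₁ L').1 hL'⟩
  · rintro ⟨h1, h2⟩
    exact ⟨⟨L, h1⟩, (mem_ker_sqHom Q v₁ hv₁ ⟨L, h1⟩).2 h2, rfl⟩

theorem index_A1 (p f : ℕ) [Fact p.Prime] (hF : Fintype.card F = p ^ f)
    (hsurj : ∀ σ : F ≃+* F, ∃ L : GamO ⇑Q, ∀ (c : F) (x : ι → F),
      (L : Equiv.Perm (ι → F)) (c • x) = σ c • (L : Equiv.Perm (ι → F)) x)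
    (hδ : ∃ L : ↥(Lin ⇑Q), ¬ IsSquare ((mu ⇑Q L.1 : Fˣ) : F)) :
    (A1 Q v₁ hv₁).index = 2 * f := by
  unfold A1
  rw [Subgroup.index_map_subtype, index_ker_sqHom Q v₁ hv₁ hδ, index_Lin ⇑Q p f hF hsurj]

/-- `-1` as an isometry. -/
def negI : ↥(Cfsg.isometryGroup F ⇑Q) :=
  ⟨-1, by
    rw [mem_iso_iff]
    intro x
    rw [Units.val_neg, Units.val_one, Matrix.neg_mulVec, Matrix.one_mulVec, QuadraticMap.map_neg]⟩

theorem negI_mulVec (x : ι → F) :
    (((negI Q : ↥(Cfsg.isometryGroup F ⇑Q)) : GL ι F) : Matrix ι ι F) *ᵥ x = -x := by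
  show ((-1 : GL ι F) : Matrix ι ι F) *ᵥ x = -x
  rw [Units.val_neg, Units.val_one, Matrix.neg_mulVec, Matrix.one_mulVec]

theorem negI_mul_self : negI Q * negI Q = 1 := by
  apply Subtype.ext
  show (-1 : GL ι F) * (-1) = 1
  rw [neg_mul_neg, one_mul]

theorem negI_comm (g : ↥(Cfsg.isometryGroup F ⇑Q)) : negI Q * g = g * negI Q := by
  apply Subtype.ext
  show (-1 : GL ι F) * (g : GL ι F) = (g : GL ι F) * (-1)
  rw [neg_one_mul, mul_neg_one]

theorem isoGamHom_mem_Lin (g : ↥(Cfsg.isometryGroup F ⇑Q)) : isoGamHom ⇑Q g ∈ Lin ⇑Q := by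
  intro c x
  exact pairL_smul (g : GL ι F) (RingEquiv.refl F) c x

variable (hQ : (polarBilin Q).Nondegenerate) {k : ℕ}
  (e f : Fin k → (ι → F)) (hef : IsHypFamily Q e f) (hk : 3 ≤ k) (hn : 5 ≤ Fintype.card ι)

include hQ hef hk hn in
theorem A0_le_A1 : A0 ⇑Q ≤ A1 Q v₁ hv₁ := by
  intro L hL
  obtain ⟨s, c, hc0, hs⟩ := exists_of_mem_A0 Q hQ e f hef hk hn L hL
  have hlin : L ∈ Lin ⇑Q := by
    intro d x
    rw [hs, hs, Matrix.mulVec_smul, smul_comm]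
  rw [mem_A1]
  refine ⟨hlin, ?_⟩
  have hmu : mu ⇑Q L = Units.mk0 (c * c) (mul_ne_zero hc0 hc0) := by
    apply mu_unique Q v₁ hv₁ L hlin
    intro x
    rw [hs, QuadraticMap.map_smul, smul_eq_mul, Units.val_mk0]
    congr 1
    exact (s : ↥(Cfsg.isometryGroup F ⇑Q)).2 x x
  rw [hmu, Units.val_mk0]
  exact ⟨c, rfl⟩

theorem range_le_A1 : (isoGamHom ⇑Q).range ≤ A1 Q v₁ hv₁ := by
  rintro L ⟨g, rfl⟩
  rw [mem_A1]
  refine ⟨isoGamHom_mem_Lin Q g, ?_⟩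
  have hmu : mu ⇑Q (isoGamHom ⇑Q g) = 1 := by
    apply mu_unique Q v₁ hv₁ _ (isoGamHom_mem_Lin Q g)
    intro x
    rw [Units.val_one, one_mul, isoGamHom_apply]
    exact g.2 x x
  rw [hmu, Units.val_one]
  exact ⟨1, by ring⟩

include hQ hef hk hn in
theorem A1_eq : A1 Q v₁ hv₁ = A0 ⇑Q ⊔ (isoGamHom ⇑Q).range := by
  apply le_antisymm
  · intro L hL
    rw [mem_A1] at hL
    obtain ⟨hlin, c, hc⟩ := hL
    obtain ⟨g, hc0, hg⟩ := exists_iso_of_sq Q inferInstance L hlin c hc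
    have hmem : L * isoGamHom ⇑Q g⁻¹ ∈ A0 ⇑Q := by
      apply mem_A0_of Q _ 1 (one_mem _) c
      intro x
      show (L : Equiv.Perm (ι → F)) ((isoGamHom ⇑Q g⁻¹ : Equiv.Perm (ι → F)) x) = _
      rw [hg, isoGamHom_apply, Matrix.mulVec_mulVec, ← Units.val_mul, ← Subgroup.coe_mul,
        mul_inv_cancel]
    have : L = L * isoGamHom ⇑Q g⁻¹ * isoGamHom ⇑Q g := by
      rw [mul_assoc, ← map_mul, inv_mul_cancel, map_one, mul_one]
    rw [this]
    exact Subgroup.mul_mem_sup hmem ⟨g, rfl⟩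
  · exact sup_le (A0_le_A1 Q v₁ hv₁ hQ e f hef hk hn) (range_le_A1 Q v₁ hv₁)

include hQ hef hk hn in
theorem relIndex_A0_A1 :
    (A0 ⇑Q).relIndex (A1 Q v₁ hv₁) = ((A0 ⇑Q).comap (isoGamHom ⇑Q)).index := by
  rw [A1_eq Q v₁ hv₁ hQ e f hef hk hn, Subgroup.relIndex_sup_left, ← Subgroup.index_comap]

include hQ hef hk hn hv₁ in
theorem mem_PM (g : ↥(Cfsg.isometryGroup F ⇑Q)) :
    g ∈ (A0 ⇑Q).comap (isoGamHom ⇑Q) ↔
      g ∈ Cfsg.Omega F ⇑Q ∨ negI Q * g ∈ Cfsg.Omega F ⇑Q := by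
  constructor
  · intro hg
    obtain ⟨s, c, hc0, hs⟩ := exists_of_mem_A0 Q hQ e f hef hk hn _ hg
    have hcc : c * c = 1 := by
      have h1 : Q (((g : GL ι F) : Matrix ι ι F) *ᵥ v₁) = Q v₁ := g.2 v₁ v₁
      have h2 : Q ((((s : ↥(Cfsg.isometryGroup F ⇑Q)) : GL ι F) : Matrix ι ι F) *ᵥ v₁) = Q v₁ :=
        (s : ↥(Cfsg.isometryGroup F ⇑Q)).2 v₁ v₁
      have h3 := hs v₁
      rw [isoGamHom_apply] at h3
      rw [h3, QuadraticMap.map_smul, smul_eq_mul, h2] at h1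
      exact mul_right_cancel₀ hv₁ (by rw [h1, one_mul])
    have hc : c = 1 ∨ c = -1 := mul_self_eq_one_iff.mp hcc
    rcases hc with rfl | rfl
    · left
      have : g = (s : ↥(Cfsg.isometryGroup F ⇑Q)) := by
        apply Subtype.ext
        apply Units.ext
        apply Matrix.mulVec_injective
        funext x
        have := hs x
        rw [isoGamHom_apply, one_smul] at this
        exact this
      rw [this]
      exact s.2
    · right
      have : negI Q * g = (s : ↥(Cfsg.isometryGroup F ⇑Q)) := by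
        apply Subtype.ext
        apply Units.ext
        apply Matrix.mulVec_injective
        funext x
        have := hs x
        rw [isoGamHom_apply] at this
        rw [Subgroup.coe_mul, Units.val_mul, ← Matrix.mulVec_mulVec, negI_mulVec, this]
        simp
      rw [this]
      exact s.2
  · rintro (hg | hg)
    · apply mem_A0_of Q _ g hg 1
      intro x
      rw [one_smul]
      rfl
    · apply mem_A0_of Q _ (negI Q * g) hg (-1)
      intro x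
      rw [isoGamHom_apply, Subgroup.coe_mul, Units.val_mul, ← Matrix.mulVec_mulVec, negI_mulVec]
      simp

include hQ hef hk hn hv₁ in
theorem index_PM (hidx : (Cfsg.Omega F ⇑Q).index = 4) [Decidable (negI Q ∈ Cfsg.Omega F ⇑Q)] :
    ((A0 ⇑Q).comap (isoGamHom ⇑Q)).index =
      if negI Q ∈ Cfsg.Omega F ⇑Q then 4 else 2 := by
  have hmem := mem_PM Q v₁ hv₁ hQ e f hef hk hn
  have hle : Cfsg.Omega F ⇑Q ≤ (A0 ⇑Q).comap (isoGamHom ⇑Q) := fun g hg => (hmem g).2 (Or.inl hg)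
  have hmul := Subgroup.relIndex_mul_index hle
  rw [hidx] at hmul
  split_ifs with hneg
  · have : (A0 ⇑Q).comap (isoGamHom ⇑Q) = Cfsg.Omega F ⇑Q := by
      apply le_antisymm _ hle
      intro g hg
      rcases (hmem g).1 hg with h | h
      · exact h
      · have : g = (negI Q)⁻¹ * (negI Q * g) := by group
        rw [this]
        exact Subgroup.mul_mem _ (Subgroup.inv_mem _ hneg) h
    rw [this]
    exact hidx
  · have h2 : (Cfsg.Omega F ⇑Q).relIndex ((A0 ⇑Q).comap (isoGamHom ⇑Q)) = 2 := by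
      unfold Subgroup.relIndex
      rw [Subgroup.index_eq_two_iff]
      have hnegPM : negI Q ∈ (A0 ⇑Q).comap (isoGamHom ⇑Q) := by
        rw [hmem]
        right
        rw [negI_mul_self]
        exact one_mem _
      refine ⟨⟨negI Q, hnegPM⟩, ?_⟩
      rintro ⟨b, hb⟩
      simp only [Subgroup.mem_subgroupOf, Subgroup.coe_mul]
      by_cases hbΩ : b ∈ Cfsg.Omega F ⇑Q
      · right
        refine ⟨hbΩ, fun h => hneg ?_⟩
        have : negI Q = b⁻¹ * (b * negI Q) := by group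
        rw [this]
        exact Subgroup.mul_mem _ (Subgroup.inv_mem _ hbΩ) h
      · left
        refine ⟨?_, hbΩ⟩
        rcases (hmem b).1 hb with h | h
        · exact absurd h hbΩ
        · rw [← negI_comm]
          exact h
    rw [h2] at hmul
    omega

include hQ hef hk hn hv₁ in
/-- The order of `Out(PΩ(Q))` in terms of whether `-1 ∈ Ω(Q)`. -/
theorem card_out_generic (hgam : Cfsg.gammaPOmega F ⇑Q = ⊤)
    (hidx : (Cfsg.Omega F ⇑Q).index = 4) [Decidable (negI Q ∈ Cfsg.Omega F ⇑Q)]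
    (p f' : ℕ) [Fact p.Prime] (hF : Fintype.card F = p ^ f')
    (hsurj : ∀ σ : F ≃+* F, ∃ L : GamO ⇑Q, ∀ (c : F) (x : ι → F),
      (L : Equiv.Perm (ι → F)) (c • x) = σ c • (L : Equiv.Perm (ι → F)) x)
    (hδ : ∃ L : ↥(Lin ⇑Q), ¬ IsSquare ((mu ⇑Q L.1 : Fˣ) : F)) :
    Nat.card (Cfsg.Out (Cfsg.POmega F ⇑Q)) =
      (if negI Q ∈ Cfsg.Omega F ⇑Q then 8 else 4) * f' := by
  rw [← index_A0 ⇑Q (Theta_surjective ⇑Q hgam),
    ← Subgroup.relIndex_mul_index (A0_le_A1 Q v₁ hv₁ hQ e f hef hk hn),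
    index_A1 Q v₁ hv₁ p f' hF hsurj hδ, relIndex_A0_A1 Q v₁ hv₁ hQ e f hef hk hn,
    index_PM Q v₁ hv₁ hQ e f hef hk hn hidx]
  split_ifs <;> ring

end chain

end Cfsg.Agent.Helper43.OMin
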