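import Mathlib

set_option autoImplicit false

namespace Cfsg.Agent.Helper43

open Module

theorem finrank_ker_comp_le {K V : Type*} [Field K] [AddCommGroup V] [Module K V]
    [FiniteDimensional K V] (f g : V →ₗ[K] V) :
    finrank K (LinearMap.ker (g ∘ₗ f)) ≤ finrank K (LinearMap.ker f) + finrank K (LinearMap.ker g) := by
  let f' : LinearMap.ker (g ∘ₗ f) →ₗ[K] LinearMap.ker g :=
    (f.domRestrict (LinearMap.ker (g ∘ₗ f))).codRestrict (LinearMap.ker g) (by
      rintro ⟨x, hx⟩
      simpa using hx)
  have h1 := f'.finrank_range_add_finrank_ker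
  have h2 : finrank K (LinearMap.range f') ≤ finrank K (LinearMap.ker g) := Submodule.finrank_le _
  have h3 : finrank K (LinearMap.ker f') ≤ finrank K (LinearMap.ker f) := by
    let i : LinearMap.ker f' →ₗ[K] LinearMap.ker f :=
      ((LinearMap.ker (g ∘ₗ f)).subtype ∘ₗ (LinearMap.ker f').subtype).codRestrict (LinearMap.ker f) (by
        rintro ⟨⟨x, hx⟩, hx'⟩
        have : f' ⟨x, hx⟩ = 0 := hx'
        have h4 := congrArg Subtype.val this
        simpa [f'] using h4)
    apply LinearMap.finrank_le_finrank_of_injective (f := i)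
    intro a b hab
    have := congrArg Subtype.val hab
    apply Subtype.ext
    apply Subtype.ext
    simpa [i] using this
  omega

theorem finrank_ker_pow_le {K V : Type*} [Field K] [AddCommGroup V] [Module K V]
    [FiniteDimensional K V] (f : Module.End K V) (k : ℕ) :
    finrank K (LinearMap.ker (f ^ k)) ≤ k * finrank K (LinearMap.ker f) := by
  induction k with
  | zero => simp [Module.End.one_eq_id]
  | succ k ih =>
    have h := finrank_ker_comp_le (f ^ k) f
    have e : f ^ (k + 1) = f ∘ₗ (f ^ k) := by
      rw [pow_succ']; rfl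
    rw [e]
    have : (k + 1) * finrank K (LinearMap.ker f) = k * finrank K (LinearMap.ker f) + finrank K (LinearMap.ker f) := by ring
    omega

/-- For a nilpotent endomorphism `f` with `f ^ n = 0` on an `n`-dimensional space whose kernel is at most
one-dimensional, `ker (f ^ k)` has dimension exactly `k` for `k ≤ n`. -/
theorem finrank_ker_pow_eq {K V : Type*} [Field K] [AddCommGroup V] [Module K V]
    [FiniteDimensional K V] (f : Module.End K V) (hnil : f ^ finrank K V = 0)
    (hker : finrank K (LinearMap.ker f) ≤ 1) (k : ℕ) (hk : k ≤ finrank K V) :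
    finrank K (LinearMap.ker (f ^ k)) = k := by
  have h1 : finrank K (LinearMap.ker (f ^ k)) ≤ k := by
    have := finrank_ker_pow_le f k
    calc finrank K (LinearMap.ker (f ^ k)) ≤ k * finrank K (LinearMap.ker f) := this
      _ ≤ k * 1 := Nat.mul_le_mul_left k hker
      _ = k := by ring
  have h2 : finrank K (LinearMap.ker (f ^ (finrank K V - k))) ≤ finrank K V - k := by
    have := finrank_ker_pow_le f (finrank K V - k)
    calc finrank K (LinearMap.ker (f ^ (finrank K V - k)))
        ≤ (finrank K V - k) * finrank K (LinearMap.ker f) := this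
      _ ≤ (finrank K V - k) * 1 := Nat.mul_le_mul_left _ hker
      _ = finrank K V - k := by ring
  have h3 := finrank_ker_comp_le (f ^ k) (f ^ (finrank K V - k))
  have e : (f ^ (finrank K V - k)) ∘ₗ (f ^ k) = f ^ finrank K V := by
    have : f ^ finrank K V = f ^ (finrank K V - k) * f ^ k := by
      rw [← pow_add]; congr 1; omega
    rw [this]; rfl
  rw [e, hnil] at h3
  have h4 : finrank K (LinearMap.ker (0 : V →ₗ[K] V)) = finrank K V := by
    rw [LinearMap.ker_zero]; exact finrank_top K V
  have h3' : finrank K V ≤ finrank K (LinearMap.ker (f ^ k)) + finrank K (LinearMap.ker (f ^ (finrank K V - k))) :=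
    h4 ▸ h3
  omega

/-- An `f`-invariant subspace `W` of a regular nilpotent `f` equals `ker (f ^ dim W)`. -/
theorem invariant_eq_ker_pow {K V : Type*} [Field K] [AddCommGroup V] [Module K V]
    [FiniteDimensional K V] (f : Module.End K V) (hnil : f ^ finrank K V = 0)
    (hker : finrank K (LinearMap.ker f) ≤ 1) (W : Submodule K V) (hW : ∀ v ∈ W, f v ∈ W) :
    W = LinearMap.ker (f ^ finrank K W) := by
  have hle : finrank K W ≤ finrank K V := Submodule.finrank_le W
  have hdim := finrank_ker_pow_eq f hnil hker (finrank K W) hle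
  -- restriction of f to W
  let g : Module.End K W := f.restrict hW
  have hgpow : ∀ k : ℕ, ∀ w : W, ((g ^ k) w : V) = (f ^ k) w := by
    intro k
    induction k with
    | zero => intro w; simp
    | succ k ih =>
      intro w
      rw [pow_succ', pow_succ', Module.End.mul_apply, Module.End.mul_apply]
      show f ((g ^ k) w : V) = _
      rw [ih]
  have hgnil : g ^ finrank K V = 0 := by
    ext w
    rw [hgpow, hnil]; simp
  have hg : g ^ finrank K W = 0 := by
    have h1 := Module.End.ker_pow_le_ker_pow_finrank g (finrank K V)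
    rw [hgnil, LinearMap.ker_zero] at h1
    have h2 : LinearMap.ker (g ^ finrank K W) = ⊤ := top_le_iff.mp h1
    exact LinearMap.ker_eq_top.mp h2
  have hsub : W ≤ LinearMap.ker (f ^ finrank K W) := by
    intro w hw
    rw [LinearMap.mem_ker]
    have := hgpow (finrank K W) ⟨w, hw⟩
    rw [hg] at this
    simpa using this.symm
  exact Submodule.eq_of_le_of_finrank_eq hsub hdim.symm

end Cfsg.Agent.Helper43
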