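import Mathlib
import Cfsg.Agent.Lib.Helper43.RegUnip

set_option autoImplicit false

namespace Cfsg.Agent.Helper43

open Module

variable {K V : Type*} [Field K] [AddCommGroup V] [Module K V] [FiniteDimensional K V]

/-- A regular nilpotent endomorphism has a cyclic vector. -/
theorem exists_cyclic_vector (f : Module.End K V) (hpos : 0 < finrank K V)
    (hnil : f ^ finrank K V = 0) (hker : finrank K (LinearMap.ker f) ≤ 1) :
    ∃ v : V, (f ^ (finrank K V - 1)) v ≠ 0 := by
  by_contra hcon
  push_neg at hcon
  have h1 := finrank_ker_pow_eq f hnil hker (finrank K V - 1) (Nat.sub_le _ _)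
  have h2 : LinearMap.ker (f ^ (finrank K V - 1)) = ⊤ := by
    rw [eq_top_iff]
    intro v _
    exact hcon v
  rw [h2, finrank_top] at h1
  omega

/-- If `A ≤ B`, `dim B ≤ dim A + 1`, `x ∈ B \ A` then `B = A ⊔ span {x}`. -/
theorem eq_sup_span_of_finrank (A B : Submodule K V) (hAB : A ≤ B)
    (hdim : finrank K B ≤ finrank K A + 1) (x : V) (hxB : x ∈ B) (hxA : x ∉ A) :
    B = A ⊔ Submodule.span K {x} := by
  have hle : A ⊔ Submodule.span K {x} ≤ B := by
    apply sup_le hAB
    rw [Submodule.span_le]
    intro y hy
    rw [Set.mem_singleton_iff] at hy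
    rw [hy]; exact hxB
  have hlt : A < A ⊔ Submodule.span K {x} := by
    apply lt_of_le_of_ne le_sup_left
    intro h
    apply hxA
    rw [h]
    exact Submodule.mem_sup_right (Submodule.mem_span_singleton_self x)
  have h1 := Submodule.finrank_lt_finrank_of_lt hlt
  symm
  apply Submodule.eq_of_le_of_finrank_le hle
  omega

/-- An invariant subspace of a regular nilpotent endomorphism containing a cyclic vector is
everything. -/
theorem invariant_eq_top_of_cyclic (f : Module.End K V)
    (hnil : f ^ finrank K V = 0) (hker : finrank K (LinearMap.ker f) ≤ 1)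
    (v : V) (hv : (f ^ (finrank K V - 1)) v ≠ 0)
    (W : Submodule K V) (hW : ∀ w ∈ W, f w ∈ W) (hvW : v ∈ W) : W = ⊤ := by
  have hWpow : ∀ k : ℕ, (f ^ k) v ∈ W := by
    intro k
    induction k with
    | zero => simpa using hvW
    | succ k ih =>
      rw [pow_succ', Module.End.mul_apply]
      exact hW _ ih
  have key : ∀ k : ℕ, k ≤ finrank K V → LinearMap.ker (f ^ k) ≤ W := by
    intro k
    induction k with
    | zero =>
      intro _
      simp [Module.End.one_eq_id]
    | succ k ih =>
      intro hk
      have ihk := ih (by omega)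
      have hd1 := finrank_ker_pow_eq f hnil hker k (by omega)
      have hd2 := finrank_ker_pow_eq f hnil hker (k + 1) hk
      have hAB : LinearMap.ker (f ^ k) ≤ LinearMap.ker (f ^ (k + 1)) := by
        intro x hx
        rw [LinearMap.mem_ker] at hx ⊢
        rw [pow_succ', Module.End.mul_apply, hx, map_zero]
      have hx1 : (f ^ (finrank K V - 1 - k)) v ∈ LinearMap.ker (f ^ (k + 1)) := by
        rw [LinearMap.mem_ker, ← Module.End.mul_apply, ← pow_add]
        have : k + 1 + (finrank K V - 1 - k) = finrank K V := by omega
        rw [this, hnil]; simp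
      have hx2 : (f ^ (finrank K V - 1 - k)) v ∉ LinearMap.ker (f ^ k) := by
        rw [LinearMap.mem_ker, ← Module.End.mul_apply, ← pow_add]
        have : k + (finrank K V - 1 - k) = finrank K V - 1 := by omega
        rw [this]; exact hv
      have := eq_sup_span_of_finrank _ _ hAB (by omega) _ hx1 hx2
      rw [this]
      apply sup_le ihk
      rw [Submodule.span_le]
      intro y hy
      rw [Set.mem_singleton_iff] at hy
      rw [hy]; exact hWpow _
  have h := key (finrank K V) le_rfl
  rw [hnil, LinearMap.ker_zero] at h
  exact top_le_iff.mp h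

/-- Two endomorphisms commuting with a regular nilpotent `f` that agree on a cyclic vector are
equal. -/
theorem eq_of_commute_of_cyclic (f : Module.End K V)
    (hnil : f ^ finrank K V = 0) (hker : finrank K (LinearMap.ker f) ≤ 1)
    (v : V) (hv : (f ^ (finrank K V - 1)) v ≠ 0)
    (g g' : Module.End K V) (hg : Commute g f) (hg' : Commute g' f) (h : g v = g' v) : g = g' := by
  have hc : Commute (g - g') f := hg.sub_left hg'
  have := invariant_eq_top_of_cyclic f hnil hker v hv (LinearMap.ker (g - g'))
    (by
      intro w hw
      rw [LinearMap.mem_ker] at hw ⊢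
      have : (g - g') (f w) = f ((g - g') w) := by
        rw [← Module.End.mul_apply, hc.eq, Module.End.mul_apply]
      rw [this, hw, map_zero])
    (by
      rw [LinearMap.mem_ker, LinearMap.sub_apply, h, sub_self])
  have h0 : g - g' = 0 := LinearMap.ker_eq_top.mp this
  exact sub_eq_zero.mp h0

/-- Every vector is the image of a cyclic vector under an endomorphism commuting with `f`. -/
theorem exists_commute_apply_eq (f : Module.End K V)
    (hnil : f ^ finrank K V = 0) (hker : finrank K (LinearMap.ker f) ≤ 1)
    (v : V) (hv : (f ^ (finrank K V - 1)) v ≠ 0) (w : V) :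
    ∃ g : Module.End K V, Commute g f ∧ g v = w := by
  let W : Submodule K V :=
    { carrier := {w | ∃ g : Module.End K V, Commute g f ∧ g v = w}
      add_mem' := by
        rintro a b ⟨g, hg, rfl⟩ ⟨g', hg', rfl⟩
        exact ⟨g + g', hg.add_left hg', rfl⟩
      zero_mem' := ⟨0, Commute.zero_left f, by simp⟩
      smul_mem' := by
        rintro c a ⟨g, hg, rfl⟩
        exact ⟨c • g, hg.smul_left c, rfl⟩ }
  have hW : W = ⊤ := invariant_eq_top_of_cyclic f hnil hker v hv W
    (by
      rintro a ⟨g, hg, rfl⟩
      exact ⟨f * g, (Commute.refl f).mul_left hg, rfl⟩)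
    ⟨1, Commute.one_left f, rfl⟩
  have : w ∈ W := by rw [hW]; trivial
  exact this

/-- An endomorphism commuting with a regular nilpotent `f` is bijective iff it maps a cyclic vector
to a cyclic vector. -/
theorem bijective_iff_of_commute (f : Module.End K V)
    (hnil : f ^ finrank K V = 0) (hker : finrank K (LinearMap.ker f) ≤ 1)
    (v : V) (hv : (f ^ (finrank K V - 1)) v ≠ 0)
    (g : Module.End K V) (hg : Commute g f) :
    Function.Bijective g ↔ (f ^ (finrank K V - 1)) (g v) ≠ 0 := by
  have hcomm : ∀ x, (f ^ (finrank K V - 1)) (g x) = g ((f ^ (finrank K V - 1)) x) := by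
    intro x
    have := (hg.pow_right (finrank K V - 1)).eq
    rw [← Module.End.mul_apply, ← this, Module.End.mul_apply]
  constructor
  · intro hb
    rw [hcomm]
    intro h0
    apply hv
    apply hb.1
    rw [h0, map_zero]
  · intro h
    have hsurj : LinearMap.range g = ⊤ :=
      invariant_eq_top_of_cyclic f hnil hker (g v) h (LinearMap.range g)
        (by
          rintro _ ⟨x, rfl⟩
          refine ⟨f x, ?_⟩
          rw [← Module.End.mul_apply, hg.eq, Module.End.mul_apply])
        ⟨v, rfl⟩
    have hs : Function.Surjective g := LinearMap.range_eq_top.mp hsurj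
    exact ⟨LinearMap.injective_iff_surjective.mpr hs, hs⟩

end Cfsg.Agent.Helper43
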