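import Mathlib
import Cfsg.Agent.Lib.Helper43.RegUnip

set_option autoImplicit false

namespace Cfsg.Agent.Helper43

open Module

/-- For a regular nilpotent `f`, `range (f ^ (n - k)) = ker (f ^ k)` for `k ≤ n = dim V`. -/
theorem range_pow_eq_ker_pow {K V : Type*} [Field K] [AddCommGroup V] [Module K V]
    [FiniteDimensional K V] (f : Module.End K V) (hnil : f ^ finrank K V = 0)
    (hker : finrank K (LinearMap.ker f) ≤ 1) (k : ℕ) (hk : k ≤ finrank K V) :
    LinearMap.range (f ^ (finrank K V - k)) = LinearMap.ker (f ^ k) := by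
  have h1 := finrank_ker_pow_eq f hnil hker k hk
  have h2 := finrank_ker_pow_eq f hnil hker (finrank K V - k) (Nat.sub_le _ _)
  have h3 := (f ^ (finrank K V - k)).finrank_range_add_finrank_ker
  have hle : LinearMap.range (f ^ (finrank K V - k)) ≤ LinearMap.ker (f ^ k) := by
    rintro _ ⟨x, rfl⟩
    rw [LinearMap.mem_ker, ← Module.End.mul_apply, ← pow_add]
    have : k + (finrank K V - k) = finrank K V := by omega
    rw [this, hnil]; simp
  apply Submodule.eq_of_le_of_finrank_eq hle
  omega

end Cfsg.Agent.Helper43
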