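import Mathlib
import Cfsg.Agent.Lib.Helper43.CyclicNilp
import Cfsg.Agent.Lib.Helper43.RegUnip2

set_option autoImplicit false

namespace Cfsg.Agent.Helper43

open Module

variable {K V : Type*} [Field K] [AddCommGroup V] [Module K V] [FiniteDimensional K V]

/-- The iterates of a cyclic vector of a regular nilpotent endomorphism form a basis. -/
theorem exists_cyclic_basis (f : Module.End K V)
    (hnil : f ^ finrank K V = 0) (hker : finrank K (LinearMap.ker f) ≤ 1)
    (v : V) (hv : (f ^ (finrank K V - 1)) v ≠ 0) :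
    ∃ b : Basis (Fin (finrank K V)) K V, ∀ i : Fin (finrank K V), b i = (f ^ (i : ℕ)) v := by
  have hpos : 0 < finrank K V := by
    by_contra h
    have h0 : finrank K V = 0 := by omega
    apply hv
    have : f ^ (finrank K V - 1) = f ^ finrank K V := by rw [h0]
    rw [this, hnil]; simp
  let b : Fin (finrank K V) → V := fun i => (f ^ (i : ℕ)) v
  have hspan : Submodule.span K (Set.range b) = ⊤ := by
    apply invariant_eq_top_of_cyclic f hnil hker v hv
    · intro w hw
      induction hw using Submodule.span_induction with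
      | mem x hx =>
        obtain ⟨i, rfl⟩ := hx
        show f ((f ^ (i : ℕ)) v) ∈ _
        rw [← Module.End.mul_apply, ← pow_succ']
        by_cases hi : (i : ℕ) + 1 < finrank K V
        · apply Submodule.subset_span
          exact ⟨⟨(i : ℕ) + 1, hi⟩, rfl⟩
        · have : (i : ℕ) + 1 = finrank K V := by have := i.2; omega
          rw [this, hnil]
          simp
      | zero => simp
      | add x y _ _ hx hy => rw [map_add]; exact Submodule.add_mem _ hx hy
      | smul c x _ hx => rw [map_smul]; exact Submodule.smul_mem _ c hx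
    · apply Submodule.subset_span
      exact ⟨⟨0, hpos⟩, by simp [b]⟩
  refine ⟨basisOfTopLeSpanOfCardEqFinrank b (le_of_eq hspan.symm) (by simp), ?_⟩
  intro i
  rw [coe_basisOfTopLeSpanOfCardEqFinrank]

/-- Any two regular nilpotent endomorphisms are conjugate. -/
theorem exists_linearEquiv_conj (f₁ f₂ : Module.End K V) (hpos : 0 < finrank K V)
    (hnil₁ : f₁ ^ finrank K V = 0) (hker₁ : finrank K (LinearMap.ker f₁) ≤ 1)
    (hnil₂ : f₂ ^ finrank K V = 0) (hker₂ : finrank K (LinearMap.ker f₂) ≤ 1) :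
    ∃ g : V ≃ₗ[K] V, ∀ x, g (f₁ x) = f₂ (g x) := by
  obtain ⟨v₁, hv₁⟩ := exists_cyclic_vector f₁ hpos hnil₁ hker₁
  obtain ⟨v₂, hv₂⟩ := exists_cyclic_vector f₂ hpos hnil₂ hker₂
  obtain ⟨b₁, hb₁⟩ := exists_cyclic_basis f₁ hnil₁ hker₁ v₁ hv₁
  obtain ⟨b₂, hb₂⟩ := exists_cyclic_basis f₂ hnil₂ hker₂ v₂ hv₂
  refine ⟨b₁.equiv b₂ (Equiv.refl _), ?_⟩
  have key : (b₁.equiv b₂ (Equiv.refl _)).toLinearMap ∘ₗ f₁ =
      f₂ ∘ₗ (b₁.equiv b₂ (Equiv.refl _)).toLinearMap := by
    apply b₁.ext
    intro i
    simp only [LinearMap.comp_apply, LinearEquiv.coe_coe, Basis.equiv_apply, Equiv.refl_apply]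
    rw [hb₁ i, hb₂ i, ← Module.End.mul_apply, ← Module.End.mul_apply, ← pow_succ', ← pow_succ']
    by_cases hi : (i : ℕ) + 1 < finrank K V
    · have e1 : (f₁ ^ ((i : ℕ) + 1)) v₁ = b₁ ⟨(i : ℕ) + 1, hi⟩ := (hb₁ ⟨(i : ℕ) + 1, hi⟩).symm
      have e2 : (f₂ ^ ((i : ℕ) + 1)) v₂ = b₂ ⟨(i : ℕ) + 1, hi⟩ := (hb₂ ⟨(i : ℕ) + 1, hi⟩).symm
      rw [e1, e2, Basis.equiv_apply, Equiv.refl_apply]
    · have : (i : ℕ) + 1 = finrank K V := by have := i.2; omega
      rw [this, hnil₁, hnil₂]
      simp
  intro x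
  exact LinearMap.congr_fun key x

/-- An endomorphism commuting with a regular nilpotent one is a scalar plus a nilpotent. -/
theorem exists_sub_smul_isNilpotent (f : Module.End K V) (hpos : 0 < finrank K V)
    (hnil : f ^ finrank K V = 0) (hker : finrank K (LinearMap.ker f) ≤ 1)
    (g : Module.End K V) (hg : Commute g f) :
    ∃ c : K, IsNilpotent (g - c • (1 : Module.End K V)) := by
  obtain ⟨v, hv⟩ := exists_cyclic_vector f hpos hnil hker
  have hrange : LinearMap.range f = LinearMap.ker (f ^ (finrank K V - 1)) := by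
    have := range_pow_eq_ker_pow f hnil hker (finrank K V - 1) (Nat.sub_le _ _)
    have e : finrank K V - (finrank K V - 1) = 1 := by omega
    rw [e, pow_one] at this
    exact this
  have htop : (⊤ : Submodule K V) = LinearMap.ker (f ^ (finrank K V - 1)) ⊔ Submodule.span K {v} := by
    apply eq_sup_span_of_finrank _ _ le_top _ v trivial
    · rw [LinearMap.mem_ker]; exact hv
    · have h1 := finrank_ker_pow_eq f hnil hker (finrank K V - 1) (Nat.sub_le _ _)
      rw [h1, finrank_top]
      omega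
  have hgv : g v ∈ LinearMap.ker (f ^ (finrank K V - 1)) ⊔ Submodule.span K {v} := by
    rw [← htop]; trivial
  obtain ⟨a, ha, b, hb, hab⟩ := Submodule.mem_sup.mp hgv
  obtain ⟨c, rfl⟩ := Submodule.mem_span_singleton.mp hb
  rw [← hrange] at ha
  obtain ⟨w, rfl⟩ := ha
  obtain ⟨k, hkc, hkv⟩ := exists_commute_apply_eq f hnil hker v hv w
  refine ⟨c, ?_⟩
  have hfk : Commute (f * k) f := (Commute.refl f).mul_left hkc
  have hgc : Commute (g - c • (1 : Module.End K V)) f :=
    hg.sub_left ((Commute.one_left f).smul_left c)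
  have heq : g - c • (1 : Module.End K V) = f * k := by
    apply eq_of_commute_of_cyclic f hnil hker v hv _ _ hgc hfk
    rw [LinearMap.sub_apply, LinearMap.smul_apply, Module.End.one_apply, Module.End.mul_apply, hkv,
      ← hab]
    abel
  rw [heq]
  refine ⟨finrank K V, ?_⟩
  rw [(hkc.symm).mul_pow, hnil, zero_mul]

end Cfsg.Agent.Helper43

namespace Cfsg.Agent.Helper43

/-- The determinant of a scalar plus a nilpotent matrix. -/
theorem det_smul_one_add_nilpotent {K : Type*} [Field K] {ι : Type*} [Fintype ι] [DecidableEq ι]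
    (c : K) (H : Matrix ι ι K) (hH : IsNilpotent H) :
    (c • (1 : Matrix ι ι K) + H).det = c ^ Fintype.card ι := by
  have hneg : IsNilpotent (-H) := hH.neg
  have h1 := Matrix.isNilpotent_charpoly_sub_pow_of_isNilpotent hneg
  have h2 : (-H).charpoly = Polynomial.X ^ Fintype.card ι := sub_eq_zero.mp h1.eq_zero
  have h3 := Matrix.eval_charpoly (-H) c
  rw [h2, Polynomial.eval_pow, Polynomial.eval_X] at h3
  rw [h3]
  congr 1
  rw [sub_neg_eq_add]
  congr 1
  ext i j
  simp [Matrix.scalar, Matrix.diagonal, Matrix.one_apply]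

end Cfsg.Agent.Helper43
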