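import Mathlib

set_option autoImplicit false

namespace Cfsg.Agent.Helper43

open Module Matrix

/-- Two subspaces of `F^n` that are orthogonal for the dot product have dimensions adding up to at most `n`. -/
theorem finrank_add_le_of_dotProduct_eq_zero {F : Type*} [Field F] {n : Type*} [Fintype n]
    [DecidableEq n] (S T : Submodule F (n → F)) (h : ∀ s ∈ S, ∀ t ∈ T, s ⬝ᵥ t = 0) :
    finrank F S + finrank F T ≤ Fintype.card n := by
  let B : LinearMap.BilinForm F (n → F) := Matrix.toBilin' (1 : Matrix n n F)
  have hB : B.Nondegenerate :=
    LinearMap.BilinForm.nondegenerate_toBilin'_of_det_ne_zero' _ (by simp)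
  have hle : T ≤ B.orthogonal S := by
    intro t ht
    rw [LinearMap.BilinForm.mem_orthogonal_iff]
    intro s hs
    show B s t = 0
    simp only [B, Matrix.toBilin'_apply', Matrix.one_mulVec]
    exact h s hs t ht
  have h1 := Submodule.finrank_mono hle
  have h2 := LinearMap.BilinForm.finrank_orthogonal hB S
  have h3 : finrank F (n → F) = Fintype.card n := Module.finrank_fintype_fun_eq_card F
  have h4 : finrank F S ≤ finrank F (n → F) := Submodule.finrank_le S
  omega

end Cfsg.Agent.Helper43
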