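import Mathlib
import Cfsg.Agent.Lib.Helper43.GraphAutEven2
import Cfsg.Agent.Lib.Helper43.SplitCount
import Cfsg.Agent.Lib.Helper40.OutPSLKer
import Cfsg.Agent.S0765

/-!
# Splitting of the `Inndiag`-class of an involutory graph automorphism of `PSL_n(F)` into `PSL`-classes

`count_eq`: the number of classes is the index in `Fˣ` of `det(N) · (Fˣ)ⁿ`, `N = {h | h g hᵀ ∈ Fˣ g}`.
-/

set_option autoImplicit false
set_option linter.unusedSimpArgs false

namespace Cfsg.Agent.Helper43.GraphAutSplit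

open Matrix Cfsg.Agent.Helper13.PSLAut Cfsg.Agent.Helper43.GraphAut Cfsg.Agent.Helper43.GraphAutCongr
  Cfsg.Agent.Helper43.GraphAutCent Cfsg.Agent.Helper43.GraphAutEven2

section Count

variable {F : Type*} [Field F] {n : ℕ} {κ : Type} [Fintype κ] [DecidableEq κ]

/-- determinant modulo `n`-th powers -/
noncomputable def deltaHom (n : ℕ) (κ : Type) [Fintype κ] [DecidableEq κ] (F : Type*) [Field F] :
    GL κ F →* Fˣ ⧸ (powMonoidHom n : Fˣ →* Fˣ).range :=
  (QuotientGroup.mk' _).comp Matrix.GeneralLinearGroup.det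

theorem deltaHom_surjective (hκ : Nonempty κ) : Function.Surjective (deltaHom n κ F) := by
  intro x
  induction x using QuotientGroup.induction_on with
  | H a =>
    obtain ⟨i⟩ := hκ
    have hdet : (Matrix.diagonal (Function.update (fun _ : κ => (1 : F)) i (a : F))).det ≠ 0 := by
      rw [Matrix.det_diagonal, Finset.prod_update_of_mem (Finset.mem_univ i)]
      simp
    refine ⟨Matrix.GeneralLinearGroup.mkOfDetNeZero _ hdet, ?_⟩
    show (QuotientGroup.mk (Matrix.GeneralLinearGroup.det _) : Fˣ ⧸ (powMonoidHom n : Fˣ →* Fˣ).range) = _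
    congr 1
    apply Units.ext
    rw [Matrix.GeneralLinearGroup.val_det_apply]
    show (Matrix.diagonal (Function.update (fun _ : κ => (1 : F)) i (a : F))).det = a
    rw [Matrix.det_diagonal, Finset.prod_update_of_mem (Finset.mem_univ i)]
    simp

theorem mem_ker_deltaHom (g : GL κ F) :
    g ∈ (deltaHom n κ F).ker ↔ ∃ b : Fˣ, (g : Matrix κ κ F).det = (b : F) ^ n := by
  rw [MonoidHom.mem_ker]
  show (QuotientGroup.mk (Matrix.GeneralLinearGroup.det g) : Fˣ ⧸ (powMonoidHom n : Fˣ →* Fˣ).range) = 1 ↔ _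
  rw [QuotientGroup.eq_one_iff]
  constructor
  · rintro ⟨b, hb⟩
    refine ⟨b, ?_⟩
    have := congrArg (fun x : Fˣ => (x : F)) hb
    simp only [powMonoidHom_apply, Units.val_pow_eq_pow_val, Matrix.GeneralLinearGroup.val_det_apply] at this
    exact this.symm
  · rintro ⟨b, hb⟩
    refine ⟨b, ?_⟩
    apply Units.ext
    rw [powMonoidHom_apply, Units.val_pow_eq_pow_val, Matrix.GeneralLinearGroup.val_det_apply, hb]

theorem det_glReindex (e : κ ≃ Fin n) (g : GL κ F) :
    ((Cfsg.Geo.glReindex (F := F) e g : GL (Fin n) F) : Matrix (Fin n) (Fin n) F).det =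
      (g : Matrix κ κ F).det := by
  rw [glReindex_coe, Matrix.det_reindex_self]

/-- `Inn(PSL_n)` is the image of the matrices whose determinant is an `n`-th power -/
theorem inn_eq_map (hn : 0 < n) (e : κ ≃ Fin n) :
    Cfsg.Inn (Matrix.ProjectiveSpecialLinearGroup (Fin n) F) = (deltaHom n κ F).ker.map (Psi e) := by
  ext β
  rw [Cfsg.Agent.Helper40.OutPSL.mem_inn_iff, Subgroup.mem_map]
  constructor
  · rintro ⟨s, rfl⟩
    refine ⟨(Cfsg.Geo.glReindex (F := F) e).symm (Matrix.SpecialLinearGroup.toGL s), ?_, ?_⟩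
    · rw [mem_ker_deltaHom]
      refine ⟨1, ?_⟩
      rw [← det_glReindex e, MulEquiv.apply_symm_apply, Units.val_one, one_pow]
      exact s.2
    · rw [Psi_apply, MulEquiv.apply_symm_apply]
  · rintro ⟨g, hg, rfl⟩
    rw [mem_ker_deltaHom] at hg
    obtain ⟨b, hb⟩ := hg
    set g' : GL (Fin n) F := Cfsg.Geo.glReindex (F := F) e g with hg'
    have hdet' : (g' : Matrix (Fin n) (Fin n) F).det = (b : F) ^ n := by rw [hg', det_glReindex, hb]
    have hdet : (((b⁻¹ : Fˣ) : F) • (g' : Matrix (Fin n) (Fin n) F)).det = 1 := by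
      rw [Matrix.det_smul, Fintype.card_fin, hdet', ← mul_pow, ← Units.val_mul, inv_mul_cancel,
        Units.val_one, one_pow]
    refine ⟨⟨_, hdet⟩, ?_⟩
    rw [Psi_apply, PhiL_eq_iff hn, Cfsg.Geo.mem_scalars_iff]
    refine ⟨b⁻¹, ?_⟩
    rw [Units.val_mul]
    show ((g'⁻¹ : GL (Fin n) F) : Matrix (Fin n) (Fin n) F) *
      (((b⁻¹ : Fˣ) : F) • (g' : Matrix (Fin n) (Fin n) F)) = _
    rw [Matrix.mul_smul, ← Units.val_mul, inv_mul_cancel, Units.val_one]

/-- the number of `PSL`-classes in the `Inndiag`-class of `Psi g * ι` -/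
theorem count_eq (hn : 0 < n) (e : κ ≃ Fin n)
    {ι : MulAut (Matrix.ProjectiveSpecialLinearGroup (Fin n) F)}
    (hι : Cfsg.IsInverseTransposeAutPSL ι) (g : GL κ F) :
    Cfsg.splitClassCount (Cfsg.inndiagPSL n F)
      (Cfsg.Inn (Matrix.ProjectiveSpecialLinearGroup (Fin n) F)) (Psi e g * ι) =
      ((congrSubgroup (g : Matrix κ κ F)).map Matrix.GeneralLinearGroup.det ⊔
        (powMonoidHom n : Fˣ →* Fˣ).range).index := by
  have hκ : Nonempty κ := ⟨e.symm ⟨0, hn⟩⟩
  rw [← Psi_range e, inn_eq_map hn e,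
    Cfsg.Agent.Helper43.SplitCount.splitClassCount_eq_index (Psi e) (deltaHom n κ F)
      (deltaHom_surjective hκ)]
  have hcomap : (Subgroup.centralizer {Psi e g * ι}).comap (Psi e) = congrSubgroup (g : Matrix κ κ F) := by
    ext h
    rw [Subgroup.mem_comap, mem_centralizer_iff hn e hι, mem_congrSubgroup]
  rw [hcomap]
  have h1 : (congrSubgroup (g : Matrix κ κ F)).map (deltaHom n κ F) =
      ((congrSubgroup (g : Matrix κ κ F)).map Matrix.GeneralLinearGroup.det).map
        (QuotientGroup.mk' (powMonoidHom n : Fˣ →* Fˣ).range) := by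
    rw [Subgroup.map_map]
    rfl
  rw [h1, Subgroup.index_map, QuotientGroup.ker_mk',
    MonoidHom.range_eq_top.2 (QuotientGroup.mk'_surjective _), Subgroup.index_top, mul_one]

end Count

section Dets

variable {F : Type*} [Field F]

theorem det_one_add_vecMulVec {κ : Type} [Fintype κ] [DecidableEq κ] (u v : κ → F) :
    (1 + Matrix.vecMulVec u v).det = 1 + v ⬝ᵥ u := by
  rw [Matrix.vecMulVec_eq Unit, Matrix.det_one_add_replicateCol_mul_replicateRow]

/-- symplectic matrices have determinant one -/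
theorem sp_det {m : ℕ} (A : ↥(Matrix.symplecticGroup (Fin m) F)) :
    (A : Matrix (Fin m ⊕ Fin m) (Fin m ⊕ Fin m) F).det = 1 := by
  have hA : A ∈ (⊤ : Subgroup ↥(Matrix.symplecticGroup (Fin m) F)) := Subgroup.mem_top A
  rw [← Cfsg.Agent.S0765.result (F := F) m] at hA
  induction hA using Subgroup.closure_induction with
  | mem x hx =>
    obtain ⟨w, c, hx⟩ := hx
    rw [hx, Cfsg.sympTransvection, ← Matrix.smul_vecMulVec, det_one_add_vecMulVec, dotProduct_smul,
      dotProduct_comm, Cfsg.Agent.Helper5.dotProduct_J_mulVec_self, smul_zero, add_zero]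
  | one => exact Matrix.det_one
  | mul x y _ _ hx hy =>
    show ((x : Matrix (Fin m ⊕ Fin m) (Fin m ⊕ Fin m) F) * (y : Matrix (Fin m ⊕ Fin m) (Fin m ⊕ Fin m) F)).det = 1
    rw [Matrix.det_mul, hx, hy, one_mul]
  | inv x _ hx =>
    have h1 : ((x⁻¹ : ↥(Matrix.symplecticGroup (Fin m) F)) : Matrix (Fin m ⊕ Fin m) (Fin m ⊕ Fin m) F) *
        (x : Matrix (Fin m ⊕ Fin m) (Fin m ⊕ Fin m) F) = 1 := by
      have := congrArg (fun z : ↥(Matrix.symplecticGroup (Fin m) F) =>
        (z : Matrix (Fin m ⊕ Fin m) (Fin m ⊕ Fin m) F)) (inv_mul_cancel x)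
      exact this
    have h2 := congrArg Matrix.det h1
    rw [Matrix.det_mul, hx, mul_one, Matrix.det_one] at h2
    exact h2

/-- the determinant of a similitude squares to the `|κ|`-th power of the multiplier -/
theorem det_sq_of_congr {κ : Type} [Fintype κ] [DecidableEq κ] (g h : GL κ F) (c : F)
    (hc : (h : Matrix κ κ F) * (g : Matrix κ κ F) * ((h : Matrix κ κ F))ᵀ = c • (g : Matrix κ κ F)) :
    (h : Matrix κ κ F).det ^ 2 = c ^ Fintype.card κ := by
  have hdet : (g : Matrix κ κ F).det ≠ 0 := by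
    have := (Matrix.isUnit_iff_isUnit_det _).1 (Units.isUnit g)
    exact this.ne_zero
  have h1 := congrArg Matrix.det hc
  rw [Matrix.det_mul, Matrix.det_mul, Matrix.det_transpose, Matrix.det_smul] at h1
  have h2 : (h : Matrix κ κ F).det ^ 2 * (g : Matrix κ κ F).det =
      c ^ Fintype.card κ * (g : Matrix κ κ F).det := by
    rw [← h1]; ring
  exact mul_right_cancel₀ hdet h2

end Dets

section Conj

/-- `splitClassCount` only depends on the `H`-class -/
theorem splitClassCount_congr {X : Type*} [Group X] (H K : Subgroup X) (x y : X)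
    (hxy : Cfsg.IsConjUnder H x y) :
    Cfsg.splitClassCount H K x = Cfsg.splitClassCount H K y := by
  obtain ⟨h, hh, rfl⟩ := hxy
  have hiff : ∀ z : X, Cfsg.IsConjUnder H x z ↔ Cfsg.IsConjUnder H (h * x * h⁻¹) z := by
    intro z
    constructor
    · rintro ⟨k, hk, rfl⟩
      exact ⟨k * h⁻¹, H.mul_mem hk (H.inv_mem hh), by group⟩
    · rintro ⟨k, hk, rfl⟩
      exact ⟨k * h, H.mul_mem hk hh, by group⟩
  unfold Cfsg.splitClassCount
  let E : {z : X // Cfsg.IsConjUnder H x z} ≃ {z : X // Cfsg.IsConjUnder H (h * x * h⁻¹) z} :=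
    Equiv.subtypeEquivRight hiff
  apply Nat.card_congr
  refine Quot.congr E ?_
  intro a b
  rfl

end Conj

section Index

variable {F : Type*} [Field F] [Fintype F]

theorem index_pow (k : ℕ) :
    (powMonoidHom k : Fˣ →* Fˣ).range.index = Nat.gcd (Fintype.card F - 1) k := by
  classical
  rw [IsCyclic.index_powMonoidHom_range, Nat.card_eq_fintype_card, Fintype.card_units]

omit [Fintype F] in
theorem pow_range_le {k l : ℕ} (h : k ∣ l) :
    (powMonoidHom l : Fˣ →* Fˣ).range ≤ (powMonoidHom k : Fˣ →* Fˣ).range := by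
  rintro _ ⟨x, rfl⟩
  obtain ⟨d, rfl⟩ := h
  exact ⟨x ^ d, by rw [powMonoidHom_apply, powMonoidHom_apply, ← pow_mul, mul_comm]⟩

end Index

section Cases

variable {F : Type*} [Field F] [Fintype F] {n : ℕ} {κ : Type} [Fintype κ] [DecidableEq κ]

/-- if all similitudes have determinant an `n`-th power, the class splits into `gcd(q - 1, n)` classes -/
theorem count_trivial (hn : 0 < n) (e : κ ≃ Fin n)
    {ι : MulAut (Matrix.ProjectiveSpecialLinearGroup (Fin n) F)}
    (hι : Cfsg.IsInverseTransposeAutPSL ι) (g : GL κ F)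
    (hD : ∀ h : GL κ F, ∀ c : Fˣ, (h : Matrix κ κ F) * (g : Matrix κ κ F) * ((h : Matrix κ κ F))ᵀ =
      (c : F) • (g : Matrix κ κ F) → ∃ b : Fˣ, (h : Matrix κ κ F).det = (b : F) ^ n) :
    Cfsg.splitClassCount (Cfsg.inndiagPSL n F)
      (Cfsg.Inn (Matrix.ProjectiveSpecialLinearGroup (Fin n) F)) (Psi e g * ι) =
      Nat.gcd (Fintype.card F - 1) n := by
  rw [count_eq hn e hι, ← index_pow]
  congr 1
  rw [sup_eq_right]
  rintro _ ⟨h, ⟨c, hc⟩, rfl⟩
  obtain ⟨b, hb⟩ := hD h c hc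
  refine ⟨b, ?_⟩
  apply Units.ext
  rw [powMonoidHom_apply, Units.val_pow_eq_pow_val, Matrix.GeneralLinearGroup.val_det_apply, hb]

omit [Fintype F] in
/-- odd dimension: determinants of similitudes are `n`-th powers -/
theorem det_pow_of_odd (hcard : Fintype.card κ = n) (hodd : Odd n) (g h : GL κ F) (c : Fˣ)
    (hc : (h : Matrix κ κ F) * (g : Matrix κ κ F) * ((h : Matrix κ κ F))ᵀ = (c : F) • (g : Matrix κ κ F)) :
    ∃ b : Fˣ, (h : Matrix κ κ F).det = (b : F) ^ n := by
  obtain ⟨k, hk⟩ := hodd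
  have h1 := det_sq_of_congr g h (c : F) hc
  rw [hcard] at h1
  set d : F := (h : Matrix κ κ F).det with hd
  have hd0 : d ≠ 0 := by
    have := (Matrix.isUnit_iff_isUnit_det _).1 (Units.isUnit h)
    exact this.ne_zero
  have hc0 : (c : F) ≠ 0 := c.ne_zero
  have hck : (c : F) ^ k ≠ 0 := pow_ne_zero _ hc0
  set a : F := d / (c : F) ^ k with ha
  have ha0 : a ≠ 0 := div_ne_zero hd0 hck
  have hca : (c : F) = a ^ 2 := by
    rw [ha, div_pow, h1, hk, ← pow_mul, pow_succ, mul_comm k 2]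
    field_simp
  have h2 : d ^ 2 = (a ^ n) ^ 2 := by
    rw [h1, hca, ← pow_mul, ← pow_mul, mul_comm]
  have h3 : (d - a ^ n) * (d + a ^ n) = 0 := by linear_combination h2
  rcases mul_eq_zero.1 h3 with h4 | h4
  · exact ⟨Units.mk0 a ha0, by rw [Units.val_mk0]; linear_combination h4⟩
  · refine ⟨Units.mk0 (-a) (neg_ne_zero.2 ha0), ?_⟩
    rw [Units.val_mk0]
    have h5 : d = -(a ^ n) := by linear_combination h4
    have h6 : (-a) ^ n = -(a ^ n) := Odd.neg_pow ⟨k, hk⟩ a
    rw [h5, h6]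

/-- characteristic two: determinants of similitudes are `n`-th powers -/
theorem det_pow_of_char_two [CharP F 2] (hcard : Fintype.card κ = n) (g h : GL κ F) (c : Fˣ)
    (hc : (h : Matrix κ κ F) * (g : Matrix κ κ F) * ((h : Matrix κ κ F))ᵀ = (c : F) • (g : Matrix κ κ F)) :
    ∃ b : Fˣ, (h : Matrix κ κ F).det = (b : F) ^ n := by
  obtain ⟨a, ha⟩ := exists_sqrt c
  have h1 := det_sq_of_congr g h (c : F) hc
  rw [hcard, ← ha, ← sq, ← pow_mul, mul_comm, pow_mul] at h1
  exact ⟨a, sq_inj h1⟩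

end Cases

section Symp

variable {F : Type*} [Field F] {m : ℕ}

/-- `diag(c, 1)` -/
def dMat (m : ℕ) (c : F) : Matrix (Fin m ⊕ Fin m) (Fin m ⊕ Fin m) F :=
  Matrix.fromBlocks (c • (1 : Matrix (Fin m) (Fin m) F)) 0 0 1

theorem dMat_det (c : F) : (dMat m c).det = c ^ m := by
  unfold dMat
  rw [Matrix.det_fromBlocks_zero₂₁, Matrix.det_smul, Fintype.card_fin]
  simp

theorem dMat_congr (c : F) : dMat m c * Matrix.J (Fin m) F * (dMat m c)ᵀ = c • Matrix.J (Fin m) F := by
  unfold dMat Matrix.J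
  rw [Matrix.fromBlocks_transpose, Matrix.fromBlocks_multiply, Matrix.fromBlocks_multiply,
    Matrix.fromBlocks_smul]
  simp only [Matrix.mul_zero, Matrix.zero_mul, add_zero, zero_add, Matrix.transpose_zero,
    Matrix.transpose_one, Matrix.transpose_smul, Matrix.mul_one, Matrix.one_mul, Matrix.smul_mul,
    Matrix.mul_smul, Matrix.mul_neg, Matrix.neg_mul, smul_zero, smul_neg, neg_zero]

/-- the determinant of a conformal symplectic matrix is the `m`-th power of its multiplier -/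
theorem det_of_congr_J (h : Matrix (Fin m ⊕ Fin m) (Fin m ⊕ Fin m) F) (c : F) (hc0 : c ≠ 0)
    (hc : h * Matrix.J (Fin m) F * hᵀ = c • Matrix.J (Fin m) F) : h.det = c ^ m := by
  have h1 : (h * dMat m c⁻¹) * Matrix.J (Fin m) F * (h * dMat m c⁻¹)ᵀ = Matrix.J (Fin m) F := by
    rw [Matrix.transpose_mul]
    calc h * dMat m c⁻¹ * Matrix.J (Fin m) F * ((dMat m c⁻¹)ᵀ * hᵀ)
        = h * (dMat m c⁻¹ * Matrix.J (Fin m) F * (dMat m c⁻¹)ᵀ) * hᵀ := by
          simp only [Matrix.mul_assoc]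
      _ = Matrix.J (Fin m) F := by
          rw [dMat_congr, Matrix.mul_smul, Matrix.smul_mul, hc, smul_smul, inv_mul_cancel₀ hc0, one_smul]
  have h2 := sp_det (F := F) ⟨h * dMat m c⁻¹, SymplecticGroup.mem_iff.2 h1⟩
  have h3 : h.det * (c⁻¹) ^ m = 1 := by
    rw [← dMat_det, ← Matrix.det_mul]
    exact h2
  have hcm : c ^ m ≠ 0 := pow_ne_zero _ hc0
  rw [inv_pow] at h3
  field_simp at h3
  exact h3

variable [Fintype F]

/-- symplectic type: the class splits into `gcd(q - 1, m)` classes -/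
theorem count_symp {n : ℕ} (hn : 0 < n) (hnm : n = 2 * m) (e : Fin m ⊕ Fin m ≃ Fin n)
    {ι : MulAut (Matrix.ProjectiveSpecialLinearGroup (Fin n) F)}
    (hι : Cfsg.IsInverseTransposeAutPSL ι) :
    Cfsg.splitClassCount (Cfsg.inndiagPSL n F)
      (Cfsg.Inn (Matrix.ProjectiveSpecialLinearGroup (Fin n) F)) (Psi e (gJ m F) * ι) =
      Nat.gcd (Fintype.card F - 1) m := by
  rw [count_eq hn e hι, ← index_pow]
  congr 1
  apply le_antisymm
  · apply sup_le
    · rintro _ ⟨h, ⟨c, hc⟩, rfl⟩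
      refine ⟨c, ?_⟩
      apply Units.ext
      rw [powMonoidHom_apply, Units.val_pow_eq_pow_val, Matrix.GeneralLinearGroup.val_det_apply]
      exact (det_of_congr_J _ _ c.ne_zero hc).symm
    · exact pow_range_le ⟨2, by rw [hnm, mul_comm]⟩
  · rintro _ ⟨c, rfl⟩
    apply Subgroup.mem_sup_left
    have hdet : (dMat m (c : F)).det ≠ 0 := by
      rw [dMat_det]
      exact pow_ne_zero _ c.ne_zero
    refine ⟨Matrix.GeneralLinearGroup.mkOfDetNeZero (dMat m (c : F)) hdet, ⟨c, dMat_congr (c : F)⟩, ?_⟩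
    apply Units.ext
    rw [powMonoidHom_apply, Units.val_pow_eq_pow_val, Matrix.GeneralLinearGroup.val_det_apply]
    exact dMat_det (c : F)

end Symp

section Orth

variable {F : Type*} [Field F]

/-- the (transposed) reflection in a non-isotropic vector is an isometry of determinant `-1` -/
theorem exists_reflection {κ : Type} [Fintype κ] [DecidableEq κ] (h2 : (2 : F) ≠ 0) (g : Matrix κ κ F)
    (hg : gᵀ = g) (hg0 : g ≠ 0) :
    ∃ r : Matrix κ κ F, r.det = -1 ∧ r * g * rᵀ = g := by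
  obtain ⟨v, hv⟩ : ∃ v : κ → F, v ⬝ᵥ (g *ᵥ v) ≠ 0 := by
    by_contra hcon
    push Not at hcon
    apply hg0
    apply eq_of_quad_eq h2 g 0 hg (Matrix.transpose_zero)
    intro v
    rw [hcon v, Matrix.zero_mulVec, dotProduct_zero]
  set Q : F := v ⬝ᵥ (g *ᵥ v) with hQ
  set w : κ → F := g *ᵥ v with hw
  set a : F := -(2 / Q) with ha
  have hvw : v ᵥ* g = w := by
    rw [← Matrix.mulVec_transpose, hg]
  refine ⟨1 + Matrix.vecMulVec (a • w) v, ?_, ?_⟩
  · rw [det_one_add_vecMulVec, dotProduct_smul, smul_eq_mul, ← hQ, ha]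
    field_simp
    ring
  · rw [Matrix.transpose_add, Matrix.transpose_one, Matrix.transpose_vecMulVec, Matrix.add_mul,
      Matrix.one_mul, Matrix.vecMulVec_mul, hvw, Matrix.mul_add, Matrix.mul_one, Matrix.add_mul,
      Matrix.mul_vecMulVec, ← hw, Matrix.vecMulVec_mul_vecMulVec]
    have hwv : w ⬝ᵥ v = Q := by rw [dotProduct_comm]
    rw [hwv]
    have h3 : Matrix.vecMulVec (a • w) w + (Matrix.vecMulVec w (a • w) +
        Matrix.vecMulVec (a • w) (Q • a • w)) = 0 := by
      ext i j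
      simp only [Matrix.add_apply, Matrix.vecMulVec_apply, Pi.smul_apply, smul_eq_mul, Matrix.zero_apply]
      rw [ha]
      field_simp
      ring
    rw [add_assoc, h3, add_zero]

variable [Fintype F]

theorem neg_one_mem_pow_range (hodd : Odd (Fintype.card F)) {kk : ℕ}
    (hkk : kk ∣ (Fintype.card F - 1) / 2) : (-1 : Fˣ) ∈ (powMonoidHom kk : Fˣ →* Fˣ).range := by
  classical
  obtain ⟨ζ, hζ⟩ := IsCyclic.exists_generator (α := Fˣ)
  have hord : orderOf ζ = Fintype.card F - 1 := by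
    rw [orderOf_eq_card_of_forall_mem_zpowers hζ, Nat.card_eq_fintype_card, Fintype.card_units]
  obtain ⟨t, ht⟩ := hodd
  have hN : Fintype.card F - 1 = 2 * t := by omega
  have ht0 : 0 < t := by
    have : 1 < Fintype.card F := Fintype.one_lt_card
    omega
  have hhalf : (Fintype.card F - 1) / 2 = t := by rw [hN]; omega
  rw [hhalf] at hkk
  have h1 : (ζ ^ t) ^ 2 = 1 := by
    rw [← pow_mul, mul_comm, ← hN, ← hord, pow_orderOf_eq_one]
  have h2 : ζ ^ t ≠ 1 := by
    apply pow_ne_one_of_lt_orderOf (Nat.pos_iff_ne_zero.1 ht0)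
    rw [hord, hN]; omega
  have h3 : ζ ^ t = -1 := by
    apply Units.ext
    have h4 : ((ζ ^ t : Fˣ) : F) ^ 2 = 1 := by
      rw [← Units.val_pow_eq_pow_val, h1, Units.val_one]
    have h5 : ((ζ ^ t : Fˣ) : F) ≠ 1 := fun h => h2 (Units.ext h)
    have h6 : (((ζ ^ t : Fˣ) : F) - 1) * (((ζ ^ t : Fˣ) : F) + 1) = 0 := by linear_combination h4
    rcases mul_eq_zero.1 h6 with h7 | h7
    · exact absurd (sub_eq_zero.1 h7) h5
    · rw [Units.val_neg, Units.val_one]
      linear_combination h7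
  obtain ⟨s, hs⟩ := hkk
  refine ⟨ζ ^ s, ?_⟩
  rw [powMonoidHom_apply, ← pow_mul, mul_comm, ← hs, h3]

theorem pow_half_eq (hodd : Odd (Fintype.card F)) (x : Fˣ) :
    x ^ ((Fintype.card F - 1) / 2) = 1 ∨ x ^ ((Fintype.card F - 1) / 2) = -1 := by
  classical
  obtain ⟨t, ht⟩ := hodd
  have hN : Fintype.card F - 1 = 2 * t := by omega
  have hhalf : (Fintype.card F - 1) / 2 = t := by rw [hN]; omega
  rw [hhalf]
  have h1 : (x ^ t) ^ 2 = 1 := by
    rw [← pow_mul, mul_comm, ← hN, ← Fintype.card_units, pow_card_eq_one]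
  have h4 : ((x ^ t : Fˣ) : F) ^ 2 = 1 := by
    rw [← Units.val_pow_eq_pow_val, h1, Units.val_one]
  have h6 : (((x ^ t : Fˣ) : F) - 1) * (((x ^ t : Fˣ) : F) + 1) = 0 := by linear_combination h4
  rcases mul_eq_zero.1 h6 with h7 | h7
  · left
    apply Units.ext
    rw [Units.val_one]
    linear_combination h7
  · right
    apply Units.ext
    rw [Units.val_neg, Units.val_one]
    linear_combination h7

/-- orthogonal type: the class splits into `gcd(m, (q - 1)/2)` classes -/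
theorem count_orth (hodd : Odd (Fintype.card F)) (h2 : (2 : F) ≠ 0) {k m : ℕ} (hnm : k + 1 = 2 * m)
    {ι : MulAut (Matrix.ProjectiveSpecialLinearGroup (Fin (k + 1)) F)}
    (hι : Cfsg.IsInverseTransposeAutPSL ι) (g : GL (Fin (k + 1)) F)
    (hg : ((g : Matrix (Fin (k + 1)) (Fin (k + 1)) F))ᵀ = (g : Matrix (Fin (k + 1)) (Fin (k + 1)) F)) :
    Cfsg.splitClassCount (Cfsg.inndiagPSL (k + 1) F)
      (Cfsg.Inn (Matrix.ProjectiveSpecialLinearGroup (Fin (k + 1)) F))
      (Psi (Equiv.refl (Fin (k + 1))) g * ι) = Nat.gcd m ((Fintype.card F - 1) / 2) := by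
  classical
  set kk : ℕ := Nat.gcd m ((Fintype.card F - 1) / 2) with hkk
  have hkk1 : kk ∣ m := Nat.gcd_dvd_left _ _
  have hkk2 : kk ∣ (Fintype.card F - 1) / 2 := Nat.gcd_dvd_right _ _
  have hdetg : (g : Matrix (Fin (k + 1)) (Fin (k + 1)) F).det ≠ 0 := by
    have := (Matrix.isUnit_iff_isUnit_det _).1 (Units.isUnit g)
    exact this.ne_zero
  have hg0 : (g : Matrix (Fin (k + 1)) (Fin (k + 1)) F) ≠ 0 := by
    intro h0
    apply hdetg
    rw [h0, Matrix.det_zero]
  set D : Subgroup Fˣ := (congrSubgroup (g : Matrix (Fin (k + 1)) (Fin (k + 1)) F)).map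
    Matrix.GeneralLinearGroup.det with hD
  -- `-1 ∈ D`
  have hneg : (-1 : Fˣ) ∈ D := by
    obtain ⟨r, hrdet, hr⟩ := exists_reflection h2 _ hg hg0
    have hr0 : r.det ≠ 0 := by rw [hrdet]; exact neg_ne_zero.2 one_ne_zero
    refine ⟨Matrix.GeneralLinearGroup.mkOfDetNeZero r hr0, ⟨1, ?_⟩, ?_⟩
    · rw [Units.val_one, one_smul]
      exact hr
    · apply Units.ext
      rw [Matrix.GeneralLinearGroup.val_det_apply, Units.val_neg, Units.val_one]
      exact hrdet
  -- determinants of similitudes are `± c ^ m`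
  have hpm : ∀ (h : GL (Fin (k + 1)) F) (c : Fˣ),
      (h : Matrix (Fin (k + 1)) (Fin (k + 1)) F) * (g : Matrix (Fin (k + 1)) (Fin (k + 1)) F) *
        ((h : Matrix (Fin (k + 1)) (Fin (k + 1)) F))ᵀ =
        (c : F) • (g : Matrix (Fin (k + 1)) (Fin (k + 1)) F) →
      Matrix.GeneralLinearGroup.det h = c ^ m ∨ Matrix.GeneralLinearGroup.det h = -c ^ m := by
    intro h c hc
    have h1 := det_sq_of_congr g h (c : F) hc
    rw [Fintype.card_fin] at h1
    have hpw : (c : F) ^ (k + 1) = ((c : F) ^ m) ^ 2 := by rw [hnm, mul_comm, pow_mul]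
    rw [hpw] at h1
    have h3 : ((h : Matrix (Fin (k + 1)) (Fin (k + 1)) F).det - (c : F) ^ m) *
        ((h : Matrix (Fin (k + 1)) (Fin (k + 1)) F).det + (c : F) ^ m) = 0 := by linear_combination h1
    rcases mul_eq_zero.1 h3 with h4 | h4
    · left
      apply Units.ext
      rw [Matrix.GeneralLinearGroup.val_det_apply, Units.val_pow_eq_pow_val]
      linear_combination h4
    · right
      apply Units.ext
      rw [Matrix.GeneralLinearGroup.val_det_apply, Units.val_neg, Units.val_pow_eq_pow_val]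
      linear_combination h4
  -- every `x ^ m` lies in `D`
  have hxm : ∀ x : Fˣ, x ^ m ∈ D := by
    intro x
    have hsq : IsSquare ((g : Matrix (Fin (k + 1)) (Fin (k + 1)) F).det *
        ((x : F) • (g : Matrix (Fin (k + 1)) (Fin (k + 1)) F)).det) := by
      refine ⟨(x : F) ^ m * (g : Matrix (Fin (k + 1)) (Fin (k + 1)) F).det, ?_⟩
      have hpw : (x : F) ^ (k + 1) = ((x : F) ^ m) ^ 2 := by rw [hnm, mul_comm, pow_mul]
      rw [Matrix.det_smul, Fintype.card_fin, hpw]
      ring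
    have hdx : ((x : F) • (g : Matrix (Fin (k + 1)) (Fin (k + 1)) F)).det ≠ 0 := by
      rw [Matrix.det_smul]
      exact mul_ne_zero (pow_ne_zero _ x.ne_zero) hdetg
    obtain ⟨h, hh0, hh⟩ := Cfsg.Agent.Helper13.SymCong.sym_cong hodd h2 k _ _ hg
      (by rw [Matrix.transpose_smul, hg]) hdetg hdx hsq
    have hmem : Matrix.GeneralLinearGroup.mkOfDetNeZero h hh0 ∈
        congrSubgroup (g : Matrix (Fin (k + 1)) (Fin (k + 1)) F) := ⟨x, hh⟩
    rcases hpm (Matrix.GeneralLinearGroup.mkOfDetNeZero h hh0) x hh with h5 | h5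
    · rw [← h5]
      exact ⟨_, hmem, rfl⟩
    · have h6 : x ^ m = (-1 : Fˣ) * Matrix.GeneralLinearGroup.det
          (Matrix.GeneralLinearGroup.mkOfDetNeZero h hh0) := by
        rw [h5]; simp
      rw [h6]
      exact D.mul_mem hneg ⟨_, hmem, rfl⟩
  have hxN : ∀ x : Fˣ, x ^ ((Fintype.card F - 1) / 2) ∈ D := by
    intro x
    rcases pow_half_eq hodd x with h | h
    · rw [h]; exact D.one_mem
    · rw [h]; exact hneg
  rw [count_eq (Nat.succ_pos k) (Equiv.refl _) hι]
  have hsup : D ⊔ (powMonoidHom (k + 1) : Fˣ →* Fˣ).range = (powMonoidHom kk : Fˣ →* Fˣ).range := by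
    apply le_antisymm
    · apply sup_le
      · rintro _ ⟨h, ⟨c, hc⟩, rfl⟩
        obtain ⟨s, hs⟩ := hkk1
        have hcm : c ^ m ∈ (powMonoidHom kk : Fˣ →* Fˣ).range :=
          ⟨c ^ s, by rw [powMonoidHom_apply, ← pow_mul, mul_comm, ← hs]⟩
        rcases hpm h c hc with h5 | h5
        · rw [h5]; exact hcm
        · rw [h5]
          have : -c ^ m = (-1 : Fˣ) * c ^ m := by simp
          rw [this]
          exact Subgroup.mul_mem _ (neg_one_mem_pow_range hodd hkk2) hcm
      · exact pow_range_le (hkk1.trans ⟨2, by rw [hnm, mul_comm]⟩)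
    · rintro _ ⟨x, rfl⟩
      apply Subgroup.mem_sup_left
      rw [powMonoidHom_apply]
      have hb := Nat.gcd_eq_gcd_ab m ((Fintype.card F - 1) / 2)
      have h7 : x ^ kk = (x ^ m) ^ (Nat.gcdA m ((Fintype.card F - 1) / 2)) *
          (x ^ ((Fintype.card F - 1) / 2)) ^ (Nat.gcdB m ((Fintype.card F - 1) / 2)) := by
        rw [← zpow_natCast x kk, hkk, hb, _root_.zpow_add, _root_.zpow_mul, _root_.zpow_mul, zpow_natCast, zpow_natCast]
      rw [h7]
      exact D.mul_mem (D.zpow_mem (hxm x) _) (D.zpow_mem (hxN x) _)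
  rw [hsup, index_pow]
  apply Nat.gcd_eq_right
  have : (Fintype.card F - 1) / 2 ∣ Fintype.card F - 1 := by
    obtain ⟨t, ht⟩ := hodd
    exact ⟨2, by omega⟩
  exact hkk2.trans this

end Orth

end Cfsg.Agent.Helper43.GraphAutSplit
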