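import Mathlib
import Cfsg.Agent.Lib.Helper43.GraphAutEven2
import Cfsg.Agent.Lib.Helper13.Symp
import Cfsg.Agent.Lib.Lead.SpCard
import Cfsg.Agent.S0287
import Cfsg.Agent.S0288

/-!
# Cardinality comparison `|PGO±_{2m}(q)| < |PGSp_{2m}(q)|`

* `card_sp_le`: `|Sp_{2m}(q)| ≤ 2 |PGSp_{2m}(q)|`;
* `card_pgo_le`: `|PGO(Q)| ≤ |O(Q)|` for a homogeneous quadratic `Q`;
* `pgo_plus_ne_pgsp`, `pgo_minus_ne_pgsp`.
-/

set_option autoImplicit false

namespace Cfsg.Agent.Helper43.ProjCard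

open Matrix Cfsg.Agent.Helper43.GraphAutEven2 Cfsg.Agent.Helper43.GraphAutCent

section Scalars

variable {F : Type*} [Field F] [Fintype F] {ι : Type} [Fintype ι] [DecidableEq ι]

theorem card_scalars [Nonempty ι] : Nat.card ↥(Cfsg.Geo.scalars ι F) = Fintype.card F - 1 := by
  classical
  have hinj : Function.Injective (Units.map (Matrix.scalar ι : F →+* Matrix ι ι F).toMonoidHom) := by
    apply Units.map_injective
    intro a b hab
    exact Matrix.scalar_inj.1 hab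
  unfold Cfsg.Geo.scalars
  rw [Nat.card_congr (MonoidHom.ofInjective hinj).symm.toEquiv, Nat.card_eq_fintype_card,
    Fintype.card_units]

/-- `|projQuot H| (q - 1) = |H|` when `H` contains the scalars -/
theorem card_projQuot [Nonempty ι] (H : Subgroup (GL ι F)) (hH : Cfsg.Geo.scalars ι F ≤ H) :
    Nat.card (Cfsg.projQuot H) * (Fintype.card F - 1) = Nat.card ↥H := by
  rw [Subgroup.card_eq_card_quotient_mul_card_subgroup ((Cfsg.Geo.scalars ι F).subgroupOf H),
    Nat.card_congr (Subgroup.subgroupOfEquivOfLe hH).toEquiv, card_scalars]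

end Scalars

section PGO

variable {F : Type*} [Field F] [Fintype F] {ι : Type} [Fintype ι] [DecidableEq ι]

/-- `|PGO(Q)| ≤ |O(Q)|` -/
theorem card_pgo_le [Nonempty ι] (Q : (ι → F) → F) (hQ : ∀ (c : F) (v : ι → F), Q (c • v) = c ^ 2 * Q v) :
    Nat.card (Cfsg.PGO F Q) ≤ Nat.card ↥(Cfsg.isometryGroup F Q) := by
  classical
  have hsc : Cfsg.Geo.scalars ι F ≤ Cfsg.Geo.quadSimilarityGroup (F := F) Q := by
    intro g hg
    rw [Cfsg.Geo.mem_scalars_iff] at hg
    obtain ⟨c, hc⟩ := hg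
    refine ⟨c * c, fun v => ?_⟩
    rw [hc, Matrix.smul_mulVec, Matrix.one_mulVec, hQ, Units.val_mul, sq]
  have h1 := card_projQuot (Cfsg.Geo.quadSimilarityGroup (F := F) Q) hsc
  -- the multiplier
  have hmul : ∀ g : ↥(Cfsg.Geo.quadSimilarityGroup (F := F) Q),
      ∃ c : Fˣ, ∀ v, Q (((g : GL ι F) : Matrix ι ι F) *ᵥ v) = (c : F) * Q v := fun g => g.2
  choose μ hμ using hmul
  -- representatives
  have hrep : ∀ c : Fˣ, ∃ h₀ : GL ι F, (∃ g : ↥(Cfsg.Geo.quadSimilarityGroup (F := F) Q), μ g = c) →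
      (∀ v, Q ((h₀ : Matrix ι ι F) *ᵥ v) = (c : F) * Q v) := by
    intro c
    by_cases hc : ∃ g : ↥(Cfsg.Geo.quadSimilarityGroup (F := F) Q), μ g = c
    · obtain ⟨g, hg⟩ := hc
      exact ⟨g, fun _ v => by rw [← hg]; exact hμ g v⟩
    · exact ⟨1, fun h => absurd h hc⟩
  choose rep hrep' using hrep
  have hiso : ∀ g : ↥(Cfsg.Geo.quadSimilarityGroup (F := F) Q),
      (rep (μ g))⁻¹ * (g : GL ι F) ∈ Cfsg.isometryGroup F Q := by
    intro g u _
    show Q ((((rep (μ g))⁻¹ * (g : GL ι F) : GL ι F) : Matrix ι ι F) *ᵥ u) = Q u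
    have h2 := hrep' (μ g) ⟨g, rfl⟩
    have h3 : Q (((rep (μ g) : GL ι F) : Matrix ι ι F) *ᵥ
        ((((rep (μ g))⁻¹ * (g : GL ι F) : GL ι F) : Matrix ι ι F) *ᵥ u)) =
        Q (((g : GL ι F) : Matrix ι ι F) *ᵥ u) := by
      rw [Matrix.mulVec_mulVec, ← Units.val_mul, mul_inv_cancel_left]
    rw [h2, hμ g u] at h3
    exact mul_left_cancel₀ (μ g).ne_zero h3
  let f : ↥(Cfsg.Geo.quadSimilarityGroup (F := F) Q) → Fˣ × ↥(Cfsg.isometryGroup F Q) :=
    fun g => (μ g, ⟨_, hiso g⟩)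
  have hf : Function.Injective f := by
    intro g g' hgg
    have e1 : μ g = μ g' := congrArg Prod.fst hgg
    have e2 : (rep (μ g))⁻¹ * (g : GL ι F) = (rep (μ g'))⁻¹ * (g' : GL ι F) :=
      congrArg (fun z : Fˣ × ↥(Cfsg.isometryGroup F Q) => (z.2 : GL ι F)) hgg
    rw [e1] at e2
    exact Subtype.ext (mul_left_cancel e2)
  have h4 := Nat.card_le_card_of_injective f hf
  rw [Nat.card_prod, Nat.card_eq_fintype_card (α := Fˣ), Fintype.card_units] at h4
  have hq : 0 < Fintype.card F - 1 := by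
    have : 1 < Fintype.card F := Fintype.one_lt_card
    omega
  rw [← h1, mul_comm] at h4
  exact Nat.le_of_mul_le_mul_left h4 hq

end PGO

section PGSp

variable {F : Type*} [Field F] [Fintype F] {m : ℕ}

omit [Fintype F] in
theorem spToGL_mem_GSp (s : ↥(Matrix.symplecticGroup (Fin m) F)) : spToGL m F s ∈ Cfsg.GSp m F := by
  refine ⟨1, fun u v => ?_⟩
  rw [Units.val_one, one_mul, spToGL_coe]
  exact Cfsg.Agent.Helper13.sympForm_mulVec s.2 u v

/-- `|Sp_{2m}(q)| ≤ 2 |PGSp_{2m}(q)|` -/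
theorem card_sp_le (hm : 0 < m) :
    Nat.card ↥(Matrix.symplecticGroup (Fin m) F) ≤ 2 * Nat.card (Cfsg.PGSp m F) := by
  classical
  let φ : ↥(Matrix.symplecticGroup (Fin m) F) →* Cfsg.PGSp m F :=
    (QuotientGroup.mk' _).comp ((spToGL m F).codRestrict (Cfsg.GSp m F) spToGL_mem_GSp)
  have hker : ∀ s ∈ φ.ker, s = 1 ∨ (s : Matrix (Fin m ⊕ Fin m) (Fin m ⊕ Fin m) F) = -1 := by
    intro s hs
    have h1 : (spToGL m F).codRestrict (Cfsg.GSp m F) spToGL_mem_GSp s ∈
        (Cfsg.Geo.scalars (Fin m ⊕ Fin m) F).subgroupOf (Cfsg.GSp m F) := by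
      rw [← QuotientGroup.eq_one_iff]
      exact hs
    rw [Subgroup.mem_subgroupOf, Cfsg.Geo.mem_scalars_iff] at h1
    obtain ⟨c, hc⟩ := h1
    have hc' : (s : Matrix (Fin m ⊕ Fin m) (Fin m ⊕ Fin m) F) = (c : F) • 1 := hc
    have h2 := SymplecticGroup.mem_iff.1 s.2
    rw [hc', Matrix.transpose_smul, Matrix.transpose_one, Matrix.smul_mul, Matrix.one_mul,
      Matrix.mul_smul, Matrix.mul_one, smul_smul] at h2
    have h3 := congrFun (congrFun h2 (Sum.inr ⟨0, hm⟩)) (Sum.inl ⟨0, hm⟩)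
    rw [Matrix.smul_apply, Matrix.J, Matrix.fromBlocks_apply₂₁, Matrix.one_apply_eq, smul_eq_mul,
      mul_one] at h3
    have h4 : ((c : F) - 1) * ((c : F) + 1) = 0 := by linear_combination h3
    rcases mul_eq_zero.1 h4 with h5 | h5
    · left
      apply Subtype.ext
      rw [hc', sub_eq_zero.1 h5, one_smul]
      rfl
    · right
      rw [hc', eq_neg_of_add_eq_zero_left h5, neg_smul, one_smul]
  have hk2 : Nat.card ↥φ.ker ≤ 2 := by
    let f : ↥φ.ker → Bool := fun s => decide ((s : ↥(Matrix.symplecticGroup (Fin m) F)) = 1)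
    have hf : Function.Injective f := by
      intro s t hst
      apply Subtype.ext
      rcases hker s s.2 with hs | hs <;> rcases hker t t.2 with ht | ht
      · rw [hs, ht]
      · have h1 : f s = true := decide_eq_true hs
        rw [hst] at h1
        exact hs.trans (of_decide_eq_true h1).symm
      · have h1 : f t = true := decide_eq_true ht
        rw [← hst] at h1
        exact (of_decide_eq_true h1).trans ht.symm
      · exact Subtype.ext (hs.trans ht.symm)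
    have := Nat.card_le_card_of_injective f hf
    rwa [Nat.card_eq_fintype_card (α := Bool), Fintype.card_bool] at this
  have h5 : Nat.card ↥(Matrix.symplecticGroup (Fin m) F) = Nat.card ↥φ.ker * Nat.card ↥φ.range := by
    rw [← Subgroup.index_ker, Subgroup.card_mul_index]
  rw [h5]
  exact Nat.mul_le_mul hk2 (Subgroup.card_le_card_group _)

end PGSp

section Compare

variable {F : Type*} [Field F]

theorem quadFormPlus_smul (m : ℕ) (c : F) (v : Fin m ⊕ Fin m → F) :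
    Cfsg.quadFormPlus m F (c • v) = c ^ 2 * Cfsg.quadFormPlus m F v := by
  unfold Cfsg.quadFormPlus
  rw [Finset.mul_sum]
  apply Finset.sum_congr rfl
  intro i _
  simp only [Pi.smul_apply, smul_eq_mul]
  ring

theorem quadFormMinus_smul (m : ℕ) (a b : F) (c : F) (v : (Fin m ⊕ Fin m) ⊕ Fin 2 → F) :
    Cfsg.quadFormMinus m F a b (c • v) = c ^ 2 * Cfsg.quadFormMinus m F a b v := by
  unfold Cfsg.quadFormMinus
  simp only [Pi.smul_apply, smul_eq_mul]
  rw [mul_add, Finset.mul_sum]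
  congr 1
  · apply Finset.sum_congr rfl
    intro i _
    ring
  · ring

theorem num_ineq (q m P s : ℕ) (hq : 3 ≤ q) (hm : 2 ≤ m) (hP : 0 < P) (hs : s ≤ q ^ m + 1) :
    2 * (2 * q ^ (m * (m - 1)) * s * P) < q ^ (m ^ 2) * (P * (q ^ (2 * m) - 1)) := by
  have hx : 9 ≤ q ^ m := by
    calc 9 = 3 ^ 2 := by norm_num
      _ ≤ q ^ 2 := Nat.pow_le_pow_left hq 2
      _ ≤ q ^ m := Nat.pow_le_pow_right (by omega) hm
  obtain ⟨t, ht⟩ : ∃ t, q ^ m = t + 9 := ⟨q ^ m - 9, by omega⟩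
  have h1 : q ^ (m ^ 2) = q ^ (m * (m - 1)) * q ^ m := by
    rw [← pow_add]
    congr 1
    obtain ⟨m', rfl⟩ : ∃ m', m = m' + 1 := ⟨m - 1, by omega⟩
    rw [Nat.add_sub_cancel]
    ring
  have h2 : q ^ (2 * m) - 1 = t ^ 2 + 18 * t + 80 := by
    rw [mul_comm, pow_mul, ht]
    apply Nat.sub_eq_of_eq_add
    ring
  have hY : 0 < q ^ (m * (m - 1)) := pow_pos (by omega) _
  rw [h1, h2, ht]
  have hs' : s ≤ t + 10 := by omega
  have hZ : 0 < q ^ (m * (m - 1)) * P := Nat.mul_pos hY hP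
  calc 2 * (2 * q ^ (m * (m - 1)) * s * P) = (q ^ (m * (m - 1)) * P) * (4 * s) := by ring
    _ ≤ (q ^ (m * (m - 1)) * P) * (4 * (t + 10)) := Nat.mul_le_mul_left _ (by omega)
    _ < (q ^ (m * (m - 1)) * P) * ((t + 9) * (t ^ 2 + 18 * t + 80)) := by
        apply (Nat.mul_lt_mul_left hZ).2
        nlinarith [Nat.zero_le t, sq_nonneg t, Nat.zero_le (t ^ 3)]
    _ = q ^ (m * (m - 1)) * (t + 9) * (P * (t ^ 2 + 18 * t + 80)) := by ring

variable [Fintype F]

theorem prod_pos_aux (q : ℕ) (hq : 2 ≤ q) (k : ℕ) :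
    0 < ∏ i ∈ Finset.range k, (q ^ (2 * (i + 1)) - 1) := by
  apply Finset.prod_pos
  intro i _
  have : 1 < q ^ (2 * (i + 1)) := Nat.one_lt_pow (by omega) (by omega)
  omega

theorem three_le_card (hodd : Odd (Fintype.card F)) : 3 ≤ Fintype.card F := by
  have h1 : 1 < Fintype.card F := Fintype.one_lt_card
  rcases hodd with ⟨k, hk⟩
  omega

theorem card_sp_eq (m : ℕ) (hm : 1 ≤ m) :
    Nat.card ↥(Matrix.symplecticGroup (Fin m) F) =
      Fintype.card F ^ (m ^ 2) * ((∏ i ∈ Finset.range (m - 1), (Fintype.card F ^ (2 * (i + 1)) - 1)) *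
        (Fintype.card F ^ (2 * m) - 1)) := by
  rw [Cfsg.Agent.Lead.card_symplecticGroup m, Nat.card_eq_fintype_card]
  obtain ⟨m', rfl⟩ : ∃ m', m = m' + 1 := ⟨m - 1, by omega⟩
  rw [Nat.add_sub_cancel, Finset.prod_range_succ]

theorem pgo_plus_ne_pgsp (hodd : Odd (Fintype.card F)) {m : ℕ} (hm : 2 ≤ m) :
    Nat.card (Cfsg.PGO F (Cfsg.quadFormPlus m F)) ≠ Nat.card (Cfsg.PGSp m F) := by
  intro heq
  have : Nonempty (Fin m ⊕ Fin m) := ⟨Sum.inl ⟨0, by omega⟩⟩
  have h1 := card_sp_le (F := F) (m := m) (by omega)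
  have h2 := card_pgo_le (Cfsg.quadFormPlus m F) (quadFormPlus_smul m)
  have h3 := Cfsg.Agent.S0287.result (F := F) rfl m (by omega)
  have h4 := card_sp_eq (F := F) m (by omega)
  have h5 := num_ineq (Fintype.card F) m
    (∏ i ∈ Finset.range (m - 1), (Fintype.card F ^ (2 * (i + 1)) - 1)) (Fintype.card F ^ m - 1)
    (three_le_card hodd) hm (prod_pos_aux _ (by have := three_le_card (F := F) hodd; omega) _)
    (by omega)
  rw [← h3, ← h4] at h5
  omega

theorem pgo_minus_ne_pgsp (hodd : Odd (Fintype.card F)) {m : ℕ} (hm : 2 ≤ m) (a b : F)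
    (hab : ∀ z₁ z₂ : F, z₁ ^ 2 + a * z₁ * z₂ + b * z₂ ^ 2 = 0 → z₁ = 0 ∧ z₂ = 0) :
    Nat.card (Cfsg.PGO F (Cfsg.quadFormMinus (m - 1) F a b)) ≠ Nat.card (Cfsg.PGSp m F) := by
  intro heq
  have h1 := card_sp_le (F := F) (m := m) (by omega)
  have h2 := card_pgo_le (Cfsg.quadFormMinus (m - 1) F a b) (quadFormMinus_smul (m - 1) a b)
  have h3 := Cfsg.Agent.S0288.result (F := F) rfl m (by omega) a b hab
  have h4 := card_sp_eq (F := F) m (by omega)
  have h5 := num_ineq (Fintype.card F) m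
    (∏ i ∈ Finset.range (m - 1), (Fintype.card F ^ (2 * (i + 1)) - 1)) (Fintype.card F ^ m + 1)
    (three_le_card hodd) hm (prod_pos_aux _ (by have := three_le_card (F := F) hodd; omega) _)
    le_rfl
  rw [← h3, ← h4] at h5
  omega

end Compare

end Cfsg.Agent.Helper43.ProjCard
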