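import Mathlib
import Cfsg.Agent.Lib.Helper43.GraphAutSplit
import Cfsg.Agent.Lib.Helper43.ProjCard
import Cfsg.Agent.Lib.Helper13.GraphAutClasses
import Cfsg.Agent.S2700

/-!
# Class splitting of involutory graph automorphisms of `PSL_n(q)` (assembly for S2702)
-/

set_option autoImplicit false

namespace Cfsg.Agent.Helper43.GraphAutSplitMain

open Matrix Cfsg.Agent.Helper13.PSLAut Cfsg.Agent.Helper13.GraphAutPSL
  Cfsg.Agent.Helper13.SymCong Cfsg.Agent.Helper13.SimForms Cfsg.Agent.Helper13.DotForm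
  Cfsg.Agent.Helper13.GraphAutClasses
  Cfsg.Agent.Helper43.GraphAut Cfsg.Agent.Helper43.GraphAutOddDim
  Cfsg.Agent.Helper43.GraphAutEven2 Cfsg.Agent.Helper43.GraphAutSplit
  Cfsg.Agent.Helper43.ProjCard

section Conj

variable {X : Type*} [Group X] (H : Subgroup X)

theorem isConjUnder_symm {x y : X} (h : Cfsg.IsConjUnder H x y) : Cfsg.IsConjUnder H y x := by
  obtain ⟨a, ha, rfl⟩ := h
  exact ⟨a⁻¹, H.inv_mem ha, by group⟩

theorem isConjUnder_trans {x y z : X} (h1 : Cfsg.IsConjUnder H x y) (h2 : Cfsg.IsConjUnder H y z) :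
    Cfsg.IsConjUnder H x z := by
  obtain ⟨a, ha, rfl⟩ := h1
  obtain ⟨b, hb, rfl⟩ := h2
  exact ⟨b * a, H.mul_mem hb ha, by group⟩

end Conj

section Main

variable {F : Type*} [Field F] [Fintype F]

local notation "PSLn" n => Matrix.ProjectiveSpecialLinearGroup (Fin n) F

omit [Fintype F] in
theorem gam_eq_Psi {n : ℕ} (A : GL (Fin n) F) :
    gam A = Psi (Equiv.refl (Fin n)) A * iotaAut := by
  rw [Psi_refl]
  rfl

/-- the skew-symmetric case -/
theorem skew_case (h2 : (2 : F) ≠ 0) {n m : ℕ} (hn : 3 ≤ n) (hnm : n = 2 * m)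
    (A : GL (Fin n) F)
    (hA : (A : Matrix (Fin n) (Fin n) F)ᵀ = -(A : Matrix (Fin n) (Fin n) F)) :
    Cfsg.splitClassCount (Cfsg.inndiagPSL n F)
        (Cfsg.Inn (Matrix.ProjectiveSpecialLinearGroup (Fin n) F)) (gam A) =
      Nat.gcd (Fintype.card F - 1) m ∧
    Nonempty (↥(Cfsg.inndiagPSL n F ⊓ Subgroup.centralizer {gam A}) ≃* Cfsg.PGSp m F) := by
  classical
  have hn0 : 0 < n := by omega
  have σ₁ : Fin n ≃ Fin m ⊕ Fin m :=
    Fintype.equivOfCardEq (by simp only [Fintype.card_sum, Fintype.card_fin]; omega)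
  set Jn : GL (Fin n) F := Cfsg.Geo.glReindex (F := F) σ₁.symm (gJ m F) with hJn
  have hJnv : (Jn : Matrix (Fin n) (Fin n) F) = (Matrix.J (Fin m) F).submatrix σ₁ σ₁ := by
    rw [hJn, glReindex_coe, gJ_coe]
    rfl
  have hdA : (A : Matrix (Fin n) (Fin n) F).det ≠ 0 := Matrix.GeneralLinearGroup.det_ne_zero A
  obtain ⟨h, hh, e⟩ := skew_normal_form h2 σ₁ _ hA hdA
  have hconj : Cfsg.IsConjUnder (Cfsg.inndiagPSL n F) (gam Jn) (gam A) :=
    conj_of_cong' hn0 Jn A h hh (by rw [hJnv]; exact e)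
  constructor
  · rw [← splitClassCount_congr _ _ _ _ hconj, gam_eq_Psi, hJn, ← Psi_eq_refl]
    exact count_symp hn0 hnm σ₁.symm iotaAut_isInvT
  · obtain ⟨e0⟩ := conj_cent_equiv (Cfsg.inndiagPSL n F) _ _ (isConjUnder_symm _ hconj)
    obtain ⟨e1⟩ := cent_gam_equiv hn0 Jn (Cfsg.Geo.similarityGroup (F := F) (bform (Jn : Matrix (Fin n) (Fin n) F)))
      (fun g => mem_bsim_iff _ g)
    obtain ⟨e2⟩ := bsim_congr (LinearEquiv.funCongrLeft F F σ₁) (bform (Jn : Matrix (Fin n) (Fin n) F))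
      (Cfsg.sympForm m F) (fun u v => by rw [hJnv]; exact bform_submatrix σ₁ _ u v)
    exact ⟨(e0.trans e1).trans e2⟩

omit [Fintype F] in
theorem exists_skew {n m : ℕ} (hnm : n = 2 * m) :
    ∃ Jn : GL (Fin n) F, (Jn : Matrix (Fin n) (Fin n) F)ᵀ = -(Jn : Matrix (Fin n) (Fin n) F) := by
  classical
  have σ₁ : Fin n ≃ Fin m ⊕ Fin m :=
    Fintype.equivOfCardEq (by simp only [Fintype.card_sum, Fintype.card_fin]; omega)
  refine ⟨Cfsg.Geo.glReindex (F := F) σ₁.symm (gJ m F), ?_⟩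
  have hJnv : ((Cfsg.Geo.glReindex (F := F) σ₁.symm (gJ m F) : GL (Fin n) F) :
      Matrix (Fin n) (Fin n) F) = (Matrix.J (Fin m) F).submatrix σ₁ σ₁ := by
    rw [glReindex_coe, gJ_coe]
    rfl
  rw [hJnv, Matrix.transpose_submatrix, Matrix.J_transpose]
  rfl

/-- the symmetric case -/
theorem sym_case (hodd : Odd (Fintype.card F)) (h2 : (2 : F) ≠ 0) {n m : ℕ} (hn : 3 ≤ n)
    (hnm : n = 2 * m) (A : GL (Fin n) F)
    (hA : (A : Matrix (Fin n) (Fin n) F)ᵀ = (A : Matrix (Fin n) (Fin n) F)) :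
    Cfsg.splitClassCount (Cfsg.inndiagPSL n F)
        (Cfsg.Inn (Matrix.ProjectiveSpecialLinearGroup (Fin n) F)) (gam A) =
      Nat.gcd m ((Fintype.card F - 1) / 2) ∧
    ¬ Nonempty (↥(Cfsg.inndiagPSL n F ⊓ Subgroup.centralizer {gam A}) ≃* Cfsg.PGSp m F) := by
  classical
  have hn0 : 0 < n := by omega
  have hm : 2 ≤ m := by omega
  constructor
  · obtain ⟨k, rfl⟩ : ∃ k, n = k + 1 := ⟨n - 1, by omega⟩
    rw [gam_eq_Psi]
    exact count_orth hodd h2 hnm iotaAut_isInvT A hA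
  · obtain ⟨γ₁, γ₂, γ₃, a, b, hab, hg1, ho1, hg2, ho2, hg3, ho3, -, -, -, hall, ⟨c1⟩, ⟨c2⟩, ⟨c3⟩⟩ :=
      Cfsg.Agent.S2700.result hodd hm hnm
    rintro ⟨eA⟩
    have key : ∀ x : MulAut (Matrix.ProjectiveSpecialLinearGroup (Fin n) F),
        Cfsg.IsGraphAutClassPSL x → orderOf x = 2 →
        Nonempty (↥(Cfsg.inndiagPSL n F ⊓ Subgroup.centralizer {x}) ≃* Cfsg.PGSp m F) →
        Cfsg.IsConjUnder (Cfsg.inndiagPSL n F) γ₁ x := by
      rintro x hx hx2 ⟨ex⟩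
      rcases hall x hx hx2 with h | h | h
      · exact h
      · exfalso
        obtain ⟨e0⟩ := conj_cent_equiv (Cfsg.inndiagPSL n F) _ _ h
        exact pgo_plus_ne_pgsp hodd hm (Nat.card_congr ((c2.symm.trans e0).trans ex).toEquiv)
      · exfalso
        obtain ⟨e0⟩ := conj_cent_equiv (Cfsg.inndiagPSL n F) _ _ h
        exact pgo_minus_ne_pgsp hodd hm a b hab
          (Nat.card_congr ((c3.symm.trans e0).trans ex).toEquiv)
    have k1 := key (gam A) ((isGraph_iff _).2 ⟨hn, A, rfl⟩) (orderOf_gam hn A (Or.inl hA)) ⟨eA⟩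
    obtain ⟨Jn, hskew⟩ := exists_skew (F := F) hnm
    have k2 := key (gam Jn) ((isGraph_iff _).2 ⟨hn, Jn, rfl⟩) (orderOf_gam hn Jn (Or.inr hskew))
      (skew_case h2 hn hnm Jn hskew).2
    have k3 : Cfsg.IsConjUnder (Cfsg.inndiagPSL n F) (gam Jn) (gam A) :=
      isConjUnder_trans _ (isConjUnder_symm _ k2) k1
    obtain ⟨h, c, e⟩ := (isConj_gam_iff hn0 Jn A).1 k3
    have h0 := not_cong_skew_sym h2 hskew hA c.ne_zero e
    have hdA : (A : Matrix (Fin n) (Fin n) F).det ≠ 0 := Matrix.GeneralLinearGroup.det_ne_zero A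
    apply hdA
    have : Nonempty (Fin n) := ⟨⟨0, hn0⟩⟩
    rw [h0, Matrix.det_zero]

/-- assembly: the statement of S2702 -/
theorem main {p f : ℕ} [Fact p.Prime] (hF : Fintype.card F = p ^ f) (hf : 1 ≤ f) {n : ℕ}
    (hn : 3 ≤ n) (γ : MulAut (Matrix.ProjectiveSpecialLinearGroup (Fin n) F))
    (hγ : Cfsg.IsGraphAutClassPSL γ) (hγ2 : orderOf γ = 2) :
    ((Even n ∧ Odd p ∧ Nonempty (↥(Cfsg.inndiagPSL n F ⊓ Subgroup.centralizer {γ}) ≃* Cfsg.PGSp (n / 2) F)) → Cfsg.splitClassCount (Cfsg.inndiagPSL n F) (Cfsg.Inn (Matrix.ProjectiveSpecialLinearGroup (Fin n) F)) γ = Nat.gcd (n / 2) (p ^ f - 1)) ∧ ((Even n ∧ Odd p ∧ ¬ Nonempty (↥(Cfsg.inndiagPSL n F ⊓ Subgroup.centralizer {γ}) ≃* Cfsg.PGSp (n / 2) F)) → Cfsg.splitClassCount (Cfsg.inndiagPSL n F) (Cfsg.Inn (Matrix.ProjectiveSpecialLinearGroup (Fin n) F)) γ = Nat.gcd n (p ^ f - 1) / 2) ∧ (¬ (Even n ∧ Odd p) → Cfsg.splitClassCount (Cfsg.inndiagPSL n F) (Cfsg.Inn (Matrix.ProjectiveSpecialLinearGroup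 (Fin n) F)) γ = Nat.gcd n (p ^ f - 1)) := by
  classical
  have hn0 : 0 < n := by omega
  obtain ⟨A, rfl, hA⟩ := graph_invol γ hγ hγ2
  have hcardF : p ^ f - 1 = Fintype.card F - 1 := by rw [hF]
  have hEO : Even n ∧ Odd p → (Odd (Fintype.card F) ∧ (2 : F) ≠ 0 ∧ n = 2 * (n / 2)) := by
    rintro ⟨he, hp⟩
    have hodd : Odd (Fintype.card F) := by rw [hF]; exact hp.pow
    refine ⟨hodd, ?_, ?_⟩
    · intro h
      have h1 : ringChar F = 2 :=
        CharP.ringChar_of_prime_eq_zero Nat.prime_two (by exact_mod_cast h)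
      have h3 := FiniteField.even_card_of_char_two h1
      rcases hodd with ⟨k, hk⟩
      omega
    · obtain ⟨k, hk⟩ := he
      omega
  refine ⟨?_, ?_, ?_⟩
  · rintro ⟨he, hp, hiso⟩
    obtain ⟨hodd, h2, hnm⟩ := hEO ⟨he, hp⟩
    rcases hA with hA | hA
    · exact absurd hiso (sym_case hodd h2 hn hnm A hA).2
    · rw [(skew_case h2 hn hnm A hA).1, hcardF, Nat.gcd_comm]
  · rintro ⟨he, hp, hiso⟩
    obtain ⟨hodd, h2, hnm⟩ := hEO ⟨he, hp⟩
    rcases hA with hA | hA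
    · rw [(sym_case hodd h2 hn hnm A hA).1, hcardF]
      obtain ⟨t, ht⟩ := hodd
      have hN : Fintype.card F - 1 = 2 * t := by omega
      rw [hN, Nat.mul_div_cancel_left t (by norm_num : 0 < 2)]
      conv_rhs => rw [hnm]
      rw [Nat.gcd_mul_left, Nat.mul_div_cancel_left _ (by norm_num : 0 < 2)]
    · exact absurd (skew_case h2 hn hnm A hA).2 hiso
  · intro hne
    rw [gam_eq_Psi, hcardF, Nat.gcd_comm]
    apply count_trivial hn0 (Equiv.refl _) iotaAut_isInvT A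
    intro h c hc
    by_cases he : Even n
    · have hp : ¬ Odd p := fun hp => hne ⟨he, hp⟩
      have hp2 : p = 2 := by
        rcases (Fact.out : p.Prime).eq_two_or_odd' with h | h
        · exact h
        · exact absurd h hp
      have h20 : (2 : F) = 0 := by
        have h1 : ((Fintype.card F : ℕ) : F) = 0 := Nat.cast_card_eq_zero F
        rw [hF, hp2, Nat.cast_pow] at h1
        have hf0 : f ≠ 0 := by omega
        exact (pow_eq_zero_iff hf0).1 (by exact_mod_cast h1)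
      have : CharP F 2 := CharTwo.of_one_ne_zero_of_two_eq_zero one_ne_zero h20
      exact det_pow_of_char_two (by simp) A h c hc
    · exact det_pow_of_odd (by simp) (Nat.not_even_iff_odd.1 he) A h c hc

end Main

end Cfsg.Agent.Helper43.GraphAutSplitMain
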