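import Mathlib
import Cfsg.Prelude.Def_JordanBlocks

set_option autoImplicit false

/-! Centraliser of a unipotent Jordan matrix in the full matrix algebra:
explicit Toeplitz parametrisation, invertibility criterion. -/

namespace Cfsg.Agent.Helper43.JC

open Matrix

variable {F : Type*} [Field F] {t : ℕ} (d : Fin t → ℕ)

/-- index type of the Jordan matrix -/
abbrev Idx {t : ℕ} (d : Fin t → ℕ) : Type := (k : Fin t) × Fin (d k)

/-- nilpotent part of the Jordan matrix -/
def Nm (F : Type*) [Field F] : Matrix (Idx d) (Idx d) F :=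
  Matrix.of fun x y => if x.1 = y.1 ∧ (x.2 : ℕ) = (y.2 : ℕ) + 1 then 1 else 0

theorem jordan_eq : Cfsg.jordanTypeMatrix d F = 1 + Nm d F := by
  ext ⟨k, a⟩ ⟨l, b⟩
  by_cases h : k = l
  · subst h
    simp only [Cfsg.jordanTypeMatrix, Matrix.blockDiagonal'_apply_eq, Cfsg.jordanBlock,
      Matrix.of_apply, Matrix.add_apply, Nm, Matrix.one_apply]
    by_cases h1 : (a : ℕ) = b
    · have : a = b := Fin.ext h1
      subst this
      simp
    · have h2 : (⟨k, a⟩ : Idx d) ≠ ⟨k, b⟩ := by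
        intro h2
        apply h1
        cases h2
        rfl
      simp [h1, h2]
  · have h2 : (⟨k, a⟩ : Idx d) ≠ ⟨l, b⟩ := fun h2 => h (congrArg Sigma.fst h2)
    simp [Cfsg.jordanTypeMatrix, Matrix.blockDiagonal'_apply_ne _ _ _ h, Nm, h, h2]

theorem comm_jordan_iff (g : Matrix (Idx d) (Idx d) F) :
    g * Cfsg.jordanTypeMatrix d F = Cfsg.jordanTypeMatrix d F * g ↔
      g * Nm d F = Nm d F * g := by
  rw [jordan_eq, mul_add, add_mul, mul_one, one_mul]
  exact add_right_inj g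

theorem Nm_mulVec (z : Idx d → F) (k : Fin t) (a : ℕ) (ha : a < d k) :
    (Nm d F *ᵥ z) ⟨k, ⟨a, ha⟩⟩ = if h : 0 < a then z ⟨k, ⟨a - 1, by omega⟩⟩ else 0 := by
  simp only [Matrix.mulVec, dotProduct, Nm, Matrix.of_apply]
  split_ifs with h
  · rw [Finset.sum_eq_single (⟨k, ⟨a - 1, by omega⟩⟩ : Idx d)]
    · rw [if_pos ⟨rfl, by simp; omega⟩, one_mul]
    · rintro ⟨l, b⟩ - hne
      rw [if_neg, zero_mul]
      rintro ⟨h1, h2⟩
      simp only at h1 h2
      subst h1
      apply hne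
      congr 1
      apply Fin.ext
      simp only
      omega
    · simp
  · apply Finset.sum_eq_zero
    rintro ⟨l, b⟩ -
    rw [if_neg, zero_mul]
    simp only [not_and]
    intro _
    omega

theorem Nm_mul_apply (g : Matrix (Idx d) (Idx d) F) (k : Fin t) (a : ℕ) (ha : a < d k)
    (y : Idx d) :
    (Nm d F * g) ⟨k, ⟨a, ha⟩⟩ y = if h : 0 < a then g ⟨k, ⟨a - 1, by omega⟩⟩ y else 0 := by
  have := Nm_mulVec d (fun z => g z y) k a ha
  simpa [Matrix.mul_apply, Matrix.mulVec, dotProduct] using this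

theorem mul_Nm_apply (g : Matrix (Idx d) (Idx d) F) (x : Idx d) (l : Fin t) (b : ℕ)
    (hb : b < d l) :
    (g * Nm d F) x ⟨l, ⟨b, hb⟩⟩ = if h : b + 1 < d l then g x ⟨l, ⟨b + 1, h⟩⟩ else 0 := by
  simp only [Matrix.mul_apply, Nm, Matrix.of_apply]
  split_ifs with h
  · rw [Finset.sum_eq_single (⟨l, ⟨b + 1, h⟩⟩ : Idx d)]
    · rw [if_pos ⟨rfl, rfl⟩, mul_one]
    · rintro ⟨m, c⟩ - hne
      rw [if_neg, mul_zero]
      rintro ⟨h1, h2⟩
      simp only at h1 h2
      subst h1
      apply hne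
      congr 1
      apply Fin.ext
      simp only
      omega
    · simp
  · apply Finset.sum_eq_zero
    rintro ⟨m, c⟩ -
    rw [if_neg, mul_zero]
    rintro ⟨h1, h2⟩
    simp only at h1 h2
    subst h1
    have := c.2
    omega

/-- padded entries -/
def ent (g : Matrix (Idx d) (Idx d) F) (k : Fin t) (a : ℕ) (l : Fin t) (b : ℕ) : F :=
  if h : a < d k ∧ b < d l then g ⟨k, ⟨a, h.1⟩⟩ ⟨l, ⟨b, h.2⟩⟩ else 0

theorem ent_of_lt (g : Matrix (Idx d) (Idx d) F) (k : Fin t) (a : ℕ) (l : Fin t) (b : ℕ)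
    (ha : a < d k) (hb : b < d l) : ent d g k a l b = g ⟨k, ⟨a, ha⟩⟩ ⟨l, ⟨b, hb⟩⟩ := by
  rw [ent, dif_pos ⟨ha, hb⟩]

theorem comm_iff (g : Matrix (Idx d) (Idx d) F) :
    g * Nm d F = Nm d F * g ↔ ∀ k l a b, a < d k → b < d l →
      ent d g k a l (b + 1) = if 0 < a then ent d g k (a - 1) l b else 0 := by
  constructor
  · intro h k l a b ha hb
    have h1 := congrFun (congrFun h ⟨k, ⟨a, ha⟩⟩) ⟨l, ⟨b, hb⟩⟩
    rw [mul_Nm_apply, Nm_mul_apply] at h1
    by_cases h2 : b + 1 < d l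
    · rw [ent_of_lt d g k a l (b + 1) ha h2]
      rw [dif_pos h2] at h1
      rw [h1]
      by_cases h3 : 0 < a
      · rw [dif_pos h3, if_pos h3, ent_of_lt d g k (a - 1) l b (by omega) hb]
      · rw [dif_neg h3, if_neg h3]
    · rw [dif_neg h2] at h1
      rw [ent, dif_neg (by omega)]
      by_cases h3 : 0 < a
      · rw [dif_pos h3] at h1
        rw [if_pos h3, ent_of_lt d g k (a - 1) l b (by omega) hb, ← h1]
      · rw [if_neg h3]
  · intro h
    ext ⟨k, ⟨a, ha⟩⟩ ⟨l, ⟨b, hb⟩⟩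
    rw [mul_Nm_apply, Nm_mul_apply]
    have h1 := h k l a b ha hb
    by_cases h2 : b + 1 < d l
    · rw [ent_of_lt d g k a l (b + 1) ha h2] at h1
      rw [dif_pos h2, h1]
      by_cases h3 : 0 < a
      · rw [dif_pos h3, if_pos h3, ent_of_lt d g k (a - 1) l b (by omega) hb]
      · rw [dif_neg h3, if_neg h3]
    · rw [dif_neg h2]
      rw [ent, dif_neg (by omega)] at h1
      by_cases h3 : 0 < a
      · rw [dif_pos h3]
        rw [if_pos h3, ent_of_lt d g k (a - 1) l b (by omega) hb] at h1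
        exact h1
      · rw [dif_neg h3]


variable {d}

theorem toeplitz {g : Matrix (Idx d) (Idx d) F} (hg : g * Nm d F = Nm d F * g) (k l : Fin t) :
    ∀ (b a : ℕ), a < d k → b < d l →
      ent d g k a l b = if b ≤ a then ent d g k (a - b) l 0 else 0 := by
  intro b
  induction b with
  | zero => intro a _ _; simp
  | succ b ih =>
    intro a ha hb
    rw [(comm_iff d g).1 hg k l a b ha (by omega)]
    by_cases h3 : 0 < a
    · rw [if_pos h3, ih (a - 1) (by omega) (by omega)]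
      by_cases h4 : b + 1 ≤ a
      · rw [if_pos h4, if_pos (by omega)]
        have e : a - 1 - b = a - (b + 1) := by omega
        rw [e]
      · rw [if_neg h4, if_neg (by omega)]
    · rw [if_neg h3, if_neg (by omega)]

theorem vanish {g : Matrix (Idx d) (Idx d) F} (hg : g * Nm d F = Nm d F * g) (k l : Fin t)
    (j : ℕ) (h : j + d l < d k) (hl : 0 < d l) : ent d g k j l 0 = 0 := by
  have h1 := (comm_iff d g).1 hg k l (j + d l) (d l - 1) h (by omega)
  rw [if_pos (by omega), toeplitz hg k l (d l - 1) (j + d l - 1) (by omega) (by omega),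
    if_pos (by omega)] at h1
  have e : j + d l - 1 - (d l - 1) = j := by omega
  rw [e] at h1
  rw [← h1, ent, dif_neg (by omega)]

variable (d)

/-- parameter positions -/
abbrev Pos {t : ℕ} (d : Fin t → ℕ) : Type :=
  (l : Fin t) × (k : Fin t) × Fin (min (d k) (d l))

/-- padded parameters -/
def cent (c : Pos d → F) (l k : Fin t) (j : ℕ) : F :=
  if h : j < min (d k) (d l) then c ⟨l, k, ⟨j, h⟩⟩ else 0

/-- matrix from parameters -/
def Mc (c : Pos d → F) : Matrix (Idx d) (Idx d) F :=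
  Matrix.of fun x y =>
    if (y.2 : ℕ) + (d x.1 - d y.1) ≤ x.2 then
      cent d c y.1 x.1 ((x.2 : ℕ) - y.2 - (d x.1 - d y.1)) else 0

/-- parameters from matrix -/
def par (g : Matrix (Idx d) (Idx d) F) : Pos d → F :=
  fun p => ent d g p.2.1 ((p.2.2 : ℕ) + (d p.2.1 - d p.1)) p.1 0

theorem ent_Mc (c : Pos d → F) (k : Fin t) (a : ℕ) (l : Fin t) (b : ℕ) :
    ent d (Mc d c) k a l b = if a < d k ∧ b < d l ∧ b + (d k - d l) ≤ a then
      cent d c l k (a - b - (d k - d l)) else 0 := by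
  unfold ent
  by_cases h : a < d k ∧ b < d l
  · rw [dif_pos h]
    simp only [Mc, Matrix.of_apply]
    by_cases h2 : b + (d k - d l) ≤ a
    · rw [if_pos h2, if_pos ⟨h.1, h.2, h2⟩]
    · rw [if_neg h2, if_neg (fun h3 => h2 h3.2.2)]
  · rw [dif_neg h, if_neg (fun h3 => h ⟨h3.1, h3.2.1⟩)]

theorem Mc_comm (c : Pos d → F) : Mc d c * Nm d F = Nm d F * Mc d c := by
  rw [comm_iff]
  intro k l a b ha hb
  rw [ent_Mc, ent_Mc]
  by_cases hc : b + 1 + (d k - d l) ≤ a
  · have h1 : b + 1 < d l := by omega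
    rw [if_pos ⟨ha, h1, hc⟩, if_pos (by omega), if_pos ⟨by omega, hb, by omega⟩]
    have e : a - (b + 1) - (d k - d l) = a - 1 - b - (d k - d l) := by omega
    rw [e]
  · rw [if_neg (fun h3 => hc h3.2.2)]
    by_cases h3 : 0 < a
    · rw [if_pos h3, if_neg (fun h4 => hc (by omega))]
    · rw [if_neg h3]

theorem Mc_par {g : Matrix (Idx d) (Idx d) F} (hg : g * Nm d F = Nm d F * g) :
    Mc d (par d g) = g := by
  ext ⟨k, ⟨a, ha⟩⟩ ⟨l, ⟨b, hb⟩⟩
  rw [← ent_of_lt d g k a l b ha hb, toeplitz hg k l b a ha hb]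
  simp only [Mc, Matrix.of_apply, cent, par]
  by_cases h : b + (d k - d l) ≤ a
  · rw [if_pos h, dif_pos (by omega), if_pos (by omega)]
    have e : a - b - (d k - d l) + (d k - d l) = a - b := by omega
    simp only [e]
  · rw [if_neg h]
    by_cases h2 : b ≤ a
    · rw [if_pos h2, vanish hg k l (a - b) (by omega) (by omega)]
    · rw [if_neg h2]

theorem par_Mc (c : Pos d → F) : par d (Mc d c) = c := by
  funext ⟨l, k, ⟨j, hj⟩⟩
  simp only [par]
  rw [ent_Mc, if_pos ⟨by omega, by omega, by omega⟩]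
  have e : j + (d k - d l) - 0 - (d k - d l) = j := by omega
  rw [e, cent, dif_pos hj]


/-! ### Invertibility -/


/-- level-zero coordinates -/
def pi0 (hd : ∀ k, 1 ≤ d k) (v : Idx d → F) : Fin t → F := fun k => v ⟨k, ⟨0, hd k⟩⟩

/-- level-zero block of a matrix -/
def gbar (g : Matrix (Idx d) (Idx d) F) : Matrix (Fin t) (Fin t) F :=
  Matrix.of fun k l => ent d g k 0 l 0

/-- lift of a level-zero vector -/
def lift0 (y : Fin t → F) : Idx d → F := fun x => if (x.2 : ℕ) = 0 then y x.1 else 0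

theorem pi0_lift0 (hd : ∀ k, 1 ≤ d k) (y : Fin t → F) : pi0 d hd (lift0 d y) = y := by
  funext k
  simp [pi0, lift0]

theorem pi0_sub (hd : ∀ k, 1 ≤ d k) (v w : Idx d → F) : pi0 d hd (v - w) = pi0 d hd v - pi0 d hd w := by
  funext k
  simp [pi0]

theorem pi0_mulVec (hd : ∀ k, 1 ≤ d k) {g : Matrix (Idx d) (Idx d) F} (hg : g * Nm d F = Nm d F * g)
    (v : Idx d → F) : pi0 d hd (g *ᵥ v) = gbar d g *ᵥ pi0 d hd v := by
  funext k
  simp only [pi0, Matrix.mulVec, dotProduct, gbar, Matrix.of_apply]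
  rw [Fintype.sum_sigma]
  apply Finset.sum_congr rfl
  intro l _
  rw [Finset.sum_eq_single (⟨0, hd l⟩ : Fin (d l))]
  · rw [ent_of_lt d g k 0 l 0 (hd k) (hd l)]
  · intro b _ hb
    have h0 : g ⟨k, ⟨0, hd k⟩⟩ ⟨l, b⟩ = 0 := by
      have h1 := toeplitz hg k l b 0 (hd k) b.2
      rw [ent_of_lt d g k 0 l b (hd k) b.2, if_neg] at h1
      · exact h1
      · intro h
        apply hb
        apply Fin.ext
        simp only
        omega
    rw [h0, zero_mul]
  · simp

theorem exists_of_pi0_eq_zero (hd : ∀ k, 1 ≤ d k) (v : Idx d → F) (h : pi0 d hd v = 0) :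
    ∃ w, v = Nm d F *ᵥ w := by
  refine ⟨fun x => if h : (x.2 : ℕ) + 1 < d x.1 then v ⟨x.1, ⟨x.2 + 1, h⟩⟩ else 0, ?_⟩
  funext ⟨k, ⟨a, ha⟩⟩
  rw [Nm_mulVec]
  by_cases h3 : 0 < a
  · rw [dif_pos h3]
    simp only
    rw [dif_pos (by omega)]
    congr 3
    omega
  · rw [dif_neg h3]
    have : a = 0 := by omega
    subst this
    exact congrFun h k

theorem Nm_pow_mulVec (w : Idx d → F) (k : Fin t) :
    ∀ (m a : ℕ) (ha : a < d k), a < m → (Nm d F ^ m *ᵥ w) ⟨k, ⟨a, ha⟩⟩ = 0 := by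
  intro m
  induction m with
  | zero => intro a _ h; omega
  | succ m ih =>
    intro a ha h
    rw [pow_succ', ← Matrix.mulVec_mulVec, Nm_mulVec]
    by_cases h3 : 0 < a
    · rw [dif_pos h3]
      exact ih (a - 1) (by omega) (by omega)
    · rw [dif_neg h3]

theorem Nm_pow_sup_mulVec (w : Idx d → F) : Nm d F ^ (Finset.univ.sup d) *ᵥ w = 0 := by
  funext ⟨k, ⟨a, ha⟩⟩
  exact Nm_pow_mulVec d w k _ a ha (lt_of_lt_of_le ha (Finset.le_sup (Finset.mem_univ k)))

theorem surj_of_gbar_surj (hd : ∀ k, 1 ≤ d k) {g : Matrix (Idx d) (Idx d) F} (hg : g * Nm d F = Nm d F * g)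
    (hs : Function.Surjective (gbar d g).mulVec) : Function.Surjective g.mulVec := by
  have key : ∀ m v, ∃ u w, v = g *ᵥ u + Nm d F ^ m *ᵥ w := by
    intro m
    induction m with
    | zero => intro v; exact ⟨0, v, by simp⟩
    | succ m ih =>
      intro v
      obtain ⟨u, w, hv⟩ := ih v
      obtain ⟨y, hy⟩ := hs (pi0 d hd w)
      have h1 : pi0 d hd (w - g *ᵥ lift0 d y) = 0 := by
        rw [pi0_sub, pi0_mulVec d hd hg, pi0_lift0, hy, sub_self]
      obtain ⟨w', hw'⟩ := exists_of_pi0_eq_zero d hd _ h1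
      refine ⟨u + Nm d F ^ m *ᵥ lift0 d y, w', ?_⟩
      have hcomm : g * Nm d F ^ m = Nm d F ^ m * g := (Commute.pow_right hg m)
      rw [Matrix.mulVec_add, Matrix.mulVec_mulVec, hcomm, ← Matrix.mulVec_mulVec, pow_succ,
        ← Matrix.mulVec_mulVec, ← hw', Matrix.mulVec_sub, hv]
      abel
  intro v
  obtain ⟨u, w, hv⟩ := key (Finset.univ.sup d) v
  exact ⟨u, by rw [hv, Nm_pow_sup_mulVec, add_zero]⟩

theorem isUnit_iff_gbar (hd : ∀ k, 1 ≤ d k) {g : Matrix (Idx d) (Idx d) F} (hg : g * Nm d F = Nm d F * g) :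
    IsUnit g ↔ IsUnit (gbar d g) := by
  rw [← Matrix.mulVec_surjective_iff_isUnit, ← Matrix.mulVec_surjective_iff_isUnit]
  constructor
  · intro hs y
    obtain ⟨u, hu⟩ := hs (lift0 d y)
    refine ⟨pi0 d hd u, ?_⟩
    rw [← pi0_mulVec d hd hg, hu, pi0_lift0]
  · exact surj_of_gbar_surj d hd hg

/-- block sizes as elements of `Fin (sup d + 1)` -/
def dF (k : Fin t) : Fin (Finset.univ.sup d + 1) :=
  ⟨d k, Nat.lt_succ_of_le (Finset.le_sup (Finset.mem_univ k))⟩

theorem gbar_blockTriangular (hd : ∀ k, 1 ≤ d k) {g : Matrix (Idx d) (Idx d) F} (hg : g * Nm d F = Nm d F * g) :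
    (gbar d g).BlockTriangular (dF d) := by
  intro k l hlt
  simp only [gbar, Matrix.of_apply]
  have h2 : d l < d k := by simpa [dF] using hlt
  exact vanish hg k l 0 (by omega) (hd l)

theorem isUnit_gbar_iff (hd : ∀ k, 1 ≤ d k) {g : Matrix (Idx d) (Idx d) F} (hg : g * Nm d F = Nm d F * g) :
    IsUnit (gbar d g) ↔
      ∀ i : Fin (Finset.univ.sup d + 1), IsUnit ((gbar d g).toSquareBlock (dF d) i).det := by
  rw [Matrix.isUnit_iff_isUnit_det, (gbar_blockTriangular d hd hg).det_fintype]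
  simp only [isUnit_iff_ne_zero, Finset.prod_ne_zero_iff, Finset.mem_univ, true_imp_iff]

/-- the diagonal positions -/
def emb (hd : ∀ k, 1 ≤ d k) :
    (Σ i : Fin (Finset.univ.sup d + 1), {k // dF d k = i} × {k // dF d k = i}) → Pos d :=
  fun x => ⟨x.2.2.1, x.2.1.1, ⟨0, by have := hd x.2.2.1; have := hd x.2.1.1; omega⟩⟩

theorem emb_injective (hd : ∀ k, 1 ≤ d k) : Function.Injective (emb d hd) := by
  rintro ⟨i, ⟨k, hk⟩, ⟨l, hl⟩⟩ ⟨i', ⟨k', hk'⟩, ⟨l', hl'⟩⟩ h
  have h1 : l = l' := congrArg (fun p : Pos d => p.1) h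
  have h2 : k = k' := congrArg (fun p : Pos d => p.2.1) h
  subst h1 h2
  have h3 : i = i' := hk.symm.trans hk'
  subst h3
  rfl

/-- invertibility condition on parameters -/
def cond (hd : ∀ k, 1 ≤ d k) (c : Pos d → F) : Prop :=
  ∀ i : Fin (Finset.univ.sup d + 1), IsUnit (Matrix.det
    (Matrix.of fun (k l : {k // dF d k = i}) => c (emb d hd ⟨i, (k, l)⟩)))

theorem isUnit_Mc_iff (hd : ∀ k, 1 ≤ d k) (c : Pos d → F) : IsUnit (Mc d c) ↔ cond d hd c := by
  rw [isUnit_iff_gbar d hd (Mc_comm d c), isUnit_gbar_iff d hd (Mc_comm d c)]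
  unfold cond
  apply forall_congr'
  intro i
  have : (gbar d (Mc d c)).toSquareBlock (dF d) i =
      Matrix.of fun (k l : {k // dF d k = i}) => c (emb d hd ⟨i, (k, l)⟩) := by
    ext ⟨k, hk⟩ ⟨l, hl⟩
    simp only [Matrix.toSquareBlock_def, Matrix.of_apply, gbar, emb]
    have h1 : d k = d l := by
      have := hk.trans hl.symm
      simpa [dF] using congrArg Fin.val this
    have := hd k
    have := hd l
    rw [ent_Mc, if_pos ⟨by omega, by omega, by omega⟩]
    have e : 0 - 0 - (d k - d l) = 0 := by omega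
    rw [e, cent, dif_pos (by omega)]
  rw [this]


/-! ### Counting -/

theorem card_cond_generic {F : Type*} [Field F] [Fintype F] {P : Type*} [Fintype P] [DecidableEq P]
    {n' : ℕ} (K : Fin n' → Type*) [∀ i, Fintype (K i)] [∀ i, DecidableEq (K i)]
    (em : (Σ i, K i × K i) → P) (hem : Function.Injective em) :
    Nat.card {c : P → F // ∀ i, IsUnit (Matrix.det
        (Matrix.of fun k l => c (em ⟨i, (k, l)⟩)))} =
      (∏ i, Nat.card (GL (K i) F)) *
        (Fintype.card F) ^ (Fintype.card P - ∑ i, Fintype.card (K i) ^ 2) := by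
  classical
  let D := Σ i, K i × K i
  let R := {p : P // p ∉ Set.range em}
  let Q : (D → F) → Prop := fun c₁ => ∀ i, IsUnit (Matrix.det
        (Matrix.of fun k l => c₁ ⟨i, (k, l)⟩))
  -- step A
  let e₁ : (P → F) ≃ (D → F) × (R → F) :=
    (Equiv.piEquivPiSubtypeProd (· ∈ Set.range em) (fun _ => F)).trans
      (Equiv.prodCongr (Equiv.arrowCongr (Equiv.ofInjective em hem).symm (Equiv.refl F))
        (Equiv.refl _))
  have he₁ : ∀ c, (e₁ c).1 = fun x => c (em x) := by
    intro c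
    funext x
    rfl
  -- step B
  let e₂ : {c : P → F // Q (fun x => c (em x))} ≃ {p : (D → F) × (R → F) // Q p.1} :=
    Equiv.subtypeEquiv e₁ (fun c => by rw [he₁])
  let e₃ : {p : (D → F) × (R → F) // Q p.1} ≃ {a : D → F // Q a} × (R → F) :=
    { toFun := fun p => (⟨p.1.1, p.2⟩, p.1.2)
      invFun := fun q => ⟨(q.1.1, q.2), q.1.2⟩
      left_inv := fun p => rfl
      right_inv := fun q => rfl }
  -- step C
  let e₄ : {a : D → F // Q a} ≃ (∀ i, GL (K i) F) :=
    { toFun := fun c₁ i => Matrix.GeneralLinearGroup.mk'' (Matrix.of fun k l => c₁.1 ⟨i, (k, l)⟩)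
        (c₁.2 i)
      invFun := fun u => ⟨fun x => (u x.1 : Matrix (K x.1) (K x.1) F) x.2.1 x.2.2, fun i => by
        have := (Matrix.isUnit_iff_isUnit_det _).1 (u i).isUnit
        exact this⟩
      left_inv := fun c₁ => by
        apply Subtype.ext
        funext ⟨i, k, l⟩
        rfl
      right_inv := fun u => by
        funext i
        apply Units.ext
        ext k l
        rfl }
  have hcard : Nat.card {c : P → F // Q (fun x => c (em x))} =
      Nat.card (∀ i, GL (K i) F) * Nat.card (R → F) := by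
    rw [Nat.card_congr (e₂.trans e₃), Nat.card_prod, Nat.card_congr e₄]
  have hR : Nat.card R = Fintype.card P - ∑ i, Fintype.card (K i) ^ 2 := by
    rw [Nat.card_eq_fintype_card, Fintype.card_subtype_compl]
    congr 1
    rw [← Nat.card_eq_fintype_card, ← Nat.card_congr (Equiv.ofInjective em hem),
      Nat.card_eq_fintype_card, Fintype.card_sigma]
    apply Finset.sum_congr rfl
    intro i _
    rw [Fintype.card_prod, sq]
  change Nat.card {c : P → F // Q (fun x => c (em x))} = _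
  rw [hcard, Nat.card_pi, Nat.card_fun, hR, Nat.card_eq_fintype_card]


theorem card_GL_fintype {F : Type*} [Field F] [Fintype F] (K : Type*) [Fintype K]
    [DecidableEq K] :
    Nat.card (GL K F) = ∏ j : Fin (Fintype.card K),
      (Fintype.card F ^ Fintype.card K - Fintype.card F ^ (j : ℕ)) := by
  rw [← Matrix.card_GL_field]
  apply Nat.card_congr
  exact (Units.mapEquiv (Matrix.reindexAlgEquiv F F (Fintype.equivFin K)).toMulEquiv).toEquiv

theorem card_centralizer_eq (hd : ∀ k, 1 ≤ d k) :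
    Nat.card {g : GL (Idx d) F // (g : Matrix (Idx d) (Idx d) F) * Cfsg.jordanTypeMatrix d F =
        Cfsg.jordanTypeMatrix d F * (g : Matrix (Idx d) (Idx d) F)} =
      Nat.card {c : Pos d → F // cond d hd c} := by
  have hcond : ∀ g : {g : GL (Idx d) F // (g : Matrix (Idx d) (Idx d) F) *
      Cfsg.jordanTypeMatrix d F = Cfsg.jordanTypeMatrix d F * (g : Matrix (Idx d) (Idx d) F)},
      cond d hd (par d (g.1 : Matrix (Idx d) (Idx d) F)) := by
    intro g
    have hg := (comm_jordan_iff d _).1 g.2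
    rw [← isUnit_Mc_iff, Mc_par d hg]
    exact g.1.isUnit
  apply Nat.card_congr
  refine Equiv.ofBijective (fun g => ⟨par d (g.1 : Matrix (Idx d) (Idx d) F), hcond g⟩) ⟨?_, ?_⟩
  · rintro ⟨g₁, h₁⟩ ⟨g₂, h₂⟩ h
    have h' : par d (g₁ : Matrix (Idx d) (Idx d) F) = par d (g₂ : Matrix (Idx d) (Idx d) F) :=
      congrArg Subtype.val h
    apply Subtype.ext
    apply Units.ext
    rw [← Mc_par d ((comm_jordan_iff d _).1 h₁), ← Mc_par d ((comm_jordan_iff d _).1 h₂), h']
  · rintro ⟨c, hc⟩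
    have hu : IsUnit (Mc d c) := (isUnit_Mc_iff d hd c).2 hc
    have hspec : (hu.unit : Matrix (Idx d) (Idx d) F) = Mc d c := IsUnit.unit_spec hu
    refine ⟨⟨hu.unit, ?_⟩, ?_⟩
    · rw [hspec, comm_jordan_iff]
      exact Mc_comm d c
    · apply Subtype.ext
      show par d (hu.unit : Matrix (Idx d) (Idx d) F) = c
      rw [hspec, par_Mc]

theorem card_centralizer [Fintype F] (hd : ∀ k, 1 ≤ d k) :
    Nat.card {g : GL (Idx d) F // (g : Matrix (Idx d) (Idx d) F) * Cfsg.jordanTypeMatrix d F =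
        Cfsg.jordanTypeMatrix d F * (g : Matrix (Idx d) (Idx d) F)} =
      (∏ i : Fin (Finset.univ.sup d + 1), ∏ j : Fin (Fintype.card {k // dF d k = i}),
        (Fintype.card F ^ Fintype.card {k // dF d k = i} - Fintype.card F ^ (j : ℕ))) *
        (Fintype.card F) ^ (Fintype.card (Pos d) -
          ∑ i : Fin (Finset.univ.sup d + 1), Fintype.card {k // dF d k = i} ^ 2) := by
  rw [card_centralizer_eq d hd]
  have := card_cond_generic (F := F) (fun i : Fin (Finset.univ.sup d + 1) => {k // dF d k = i})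
    (emb d hd) (emb_injective d hd)
  unfold cond
  rw [this]
  congr 1
  apply Finset.prod_congr rfl
  intro i _
  exact card_GL_fintype _

/-! ### Arithmetic -/

theorem sum_fiber {t : ℕ} (d : Fin t → ℕ) (h : ℕ → ℕ) :
    ∑ k : Fin t, h (d k) = ∑ i ∈ Finset.range (Finset.univ.sup d + 1),
      (Finset.univ.filter (fun k => d k = i)).card * h i := by
  rw [← Finset.sum_fiberwise_of_maps_to (s := Finset.univ)
    (t := Finset.range (Finset.univ.sup d + 1)) (g := d)
    (fun k _ => Finset.mem_range.2 (Nat.lt_succ_of_le (Finset.le_sup (Finset.mem_univ k))))]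
  apply Finset.sum_congr rfl
  intro i _
  rw [Finset.sum_congr rfl (fun k hk => by rw [(Finset.mem_filter.1 hk).2]), Finset.sum_const,
    smul_eq_mul]

theorem arith_key (a : ℕ → ℕ) (n : ℕ) (h0 : a 0 = 0) :
    ∑ j ∈ Finset.range n, a j * ∑ i ∈ Finset.range n, a i * min i j =
      (2 * (∑ i ∈ Finset.range n, ∑ j ∈ Finset.range n,
        if i < j then i * a i * a j else 0) + ∑ i ∈ Finset.range n, (i - 1) * a i ^ 2) +
        ∑ i ∈ Finset.range n, a i ^ 2 := by
  have key : ∀ i j, a j * (a i * min i j) = (if i < j then i * a i * a j else 0) +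
      (if j < i then j * a j * a i else 0) + (if i = j then i * a i ^ 2 else 0) := by
    intro i j
    rcases lt_trichotomy i j with h | h | h
    · rw [if_pos h, if_neg (by omega), if_neg (by omega), min_eq_left h.le]; ring
    · subst h; simp; ring
    · rw [if_neg (by omega), if_pos h, if_neg (by omega), min_eq_right h.le]; ring
  have hL : ∑ j ∈ Finset.range n, a j * ∑ i ∈ Finset.range n, a i * min i j =
      (∑ j ∈ Finset.range n, ∑ i ∈ Finset.range n, if i < j then i * a i * a j else 0) +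
      (∑ j ∈ Finset.range n, ∑ i ∈ Finset.range n, if j < i then j * a j * a i else 0) +
      (∑ j ∈ Finset.range n, ∑ i ∈ Finset.range n, if i = j then i * a i ^ 2 else 0) := by
    simp_rw [Finset.mul_sum, key, Finset.sum_add_distrib]
  rw [hL, Finset.sum_comm (f := fun j i => if i < j then i * a i * a j else 0)]
  have h3 : ∀ j ∈ Finset.range n, (∑ i ∈ Finset.range n, if i = j then i * a i ^ 2 else 0) =
      (j - 1) * a j ^ 2 + a j ^ 2 := by
    intro j hj
    rw [Finset.sum_ite_eq' (Finset.range n) j (fun i => i * a i ^ 2), if_pos hj]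
    rcases Nat.eq_zero_or_pos j with h | h
    · subst h; simp [h0]
    · obtain ⟨m, rfl⟩ : ∃ m, j = m + 1 := ⟨j - 1, by omega⟩
      simp only [Nat.add_sub_cancel]
      ring
  rw [Finset.sum_congr rfl h3, Finset.sum_add_distrib]
  ring

end Cfsg.Agent.Helper43.JC
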