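import Mathlib
import Cfsg.Agent.Lib.Helper43.OMin6
import Cfsg.Agent.S0791

set_option autoImplicit false
set_option linter.unusedSectionVars false

/-!
# The order of `Out(PΩ⁻_{2m}(q))` for odd `q`, given `Aut = PΓO`
-/

namespace Cfsg.Agent.Helper43.OMin

open Matrix QuadraticMap Cfsg.Agent.Helper13 Cfsg.Agent.Helper43 Cfsg.Agent.Helper43.OGam
  Cfsg.Agent.Helper5.OrthAut Cfsg.Agent.Helper16.OSemiAut

section constructor

variable {F : Type*} [Field F] [Finite F] {ι : Type} [Fintype ι] [DecidableEq ι]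

/-- A semisimilarity from a function with the right properties. -/
theorem exists_GamO_of (Q : (ι → F) → F) (Lf : (ι → F) → (ι → F)) (σ : F ≃+* F) (μ : Fˣ)
    (hadd : ∀ x y, Lf (x + y) = Lf x + Lf y) (hsmul : ∀ (c : F) x, Lf (c • x) = σ c • Lf x)
    (hQ : ∀ x, Q (Lf x) = (μ : F) * σ (Q x)) (hker : ∀ x, Lf x = 0 → x = 0) :
    ∃ L : GamO Q, ∀ x, (L : Equiv.Perm (ι → F)) x = Lf x := by
  have hinj : Function.Injective Lf := by
    intro x y hxy
    have h1 : Lf x = Lf (x - y) + Lf y := by rw [← hadd, sub_add_cancel]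
    have h2 : Lf (x - y) = 0 := by
      rw [hxy] at h1
      exact (add_eq_right.mp h1.symm)
    exact sub_eq_zero.mp (hker _ h2)
  refine ⟨⟨Equiv.ofBijective Lf (Finite.injective_iff_bijective.mp hinj), σ, μ, hadd, hsmul, hQ⟩,
    fun x => rfl⟩

end constructor

section minus

variable {F : Type*} [Field F] [Fintype F] (k : ℕ) (a b : F)

theorem nrm_comb (a' b' : F) (u w : F × F) (z : F × F) :
    nrm a' b' (z.1 • u + z.2 • w) =
      z.1 ^ 2 * nrm a' b' u + z.1 * z.2 * nrmPolar a' b' u w + z.2 ^ 2 * nrm a' b' w := by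
  simp only [nrm, nrmPolar, Prod.fst_add, Prod.snd_add, Prod.smul_fst, Prod.smul_snd, smul_eq_mul]
  ring

/-- For every field automorphism there is a semisimilarity of the minus-type form inducing it. -/
theorem exists_semilinear_minus (hab : AnisoPair a b) (σ : F ≃+* F) :
    ∃ L : GamO ⇑(stdMinus F k a b), ∀ (c : F) (x : (Fin k ⊕ Fin k) ⊕ Fin 2 → F),
      (L : Equiv.Perm _) (c • x) = σ c • (L : Equiv.Perm _) x := by
  classical
  set a' := σ.symm a with ha'
  set b' := σ.symm b with hb'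
  have hab' : AnisoPair a' b' := by
    intro z₁ z₂ h
    have h1 := congrArg σ h
    simp only [map_add, map_mul, map_pow, map_zero, ha', hb', RingEquiv.apply_symm_apply] at h1
    obtain ⟨e1, e2⟩ := hab (σ z₁) (σ z₂) h1
    exact ⟨(map_eq_zero_iff σ σ.injective).mp e1, (map_eq_zero_iff σ σ.injective).mp e2⟩
  have hcard := AnisoPair.card_frames hab' hab
  have hne : Nonempty {pp : (F × F) × (F × F) // nrm a' b' pp.1 = 1 ∧ nrm a' b' pp.2 = b ∧
      nrmPolar a' b' pp.1 pp.2 = a} := by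
    by_contra hcon
    rw [not_nonempty_iff] at hcon
    rw [Nat.card_of_isEmpty] at hcard
    omega
  obtain ⟨⟨⟨u, w⟩, hu, hw, huw⟩⟩ := hne
  simp only at hu hw huw
  let hz : F × F → F × F := fun z => z.1 • u + z.2 • w
  have hz_nrm : ∀ z, nrm a' b' (hz z) = nrm a b z := by
    intro z
    rw [nrm_comb, hu, hw, huw]
    simp only [nrm]
    ring
  let sp : F × F → F × F := fun z => (σ z.1, σ z.2)
  have sp_nrm : ∀ z, nrm a b (sp z) = σ (nrm a' b' z) := by
    intro z
    simp only [nrm, sp, map_add, map_mul, map_pow, ha', hb', RingEquiv.apply_symm_apply]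
  let Lf : ((Fin k ⊕ Fin k) ⊕ Fin 2 → F) → ((Fin k ⊕ Fin k) ⊕ Fin 2 → F) :=
    fun x => mk2 (fun i => σ (x (Sum.inl i))) (sp (hz (zp x)))
  have hsm : ∀ (c : F) x, Lf (c • x) = σ c • Lf x := by
    intro c x
    apply mk2_ext
    · intro i
      show σ (c * x (Sum.inl i)) = σ c * σ (x (Sum.inl i))
      rw [map_mul]
    · show sp (hz (zp (c • x))) = σ c • sp (hz (zp x))
      rw [zp_smul]
      ext
      · simp only [sp, hz, Prod.fst_add, Prod.snd_add, Prod.smul_fst, Prod.smul_snd, smul_eq_mul,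
          map_add, map_mul]
        ring
      · simp only [sp, hz, Prod.fst_add, Prod.snd_add, Prod.smul_fst, Prod.smul_snd, smul_eq_mul,
          map_add, map_mul]
        ring
  suffices h4 : (∀ x y, Lf (x + y) = Lf x + Lf y) ∧
      (∀ x, stdMinus F k a b (Lf x) = ((1 : Fˣ) : F) * σ (stdMinus F k a b x)) ∧
      (∀ x, Lf x = 0 → x = 0) by
    obtain ⟨L, hL⟩ := exists_GamO_of (⇑(stdMinus F k a b)) Lf σ 1 h4.1 hsm h4.2.1 h4.2.2
    refine ⟨L, fun c x => ?_⟩
    rw [hL, hL]
    exact hsm c x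
  refine ⟨?_, ?_, ?_⟩
  · intro x y
    apply mk2_ext
    · intro i
      show σ (x (Sum.inl i) + y (Sum.inl i)) = σ (x (Sum.inl i)) + σ (y (Sum.inl i))
      rw [map_add]
    · show sp (hz (zp (x + y))) = sp (hz (zp x)) + sp (hz (zp y))
      rw [zp_add]
      ext
      · simp only [sp, hz, Prod.fst_add, Prod.snd_add, Prod.smul_fst, Prod.smul_snd, smul_eq_mul,
          map_add, map_mul]
        ring
      · simp only [sp, hz, Prod.fst_add, Prod.snd_add, Prod.smul_fst, Prod.smul_snd, smul_eq_mul,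
          map_add, map_mul]
        ring
  · intro x
    rw [Units.val_one, one_mul, stdMinus_eq, stdMinus_eq]
    show (∑ i, σ (x (Sum.inl (Sum.inl i))) * σ (x (Sum.inl (Sum.inr i)))) +
      nrm a b (sp (hz (zp x))) = _
    rw [sp_nrm, hz_nrm, map_add, map_sum]
    congr 1
    apply Finset.sum_congr rfl
    intro i _
    rw [map_mul]
  · intro x hx
    apply mk2_ext
    · intro i
      have := congrFun hx (Sum.inl i)
      exact (map_eq_zero_iff σ σ.injective).mp this
    · have h0 := congrFun hx (Sum.inr 0)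
      have h1 := congrFun hx (Sum.inr 1)
      have e0 : σ (hz (zp x)).1 = 0 := h0
      have e1 : σ (hz (zp x)).2 = 0 := h1
      have e : hz (zp x) = 0 :=
        Prod.ext ((map_eq_zero_iff σ σ.injective).mp e0) ((map_eq_zero_iff σ σ.injective).mp e1)
      have hn : nrm a b (zp x) = 0 := by
        rw [← hz_nrm, e, nrm_zero]
      exact (hab.nrm_eq_zero _).mp hn

/-- A similarity of the minus-type form with prescribed multiplier. -/
theorem exists_similarity_minus (hab : AnisoPair a b) (ν : Fˣ) :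
    ∃ L : GamO ⇑(stdMinus F k a b), L ∈ Lin ⇑(stdMinus F k a b) ∧
      ∀ x, stdMinus F k a b ((L : Equiv.Perm _) x) = (ν : F) * stdMinus F k a b x := by
  classical
  obtain ⟨u, hu⟩ := hab.exists_nrm_eq (ν : F)
  let Lf : ((Fin k ⊕ Fin k) ⊕ Fin 2 → F) → ((Fin k ⊕ Fin k) ⊕ Fin 2 → F) :=
    fun x => mk2 (Sum.elim (fun i => (ν : F) * x (Sum.inl (Sum.inl i)))
      (fun i => x (Sum.inl (Sum.inr i)))) (nmul a b u (zp x))
  have hsm : ∀ (c : F) x, Lf (c • x) = c • Lf x := by
    intro c x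
    apply mk2_ext
    · rintro (i | i)
      · show (ν : F) * (c * x (Sum.inl (Sum.inl i))) = c * ((ν : F) * x (Sum.inl (Sum.inl i)))
        ring
      · rfl
    · show nmul a b u (zp (c • x)) = c • nmul a b u (zp x)
      rw [zp_smul]
      ext
      · simp only [nmul, Prod.smul_fst, Prod.smul_snd, smul_eq_mul]; ring
      · simp only [nmul, Prod.smul_fst, Prod.smul_snd, smul_eq_mul]; ring
  have hQ : ∀ x, stdMinus F k a b (Lf x) = (ν : F) * stdMinus F k a b x := by
    intro x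
    rw [stdMinus_eq, stdMinus_eq]
    show (∑ i, ((ν : F) * x (Sum.inl (Sum.inl i))) * x (Sum.inl (Sum.inr i))) +
      nrm a b (nmul a b u (zp x)) = _
    rw [nrm_nmul, hu, mul_add, Finset.mul_sum]
    congr 1
    apply Finset.sum_congr rfl
    intro i _
    ring
  suffices h4 : (∀ x y, Lf (x + y) = Lf x + Lf y) ∧ (∀ x, Lf x = 0 → x = 0) by
    obtain ⟨L, hL⟩ := exists_GamO_of (⇑(stdMinus F k a b)) Lf (RingEquiv.refl F) ν h4.1 hsm hQ h4.2
    refine ⟨L, fun c x => ?_, fun x => ?_⟩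
    · rw [hL, hL]; exact hsm c x
    · rw [hL]; exact hQ x
  refine ⟨?_, ?_⟩
  · intro x y
    apply mk2_ext
    · rintro (i | i)
      · show (ν : F) * (x (Sum.inl (Sum.inl i)) + y (Sum.inl (Sum.inl i))) =
          (ν : F) * x (Sum.inl (Sum.inl i)) + (ν : F) * y (Sum.inl (Sum.inl i))
        ring
      · rfl
    · show nmul a b u (zp (x + y)) = nmul a b u (zp x) + nmul a b u (zp y)
      rw [zp_add]
      ext
      · simp only [nmul, Prod.fst_add, Prod.snd_add]; ring
      · simp only [nmul, Prod.fst_add, Prod.snd_add]; ring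
  · intro x hx
    apply mk2_ext
    · rintro (i | i)
      · have := congrFun hx (Sum.inl (Sum.inl i))
        have h1 : (ν : F) * x (Sum.inl (Sum.inl i)) = 0 := this
        rcases mul_eq_zero.mp h1 with h | h
        · exact absurd h (Units.ne_zero ν)
        · exact h
      · exact congrFun hx (Sum.inl (Sum.inr i))
    · have h0 := congrFun hx (Sum.inr 0)
      have h1 := congrFun hx (Sum.inr 1)
      have e : nmul a b u (zp x) = 0 := Prod.ext h0 h1
      have hn : nrm a b (zp x) = 0 := by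
        have := nrm_nmul a b u (zp x)
        rw [e, nrm_zero, hu] at this
        rcases mul_eq_zero.mp this.symm with h | h
        · exact absurd h (Units.ne_zero ν)
        · exact h
      exact (hab.nrm_eq_zero _).mp hn

end minus

section main

variable {F : Type*} [Field F] [Fintype F]

/-- `-1 ∈ Ω(Q)`. -/
def NegOne {ι : Type} [Fintype ι] [DecidableEq ι] (Q : (ι → F) → F) : Prop :=
  ∃ g : ↥(Cfsg.isometryGroup F Q), g ∈ Cfsg.Omega F Q ∧ ((g : GL ι F) : Matrix ι ι F) = -1

open Classical in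
/-- The order of `Out(PΩ⁻)` for odd `q`, in terms of whether `-1 ∈ Ω`. -/
theorem card_out_minus_odd_aux {p f k : ℕ} [Fact p.Prime] (hF : Fintype.card F = p ^ f)
    (hp : p ≠ 2) (hk : 3 ≤ k) (a b : F)
    (hab : ∀ z₁ z₂ : F, z₁ ^ 2 + a * z₁ * z₂ + b * z₂ ^ 2 = 0 → z₁ = 0 ∧ z₂ = 0)
    (hgam : Cfsg.gammaPOmega F ⇑(stdMinus F k a b) = ⊤) :
    Nat.card (Cfsg.Out (Cfsg.POmega F ⇑(stdMinus F k a b))) =
      (if NegOne ⇑(stdMinus F k a b) then 8 else 4) * f := by
  have hodd : Odd (Fintype.card F) := by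
    rw [hF]
    exact ((Fact.out : p.Prime).eq_two_or_odd'.resolve_left hp).pow
  have h2 : (2 : F) ≠ 0 := Cfsg.Agent.Helper5.OrthAut.two_ne_zero_of_odd_card hodd
  have hnd : (polarBilin (stdMinus F k a b)).Nondegenerate :=
    stdMinus_nondegenerate (F := F) k (a := a) (b := b) hab
  have hfam := stdMinus_isHypFamily F k a b
  have hcard : Fintype.card ((Fin k ⊕ Fin k) ⊕ Fin 2) = k + k + 2 := by simp
  have hn : 5 ≤ Fintype.card ((Fin k ⊕ Fin k) ⊕ Fin 2) := by rw [hcard]; omega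
  have hidx : (Cfsg.Omega F ⇑(stdMinus F k a b)).index = 4 :=
    Cfsg.Agent.Lead.POmegaCard.index_omega_odd h2 (stdMinus F k a b) hnd (by rw [hcard]; omega)
  have hv : stdMinus F k a b (v0 (k := k)) ≠ 0 := by
    rw [stdMinus_v0]; exact one_ne_zero
  haveI : Nonempty ((Fin k ⊕ Fin k) ⊕ Fin 2) := ⟨Sum.inr 0⟩
  have hsurj := exists_semilinear_minus k a b hab
  have hδ : ∃ L : ↥(Lin ⇑(stdMinus F k a b)),
      ¬ IsSquare ((mu ⇑(stdMinus F k a b) L.1 : Fˣ) : F) := by
    have hchar : ringChar F ≠ 2 := by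
      intro h
      apply h2
      have := CharP.cast_eq_zero F (ringChar F)
      rw [h] at this
      exact_mod_cast this
    obtain ⟨ν, hν⟩ := FiniteField.exists_nonsquare hchar
    have hν0 : ν ≠ 0 := by
      rintro rfl
      exact hν ⟨0, by ring⟩
    obtain ⟨L, hL, hLQ⟩ := exists_similarity_minus k a b hab (Units.mk0 ν hν0)
    refine ⟨⟨L, hL⟩, ?_⟩
    rw [mu_unique (stdMinus F k a b) v0 hv L hL (Units.mk0 ν hν0) hLQ]
    exact hν
  have hmain := card_out_generic (stdMinus F k a b) v0 hv hnd _ _ hfam hk hn hgam hidx p f hF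
    hsurj hδ
  rw [hmain]
  congr 1
  have hiff : negI (stdMinus F k a b) ∈ Cfsg.Omega F ⇑(stdMinus F k a b) ↔
      NegOne ⇑(stdMinus F k a b) := by
    unfold NegOne
    constructor
    · intro h
      refine ⟨negI (stdMinus F k a b), h, ?_⟩
      show ((-1 : GL ((Fin k ⊕ Fin k) ⊕ Fin 2) F) :
          Matrix ((Fin k ⊕ Fin k) ⊕ Fin 2) ((Fin k ⊕ Fin k) ⊕ Fin 2) F) = -1
      rw [Units.val_neg, Units.val_one]
    · rintro ⟨g, hg, hgM⟩
      have : g = negI (stdMinus F k a b) := by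
        apply Subtype.ext
        apply Units.ext
        rw [hgM]
        show _ = ((-1 : GL ((Fin k ⊕ Fin k) ⊕ Fin 2) F) :
          Matrix ((Fin k ⊕ Fin k) ⊕ Fin 2) ((Fin k ⊕ Fin k) ⊕ Fin 2) F)
        rw [Units.val_neg, Units.val_one]
      rw [← this]
      exact hg
  simp only [hiff]

/-- Arithmetic: for odd `q`, `q ^ m ≡ 3 (mod 4)` iff `m (q - 1) / 2` is odd. -/
theorem pow_mod_four_iff (q m : ℕ) (hq : Odd q) : q ^ m % 4 = 3 ↔ ¬ Even (m * (q - 1) / 2) := by
  obtain ⟨t, rfl⟩ := hq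
  have h1 : m * (2 * t + 1 - 1) / 2 = m * t := by
    rw [Nat.add_sub_cancel, ← mul_assoc, mul_comm m 2, mul_assoc, Nat.mul_div_cancel_left _ (by norm_num)]
  rw [h1, Nat.pow_mod]
  rcases Nat.even_or_odd' t with ⟨s, rfl | rfl⟩
  · -- q = 4 s + 1
    have : (2 * (2 * s) + 1) % 4 = 1 := by omega
    rw [this, one_pow]
    constructor
    · intro h; omega
    · intro h
      exfalso
      apply h
      exact ⟨m * s, by ring⟩
  · -- q = 4 s + 3
    have : (2 * (2 * s + 1) + 1) % 4 = 3 := by omega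
    rw [this]
    rcases Nat.even_or_odd' m with ⟨r, rfl | rfl⟩
    · have h9 : 3 ^ (2 * r) % 4 = 1 := by
        rw [pow_mul, Nat.pow_mod]
        norm_num
      rw [h9]
      constructor
      · intro h; omega
      · intro h
        exfalso
        apply h
        exact ⟨r * (2 * s + 1), by ring⟩
    · have h9 : 3 ^ (2 * r + 1) % 4 = 3 := by
        rw [pow_succ, pow_mul, Nat.mul_mod, Nat.pow_mod]
        norm_num
      rw [h9]
      constructor
      · intro _
        rw [Nat.not_even_iff_odd]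
        exact ⟨r * (2 * s + 1) + s, by ring⟩
      · intro _; rfl

open Classical in
/-- The order of `Out(PΩ⁻_{2m}(q))` for odd `q`, given that all automorphisms come from
semisimilarities. -/
theorem card_out_minus_odd {p f m : ℕ} [Fact p.Prime] (hF : Fintype.card F = p ^ f)
    (hp : p ≠ 2) (hm : 4 ≤ m) (a b : F)
    (hab : ∀ z₁ z₂ : F, z₁ ^ 2 + a * z₁ * z₂ + b * z₂ ^ 2 = 0 → z₁ = 0 ∧ z₂ = 0)
    (hgam : Cfsg.gammaPOmega F (Cfsg.quadFormMinus (m - 1) F a b) = ⊤) :
    Nat.card (Cfsg.Out (Cfsg.POmega F (Cfsg.quadFormMinus (m - 1) F a b))) =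
      (if Even (m * (p ^ f - 1) / 2) then 4 else 8) * f := by
  have hodd : Odd (p ^ f) := ((Fact.out : p.Prime).eq_two_or_odd'.resolve_left hp).pow
  have key : ∀ (Q' : ((Fin (m - 1) ⊕ Fin (m - 1)) ⊕ Fin 2 → F) → F),
      Q' = Cfsg.quadFormMinus (m - 1) F a b →
      Nat.card (Cfsg.Out (Cfsg.POmega F Q')) = (if NegOne Q' then 8 else 4) * f →
      Nat.card (Cfsg.Out (Cfsg.POmega F (Cfsg.quadFormMinus (m - 1) F a b))) =
        (if NegOne (Cfsg.quadFormMinus (m - 1) F a b) then 8 else 4) * f := by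
    intro Q' hQ' h
    subst hQ'
    exact h
  have hgam' : Cfsg.gammaPOmega F ⇑(stdMinus F (m - 1) a b) = ⊤ := by
    rw [coe_stdMinus]; exact hgam
  have h1 := key _ (coe_stdMinus F (m - 1) a b)
    (card_out_minus_odd_aux hF hp (by omega) a b hab hgam')
  rw [h1]
  congr 1
  have hneg : NegOne (Cfsg.quadFormMinus (m - 1) F a b) ↔ (p ^ f) ^ m % 4 = 3 :=
    Cfsg.Agent.S0791.result hF hodd m (by omega) a b hab
  have harith := pow_mod_four_iff (p ^ f) m hodd
  by_cases hE : Even (m * (p ^ f - 1) / 2)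
  · rw [if_pos hE, if_neg]
    intro hcon
    exact (harith.1 (hneg.1 hcon)) hE
  · rw [if_neg hE, if_pos]
    exact hneg.2 (harith.2 hE)

end main

end Cfsg.Agent.Helper43.OMin
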