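import Mathlib
import Cfsg.Agent.Lib.Helper43.SplitCount
import Cfsg.Agent.Lib.Helper5.PSUGr11
import Cfsg.Agent.Lib.Helper40.OutPSLMain

/-!
# Class splitting for graph involutions of `PSU_n(q)`: the count as an index

`count_eq`: the number of `PSU`-classes in the `Inndiag`-class of `gamU a` is the index in the norm-one
group `U1` of `det(C) · U1ⁿ`, where `C` is the preimage in `GU` of the centralizer.
-/

set_option autoImplicit false

namespace Cfsg.Agent.Helper43.PSUSplit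

open Matrix Cfsg.Agent.Helper13.PSLAut Cfsg.Agent.Helper5 Cfsg.Agent.Helper5.PSUAut
  Cfsg.Agent.Helper5.PSUGr

section NormOne

variable {F : Type*} [Field F] {q : ℕ}

/-- the norm-one subgroup of `Fˣ` -/
def U1 (q : ℕ) (F : Type*) [Field F] : Subgroup Fˣ := (powMonoidHom (q + 1) : Fˣ →* Fˣ).ker

theorem mem_U1_iff (x : Fˣ) : x ∈ U1 q F ↔ (x : F) ^ (q + 1) = 1 := by
  unfold U1
  rw [MonoidHom.mem_ker, powMonoidHom_apply, Units.ext_iff, Units.val_pow_eq_pow_val, Units.val_one]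

theorem card_U1 [Fintype F] (hF : Fintype.card F = q ^ 2) : Nat.card ↥(U1 q F) = q + 1 := by
  classical
  unfold U1
  rw [IsCyclic.card_powMonoidHom_ker, Nat.card_eq_fintype_card, Fintype.card_units, hF]
  have hq := two_le_q hF
  rw [sq_sub_one_eq hq]
  exact Nat.gcd_eq_right (Dvd.intro_left _ rfl)

end NormOne

section Setup

variable {F : Type*} [Field F] [Fintype F] {n q : ℕ} (hF : Fintype.card F = q ^ 2)

include hF in
theorem det_mem_U1 (g : GL (Fin n) F) (hg : g ∈ Cfsg.GU n F q) :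
    Matrix.GeneralLinearGroup.det g ∈ U1 q F := by
  rw [mem_U1_iff, Matrix.GeneralLinearGroup.val_det_apply]
  have h1 := matrix_of_mem_GU (sigmaQ hF) (sigmaQ_apply hF) g hg
  have h2 := congrArg Matrix.det h1
  rw [Matrix.det_mul, Matrix.det_transpose, Matrix.det_one] at h2
  have h3 : ((g : Matrix (Fin n) (Fin n) F).map (sigmaQ hF)).det =
      sigmaQ hF (g : Matrix (Fin n) (Fin n) F).det :=
    (RingHom.map_det ((sigmaQ hF : F ≃+* F) : F →+* F) _).symm
  rw [h3, sigmaQ_apply] at h2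
  rw [pow_succ, mul_comm]
  exact h2

/-- the determinant `GU → U1` -/
noncomputable def detU : ↥(Cfsg.GU n F q) →* ↥(U1 q F) :=
  (Matrix.GeneralLinearGroup.det.comp (Cfsg.GU n F q).subtype).codRestrict (U1 q F)
    (fun g => det_mem_U1 hF g.1 g.2)

theorem detU_coe (g : ↥(Cfsg.GU n F q)) :
    (((detU hF g : ↥(U1 q F)) : Fˣ) : F) = ((g : GL (Fin n) F) : Matrix (Fin n) (Fin n) F).det := rfl

/-- `GU → Aut(PSU)` -/
noncomputable def PsiU : ↥(Cfsg.GU n F q) →* MulAut (Cfsg.PSU n F q) :=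
  (PhiU (F := F) (n := n) (q := q)).comp (Subgroup.inclusion GU_le_CU)

omit [Fintype F] in
theorem PsiU_apply (g : ↥(Cfsg.GU n F q)) :
    PsiU g = PhiU (⟨g.1, GU_le_CU g.2⟩ : ↥(CU n F q)) := rfl

omit [Fintype F] in
theorem PsiU_range : (PsiU (F := F) (n := n) (q := q)).range = Cfsg.inndiagPSU n F q := by
  ext x
  rw [mem_inndiagPSU_iff]
  constructor
  · rintro ⟨g, rfl⟩
    exact ⟨⟨g.1, GU_le_CU g.2⟩, g.2, rfl⟩
  · rintro ⟨g, hg, rfl⟩
    exact ⟨⟨g.1, hg⟩, rfl⟩

include hF in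
/-- scalar matrices with norm-one entry are unitary -/
theorem scGL_mem_GU (y : Fˣ) (hy : y ∈ U1 q F) : scGL n y ∈ Cfsg.GU n F q := by
  apply mem_GU_of_matrix (sigmaQ hF) (sigmaQ_apply hF)
  rw [scGL_coe, Matrix.transpose_smul, Matrix.transpose_one, map_smul_sigmaQ, Matrix.smul_mul,
    Matrix.mul_smul, Matrix.one_mul, smul_smul, sigmaQ_apply]
  have h1 : ((1 : Matrix (Fin n) (Fin n) F)).map (sigmaQ hF) = 1 := by
    ext i j
    by_cases hij : i = j
    · subst hij; simp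
    · simp [hij]
  rw [h1, ← pow_succ', (mem_U1_iff y).1 hy, one_smul]

end Setup

section Count

variable {F : Type*} [Field F] [Fintype F] {n q : ℕ} (hF : Fintype.card F = q ^ 2)

include hF in
/-- diagonal matrices with norm-one entries are unitary -/
theorem diag_mem_GU (g : GL (Fin n) F) (d : Fin n → F)
    (hg : (g : Matrix (Fin n) (Fin n) F) = Matrix.diagonal d) (hd : ∀ k, d k ^ (q + 1) = 1) :
    g ∈ Cfsg.GU n F q := by
  apply mem_GU_of_matrix (sigmaQ hF) (sigmaQ_apply hF)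
  rw [hg, Matrix.diagonal_transpose, Matrix.diagonal_map (map_zero _), Matrix.diagonal_mul_diagonal,
    ← Matrix.diagonal_one]
  congr 1
  ext k
  rw [sigmaQ_apply, ← pow_succ', hd k]

theorem detU_surjective (hn : 0 < n) : Function.Surjective (detU (n := n) hF) := by
  classical
  rintro ⟨y, hy⟩
  set d : Fin n → F := Function.update (fun _ => (1 : F)) ⟨0, hn⟩ (y : F) with hd
  have hdet : (Matrix.diagonal d).det = (y : F) := by
    rw [Matrix.det_diagonal, hd, Finset.prod_update_of_mem (Finset.mem_univ _)]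
    simp
  have hdet0 : (Matrix.diagonal d).det ≠ 0 := by rw [hdet]; exact y.ne_zero
  have hmem : Matrix.GeneralLinearGroup.mkOfDetNeZero (Matrix.diagonal d) hdet0 ∈ Cfsg.GU n F q := by
    apply diag_mem_GU hF _ d rfl
    intro k
    rw [hd]
    by_cases hk : k = ⟨0, hn⟩
    · rw [hk, Function.update_self]
      exact (mem_U1_iff y).1 hy
    · rw [Function.update_of_ne hk, one_pow]
  refine ⟨⟨_, hmem⟩, ?_⟩
  apply Subtype.ext
  apply Units.ext
  rw [detU_coe]
  exact hdet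

/-- determinant modulo `n`-th powers of norm-one elements -/
noncomputable def deltaU (n : ℕ) :
    ↥(Cfsg.GU n F q) →* ↥(U1 q F) ⧸ (powMonoidHom n : ↥(U1 q F) →* ↥(U1 q F)).range :=
  (QuotientGroup.mk' _).comp (detU hF)

theorem deltaU_surjective (hn : 0 < n) : Function.Surjective (deltaU hF n) :=
  (QuotientGroup.mk'_surjective _).comp (detU_surjective hF hn)

theorem mem_ker_deltaU (g : ↥(Cfsg.GU n F q)) :
    g ∈ (deltaU hF n).ker ↔ ∃ y : Fˣ, y ∈ U1 q F ∧
      ((g : GL (Fin n) F) : Matrix (Fin n) (Fin n) F).det = (y : F) ^ n := by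
  rw [MonoidHom.mem_ker]
  show (QuotientGroup.mk (detU hF g) :
    ↥(U1 q F) ⧸ (powMonoidHom n : ↥(U1 q F) →* ↥(U1 q F)).range) = 1 ↔ _
  rw [QuotientGroup.eq_one_iff]
  constructor
  · rintro ⟨y, hy⟩
    refine ⟨y.1, y.2, ?_⟩
    rw [← detU_coe hF, ← hy]
    rfl
  · rintro ⟨y, hy1, hy⟩
    refine ⟨⟨y, hy1⟩, ?_⟩
    apply Subtype.ext
    apply Units.ext
    rw [detU_coe, hy]
    rfl

omit [Fintype F] in
/-- conjugation by an element of `SU` -/
theorem PhiU_toGL (s : ↥(Cfsg.SU n F q)) (hs : Matrix.SpecialLinearGroup.toGL s.1 ∈ CU n F q) :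
    PhiU (⟨Matrix.SpecialLinearGroup.toGL s.1, hs⟩ : ↥(CU n F q)) =
      MulAut.conj (QuotientGroup.mk s : Cfsg.PSU n F q) := by
  apply MulEquiv.ext
  intro x
  induction x using QuotientGroup.induction_on with
  | H t =>
    rw [PhiU_mk, MulAut.conj_apply]
    have h1 : conjSU (⟨Matrix.SpecialLinearGroup.toGL s.1, hs⟩ : ↥(CU n F q)) t = s * t * s⁻¹ := by
      apply Subtype.ext
      rw [conjSU_coe]
      exact Cfsg.Agent.Helper40.OutPSL.conjSL_toGL s.1 t.1
    rw [h1]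
    rfl

omit [Fintype F] in
theorem toGL_mem_GU (s : ↥(Cfsg.SU n F q)) : Matrix.SpecialLinearGroup.toGL s.1 ∈ Cfsg.GU n F q := by
  rw [mem_GU_iff]
  exact (Cfsg.Agent.Helper5.mem_SU_iff s.1).1 s.2

/-- `Inn(PSU_n)` is the image of the unitary matrices whose determinant is an `n`-th power in `U1` -/
theorem inn_eq_map (hn : 3 ≤ n) (h32 : ¬ (n = 3 ∧ q = 2)) :
    Cfsg.Inn (Cfsg.PSU n F q) = (deltaU hF n).ker.map (PsiU (F := F) (n := n) (q := q)) := by
  ext β
  rw [Subgroup.mem_map]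
  constructor
  · rintro ⟨x, rfl⟩
    induction x using QuotientGroup.induction_on with
    | H s =>
      refine ⟨⟨Matrix.SpecialLinearGroup.toGL s.1, toGL_mem_GU s⟩, ?_, ?_⟩
      · rw [mem_ker_deltaU]
        refine ⟨1, Subgroup.one_mem _, ?_⟩
        rw [Units.val_one, one_pow]
        exact s.1.2
      · rw [PsiU_apply]
        exact PhiU_toGL s _
  · rintro ⟨g, hg, rfl⟩
    rw [mem_ker_deltaU] at hg
    obtain ⟨y, hy1, hy⟩ := hg
    have hyinv : y⁻¹ ∈ U1 q F := Subgroup.inv_mem _ hy1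
    set g' : GL (Fin n) F := g.1 * scGL n y⁻¹ with hg'
    have hg'GU : g' ∈ Cfsg.GU n F q := Subgroup.mul_mem _ g.2 (scGL_mem_GU hF _ hyinv)
    have hdet : (g' : Matrix (Fin n) (Fin n) F).det = 1 := by
      rw [hg', mul_scGL_coe, Matrix.det_smul, Fintype.card_fin, hy, ← mul_pow, ← Units.val_mul,
        inv_mul_cancel, Units.val_one, one_pow]
    set s0 : Matrix.SpecialLinearGroup (Fin n) F := ⟨(g' : Matrix (Fin n) (Fin n) F), hdet⟩ with hs0
    have hs0SU : s0 ∈ Cfsg.SU n F q := by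
      rw [Cfsg.Agent.Helper5.mem_SU_iff]
      exact (mem_GU_iff g').1 hg'GU
    have htoGL : Matrix.SpecialLinearGroup.toGL s0 = g' := Units.ext rfl
    refine ⟨QuotientGroup.mk (⟨s0, hs0SU⟩ : ↥(Cfsg.SU n F q)), ?_⟩
    rw [PsiU_apply, ← PhiU_toGL ⟨s0, hs0SU⟩ (by rw [htoGL]; exact GU_le_CU hg'GU),
      PhiU_eq_iff hF hn h32]
    show (Matrix.SpecialLinearGroup.toGL s0)⁻¹ * g.1 ∈ _
    rw [htoGL, hg', _root_.mul_inv_rev, inv_mul_cancel_right]
    exact Subgroup.inv_mem _ (scGL_mem _)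

/-- the preimage in `GU` of the centralizer of `γ` -/
noncomputable def CentU (γ : MulAut (Cfsg.PSU n F q)) : Subgroup ↥(Cfsg.GU n F q) :=
  (Subgroup.centralizer {γ}).comap (PsiU (F := F) (n := n) (q := q))

/-- the number of `PSU`-classes in the `Inndiag`-class of `γ` -/
theorem count_eq (hn : 3 ≤ n) (h32 : ¬ (n = 3 ∧ q = 2)) (γ : MulAut (Cfsg.PSU n F q)) :
    Cfsg.splitClassCount (Cfsg.inndiagPSU n F q) (Cfsg.Inn (Cfsg.PSU n F q)) γ =
      ((CentU γ).map (detU hF) ⊔ (powMonoidHom n : ↥(U1 q F) →* ↥(U1 q F)).range).index := by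
  rw [← PsiU_range, inn_eq_map hF hn h32,
    Cfsg.Agent.Helper43.SplitCount.splitClassCount_eq_index PsiU (deltaU hF n)
      (deltaU_surjective hF (by omega))]
  have h1 : ((Subgroup.centralizer {γ}).comap (PsiU (F := F) (n := n) (q := q))).map (deltaU hF n) =
      ((CentU γ).map (detU hF)).map
        (QuotientGroup.mk' (powMonoidHom n : ↥(U1 q F) →* ↥(U1 q F)).range) := by
    rw [Subgroup.map_map]
    rfl
  rw [h1, Subgroup.index_map, QuotientGroup.ker_mk',
    MonoidHom.range_eq_top.2 (QuotientGroup.mk'_surjective _), Subgroup.index_top, mul_one]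

end Count

end Cfsg.Agent.Helper43.PSUSplit
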