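import Mathlib
import Cfsg.Agent.Lib.Helper43.PSUSplit1
import Cfsg.Agent.Lib.Helper43.GraphAutSplit
import Cfsg.Agent.Lib.Helper5.PSUGr13

/-!
# Class splitting for graph involutions of `PSU_n(q)`: elements of the centralizer

For `a = D σ(D)⁻¹` with `Dᵀ σ(D) = η S₀`:
* `cent_congr`: `h ∈ C` gives `h a hᵀ = λ a` with `λ` of norm one;
* `cent_congr_S0`: and a conjugate `h'` of `h` with `h' S₀ h'ᵀ = λ S₀`;
* `exists_cent`: similitudes `k` of `S₀` over `F₀` give elements `κ D k D⁻¹` of `C`.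
-/

set_option autoImplicit false

namespace Cfsg.Agent.Helper43.PSUSplit

open Matrix Cfsg.Agent.Helper13.PSLAut Cfsg.Agent.Helper5 Cfsg.Agent.Helper5.PSUAut
  Cfsg.Agent.Helper5.PSUGr

section Generic

variable {K : Type*} [Field K] {κ : Type} [Fintype κ] [DecidableEq κ]

/-- transport of a congruence relation along `A ↦ Q A Qᵀ` -/
theorem congr_transfer (Q Qi H A : Matrix κ κ K) (c : K) (hQ : Qi * Q = 1)
    (hc : H * A * Hᵀ = c • A) :
    (Q * H * Qi) * (Q * A * Qᵀ) * (Q * H * Qi)ᵀ = c • (Q * A * Qᵀ) := by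
  have hQT : Qᵀ * Qiᵀ = 1 := by rw [← Matrix.transpose_mul, hQ, Matrix.transpose_one]
  rw [Matrix.transpose_mul, Matrix.transpose_mul]
  calc Q * H * Qi * (Q * A * Qᵀ) * (Qiᵀ * (Hᵀ * Qᵀ))
      = Q * H * (Qi * Q) * A * (Qᵀ * Qiᵀ) * Hᵀ * Qᵀ := by simp only [Matrix.mul_assoc]
    _ = Q * (H * A * Hᵀ) * Qᵀ := by
        rw [hQ, hQT]
        simp only [Matrix.mul_one, Matrix.mul_assoc]
    _ = c • (Q * A * Qᵀ) := by
        rw [hc, Matrix.mul_smul, Matrix.smul_mul]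

/-- similitudes of an invertible skew-symmetric matrix have determinant `c ^ m` -/
theorem det_of_congr_skew (h2 : (2 : K) ≠ 0) {n m : ℕ} (hnm : n = 2 * m)
    (T h : Matrix (Fin n) (Fin n) K) (hT : Tᵀ = -T) (hdet : T.det ≠ 0) (c : K) (hc0 : c ≠ 0)
    (hc : h * T * hᵀ = c • T) : h.det = c ^ m := by
  classical
  have σ₁ : Fin n ≃ Fin m ⊕ Fin m :=
    Fintype.equivOfCardEq (by simp only [Fintype.card_sum, Fintype.card_fin]; omega)
  obtain ⟨P, hP, e⟩ := Cfsg.Agent.Helper13.SymCong.skew_normal_form h2 σ₁ T hT hdet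
  have hPi : P⁻¹ * P = 1 := Matrix.nonsing_inv_mul P hP.isUnit
  have h1 := congr_transfer P P⁻¹ h T c hPi hc
  rw [e] at h1
  have h3 := Cfsg.Agent.Helper5.PSUGr.cong_submatrix σ₁.symm (P * h * P⁻¹) _ _ h1
  have h4 : ((Matrix.J (Fin m) K).submatrix σ₁ σ₁).submatrix σ₁.symm σ₁.symm = Matrix.J (Fin m) K := by
    rw [Matrix.submatrix_submatrix]
    simp
  have h4' : (c • (Matrix.J (Fin m) K).submatrix σ₁ σ₁).submatrix σ₁.symm σ₁.symm =
      c • Matrix.J (Fin m) K := by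
    ext i j
    simp only [Matrix.submatrix_apply, Matrix.smul_apply, Equiv.apply_symm_apply]
  rw [h4, h4'] at h3
  have h5 := Cfsg.Agent.Helper43.GraphAutSplit.det_of_congr_J _ c hc0 h3
  rw [Matrix.det_submatrix_equiv_self] at h5
  rw [← h5, Matrix.det_mul, Matrix.det_mul, mul_right_comm, ← Matrix.det_mul,
    Matrix.mul_nonsing_inv P hP.isUnit, Matrix.det_one, one_mul]

end Generic

section Cent

variable {F : Type*} [Field F] [Fintype F] {n q : ℕ} (hF : Fintype.card F = q ^ 2)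

theorem mem_CentU_iff (hn : 3 ≤ n) (h32 : ¬ (n = 3 ∧ q = 2)) (a : ↥(CU n F q))
    (h : ↥(Cfsg.GU n F q)) :
    h ∈ CentU (gamU hF a) ↔
      (a.1 * sG hF h.1)⁻¹ * (h.1 * a.1) ∈ Cfsg.Geo.scalars (Fin n) F := by
  unfold CentU
  rw [Subgroup.mem_comap, PsiU_apply, mem_centralizer_gamU_iff hF hn h32, sigmaCU_val']

include hF in
/-- for unitary `h`, `σ(h) hᵀ = 1` -/
theorem sG_mul_transpose (h : GL (Fin n) F) (hh : h ∈ Cfsg.GU n F q) :
    (h : Matrix (Fin n) (Fin n) F).map (sigmaQ hF) * (h : Matrix (Fin n) (Fin n) F)ᵀ = 1 :=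
  _root_.mul_eq_one_comm.1 (matrix_of_mem_GU (sigmaQ hF) (sigmaQ_apply hF) h hh)

/-- elements of the centralizer: `h a hᵀ = λ a` with `λ` of norm one -/
theorem cent_congr (hn : 3 ≤ n) (h32 : ¬ (n = 3 ∧ q = 2)) (a : ↥(CU n F q))
    (ha : a.1 * sG hF a.1 = 1) (h : ↥(Cfsg.GU n F q)) (hh : h ∈ CentU (gamU hF a)) :
    ∃ lam : Fˣ, lam ∈ U1 q F ∧
      ((h : GL (Fin n) F) : Matrix (Fin n) (Fin n) F) * (a.1 : Matrix (Fin n) (Fin n) F) *
        ((h : GL (Fin n) F) : Matrix (Fin n) (Fin n) F)ᵀ =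
      (lam : F) • (a.1 : Matrix (Fin n) (Fin n) F) := by
  rw [mem_CentU_iff hF hn h32] at hh
  obtain ⟨lam, hlam⟩ := hh
  have hz : (a.1 * sG hF h.1)⁻¹ * (h.1 * a.1) = scGL n lam := hlam.symm
  set z : GL (Fin n) F := scGL n lam with hzdef
  set A : GL (Fin n) F := a.1 with hA
  set H : GL (Fin n) F := h.1 with hH
  have hsa : sG hF A = A⁻¹ := eq_inv_of_mul_eq_one_right ha
  have E1 : H * A = A * sG hF H * z := by rw [← hz]; group
  have E2 : sG hF H * A⁻¹ = A⁻¹ * H * sG hF z := by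
    have := congrArg (sG hF) E1
    rw [map_mul, map_mul, map_mul, sG_sG, hsa] at this
    exact this
  have hzc : ∀ g : GL (Fin n) F, z * g = g * z := fun g => scGL_comm g lam
  have E3 : sG hF z = z⁻¹ := by
    have h1 : sG hF H = A⁻¹ * H * A * z⁻¹ := by
      have : A⁻¹ * H * A * z⁻¹ = A⁻¹ * (H * A) * z⁻¹ := by group
      rw [this, E1]; group
    rw [h1] at E2
    have h2 : sG hF z = (A⁻¹ * H)⁻¹ * (A⁻¹ * H * A * z⁻¹ * A⁻¹) := by rw [E2]; group
    rw [h2]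
    have h3 : A * z⁻¹ = z⁻¹ * A := by
      have := hzc A
      calc A * z⁻¹ = z⁻¹ * (z * A) * z⁻¹ := by group
        _ = z⁻¹ * (A * z) * z⁻¹ := by rw [this]
        _ = z⁻¹ * A := by group
    calc (A⁻¹ * H)⁻¹ * (A⁻¹ * H * A * z⁻¹ * A⁻¹) = (A * z⁻¹) * A⁻¹ := by group
      _ = z⁻¹ := by rw [h3]; group
  refine ⟨lam, ?_, ?_⟩
  · -- norm one
    rw [mem_U1_iff]
    have h4 : sG hF z * z = 1 := by rw [E3, inv_mul_cancel]
    rw [hzdef, sG_scGL] at h4
    have h5 := congrArg (fun g : GL (Fin n) F => (g : Matrix (Fin n) (Fin n) F) ⟨0, by omega⟩ ⟨0, by omega⟩) h4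
    simp only [Units.val_mul, scGL_coe, Matrix.smul_mul, Matrix.one_mul, Matrix.smul_apply,
      Matrix.one_apply_eq, smul_eq_mul, mul_one, Units.val_one, Units.coe_map] at h5
    rw [pow_succ]
    exact h5
  · -- the congruence
    have h6 : (H : Matrix (Fin n) (Fin n) F) * (A : Matrix (Fin n) (Fin n) F) =
        (lam : F) • ((A : Matrix (Fin n) (Fin n) F) * (H : Matrix (Fin n) (Fin n) F).map (sigmaQ hF)) := by
      have := congrArg (fun g : GL (Fin n) F => (g : Matrix (Fin n) (Fin n) F)) E1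
      simp only [Units.val_mul] at this
      rw [this, hzdef, scGL_coe, Matrix.mul_smul, Matrix.mul_one, sG_coe]
    rw [h6, Matrix.smul_mul, Matrix.mul_assoc, sG_mul_transpose hF H h.2, Matrix.mul_one]

end Cent

section Datum

variable {F : Type*} [Field F] [Fintype F] {n q : ℕ} (hF : Fintype.card F = q ^ 2)
  {F₀ : Type*} [Field F₀] [Fintype F₀] (hF₀ : Fintype.card F₀ = q) (ι₀ : F₀ →+* F)

include hF₀ in
/-- `a = D σ(D)⁻¹` is congruent to `σ(η) S₀` -/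
theorem a_congr {D : GL (Fin n) F} {S₀ : Matrix (Fin n) (Fin n) F₀} {η : F}
    (hdat : IsDatum hF ι₀ D S₀ η) :
    ((D : Matrix (Fin n) (Fin n) F).map (sigmaQ hF))ᵀ * ((aOf hF D : GL (Fin n) F) : Matrix (Fin n) (Fin n) F) *
      ((D : Matrix (Fin n) (Fin n) F).map (sigmaQ hF)) = sigmaQ hF η • S₀.map ι₀ := by
  have h1 : aOf hF D * sG hF D = D := by unfold aOf; group
  have h2 : ((aOf hF D : GL (Fin n) F) : Matrix (Fin n) (Fin n) F) *
      ((D : Matrix (Fin n) (Fin n) F).map (sigmaQ hF)) = (D : Matrix (Fin n) (Fin n) F) := by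
    rw [← sG_coe, ← Units.val_mul, h1]
  rw [Matrix.mul_assoc, h2]
  have h3 : ((D : Matrix (Fin n) (Fin n) F).map (sigmaQ hF))ᵀ * (D : Matrix (Fin n) (Fin n) F) =
      (PSUGr.gram hF (D : Matrix (Fin n) (Fin n) F)).map (sigmaQ hF) := by
    unfold PSUGr.gram
    rw [map_mul_sigmaQ, map_map_sigmaQ, Matrix.transpose_map]
  rw [h3, hdat, map_smul_sigmaQ, emb_map_sigmaQ hF hF₀ ι₀]

include hF₀ in
/-- elements of the centralizer are conjugate to similitudes of `S₀` (over `F`) -/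
theorem cent_congr_S0 (hn : 3 ≤ n) (h32 : ¬ (n = 3 ∧ q = 2)) {D : GL (Fin n) F}
    {S₀ : Matrix (Fin n) (Fin n) F₀} {η : F} (hη : η ≠ 0)
    (hdat : IsDatum hF ι₀ D S₀ η) (a : ↥(CU n F q)) (ha : a.1 = aOf hF D)
    (h : ↥(Cfsg.GU n F q)) (hh : h ∈ CentU (gamU hF a)) :
    ∃ (lam : Fˣ) (h' : Matrix (Fin n) (Fin n) F), lam ∈ U1 q F ∧
      h'.det = ((h : GL (Fin n) F) : Matrix (Fin n) (Fin n) F).det ∧
      h' * S₀.map ι₀ * h'ᵀ = (lam : F) • S₀.map ι₀ := by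
  have ha1 : a.1 * sG hF a.1 = 1 := by rw [ha]; exact aOf_mul_sG hF D
  obtain ⟨lam, hlam, hc⟩ := cent_congr hF hn h32 a ha1 h hh
  set Q : Matrix (Fin n) (Fin n) F := ((D : Matrix (Fin n) (Fin n) F).map (sigmaQ hF))ᵀ with hQ
  set Qi : Matrix (Fin n) (Fin n) F :=
    (((sG hF D)⁻¹ : GL (Fin n) F) : Matrix (Fin n) (Fin n) F)ᵀ with hQi
  have h1 : (((sG hF D)⁻¹ : GL (Fin n) F) : Matrix (Fin n) (Fin n) F) *
      ((D : Matrix (Fin n) (Fin n) F).map (sigmaQ hF)) = 1 := by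
    rw [← sG_coe, ← Units.val_mul, inv_mul_cancel, Units.val_one]
  have h1' : ((D : Matrix (Fin n) (Fin n) F).map (sigmaQ hF)) *
      (((sG hF D)⁻¹ : GL (Fin n) F) : Matrix (Fin n) (Fin n) F) = 1 := by
    rw [← sG_coe, ← Units.val_mul, mul_inv_cancel, Units.val_one]
  have hQiQ : Qi * Q = 1 := by
    rw [hQi, hQ, ← Matrix.transpose_mul, h1', Matrix.transpose_one]
  have hQQi : Q * Qi = 1 := by
    rw [hQi, hQ, ← Matrix.transpose_mul, h1, Matrix.transpose_one]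
  have h2 := congr_transfer Q Qi _ _ (lam : F) hQiQ hc
  have h3 : Q * (a.1 : Matrix (Fin n) (Fin n) F) * Qᵀ = sigmaQ hF η • S₀.map ι₀ := by
    rw [hQ, Matrix.transpose_transpose, ha]
    exact a_congr hF hF₀ ι₀ hdat
  rw [h3] at h2
  have hη' : sigmaQ hF η ≠ 0 := (map_ne_zero _).2 hη
  refine ⟨lam, Q * ((h : GL (Fin n) F) : Matrix (Fin n) (Fin n) F) * Qi, hlam, ?_, ?_⟩
  · rw [Matrix.det_mul, Matrix.det_mul, mul_right_comm, ← Matrix.det_mul, hQQi, Matrix.det_one,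
      one_mul]
  · rw [Matrix.mul_smul, Matrix.smul_mul, smul_comm (lam : F)] at h2
    exact smul_right_injective _ hη' h2

include hF₀ in
/-- similitudes of `S₀` over `F₀` give elements of the centralizer -/
theorem exists_cent (hn : 3 ≤ n) (h32 : ¬ (n = 3 ∧ q = 2)) {D : GL (Fin n) F}
    {S₀ : Matrix (Fin n) (Fin n) F₀} {η : F}
    (hdat : IsDatum hF ι₀ D S₀ η) (a : ↥(CU n F q)) (ha : a.1 = aOf hF D)
    (k : GL (Fin n) F₀) (c : F₀)
    (hk : (k : Matrix (Fin n) (Fin n) F₀)ᵀ * S₀ * (k : Matrix (Fin n) (Fin n) F₀) = c • S₀)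
    (κ : Fˣ) (hκ : (κ : F) * sigmaQ hF κ * ι₀ c = 1) :
    ∃ h : ↥(Cfsg.GU n F q), h ∈ CentU (gamU hF a) ∧
      ((h : GL (Fin n) F) : Matrix (Fin n) (Fin n) F).det =
        (κ : F) ^ n * ι₀ (k : Matrix (Fin n) (Fin n) F₀).det := by
  set Kι : GL (Fin n) F := Matrix.GeneralLinearGroup.map ι₀ k with hKι
  set X : GL (Fin n) F := D * Kι * D⁻¹ with hX
  have hKval : (Kι : Matrix (Fin n) (Fin n) F) = (k : Matrix (Fin n) (Fin n) F₀).map ι₀ := rfl
  -- gram of `X`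
  have hgX : PSUGr.gram hF (X : Matrix (Fin n) (Fin n) F) = ι₀ c • (1 : Matrix (Fin n) (Fin n) F) := by
    apply gram_eq_of_twist hF D
    have h1 : ((D⁻¹ : GL (Fin n) F) : Matrix (Fin n) (Fin n) F) * (X : Matrix (Fin n) (Fin n) F) *
        (D : Matrix (Fin n) (Fin n) F) = (Kι : Matrix (Fin n) (Fin n) F) := by
      rw [← Units.val_mul, ← Units.val_mul, hX]
      congr 1
      group
    rw [h1, hdat, hKval, emb_map_sigmaQ hF hF₀ ι₀]
    have h2 := congrArg (fun M : Matrix (Fin n) (Fin n) F₀ => M.map ι₀) hk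
    simp only [Matrix.map_mul] at h2
    rw [map_smul_emb] at h2
    rw [Matrix.mul_smul, Matrix.smul_mul, ← Matrix.transpose_map, h2, smul_smul, smul_smul, mul_comm]
  set hX' : GL (Fin n) F := X * scGL n κ with hX'def
  have hGU : hX' ∈ Cfsg.GU n F q := by
    apply mem_GU_of_matrix (sigmaQ hF) (sigmaQ_apply hF)
    have h3 : PSUGr.gram hF ((hX' : GL (Fin n) F) : Matrix (Fin n) (Fin n) F) = 1 := by
      rw [hX'def, mul_scGL_coe, gram_smul, hgX, smul_smul, hκ, one_smul]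
    exact h3
  refine ⟨⟨hX', hGU⟩, ?_, ?_⟩
  · rw [mem_CentU_iff hF hn h32]
    show (a.1 * sG hF hX')⁻¹ * (hX' * a.1) ∈ _
    rw [ha, hX'def, map_mul]
    have e : (aOf hF D * sG hF X)⁻¹ * (X * aOf hF D) = 1 := by
      rw [hX]
      unfold aOf
      rw [map_mul, map_mul, map_inv, hKι, sG_emb hF hF₀ ι₀]
      group
    have e2 : (aOf hF D * (sG hF X * sG hF (scGL n κ)))⁻¹ * (X * scGL n κ * aOf hF D) =
        (sG hF (scGL n κ))⁻¹ * ((aOf hF D * sG hF X)⁻¹ * (X * aOf hF D)) *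
          ((aOf hF D)⁻¹ * scGL n κ * (aOf hF D)⁻¹⁻¹) := by group
    rw [e2, e, mul_one]
    apply Subgroup.mul_mem
    · apply Subgroup.inv_mem
      rw [sG_scGL]
      exact scGL_mem _
    · exact (Cfsg.Geo.scalars_normal (ι := Fin n) (F := F)).conj_mem _ (scGL_mem κ) _
  · show ((hX' : GL (Fin n) F) : Matrix (Fin n) (Fin n) F).det = _
    rw [hX'def, mul_scGL_coe, Matrix.det_smul, Fintype.card_fin, hX, Units.val_mul, Units.val_mul,
      Matrix.det_mul, Matrix.det_mul, mul_right_comm, ← Matrix.det_mul, ← Units.val_mul,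
      mul_inv_cancel, Units.val_one, Matrix.det_one, one_mul, hKval]
    congr 1
    exact (RingHom.map_det ι₀ _).symm

end Datum

end Cfsg.Agent.Helper43.PSUSplit
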