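import Mathlib
import Cfsg.Agent.Lib.Helper43.PSUSplit2

/-!
# Class splitting for graph involutions of `PSU_n(q)`: index computations in the norm-one group
-/

set_option autoImplicit false

namespace Cfsg.Agent.Helper43.PSUSplit

open Matrix Cfsg.Agent.Helper13.PSLAut Cfsg.Agent.Helper5 Cfsg.Agent.Helper5.PSUAut
  Cfsg.Agent.Helper5.PSUGr

section Index

theorem pow_range_le' {Z : Type*} [CommGroup Z] {k l : ℕ} (h : k ∣ l) :
    (powMonoidHom l : Z →* Z).range ≤ (powMonoidHom k : Z →* Z).range := by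
  rintro _ ⟨x, rfl⟩
  obtain ⟨d, rfl⟩ := h
  exact ⟨x ^ d, by rw [powMonoidHom_apply, powMonoidHom_apply, ← pow_mul, mul_comm]⟩

variable {F : Type*} [Field F] [Fintype F] {q : ℕ} (hF : Fintype.card F = q ^ 2)

include hF in
theorem index_pow_U1 (k : ℕ) :
    (powMonoidHom k : ↥(U1 q F) →* ↥(U1 q F)).range.index = Nat.gcd (q + 1) k := by
  classical
  rw [IsCyclic.index_powMonoidHom_range, card_U1 hF]

omit [Fintype F] in
theorem neg_one_mem_U1 (hodd : Odd q) : (-1 : Fˣ) ∈ U1 q F := by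
  rw [mem_U1_iff, Units.val_neg, Units.val_one]
  obtain ⟨t, ht⟩ := hodd
  exact Even.neg_one_pow ⟨t + 1, by omega⟩

/-- `-1` as an element of `U1`, `q` odd -/
def negOne (hodd : Odd q) : ↥(U1 q F) := ⟨-1, neg_one_mem_U1 hodd⟩

omit [Fintype F] in
theorem sq_eq_one_U1 (hodd : Odd q) (y : ↥(U1 q F)) (hy : y ^ 2 = 1) :
    y = 1 ∨ y = negOne hodd := by
  have h4 : (((y : ↥(U1 q F)) : Fˣ) : F) ^ 2 = 1 := by
    have := congrArg (fun z : ↥(U1 q F) => ((z : Fˣ) : F)) hy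
    simpa using this
  have h6 : ((((y : ↥(U1 q F)) : Fˣ) : F) - 1) * ((((y : ↥(U1 q F)) : Fˣ) : F) + 1) = 0 := by
    linear_combination h4
  rcases mul_eq_zero.1 h6 with h7 | h7
  · left
    apply Subtype.ext
    apply Units.ext
    show (((y : ↥(U1 q F)) : Fˣ) : F) = 1
    linear_combination h7
  · right
    apply Subtype.ext
    apply Units.ext
    show (((y : ↥(U1 q F)) : Fˣ) : F) = ((-1 : Fˣ) : F)
    rw [Units.val_neg, Units.val_one]
    linear_combination h7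

include hF in
theorem neg_one_mem_pow_range_U1 (hodd : Odd q) {kk : ℕ} (hkk : kk ∣ (q + 1) / 2) :
    negOne hodd ∈ (powMonoidHom kk : ↥(U1 q F) →* ↥(U1 q F)).range := by
  classical
  obtain ⟨ζ, hζ⟩ := IsCyclic.exists_generator (α := ↥(U1 q F))
  have hord : orderOf ζ = q + 1 := by
    rw [orderOf_eq_card_of_forall_mem_zpowers hζ, card_U1 hF]
  obtain ⟨t, ht⟩ := hodd
  have hN : q + 1 = 2 * (t + 1) := by omega
  have hhalf : (q + 1) / 2 = t + 1 := by omega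
  rw [hhalf] at hkk
  have h1 : (ζ ^ (t + 1)) ^ 2 = 1 := by
    rw [← pow_mul, mul_comm, ← hN, ← hord, pow_orderOf_eq_one]
  have h2 : ζ ^ (t + 1) ≠ 1 := by
    apply pow_ne_one_of_lt_orderOf (Nat.succ_ne_zero t)
    rw [hord, hN]; omega
  have h3 : ζ ^ (t + 1) = negOne ⟨t, ht⟩ := by
    rcases sq_eq_one_U1 ⟨t, ht⟩ _ h1 with h | h
    · exact absurd h h2
    · exact h
  obtain ⟨s, hs⟩ := hkk
  refine ⟨ζ ^ s, ?_⟩
  rw [powMonoidHom_apply, ← pow_mul, mul_comm, ← hs, h3]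

include hF in
theorem pow_half_eq_U1 (hodd : Odd q) (x : ↥(U1 q F)) :
    x ^ ((q + 1) / 2) = 1 ∨ x ^ ((q + 1) / 2) = negOne hodd := by
  classical
  apply sq_eq_one_U1
  obtain ⟨t, ht⟩ := hodd
  have hhalf : (q + 1) / 2 = t + 1 := by omega
  have hN : q + 1 = 2 * (t + 1) := by omega
  rw [hhalf, ← pow_mul, mul_comm, ← hN, ← card_U1 hF]
  exact pow_card_eq_one'

include hF in
/-- all determinants are `n`-th powers: index `gcd(q + 1, n)` -/
theorem index_trivial {n : ℕ} (Dc : Subgroup ↥(U1 q F))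
    (hle : ∀ d ∈ Dc, ∃ x : ↥(U1 q F), d = x ^ n) :
    (Dc ⊔ (powMonoidHom n : ↥(U1 q F) →* ↥(U1 q F)).range).index = Nat.gcd (q + 1) n := by
  rw [← index_pow_U1 hF]
  congr 1
  rw [sup_eq_right]
  intro d hd
  obtain ⟨x, rfl⟩ := hle d hd
  exact ⟨x, rfl⟩

include hF in
/-- symplectic type -/
theorem index_symp {m : ℕ} (Dc : Subgroup ↥(U1 q F)) (hxm : ∀ x : ↥(U1 q F), x ^ m ∈ Dc)
    (hle : ∀ d ∈ Dc, ∃ x : ↥(U1 q F), d = x ^ m) :
    (Dc ⊔ (powMonoidHom (2 * m) : ↥(U1 q F) →* ↥(U1 q F)).range).index = Nat.gcd (q + 1) m := by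
  rw [← index_pow_U1 hF]
  congr 1
  apply le_antisymm
  · apply sup_le
    · intro d hd
      obtain ⟨x, rfl⟩ := hle d hd
      exact ⟨x, rfl⟩
    · exact pow_range_le' ⟨2, by rw [mul_comm]⟩
  · rintro _ ⟨x, rfl⟩
    exact Subgroup.mem_sup_left (hxm x)

include hF in
/-- orthogonal type -/
theorem index_orth (hodd : Odd q) {m : ℕ} (Dc : Subgroup ↥(U1 q F)) (hneg : negOne hodd ∈ Dc)
    (hxm : ∀ x : ↥(U1 q F), x ^ m ∈ Dc)
    (hpm : ∀ d ∈ Dc, ∃ x : ↥(U1 q F), d = x ^ m ∨ d = negOne hodd * x ^ m) :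
    (Dc ⊔ (powMonoidHom (2 * m) : ↥(U1 q F) →* ↥(U1 q F)).range).index =
      Nat.gcd m ((q + 1) / 2) := by
  classical
  set kk : ℕ := Nat.gcd m ((q + 1) / 2) with hkk
  have hkk1 : kk ∣ m := Nat.gcd_dvd_left _ _
  have hkk2 : kk ∣ (q + 1) / 2 := Nat.gcd_dvd_right _ _
  have hxN : ∀ x : ↥(U1 q F), x ^ ((q + 1) / 2) ∈ Dc := by
    intro x
    rcases pow_half_eq_U1 hF hodd x with h | h
    · rw [h]; exact Dc.one_mem
    · rw [h]; exact hneg
  have hsup : Dc ⊔ (powMonoidHom (2 * m) : ↥(U1 q F) →* ↥(U1 q F)).range =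
      (powMonoidHom kk : ↥(U1 q F) →* ↥(U1 q F)).range := by
    apply le_antisymm
    · apply sup_le
      · intro d hd
        obtain ⟨x, hx⟩ := hpm d hd
        obtain ⟨s, hs⟩ := hkk1
        have hcm : x ^ m ∈ (powMonoidHom kk : ↥(U1 q F) →* ↥(U1 q F)).range :=
          ⟨x ^ s, by rw [powMonoidHom_apply, ← pow_mul, mul_comm, ← hs]⟩
        rcases hx with h5 | h5
        · rw [h5]; exact hcm
        · rw [h5]
          exact Subgroup.mul_mem _ (neg_one_mem_pow_range_U1 hF hodd hkk2) hcm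
      · exact pow_range_le' (hkk1.trans ⟨2, by rw [mul_comm]⟩)
    · rintro _ ⟨x, rfl⟩
      apply Subgroup.mem_sup_left
      rw [powMonoidHom_apply]
      have hb := Nat.gcd_eq_gcd_ab m ((q + 1) / 2)
      have h7 : x ^ kk = (x ^ m) ^ (Nat.gcdA m ((q + 1) / 2)) *
          (x ^ ((q + 1) / 2)) ^ (Nat.gcdB m ((q + 1) / 2)) := by
        rw [← zpow_natCast x kk, hkk, hb, _root_.zpow_add, _root_.zpow_mul, _root_.zpow_mul,
          zpow_natCast, zpow_natCast]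
      rw [h7]
      exact Dc.mul_mem (Dc.zpow_mem (hxm x) _) (Dc.zpow_mem (hxN x) _)
  rw [hsup, index_pow_U1 hF]
  apply Nat.gcd_eq_right
  have : (q + 1) / 2 ∣ q + 1 := by
    obtain ⟨t, ht⟩ := hodd
    exact ⟨2, by omega⟩
  exact hkk2.trans this

end Index

end Cfsg.Agent.Helper43.PSUSplit
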