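import Mathlib
import Cfsg.Agent.Lib.Helper43.PSUSplit3

/-!
# Class splitting for graph involutions of `PSU_n(q)`: the four cases
-/

set_option autoImplicit false

namespace Cfsg.Agent.Helper43.PSUSplit

open Matrix Cfsg.Agent.Helper13.PSLAut Cfsg.Agent.Helper5 Cfsg.Agent.Helper5.PSUAut
  Cfsg.Agent.Helper5.PSUGr Cfsg.Agent.Helper43.GraphAutSplit

section Sims

variable {K : Type*} [Field K]

theorem two_ne_zero_of_odd_card [Fintype K] (hodd : Odd (Fintype.card K)) : (2 : K) ≠ 0 := by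
  intro h
  have h1 : ringChar K = 2 :=
    CharP.ringChar_of_prime_eq_zero Nat.prime_two (by exact_mod_cast h)
  have h3 := FiniteField.even_card_of_char_two h1
  rcases hodd with ⟨k, hk⟩
  omega

/-- similitudes of a skew form with any multiplier -/
theorem skew_sim (h2 : (2 : K) ≠ 0) {n m : ℕ} (hnm : n = 2 * m) (S : Matrix (Fin n) (Fin n) K)
    (hS : Sᵀ = -S) (hdet : S.det ≠ 0) (c : K) (hc0 : c ≠ 0) :
    ∃ k : GL (Fin n) K, (k : Matrix (Fin n) (Fin n) K)ᵀ * S * (k : Matrix (Fin n) (Fin n) K) = c • S ∧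
      (k : Matrix (Fin n) (Fin n) K).det = c ^ m := by
  classical
  have σ₁ : Fin n ≃ Fin m ⊕ Fin m :=
    Fintype.equivOfCardEq (by simp only [Fintype.card_sum, Fintype.card_fin]; omega)
  obtain ⟨P, hP, e⟩ := Cfsg.Agent.Helper13.SymCong.skew_normal_form h2 σ₁ S hS hdet
  have hPi : P⁻¹ * P = 1 := Matrix.nonsing_inv_mul P hP.isUnit
  have hPi' : P * P⁻¹ = 1 := Matrix.mul_nonsing_inv P hP.isUnit
  set J' : Matrix (Fin n) (Fin n) K := (Matrix.J (Fin m) K).submatrix σ₁ σ₁ with hJ'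
  set d' : Matrix (Fin n) (Fin n) K := (dMat m c).submatrix σ₁ σ₁ with hd'
  have h1 : d' * J' * d'ᵀ = c • J' := by
    have := Cfsg.Agent.Helper5.PSUGr.cong_submatrix σ₁ (dMat m c) _ _ (dMat_congr (m := m) c)
    rw [this]
    ext i j
    simp only [Matrix.submatrix_apply, Matrix.smul_apply, hJ']
  have h2' := congr_transfer P⁻¹ P d' J' c hPi' h1
  have h3 : P⁻¹ * J' * (P⁻¹)ᵀ = S := by
    have hT : Pᵀ * (P⁻¹)ᵀ = 1 := by rw [← Matrix.transpose_mul, hPi, Matrix.transpose_one]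
    rw [← e]
    calc P⁻¹ * (P * S * Pᵀ) * (P⁻¹)ᵀ = (P⁻¹ * P) * S * (Pᵀ * (P⁻¹)ᵀ) := by
          simp only [Matrix.mul_assoc]
      _ = S := by rw [hPi, hT, Matrix.one_mul, Matrix.mul_one]
  rw [h3] at h2'
  set M : Matrix (Fin n) (Fin n) K := P⁻¹ * d' * P with hM
  have hdetM : M.det = c ^ m := by
    rw [hM, Matrix.det_mul, Matrix.det_mul, mul_right_comm, ← Matrix.det_mul, hPi, Matrix.det_one,
      one_mul, hd', Matrix.det_submatrix_equiv_self, dMat_det]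
  have hdetM0 : Mᵀ.det ≠ 0 := by
    rw [Matrix.det_transpose, hdetM]
    exact pow_ne_zero _ hc0
  refine ⟨Matrix.GeneralLinearGroup.mkOfDetNeZero Mᵀ hdetM0, ?_, ?_⟩
  · show Mᵀᵀ * S * Mᵀ = c • S
    rw [Matrix.transpose_transpose]
    exact h2'
  · show Mᵀ.det = c ^ m
    rw [Matrix.det_transpose, hdetM]

/-- similitudes of a symmetric form of even dimension with any multiplier -/
theorem sym_sim [Fintype K] (hodd : Odd (Fintype.card K)) {n m : ℕ} (hnm : n = 2 * m) (hn : 0 < n)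
    (S : Matrix (Fin n) (Fin n) K) (hS : Sᵀ = S) (hdet : S.det ≠ 0) (c : K) (hc0 : c ≠ 0) :
    ∃ k : GL (Fin n) K, (k : Matrix (Fin n) (Fin n) K)ᵀ * S * (k : Matrix (Fin n) (Fin n) K) = c • S ∧
      ((k : Matrix (Fin n) (Fin n) K).det = c ^ m ∨ (k : Matrix (Fin n) (Fin n) K).det = -c ^ m) := by
  classical
  have h2 := two_ne_zero_of_odd_card hodd
  obtain ⟨k', rfl⟩ : ∃ k', n = k' + 1 := ⟨n - 1, by omega⟩
  have hpw : c ^ (k' + 1) = (c ^ m) ^ 2 := by rw [hnm, mul_comm, pow_mul]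
  have hdc : (c • S).det ≠ 0 := by
    rw [Matrix.det_smul]
    exact mul_ne_zero (pow_ne_zero _ hc0) hdet
  have hsq : IsSquare (S.det * (c • S).det) := by
    refine ⟨c ^ m * S.det, ?_⟩
    rw [Matrix.det_smul, Fintype.card_fin, hpw]
    ring
  obtain ⟨M, hM0, hM⟩ := Cfsg.Agent.Helper13.SymCong.sym_cong hodd h2 k' S (c • S) hS
    (by rw [Matrix.transpose_smul, hS]) hdet hdc hsq
  have hdetM0 : Mᵀ.det ≠ 0 := by rw [Matrix.det_transpose]; exact hM0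
  refine ⟨Matrix.GeneralLinearGroup.mkOfDetNeZero Mᵀ hdetM0, ?_, ?_⟩
  · show Mᵀᵀ * S * Mᵀ = c • S
    rw [Matrix.transpose_transpose]
    exact hM
  · show Mᵀ.det = c ^ m ∨ Mᵀ.det = -c ^ m
    rw [Matrix.det_transpose]
    have h4 := congrArg Matrix.det hM
    rw [Matrix.det_mul, Matrix.det_mul, Matrix.det_transpose, Matrix.det_smul, Fintype.card_fin,
      hpw] at h4
    have h5 : (M.det - c ^ m) * (M.det + c ^ m) * S.det = 0 := by linear_combination h4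
    rcases mul_eq_zero.1 h5 with h6 | h6
    · rcases mul_eq_zero.1 h6 with h7 | h7
      · left; linear_combination h7
      · right; linear_combination h7
    · exact absurd h6 hdet

/-- an isometry of determinant `-1` -/
theorem refl_sim (h2 : (2 : K) ≠ 0) {n : ℕ} (S : Matrix (Fin n) (Fin n) K) (hS : Sᵀ = S)
    (hS0 : S ≠ 0) :
    ∃ k : GL (Fin n) K, (k : Matrix (Fin n) (Fin n) K)ᵀ * S * (k : Matrix (Fin n) (Fin n) K) =
      (1 : K) • S ∧ (k : Matrix (Fin n) (Fin n) K).det = -1 := by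
  obtain ⟨r, hrdet, hr⟩ := exists_reflection h2 S hS hS0
  have hdet0 : rᵀ.det ≠ 0 := by
    rw [Matrix.det_transpose, hrdet]
    exact neg_ne_zero.2 one_ne_zero
  refine ⟨Matrix.GeneralLinearGroup.mkOfDetNeZero rᵀ hdet0, ?_, ?_⟩
  · show rᵀᵀ * S * rᵀ = (1 : K) • S
    rw [Matrix.transpose_transpose, one_smul]
    exact hr
  · show rᵀ.det = -1
    rw [Matrix.det_transpose, hrdet]

end Sims

section Cases

variable {F : Type*} [Field F] [Fintype F] {n q : ℕ} (hF : Fintype.card F = q ^ 2)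
  {F₀ : Type*} [Field F₀] [Fintype F₀] (hF₀ : Fintype.card F₀ = q) (ι₀ : F₀ →+* F)

include hF₀ in
/-- determinants of elements of the centralizer -/
theorem cent_det (hn : 3 ≤ n) (h32 : ¬ (n = 3 ∧ q = 2)) {D : GL (Fin n) F}
    {S₀ : Matrix (Fin n) (Fin n) F₀} {η : F} (hη : η ≠ 0) (hdetS : S₀.det ≠ 0)
    (hdat : IsDatum hF ι₀ D S₀ η) (a : ↥(CU n F q)) (ha : a.1 = aOf hF D)
    (h : ↥(Cfsg.GU n F q)) (hh : h ∈ CentU (gamU hF a)) :
    ∃ lam : Fˣ, lam ∈ U1 q F ∧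
      ((h : GL (Fin n) F) : Matrix (Fin n) (Fin n) F).det ^ 2 = (lam : F) ^ n ∧
      (∀ m : ℕ, n = 2 * m → S₀ᵀ = -S₀ → (2 : F) ≠ 0 →
        ((h : GL (Fin n) F) : Matrix (Fin n) (Fin n) F).det = (lam : F) ^ m) := by
  obtain ⟨lam, h', hlam, hdet', hc⟩ := cent_congr_S0 hF hF₀ ι₀ hn h32 hη hdat a ha h hh
  have hdetT : (S₀.map ι₀).det ≠ 0 := by
    have : (S₀.map ι₀).det = ι₀ S₀.det := (RingHom.map_det ι₀ _).symm
    rw [this]
    exact (map_ne_zero _).2 hdetS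
  refine ⟨lam, hlam, ?_, ?_⟩
  · have h4 := congrArg Matrix.det hc
    rw [Matrix.det_mul, Matrix.det_mul, Matrix.det_transpose, Matrix.det_smul, Fintype.card_fin,
      hdet'] at h4
    have h5 : (((h : GL (Fin n) F) : Matrix (Fin n) (Fin n) F).det ^ 2 - (lam : F) ^ n) *
        (S₀.map ι₀).det = 0 := by linear_combination h4
    rcases mul_eq_zero.1 h5 with h6 | h6
    · linear_combination h6
    · exact absurd h6 hdetT
  · intro m hnm hsk h2
    rw [← hdet']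
    apply det_of_congr_skew h2 hnm (S₀.map ι₀) h' _ hdetT (lam : F) lam.ne_zero hc
    rw [← Matrix.transpose_map, hsk]
    ext i j
    simp only [Matrix.map_apply, Matrix.neg_apply, map_neg]

include hF hF₀ in
/-- `κ` with `κ / σ(κ) = ν` -/
theorem exists_kappa (ν : Fˣ) (hν : ν ∈ U1 q F) :
    ∃ (κ : Fˣ) (c₀ : F₀), c₀ ≠ 0 ∧ (κ : F) * sigmaQ hF κ * ι₀ c₀ = 1 ∧
      (κ : F) ^ 2 * ι₀ c₀ = (ν : F) := by
  have hq := two_le_q hF
  have hν1 : ((ν⁻¹ : Fˣ) : F) ^ (q + 1) = 1 := (mem_U1_iff _).1 (Subgroup.inv_mem _ hν)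
  obtain ⟨μ, hμ0, hμ⟩ := exists_pow_sub_one hF _ hν1
  set c : F := (μ * μ ^ q)⁻¹ with hc
  have hμq0 : μ ^ q ≠ 0 := pow_ne_zero _ hμ0
  have hcq : c ^ q = c := by
    rw [hc, inv_pow, mul_pow, pow_q_pow_q hF, mul_comm]
  obtain ⟨c₀, hc₀⟩ := exists_of_pow_q_eq hF hF₀ ι₀ c hcq
  have hc0 : c ≠ 0 := inv_ne_zero (mul_ne_zero hμ0 hμq0)
  have hμq : μ ^ q = ((ν⁻¹ : Fˣ) : F) * μ := by
    rw [← hμ, ← pow_succ]
    congr 1
    omega
  refine ⟨Units.mk0 μ hμ0, c₀, ?_, ?_, ?_⟩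
  · rintro rfl
    rw [map_zero] at hc₀
    exact hc0 hc₀.symm
  · rw [Units.val_mk0, sigmaQ_apply, hc₀, hc]
    exact mul_inv_cancel₀ (mul_ne_zero hμ0 hμq0)
  · rw [Units.val_mk0, hc₀, hc, hμq, Units.val_inv_eq_inv_val]
    have hν0 : (ν : F) ≠ 0 := ν.ne_zero
    field_simp

end Cases

end Cfsg.Agent.Helper43.PSUSplit
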