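import Mathlib
import Cfsg.Agent.Lib.Helper43.PSUSplit4

/-!
# Class splitting for graph involutions of `PSU_n(q)`: the counts
-/

set_option autoImplicit false

namespace Cfsg.Agent.Helper43.PSUSplit

open Matrix Cfsg.Agent.Helper13.PSLAut Cfsg.Agent.Helper5 Cfsg.Agent.Helper5.PSUAut
  Cfsg.Agent.Helper5.PSUGr Cfsg.Agent.Helper43.GraphAutSplit

section Counts

variable {F : Type*} [Field F] [Fintype F] {n q : ℕ} (hF : Fintype.card F = q ^ 2)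
  {F₀ : Type*} [Field F₀] [Fintype F₀] (hF₀ : Fintype.card F₀ = q) (ι₀ : F₀ →+* F)

omit [Fintype F] in
theorem pow_odd_aux (d lam : F) (hlam : lam ≠ 0) (k : ℕ) (h : d ^ 2 = lam ^ (2 * k + 1)) :
    (d / lam ^ k) ^ (2 * k + 1) = d := by
  have h1 : d ^ (2 * k + 1) = d * lam ^ ((2 * k + 1) * k) := by
    rw [pow_succ, pow_mul, h, ← pow_mul, mul_comm]
  rw [div_pow, h1, ← pow_mul, mul_comm k]
  field_simp

include hF₀ in
/-- `n` odd: `gcd(q + 1, n)` classes -/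
theorem count_odd (hn : 3 ≤ n) (h32 : ¬ (n = 3 ∧ q = 2)) (hodd : Odd n) {D : GL (Fin n) F}
    {S₀ : Matrix (Fin n) (Fin n) F₀} {η : F} (hη : η ≠ 0) (hdetS : S₀.det ≠ 0)
    (hdat : IsDatum hF ι₀ D S₀ η) (a : ↥(CU n F q)) (ha : a.1 = aOf hF D) :
    Cfsg.splitClassCount (Cfsg.inndiagPSU n F q) (Cfsg.Inn (Cfsg.PSU n F q)) (gamU hF a) =
      Nat.gcd (q + 1) n := by
  rw [count_eq hF hn h32]
  apply index_trivial hF
  rintro _ ⟨h, hh, rfl⟩
  obtain ⟨lam, hlam, hsq, -⟩ := cent_det hF hF₀ ι₀ hn h32 hη hdetS hdat a ha h hh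
  obtain ⟨k, hk⟩ := hodd
  set y : ↥(U1 q F) := detU hF h * (⟨lam, hlam⟩ ^ k)⁻¹ with hy
  refine ⟨y, ?_⟩
  apply Subtype.ext
  apply Units.ext
  have h1 : (((y ^ n : ↥(U1 q F)) : Fˣ) : F) =
      (((h : GL (Fin n) F) : Matrix (Fin n) (Fin n) F).det / (lam : F) ^ k) ^ n := by
    rw [hy]
    simp only [Subgroup.coe_pow, Subgroup.coe_mul, Subgroup.coe_inv, Units.val_pow_eq_pow_val,
      Units.val_mul, Units.val_inv_eq_inv_val, div_eq_mul_inv]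
    rfl
  have h3 := pow_odd_aux _ _ lam.ne_zero k (by rw [← hk]; exact hsq)
  rw [h1, detU_coe]
  calc ((h : GL (Fin n) F) : Matrix (Fin n) (Fin n) F).det
      = (((h : GL (Fin n) F) : Matrix (Fin n) (Fin n) F).det / (lam : F) ^ k) ^ (2 * k + 1) := h3.symm
    _ = _ := by rw [← hk]

include hF₀ in
/-- `q` even: `gcd(q + 1, n)` classes -/
theorem count_even_q (hn : 3 ≤ n) (h32 : ¬ (n = 3 ∧ q = 2)) (hq2 : Even q) {D : GL (Fin n) F}
    {S₀ : Matrix (Fin n) (Fin n) F₀} {η : F} (hη : η ≠ 0) (hdetS : S₀.det ≠ 0)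
    (hdat : IsDatum hF ι₀ D S₀ η) (a : ↥(CU n F q)) (ha : a.1 = aOf hF D) :
    Cfsg.splitClassCount (Cfsg.inndiagPSU n F q) (Cfsg.Inn (Cfsg.PSU n F q)) (gamU hF a) =
      Nat.gcd (q + 1) n := by
  have hchar : ringChar F = 2 := by
    rw [FiniteField.even_card_iff_char_two, hF]
    obtain ⟨t, ht⟩ := hq2
    rw [ht]
    have : (t + t) ^ 2 = 2 * (2 * t * t) := by ring
    omega
  have hCP : CharP F 2 := by rw [← hchar]; exact ringChar.charP F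
  rw [count_eq hF hn h32]
  apply index_trivial hF
  rintro _ ⟨h, hh, rfl⟩
  obtain ⟨lam, hlam, hsq, -⟩ := cent_det hF hF₀ ι₀ hn h32 hη hdetS hdat a ha h hh
  obtain ⟨t, ht⟩ := hq2
  set y : ↥(U1 q F) := ⟨lam, hlam⟩ ^ (t + 1) with hy
  have hy2 : (((y : ↥(U1 q F)) : Fˣ) : F) ^ 2 = (lam : F) := by
    rw [hy]
    simp only [Subgroup.coe_pow, Units.val_pow_eq_pow_val]
    rw [← pow_mul]
    have h1 : (t + 1) * 2 = (q + 1) + 1 := by omega
    rw [h1, pow_succ, (mem_U1_iff lam).1 hlam, one_mul]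
  refine ⟨y, ?_⟩
  apply Subtype.ext
  apply Units.ext
  have h1 : (((y ^ n : ↥(U1 q F)) : Fˣ) : F) = (((y : ↥(U1 q F)) : Fˣ) : F) ^ n := by
    simp only [Subgroup.coe_pow, Units.val_pow_eq_pow_val]
  rw [h1, detU_coe]
  apply Cfsg.Agent.Helper43.GraphAutCent.sq_inj
  rw [hsq, ← hy2, ← pow_mul, ← pow_mul, mul_comm]

end Counts

section Counts2

variable {F : Type*} [Field F] [Fintype F] {q : ℕ} (hF : Fintype.card F = q ^ 2)
  {F₀ : Type*} [Field F₀] [Fintype F₀] (hF₀ : Fintype.card F₀ = q) (ι₀ : F₀ →+* F)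

include hF₀ in
/-- symplectic type: `gcd(q + 1, m)` classes -/
theorem count_skew {m : ℕ} (hn : 3 ≤ 2 * m) (hodd : Odd q) {D : GL (Fin (2 * m)) F}
    {S₀ : Matrix (Fin (2 * m)) (Fin (2 * m)) F₀} {η : F} (hη : η ≠ 0) (hdetS : S₀.det ≠ 0)
    (hsk : S₀ᵀ = -S₀)
    (hdat : IsDatum hF ι₀ D S₀ η) (a : ↥(CU (2 * m) F q)) (ha : a.1 = aOf hF D) :
    Cfsg.splitClassCount (Cfsg.inndiagPSU (2 * m) F q) (Cfsg.Inn (Cfsg.PSU (2 * m) F q))
      (gamU hF a) = Nat.gcd (q + 1) m := by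
  have h32 : ¬ (2 * m = 3 ∧ q = 2) := by omega
  have hoddF : Odd (Fintype.card F) := by rw [hF]; exact hodd.pow
  have hoddF₀ : Odd (Fintype.card F₀) := by rw [hF₀]; exact hodd
  have h2 : (2 : F) ≠ 0 := two_ne_zero_of_odd_card hoddF
  have h2₀ : (2 : F₀) ≠ 0 := two_ne_zero_of_odd_card hoddF₀
  rw [count_eq hF hn h32]
  apply index_symp hF
  · -- all `m`-th powers occur
    rintro ⟨ν, hν⟩
    obtain ⟨κ, c₀, hc₀, hκ, hκν⟩ := exists_kappa hF hF₀ ι₀ ν hν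
    obtain ⟨k, hk, hdetk⟩ := skew_sim h2₀ rfl S₀ hsk hdetS c₀ hc₀
    obtain ⟨h, hh, hdet⟩ := exists_cent hF hF₀ ι₀ hn h32 hdat a ha k c₀ hk κ hκ
    refine ⟨h, hh, ?_⟩
    apply Subtype.ext
    apply Units.ext
    have h1 : ((((⟨ν, hν⟩ : ↥(U1 q F)) ^ m : ↥(U1 q F)) : Fˣ) : F) = (ν : F) ^ m := by
      simp only [Subgroup.coe_pow, Units.val_pow_eq_pow_val]
    rw [h1, detU_coe, hdet, hdetk, map_pow, pow_mul, ← mul_pow, hκν]
  · rintro _ ⟨h, hh, rfl⟩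
    obtain ⟨lam, hlam, -, hdet⟩ := cent_det hF hF₀ ι₀ hn h32 hη hdetS hdat a ha h hh
    refine ⟨⟨lam, hlam⟩, ?_⟩
    apply Subtype.ext
    apply Units.ext
    have h1 : ((((⟨lam, hlam⟩ : ↥(U1 q F)) ^ m : ↥(U1 q F)) : Fˣ) : F) = (lam : F) ^ m := by
      simp only [Subgroup.coe_pow, Units.val_pow_eq_pow_val]
    rw [h1, detU_coe]
    exact hdet m rfl hsk h2

include hF₀ in
/-- orthogonal type: `gcd(m, (q + 1)/2)` classes -/
theorem count_sym {m : ℕ} (hn : 3 ≤ 2 * m) (hodd : Odd q) {D : GL (Fin (2 * m)) F}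
    {S₀ : Matrix (Fin (2 * m)) (Fin (2 * m)) F₀} (hdetS : S₀.det ≠ 0)
    (hsym : S₀ᵀ = S₀)
    (hdat : IsDatum hF ι₀ D S₀ 1) (a : ↥(CU (2 * m) F q)) (ha : a.1 = aOf hF D) :
    Cfsg.splitClassCount (Cfsg.inndiagPSU (2 * m) F q) (Cfsg.Inn (Cfsg.PSU (2 * m) F q))
      (gamU hF a) = Nat.gcd m ((q + 1) / 2) := by
  have h32 : ¬ (2 * m = 3 ∧ q = 2) := by omega
  have hoddF₀ : Odd (Fintype.card F₀) := by rw [hF₀]; exact hodd
  have h2₀ : (2 : F₀) ≠ 0 := two_ne_zero_of_odd_card hoddF₀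
  have hS0 : S₀ ≠ 0 := by
    intro h0
    apply hdetS
    have : Nonempty (Fin (2 * m)) := ⟨⟨0, by omega⟩⟩
    rw [h0, Matrix.det_zero]
  have hcoe : ∀ (x : ↥(U1 q F)), ((((x ^ m : ↥(U1 q F))) : Fˣ) : F) = ((x : Fˣ) : F) ^ m := by
    intro x
    simp only [Subgroup.coe_pow, Units.val_pow_eq_pow_val]
  rw [count_eq hF hn h32]
  -- `-1` is a determinant
  have hneg : negOne hodd ∈ (CentU (gamU hF a)).map (detU hF) := by
    obtain ⟨k, hk, hdetk⟩ := refl_sim h2₀ S₀ hsym hS0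
    obtain ⟨h, hh, hdet⟩ := exists_cent hF hF₀ ι₀ hn h32 hdat a ha k 1 hk 1
      (by rw [Units.val_one, map_one, map_one, mul_one, mul_one])
    refine ⟨h, hh, ?_⟩
    apply Subtype.ext
    apply Units.ext
    rw [detU_coe, hdet, hdetk, Units.val_one, one_pow, one_mul, map_neg, map_one]
    rfl
  apply index_orth hF hodd _ hneg
  · rintro ⟨ν, hν⟩
    obtain ⟨κ, c₀, hc₀, hκ, hκν⟩ := exists_kappa hF hF₀ ι₀ ν hν
    obtain ⟨k, hk, hdetk⟩ := sym_sim hoddF₀ rfl (by omega) S₀ hsym hdetS c₀ hc₀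
    obtain ⟨h, hh, hdet⟩ := exists_cent hF hF₀ ι₀ hn h32 hdat a ha k c₀ hk κ hκ
    rcases hdetk with hdetk | hdetk
    · refine ⟨h, hh, ?_⟩
      apply Subtype.ext
      apply Units.ext
      rw [hcoe, detU_coe, hdet, hdetk, map_pow, pow_mul, ← mul_pow, hκν]
    · have h5 : (⟨ν, hν⟩ : ↥(U1 q F)) ^ m = negOne hodd * detU hF h := by
        apply Subtype.ext
        apply Units.ext
        rw [hcoe]
        show (ν : F) ^ m = ((-1 : Fˣ) : F) * (((detU hF h : ↥(U1 q F)) : Fˣ) : F)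
        rw [detU_coe, hdet, hdetk, map_neg, map_pow, Units.val_neg, Units.val_one, pow_mul, ← hκν,
          mul_pow]
        ring
      rw [h5]
      exact Subgroup.mul_mem _ hneg ⟨h, hh, rfl⟩
  · rintro _ ⟨h, hh, rfl⟩
    obtain ⟨lam, hlam, hsq, -⟩ := cent_det hF hF₀ ι₀ hn h32 one_ne_zero hdetS hdat a ha h hh
    refine ⟨⟨lam, hlam⟩, ?_⟩
    have hpw : (lam : F) ^ (2 * m) = ((lam : F) ^ m) ^ 2 := by rw [mul_comm, pow_mul]
    rw [hpw] at hsq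
    have h3 : (((h : GL (Fin (2 * m)) F) : Matrix (Fin (2 * m)) (Fin (2 * m)) F).det - (lam : F) ^ m) *
        (((h : GL (Fin (2 * m)) F) : Matrix (Fin (2 * m)) (Fin (2 * m)) F).det + (lam : F) ^ m) = 0 := by
      linear_combination hsq
    rcases mul_eq_zero.1 h3 with h4 | h4
    · left
      apply Subtype.ext
      apply Units.ext
      rw [hcoe, detU_coe]
      linear_combination h4
    · right
      apply Subtype.ext
      apply Units.ext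
      show (((detU hF h : ↥(U1 q F)) : Fˣ) : F) =
        ((-1 : Fˣ) : F) * ((((⟨lam, hlam⟩ : ↥(U1 q F)) ^ m : ↥(U1 q F)) : Fˣ) : F)
      rw [hcoe, detU_coe, Units.val_neg, Units.val_one]
      linear_combination h4

end Counts2

end Cfsg.Agent.Helper43.PSUSplit
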