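import Mathlib
import Cfsg.Agent.Lib.Helper43.PSUSplit5
import Cfsg.Agent.Lib.Helper43.ProjCard
import Cfsg.Agent.Lib.Helper43.GraphAutSplitMain
import Cfsg.Agent.S2707

/-!
# Class splitting of involutory graph automorphisms of `PSU_n(q)` (assembly for S2709)
-/

set_option autoImplicit false

namespace Cfsg.Agent.Helper43.PSUSplit

open Matrix Cfsg.Agent.Helper13.PSLAut Cfsg.Agent.Helper13.SymCong
  Cfsg.Agent.Helper13.SimForms Cfsg.Agent.Helper13.DotForm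
  Cfsg.Agent.Helper13.GraphAutClasses Cfsg.Agent.Helper5.PSUAut Cfsg.Agent.Helper5.PSUGr
  Cfsg.Agent.Helper43.ProjCard

section Iso

variable {F : Type*} [Field F] [Fintype F] {q : ℕ} (hF : Fintype.card F = q ^ 2)
  {F₀ : Type*} [Field F₀] [Fintype F₀] (hF₀ : Fintype.card F₀ = q) (ι₀ : F₀ →+* F)

include hF₀ in
/-- a symplectic-type representative -/
theorem skew_rep {m : ℕ} (hn : 3 ≤ 2 * m) (η₀ : F) (hη₀0 : η₀ ≠ 0)
    (hη₀ : sigmaQ hF η₀ = -η₀) (σ₁ : Fin (2 * m) ≃ Fin m ⊕ Fin m) :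
    ∃ (D₁ : GL (Fin (2 * m)) F) (a₁ : ↥(CU (2 * m) F q)),
      a₁.1 = aOf hF D₁ ∧ IsDatum hF ι₀ D₁ ((Matrix.J (Fin m) F₀).submatrix σ₁ σ₁) η₀ ∧
      ((Matrix.J (Fin m) F₀).submatrix σ₁ σ₁)ᵀ = -((Matrix.J (Fin m) F₀).submatrix σ₁ σ₁) ∧
      ((Matrix.J (Fin m) F₀).submatrix σ₁ σ₁).det ≠ 0 ∧
      Nonempty (↥(Cfsg.inndiagPSU (2 * m) F q ⊓ Subgroup.centralizer {gamU hF a₁}) ≃*
        Cfsg.PGSp m F₀) := by
  classical
  have h32 : ¬ (2 * m = 3 ∧ q = 2) := by omega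
  set Jm : Matrix (Fin (2 * m)) (Fin (2 * m)) F₀ := (Matrix.J (Fin m) F₀).submatrix σ₁ σ₁ with hJm
  have hdetJ : Jm.det ≠ 0 := by
    rw [hJm, Matrix.det_submatrix_equiv_self]
    intro h0
    have := Matrix.J_det_mul_J_det (Fin m) F₀
    rw [h0, zero_mul] at this
    exact zero_ne_one this
  have hskew : Jmᵀ = -Jm := by
    rw [hJm, Matrix.transpose_submatrix, Matrix.J_transpose]
    rfl
  have hJne : Jm ≠ 0 := by
    intro h0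
    apply hdetJ
    have : Nonempty (Fin (2 * m)) := ⟨⟨0, by omega⟩⟩
    rw [h0, Matrix.det_zero]
  obtain ⟨D₁, hD₁⟩ := exists_datum hF hF₀ ι₀ Jm hdetJ η₀ hη₀0 (Or.inr ⟨hη₀, hskew⟩)
  set a₁ : ↥(CU (2 * m) F q) := ⟨aOf hF D₁, aOf_mem_CU hF hF₀ ι₀ hη₀0 hD₁⟩ with ha₁
  refine ⟨D₁, a₁, rfl, hD₁, hskew, hdetJ, ?_⟩
  obtain ⟨e1⟩ := cent_gamU_equiv hF hF₀ ι₀ hn h32 hη₀0 hJne hD₁ a₁ rfl
    (Cfsg.Geo.similarityGroup (F := F₀) (bform Jm)) (fun g => mem_bsim_iff Jm g)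
  obtain ⟨e2⟩ := bsim_congr (LinearEquiv.funCongrLeft F₀ F₀ σ₁) (bform Jm) (Cfsg.sympForm m F₀)
    (fun u v => bform_submatrix σ₁ _ u v)
  exact ⟨e1.trans e2⟩

include hF₀ in
/-- symplectic type: the centralizer is `PGSp` -/
theorem skew_iso {m : ℕ} (hn : 3 ≤ 2 * m) (hodd : Odd q) (η₀ : F) (hη₀0 : η₀ ≠ 0)
    (hη₀ : sigmaQ hF η₀ = -η₀) {D : GL (Fin (2 * m)) F}
    {S₀ : Matrix (Fin (2 * m)) (Fin (2 * m)) F₀} (hdetS : S₀.det ≠ 0) (hsk : S₀ᵀ = -S₀)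
    (hdat : IsDatum hF ι₀ D S₀ η₀) (a : ↥(CU (2 * m) F q)) (ha : a.1 = aOf hF D) :
    Nonempty (↥(Cfsg.inndiagPSU (2 * m) F q ⊓ Subgroup.centralizer {gamU hF a}) ≃*
      Cfsg.PGSp m F₀) := by
  classical
  have h32 : ¬ (2 * m = 3 ∧ q = 2) := by omega
  have hoddF₀ : Odd (Fintype.card F₀) := by rw [hF₀]; exact hodd
  have h2 : (2 : F₀) ≠ 0 := two_ne_zero_of_odd_card hoddF₀
  have σ₁ : Fin (2 * m) ≃ Fin m ⊕ Fin m :=
    Fintype.equivOfCardEq (by simp only [Fintype.card_sum, Fintype.card_fin]; omega)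
  obtain ⟨D₁, a₁, ha₁, hD₁, hskew, hdetJ, ⟨e1⟩⟩ := skew_rep hF hF₀ ι₀ hn η₀ hη₀0 hη₀ σ₁
  obtain ⟨k, hk0, e⟩ := skew_normal_form h2 σ₁ S₀ hsk hdetS
  have hconj : Cfsg.IsConjUnder (Cfsg.inndiagPSU (2 * m) F q) (gamU hF a) (gamU hF a₁) :=
    conj_of_cong hF hF₀ ι₀ hn h32 hη₀0 hdat hD₁ a a₁ ha ha₁ kᵀ
      (by rw [Matrix.det_transpose]; exact hk0) 1 one_ne_zero
      (by rw [Matrix.transpose_transpose, one_smul]; exact e)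
  obtain ⟨e0⟩ := Cfsg.Agent.Helper43.GraphAut.conj_cent_equiv (Cfsg.inndiagPSU (2 * m) F q) _ _ hconj
  exact ⟨e0.trans e1⟩

end Iso

section Main

variable {F : Type*} [Field F] [Fintype F] {q : ℕ} (hF : Fintype.card F = q ^ 2)
  {F₀ : Type*} [Field F₀] [Fintype F₀] (hF₀ : Fintype.card F₀ = q) (ι₀ : F₀ →+* F)

include hF₀ in
/-- orthogonal type: the centralizer is not `PGSp` -/
theorem sym_not_iso {m : ℕ} (hn : 3 ≤ 2 * m) (hodd : Odd q) {D : GL (Fin (2 * m)) F}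
    {S₀ : Matrix (Fin (2 * m)) (Fin (2 * m)) F₀} (hdetS : S₀.det ≠ 0) (hsym : S₀ᵀ = S₀)
    (hdat : IsDatum hF ι₀ D S₀ 1) (a : ↥(CU (2 * m) F q)) (ha : a.1 = aOf hF D) :
    ¬ Nonempty (↥(Cfsg.inndiagPSU (2 * m) F q ⊓ Subgroup.centralizer {gamU hF a}) ≃*
      Cfsg.PGSp m F₀) := by
  classical
  have h32 : ¬ (2 * m = 3 ∧ q = 2) := by omega
  have hm : 2 ≤ m := by omega
  have hoddF₀ : Odd (Fintype.card F₀) := by rw [hF₀]; exact hodd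
  have h2 : (2 : F₀) ≠ 0 := two_ne_zero_of_odd_card hoddF₀
  have hS0 : S₀ ≠ 0 := by
    intro h0
    apply hdetS
    have : Nonempty (Fin (2 * m)) := ⟨⟨0, by omega⟩⟩
    rw [h0, Matrix.det_zero]
  obtain ⟨e, he⟩ := exists_sigmaQ_ne hF
  set η₀ : F := e - sigmaQ hF e with hη₀def
  have hη₀0 : η₀ ≠ 0 := fun h => he (sub_eq_zero.1 h).symm
  have hη₀ : sigmaQ hF η₀ = -η₀ := by
    rw [hη₀def, map_sub, sigmaQ_sigmaQ]; ring
  obtain ⟨γ₁, γ₂, γ₃, a', b', hab, hg1, ho1, hg2, ho2, hg3, ho3, -, -, -, hall, ⟨c1⟩, ⟨c2⟩, ⟨c3⟩⟩ :=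
    Cfsg.Agent.S2707.result hodd hF hm rfl F₀ hF₀
  rintro ⟨eA⟩
  have key : ∀ x : MulAut (Cfsg.PSU (2 * m) F q),
      Cfsg.IsGraphAutClassPSU x → orderOf x = 2 →
      Nonempty (↥(Cfsg.inndiagPSU (2 * m) F q ⊓ Subgroup.centralizer {x}) ≃* Cfsg.PGSp m F₀) →
      Cfsg.IsConjUnder (Cfsg.inndiagPSU (2 * m) F q) γ₁ x := by
    rintro x hx hx2 ⟨ex⟩
    rcases hall x hx hx2 with h | h | h
    · exact h
    · exfalso
      obtain ⟨e0⟩ := Cfsg.Agent.Helper43.GraphAut.conj_cent_equiv (Cfsg.inndiagPSU (2 * m) F q) _ _ h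
      exact pgo_plus_ne_pgsp hoddF₀ hm (Nat.card_congr ((c2.symm.trans e0).trans ex).toEquiv)
    · exfalso
      obtain ⟨e0⟩ := Cfsg.Agent.Helper43.GraphAut.conj_cent_equiv (Cfsg.inndiagPSU (2 * m) F q) _ _ h
      exact pgo_minus_ne_pgsp hoddF₀ hm a' b' hab
        (Nat.card_congr ((c3.symm.trans e0).trans ex).toEquiv)
  have hord : ∀ (D : GL (Fin (2 * m)) F) (a : ↥(CU (2 * m) F q)), a.1 = aOf hF D →
      orderOf (gamU hF a) = 2 := by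
    intro D a ha
    apply orderOf_gamU hF hn h32
    rw [sigmaCU_val', ha, aOf_mul_sG]
    exact Subgroup.one_mem _
  have k1 := key (gamU hF a) (isGraph_gamU hF hn h32 a) (hord D a ha) ⟨eA⟩
  have σ₁ : Fin (2 * m) ≃ Fin m ⊕ Fin m :=
    Fintype.equivOfCardEq (by simp only [Fintype.card_sum, Fintype.card_fin]; omega)
  obtain ⟨D₁, a₁, ha₁, hD₁, hskew, hdetJ, hiso⟩ := skew_rep hF hF₀ ι₀ hn η₀ hη₀0 hη₀ σ₁
  have k2 := key (gamU hF a₁) (isGraph_gamU hF hn h32 a₁) (hord D₁ a₁ ha₁) hiso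
  have k3 : Cfsg.IsConjUnder (Cfsg.inndiagPSU (2 * m) F q) (gamU hF a₁) (gamU hF a) :=
    Cfsg.Agent.Helper43.GraphAutSplitMain.isConjUnder_trans _ (isConjUnder_symm k2) k1
  obtain ⟨kk, c, _, hc0, e⟩ := cong_of_conj hF hF₀ ι₀ hn h32 hη₀0 one_ne_zero hS0 hD₁ hdat
    a₁ a ha₁ ha k3
  exact hS0 (not_cong_skew_sym h2 hskew hsym hc0 (by rw [Matrix.transpose_transpose]; exact e))

include hF hF₀ in
/-- assembly: the statement of S2709 -/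
theorem main {p f : ℕ} [Fact p.Prime] (hq : q = p ^ f) (hf : 1 ≤ f) {n : ℕ} (hn : 3 ≤ n)
    (hs : ¬ (n = 3 ∧ q = 2)) (γ : MulAut (Cfsg.PSU n F q)) (hγ : Cfsg.IsGraphAutClassPSU γ)
    (hγ2 : orderOf γ = 2) :
    ((Even n ∧ Odd q ∧ Nonempty (↥(Cfsg.inndiagPSU n F q ⊓ Subgroup.centralizer {γ}) ≃* Cfsg.PGSp (n / 2) F₀)) → Cfsg.splitClassCount (Cfsg.inndiagPSU n F q) (Cfsg.Inn (Cfsg.PSU n F q)) γ = Nat.gcd (n / 2) (q + 1)) ∧ ((Even n ∧ Odd q ∧ ¬ Nonempty (↥(Cfsg.inndiagPSU n F q ⊓ Subgroup.centralizer {γ}) ≃* Cfsg.PGSp (n / 2) F₀)) → Cfsg.splitClassCount (Cfsg.inndiagPSU n F q) (Cfsg.Inn (Cfsg.PSU n F q)) γ = Nat.gcd n (q + 1) / 2) ∧ (¬ (Even n ∧ Odd q) → Cfsg.splitClassCount (Cfsg.inndiagPSU n F q) (Cfsg.Inn (Cfsg.PSU n F q)) γ = Nat.gcd n (q + 1)) := by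
  classical
  obtain ⟨ι₀⟩ := exists_ringHom_of_card hF hF₀
  obtain ⟨e, he⟩ := exists_sigmaQ_ne hF
  set η₀ : F := e - sigmaQ hF e with hη₀def
  have hη₀0 : η₀ ≠ 0 := fun h => he (sub_eq_zero.1 h).symm
  have hη₀ : sigmaQ hF η₀ = -η₀ := by
    rw [hη₀def, map_sub, sigmaQ_sigmaQ]; ring
  obtain ⟨D, S₀, a, ha, rfl, hdetS, hcase⟩ :=
    graph_invol_datum hF hF₀ ι₀ hn hs η₀ hη₀0 hη₀ γ hγ hγ2
  have hEO : Even n → ∃ m, n = 2 * m := fun h => by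
    obtain ⟨k, hk⟩ := h
    exact ⟨k, by omega⟩
  refine ⟨?_, ?_, ?_⟩
  · rintro ⟨he, ho, hiso⟩
    obtain ⟨m, rfl⟩ := hEO he
    rw [Nat.mul_div_cancel_left m (by norm_num : 0 < 2)] at hiso ⊢
    rcases hcase with ⟨hsym, hdat⟩ | ⟨hsk, hdat⟩
    · exact absurd hiso (sym_not_iso hF hF₀ ι₀ hn ho hdetS hsym hdat a ha)
    · rw [count_skew hF hF₀ ι₀ hn ho hη₀0 hdetS hsk hdat a ha, Nat.gcd_comm]
  · rintro ⟨he, ho, hiso⟩
    obtain ⟨m, rfl⟩ := hEO he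
    rw [Nat.mul_div_cancel_left m (by norm_num : 0 < 2)] at hiso
    rcases hcase with ⟨hsym, hdat⟩ | ⟨hsk, hdat⟩
    · rw [count_sym hF hF₀ ι₀ hn ho hdetS hsym hdat a ha]
      obtain ⟨t, ht⟩ := ho
      have hN : q + 1 = 2 * (t + 1) := by omega
      rw [hN, Nat.mul_div_cancel_left _ (by norm_num : 0 < 2), Nat.gcd_mul_left,
        Nat.mul_div_cancel_left _ (by norm_num : 0 < 2)]
    · exact absurd (skew_iso hF hF₀ ι₀ hn ho η₀ hη₀0 hη₀ hdetS hsk hdat a ha) hiso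
  · intro hne
    rw [Nat.gcd_comm]
    by_cases he : Even n
    · have hq2 : Even q := Nat.not_odd_iff_even.1 (fun ho => hne ⟨he, ho⟩)
      rcases hcase with ⟨hsym, hdat⟩ | ⟨hsk, hdat⟩
      · exact count_even_q hF hF₀ ι₀ hn hs hq2 one_ne_zero hdetS hdat a ha
      · exact count_even_q hF hF₀ ι₀ hn hs hq2 hη₀0 hdetS hdat a ha
    · have hodd := Nat.not_even_iff_odd.1 he
      rcases hcase with ⟨hsym, hdat⟩ | ⟨hsk, hdat⟩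
      · exact count_odd hF hF₀ ι₀ hn hs hodd one_ne_zero hdetS hdat a ha
      · exact count_odd hF hF₀ ι₀ hn hs hodd hη₀0 hdetS hdat a ha

end Main

end Cfsg.Agent.Helper43.PSUSplit
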