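import Mathlib

set_option autoImplicit false

namespace Cfsg.Agent.Helper43

open Polynomial Module

section PolyForm

variable {F : Type*} [Field F]

/-- The polynomial-level form `b(f, h) = coefficient of X^(d-1)` in `(f h) mod g`. -/
noncomputable def polyForm (g : F[X]) (f h : F[X]) : F := ((f * h) %ₘ g).coeff (g.natDegree - 1)

theorem polyForm_add_left (g f f' h : F[X]) :
    polyForm g (f + f') h = polyForm g f h + polyForm g f' h := by
  unfold polyForm
  rw [add_mul, add_modByMonic, coeff_add]

theorem polyForm_comm (g f h : F[X]) : polyForm g f h = polyForm g h f := by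
  unfold polyForm
  rw [mul_comm]

theorem polyForm_add_right (g f h h' : F[X]) :
    polyForm g f (h + h') = polyForm g f h + polyForm g f h' := by
  rw [polyForm_comm, polyForm_add_left, polyForm_comm g h, polyForm_comm g h']

theorem polyForm_C_mul_left (g : F[X]) (c : F) (f h : F[X]) :
    polyForm g (C c * f) h = c * polyForm g f h := by
  unfold polyForm
  rw [mul_assoc, ← smul_eq_C_mul, smul_modByMonic, coeff_smul, smul_eq_mul]

theorem polyForm_mul_left (g p f h : F[X]) : polyForm g (p * f) h = polyForm g f (p * h) := by
  unfold polyForm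
  congr 2
  ring

theorem polyForm_dvd_left (g : F[X]) (hg : g.Monic) (f h : F[X]) (hd : g ∣ f) :
    polyForm g f h = 0 := by
  unfold polyForm
  rw [(modByMonic_eq_zero_iff_dvd hg).mpr (Dvd.dvd.mul_right hd h)]
  simp

theorem polyForm_congr_left (g : F[X]) (hg : g.Monic) (f f' h : F[X]) (hd : g ∣ f - f') :
    polyForm g f h = polyForm g f' h := by
  have : f = (f - f') + f' := by ring
  rw [this, polyForm_add_left, polyForm_dvd_left g hg _ h hd, zero_add]

theorem polyForm_nondeg (g : F[X]) (hg : g.Monic) (f : F[X])
    (h0 : ∀ h, polyForm g f h = 0) : g ∣ f := by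
  by_contra hnd
  set r := f %ₘ g with hr
  have hr0 : r ≠ 0 := by
    intro h
    exact hnd ((modByMonic_eq_zero_iff_dvd hg).mp h)
  have hg1 : g ≠ 1 := by
    rintro rfl
    exact hnd (one_dvd f)
  have hdeg : r.natDegree < g.natDegree := natDegree_modByMonic_lt f hg hg1
  have hfr : g ∣ f - r := by
    rw [hr, modByMonic_eq_sub_mul_div]
    simp
  have h1 := h0 (X ^ (g.natDegree - 1 - r.natDegree))
  rw [polyForm_congr_left g hg f r _ hfr] at h1
  unfold polyForm at h1
  have hnat : (r * X ^ (g.natDegree - 1 - r.natDegree)).natDegree = g.natDegree - 1 := by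
    rw [natDegree_mul_X_pow _ hr0]
    omega
  have hlt : (r * X ^ (g.natDegree - 1 - r.natDegree)).degree < g.degree := by
    have hne : r * X ^ (g.natDegree - 1 - r.natDegree) ≠ 0 :=
      mul_ne_zero hr0 (pow_ne_zero _ X_ne_zero)
    rw [degree_eq_natDegree hne, degree_eq_natDegree hg.ne_zero, hnat]
    exact_mod_cast (by omega : g.natDegree - 1 < g.natDegree)
  rw [(modByMonic_eq_self_iff hg).mpr hlt, coeff_mul_X_pow'] at h1
  rw [if_pos (by omega)] at h1
  have : g.natDegree - 1 - (g.natDegree - 1 - r.natDegree) = r.natDegree := by omega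
  rw [this] at h1
  exact hr0 (leadingCoeff_eq_zero.mp h1)

end PolyForm

section Forms

variable (F : Type*) [Field F]

/-- A nondegenerate `F`-bilinear form on an `F[X]`-module for which all of `F[X]` is self-adjoint. -/
structure SelfAdjForm (N : Type*) [AddCommGroup N] [Module F[X] N] where
  β : N → N → F
  add_left : ∀ x x' y, β (x + x') y = β x y + β x' y
  add_right : ∀ x y y', β x (y + y') = β x y + β x y'
  smul_left : ∀ (c : F) x y, β (C c • x) y = c * β x y
  adj : ∀ (p : F[X]) x y, β (p • x) y = β x (p • y)
  nondeg : ∀ x, (∀ y, β x y = 0) → x = 0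

variable {F}

/-- transport along an `F[X]`-linear equivalence -/
noncomputable def SelfAdjForm.transport {N N' : Type*} [AddCommGroup N] [Module F[X] N]
    [AddCommGroup N'] [Module F[X] N'] (Φ : N ≃ₗ[F[X]] N') (b : SelfAdjForm F N') :
    SelfAdjForm F N where
  β x y := b.β (Φ x) (Φ y)
  add_left x x' y := by rw [map_add, b.add_left]
  add_right x y y' := by rw [map_add, b.add_right]
  smul_left c x y := by rw [map_smul, b.smul_left]
  adj p x y := by rw [map_smul, map_smul, b.adj]
  nondeg x hx := by
    have : Φ x = 0 := b.nondeg (Φ x) (fun y => by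
      have := hx (Φ.symm y)
      rwa [LinearEquiv.apply_symm_apply] at this)
    exact Φ.map_eq_zero_iff.mp this

/-- the form on a cyclic module `F[X] ⧸ (g)` -/
noncomputable def SelfAdjForm.cyclic (g : F[X]) (hg : g ≠ 0) :
    SelfAdjForm F (F[X] ⧸ Submodule.span F[X] {g}) := by
  classical
  let g' := normalize g
  have hg' : g'.Monic := monic_normalize hg
  have hdvd : ∀ f : F[X], g' ∣ f ↔ g ∣ f := fun f => normalize_dvd_iff
  let rep : (F[X] ⧸ Submodule.span F[X] {g}) → F[X] :=
    fun x => (Submodule.Quotient.mk_surjective _ x).choose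
  have hrep : ∀ x, Submodule.Quotient.mk (rep x) = x :=
    fun x => (Submodule.Quotient.mk_surjective _ x).choose_spec
  have hmk : ∀ f f' : F[X], (Submodule.Quotient.mk f : F[X] ⧸ Submodule.span F[X] {g})
      = Submodule.Quotient.mk f' → g' ∣ f - f' := by
    intro f f' h
    rw [hdvd]
    have := (Submodule.Quotient.eq _).mp h
    exact Ideal.mem_span_singleton.mp this
  have hmk0 : ∀ f : F[X], g' ∣ f →
      (Submodule.Quotient.mk f : F[X] ⧸ Submodule.span F[X] {g}) = 0 := by
    intro f h
    rw [Submodule.Quotient.mk_eq_zero]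
    exact Ideal.mem_span_singleton.mpr ((hdvd f).mp h)
  -- key: the form evaluated on representatives
  have key : ∀ (x y : F[X] ⧸ Submodule.span F[X] {g}) (f h : F[X]),
      Submodule.Quotient.mk f = x → Submodule.Quotient.mk h = y →
      polyForm g' (rep x) (rep y) = polyForm g' f h := by
    intro x y f h hf hh
    rw [polyForm_congr_left g' hg' (rep x) f _ (hmk _ _ (by rw [hrep, hf])),
      polyForm_comm, polyForm_congr_left g' hg' (rep y) h _ (hmk _ _ (by rw [hrep, hh])),
      polyForm_comm]
  exact
  { β := fun x y => polyForm g' (rep x) (rep y)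
    add_left := by
      intro x x' y
      rw [key (x + x') y (rep x + rep x') (rep y) (by
        rw [Submodule.Quotient.mk_add, hrep, hrep]) (hrep y), polyForm_add_left]
    add_right := by
      intro x y y'
      rw [key x (y + y') (rep x) (rep y + rep y') (hrep x) (by
        rw [Submodule.Quotient.mk_add, hrep, hrep]), polyForm_add_right]
    smul_left := by
      intro c x y
      rw [key (C c • x) y (C c * rep x) (rep y) (by
        rw [← smul_eq_mul, Submodule.Quotient.mk_smul, hrep]) (hrep y), polyForm_C_mul_left]
    adj := by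
      intro p x y
      rw [key (p • x) y (p * rep x) (rep y) (by
        rw [← smul_eq_mul, Submodule.Quotient.mk_smul, hrep]) (hrep y),
        key x (p • y) (rep x) (p * rep y) (hrep x) (by
        rw [← smul_eq_mul, Submodule.Quotient.mk_smul, hrep]), polyForm_mul_left]
    nondeg := by
      intro x hx
      rw [← hrep x]
      apply hmk0
      apply polyForm_nondeg g' hg'
      intro h
      have := hx (Submodule.Quotient.mk h)
      rwa [key x (Submodule.Quotient.mk h) (rep x) h (hrep x) rfl] at this }

theorem SelfAdjForm.zero_right {N : Type*} [AddCommGroup N] [Module F[X] N]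
    (b : SelfAdjForm F N) (x : N) : b.β x 0 = 0 := by
  have := b.add_right x 0 0
  rw [add_zero] at this
  linear_combination -this

open DirectSum in
/-- the form on a finite direct sum -/
noncomputable def SelfAdjForm.directSum {ι : Type*} [Fintype ι] [DecidableEq ι]
    (N : ι → Type*) [∀ i, AddCommGroup (N i)] [∀ i, Module F[X] (N i)]
    (b : ∀ i, SelfAdjForm F (N i)) : SelfAdjForm F (⨁ i, N i) where
  β x y := ∑ i, (b i).β (x i) (y i)
  add_left x x' y := by
    rw [← Finset.sum_add_distrib]
    apply Finset.sum_congr rfl
    intro i _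
    rw [DirectSum.add_apply, (b i).add_left]
  add_right x y y' := by
    rw [← Finset.sum_add_distrib]
    apply Finset.sum_congr rfl
    intro i _
    rw [DirectSum.add_apply, (b i).add_right]
  smul_left c x y := by
    rw [Finset.mul_sum]
    apply Finset.sum_congr rfl
    intro i _
    rw [DirectSum.smul_apply, (b i).smul_left]
  adj p x y := by
    apply Finset.sum_congr rfl
    intro i _
    rw [DirectSum.smul_apply, DirectSum.smul_apply, (b i).adj]
  nondeg x hx := by
    apply DFinsupp.ext
    intro j
    rw [DirectSum.zero_apply]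
    apply (b j).nondeg
    intro z
    have := hx (DirectSum.of N j z)
    rw [Finset.sum_eq_single j] at this
    · rwa [DirectSum.of_eq_same] at this
    · intro i _ hij
      rw [DirectSum.of_eq_of_ne _ _ _ hij, (b i).zero_right]
    · intro h
      exact absurd (Finset.mem_univ j) h

end Forms

section Main

open Matrix

variable {F : Type*} [Field F]

theorem exists_selfAdjForm {V : Type*} [AddCommGroup V] [Module F V] [FiniteDimensional F V]
    (φ : Module.End F V) : Nonempty (SelfAdjForm F (Module.AEval' φ)) := by
  classical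
  have htors : Module.IsTorsion F[X] (Module.AEval' φ) :=
    Module.AEval.isTorsion_of_finiteDimensional F V φ
  obtain ⟨ι, _, p, hp, e, ⟨Φ⟩⟩ := Module.equiv_directSum_of_isTorsion htors
  exact ⟨(SelfAdjForm.directSum _ (fun i =>
    SelfAdjForm.cyclic (p i ^ e i) (pow_ne_zero _ (hp i).ne_zero))).transport Φ⟩

/-- Every square matrix over a field is similar to its transpose. -/
theorem isConj_transpose {n : Type*} [Fintype n] [DecidableEq n] (A : Matrix n n F) :
    IsConj A A.transpose := by
  set φ : Module.End F (n → F) := Matrix.toLin' A with hφ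
  obtain ⟨b⟩ := exists_selfAdjForm φ
  let of := Module.AEval'.of φ
  have hC : ∀ (c : F) (x : n → F), of (c • x) = C c • of x := by
    intro c x
    rw [map_smul, Module.AEval.C_smul]
  have hX : ∀ x : n → F, of (φ x) = (X : F[X]) • of x := by
    intro x
    rw [Module.AEval'.X_smul_of]
  let Bf : LinearMap.BilinForm F (n → F) :=
    LinearMap.mk₂ F (fun x y => b.β (of x) (of y))
      (fun x x' y => by rw [map_add, b.add_left])
      (fun c x y => by rw [hC, b.smul_left, smul_eq_mul])
      (fun x y y' => by rw [map_add, b.add_right])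
      (fun c x y => by rw [hC, ← b.adj, b.smul_left, smul_eq_mul])
  have hBf : ∀ x y, Bf x y = b.β (of x) (of y) := fun x y => rfl
  have hadj : Bf.compLeft φ = Bf.compRight φ := by
    apply LinearMap.ext₂
    intro x y
    show Bf (φ x) y = Bf x (φ y)
    rw [hBf, hBf, hX, hX, b.adj]
  set S := LinearMap.BilinForm.toMatrix' Bf with hS
  have hSA : A.transpose * S = S * A := by
    have h1 := congrArg LinearMap.BilinForm.toMatrix' hadj
    rw [LinearMap.BilinForm.toMatrix'_compLeft, LinearMap.BilinForm.toMatrix'_compRight, hφ,
      LinearMap.toMatrix'_toLin'] at h1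
    exact h1
  have hBS : ∀ x y, Bf x y = x ⬝ᵥ (S *ᵥ y) := by
    intro x y
    rw [hS, ← Matrix.toBilin'_apply', Matrix.toBilin'_toMatrix']
  have hdet : S.det ≠ 0 := by
    intro h0
    obtain ⟨v, hv, hvS⟩ := Matrix.exists_vecMul_eq_zero_iff.mpr h0
    apply hv
    have : of v = 0 := by
      apply b.nondeg
      intro y
      have := hBS v (of.symm y)
      rw [Matrix.dotProduct_mulVec, hvS, zero_dotProduct, hBf, LinearEquiv.apply_symm_apply] at this
      exact this
    exact of.map_eq_zero_iff.mp this
  have hunit : IsUnit S := (Matrix.isUnit_iff_isUnit_det S).mpr (IsUnit.mk0 _ hdet)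
  refine ⟨hunit.unit, ?_⟩
  show hunit.unit.val * A = A.transpose * hunit.unit.val
  rw [IsUnit.unit_spec]
  exact hSA.symm

end Main

end Cfsg.Agent.Helper43
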