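import Mathlib
import Cfsg.Prelude.Def_Classical
import Cfsg.Agent.Lib.Helper14.IsomTransfer

/-!
# Symmetric groups inside orthogonal groups over the field with two elements

The symmetric group on a set `R` with `4 ∣ |R|` acts on the even-weight vectors of `F_2^R` modulo
the all-one vector, preserving the quadratic form `wt / 2 mod 2`.  A `Pack` records a basis of this
space (as the columns of a matrix `S`), the coordinate matrix `Pm`, and the identification of the
quadratic form with a given form `Qc` on the coordinate space.  Packs are built block by block.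
-/

set_option autoImplicit false
set_option linter.unusedSectionVars false
set_option linter.unusedSimpArgs false

namespace Cfsg.Agent.Helper43.SymOrth

open Matrix Equiv

/-- The field with two elements. -/
abbrev K := ZMod 2

/-- all-one vector -/
def onev (R : Type) : R → K := fun _ => 1

/-- The weight of a vector. -/
def wt {R : Type} [Fintype R] (y : R → K) : ℕ := (Finset.univ.filter fun i => y i = 1).card

/-- the lift `ZMod 2 → ZMod 4` -/
def lift (a : K) : ZMod 4 := (a.val : ZMod 4)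

/-- A basis of (even-weight vectors)/(all-one vector) adapted to the form `Qc`. -/
structure Pack (R C : Type) [Fintype R] [DecidableEq R] [Fintype C] [DecidableEq C]
    (Qc : (C → K) → K) where
  S : Matrix R C K
  Pm : Matrix C R K
  ω : R
  h1 : Pm * S = 1
  h2 : S * Pm = 1 + vecMulVec (onev R) (onev R + Pi.single ω 1) + vecMulVec (Pi.single ω 1) (onev R)
  h3 : onev R ᵥ* S = 0
  h4 : Pm *ᵥ onev R = 0
  h5 : ∀ c, S ω c = 0
  h6 : ∀ c, Pm c ω = 0
  key : ∀ v : C → K, ((wt (S *ᵥ v) : ℕ) : ZMod 4) = 2 * lift (Qc v)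
  hcard : 4 ∣ Fintype.card R

section Framework

variable {R C : Type} [Fintype R] [DecidableEq R] [Fintype C] [DecidableEq C]
variable {Qc : (C → K) → K} (P : Pack R C Qc)

/-- The permutation matrix of `σ` (a homomorphism in `σ`). -/
def Pσ (σ : Perm R) : Matrix R R K := (σ⁻¹).permMatrix K

theorem Pσ_mul (σ τ : Perm R) : Pσ (σ * τ) = Pσ σ * Pσ τ := by
  unfold Pσ
  rw [_root_.mul_inv_rev, Matrix.permMatrix_mul]

theorem Pσ_one : Pσ (1 : Perm R) = 1 := by
  unfold Pσ
  rw [inv_one, Matrix.permMatrix_one]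

theorem Pσ_mulVec (σ : Perm R) (y : R → K) : Pσ σ *ᵥ y = y ∘ (σ⁻¹ : Perm R) := by
  unfold Pσ
  rw [Matrix.permMatrix_mulVec]

theorem Pσ_mulVec_one (σ : Perm R) : Pσ σ *ᵥ onev R = onev R := by
  rw [Pσ_mulVec]
  rfl

theorem one_vecMul_Pσ (σ : Perm R) : onev R ᵥ* Pσ σ = onev R := by
  unfold Pσ
  rw [Matrix.vecMul_permMatrix]
  rfl

/-- The matrix of `σ` on the coordinate space. -/
def M (σ : Perm R) : Matrix C C K := P.Pm * Pσ σ * P.S

theorem M_one : M P 1 = 1 := by
  unfold M
  rw [Pσ_one, Matrix.mul_one, P.h1]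

theorem vmv_zero {m n : Type*} (w : m → K) : vecMulVec w (0 : n → K) = 0 := by
  ext i j
  simp [Matrix.vecMulVec_apply]

theorem zero_vmv {m n : Type*} (w : n → K) : vecMulVec (0 : m → K) w = 0 := by
  ext i j
  simp [Matrix.vecMulVec_apply]

theorem one_vecMul_PS (σ : Perm R) : onev R ᵥ* (Pσ σ * P.S) = 0 := by
  rw [← Matrix.vecMul_vecMul, one_vecMul_Pσ, P.h3]

theorem S_mul_M (σ : Perm R) :
    P.S * M P σ = Pσ σ * P.S +
      vecMulVec (onev R) ((onev R + Pi.single P.ω 1) ᵥ* (Pσ σ * P.S)) := by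
  unfold M
  rw [← Matrix.mul_assoc, ← Matrix.mul_assoc, P.h2, Matrix.mul_assoc, Matrix.add_mul,
    Matrix.add_mul, Matrix.one_mul, Matrix.vecMulVec_mul, Matrix.vecMulVec_mul, one_vecMul_PS,
    vmv_zero, add_zero]

theorem M_mul (σ τ : Perm R) : M P (σ * τ) = M P σ * M P τ := by
  have h : M P σ * M P τ = P.Pm * Pσ σ * (P.S * M P τ) := by
    unfold M
    simp only [Matrix.mul_assoc]
  rw [h, S_mul_M, Matrix.mul_add, Matrix.mul_vecMulVec, ← Matrix.mulVec_mulVec, Pσ_mulVec_one,
    P.h4, zero_vmv, add_zero]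
  unfold M
  rw [Pσ_mul]
  simp only [Matrix.mul_assoc]

theorem wt_le (y : R → K) : wt y ≤ Fintype.card R := by
  unfold wt
  exact Finset.card_le_univ _

theorem wt_comp (y : R → K) (τ : Perm R) : wt (y ∘ τ) = wt y := by
  unfold wt
  exact Finset.card_equiv τ (by intro i; simp)

theorem wt_add_one (y : R → K) : wt (y + onev R) = Fintype.card R - wt y := by
  unfold wt
  have h : (Finset.univ.filter fun i => (y + onev R) i = 1) =
      (Finset.univ.filter fun i => y i = 1)ᶜ := by
    ext i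
    rw [Finset.mem_compl, Finset.mem_filter, Finset.mem_filter]
    simp only [Finset.mem_univ, true_and, Pi.add_apply, onev]
    have h2 : ∀ a : K, a + 1 = 1 ↔ ¬ a = 1 := by decide
    exact h2 (y i)
  rw [h, Finset.card_compl]

theorem scalar_cases : ∀ a : K, a = 0 ∨ a = 1 := by decide

theorem two_mul_lift_inj : ∀ a b : K, (2 : ZMod 4) * lift a = 2 * lift b → a = b := by decide

/-- an even weight and its complement agree modulo four -/
theorem cast_sub_wt (n w : ℕ) (hn : 4 ∣ n) (hw : w ≤ n) (a : K)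
    (h : ((w : ℕ) : ZMod 4) = 2 * lift a) : (((n - w : ℕ) : ℕ) : ZMod 4) = 2 * lift a := by
  have h0 : ((n : ℕ) : ZMod 4) = 0 := (ZMod.natCast_eq_zero_iff n 4).2 hn
  rw [Nat.cast_sub hw, h0, zero_sub, h]
  have : ∀ a : K, -((2 : ZMod 4) * lift a) = 2 * lift a := by decide
  exact this a

/-- `M σ` preserves the quadratic form. -/
theorem Q_M (σ : Perm R) (v : C → K) : Qc (M P σ *ᵥ v) = Qc v := by
  apply two_mul_lift_inj
  rw [← P.key, ← P.key]
  have h1 : P.S *ᵥ (M P σ *ᵥ v) =
      (P.S *ᵥ v) ∘ (σ⁻¹ : Perm R) +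
        (((onev R + Pi.single P.ω 1) ᵥ* (Pσ σ * P.S)) ⬝ᵥ v) • onev R := by
    rw [Matrix.mulVec_mulVec, S_mul_M, Matrix.add_mulVec, ← Matrix.mulVec_mulVec, Pσ_mulVec,
      Matrix.vecMulVec_mulVec, op_smul_eq_smul]
  rw [h1]
  rcases scalar_cases (((onev R + Pi.single P.ω 1) ᵥ* (Pσ σ * P.S)) ⬝ᵥ v) with h0 | h0
  · rw [h0, zero_smul, add_zero, wt_comp]
  · rw [h0, one_smul, wt_add_one, wt_comp, P.key]
    exact cast_sub_wt _ _ P.hcard (wt_le _) _ (P.key v)

/-- `M` as a monoid homomorphism. -/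
def Mhom : Perm R →* Matrix C C K where
  toFun := M P
  map_one' := M_one P
  map_mul' := M_mul P

/-- into the general linear group -/
def toGL : Perm R →* Matrix.GeneralLinearGroup C K := (Mhom P).toHomUnits

theorem toGL_coe (σ : Perm R) :
    ((toGL P σ : Matrix.GeneralLinearGroup C K) : Matrix C C K) = M P σ := rfl

theorem toGL_mem (σ : Perm R) : toGL P σ ∈ Cfsg.isometryGroup K Qc := by
  rw [Cfsg.Agent.Helper14.mem_isometryGroup_iff]
  intro u
  rw [toGL_coe]
  exact Q_M P σ u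

/-- The homomorphism `Sym(R) → O(Qc)`. -/
def toO : Perm R →* Cfsg.isometryGroup K Qc :=
  (toGL P).codRestrict _ (toGL_mem P)

theorem PS_apply (σ : Perm R) (x : R) (c : C) : (Pσ σ * P.S) x c = P.S ((σ⁻¹ : Perm R) x) c := by
  have h : (Pσ σ * P.S) x c = (Pσ σ *ᵥ (fun r => P.S r c)) x := rfl
  rw [h, Pσ_mulVec]
  rfl

theorem exists_row_ne_zero (c : C) : ∃ r, P.S r c = 1 := by
  by_contra hcon
  push Not at hcon
  have h0 : ∀ r, P.S r c = 0 := fun r => (scalar_cases (P.S r c)).resolve_right (hcon r)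
  have h1 := congrFun (congrFun P.h1 c) c
  rw [Matrix.mul_apply, Matrix.one_apply_eq] at h1
  rw [Finset.sum_eq_zero (fun r _ => by rw [h0 r, mul_zero])] at h1
  exact zero_ne_one h1

theorem toO_injective [Nonempty C] (h5 : 5 ≤ Fintype.card R) : Function.Injective (toO P) := by
  classical
  rw [← MonoidHom.ker_eq_bot_iff]
  by_contra hne
  have hnt : Nontrivial (toO P).ker := (Subgroup.nontrivial_iff_ne_bot _).mpr hne
  have hle := Equiv.Perm.alternatingGroup_le_of_normal (α := R)
    (by rw [Nat.card_eq_fintype_card]; exact h5) hnt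
  obtain ⟨c⟩ := ‹Nonempty C›
  obtain ⟨r1, hr1⟩ := exists_row_ne_zero P c
  have hr1ω : r1 ≠ P.ω := by
    intro h
    rw [h, P.h5] at hr1
    exact zero_ne_one hr1
  obtain ⟨r3, -, hr3⟩ := Finset.exists_mem_notMem_of_card_lt_card
    (s := ({P.ω, r1} : Finset R)) (t := Finset.univ) (by
      have := Finset.card_le_two (a := P.ω) (b := r1)
      rw [Finset.card_univ]
      omega)
  obtain ⟨r4, -, hr4⟩ := Finset.exists_mem_notMem_of_card_lt_card
    (s := ({P.ω, r1, r3} : Finset R)) (t := Finset.univ) (by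
      have := Finset.card_le_three (a := P.ω) (b := r1) (c := r3)
      rw [Finset.card_univ]
      omega)
  simp only [Finset.mem_insert, Finset.mem_singleton, not_or] at hr3 hr4
  obtain ⟨hr3ω, hr31⟩ := hr3
  obtain ⟨hr4ω, hr41, hr43⟩ := hr4
  have h3c : (swap P.ω r1 * swap P.ω r3).IsThreeCycle :=
    Equiv.Perm.isThreeCycle_swap_mul_swap_same (Ne.symm hr1ω) (Ne.symm hr3ω) (Ne.symm hr31)
  have hmem : swap P.ω r1 * swap P.ω r3 ∈ (toO P).ker := hle h3c.mem_alternatingGroup
  rw [MonoidHom.mem_ker] at hmem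
  have h2 : toGL P (swap P.ω r1 * swap P.ω r3) = 1 := congrArg Subtype.val hmem
  have h3 : M P (swap P.ω r1 * swap P.ω r3) = 1 := congrArg Units.val h2
  have h4 := S_mul_M P (swap P.ω r1 * swap P.ω r3)
  rw [h3, Matrix.mul_one] at h4
  -- the inverse permutation
  have hinv : ∀ x y, (swap P.ω r1 * swap P.ω r3) y = x →
      ((swap P.ω r1 * swap P.ω r3)⁻¹ : Perm R) x = y := by
    intro x y hxy
    rw [← hxy]
    exact (swap P.ω r1 * swap P.ω r3).symm_apply_apply y
  have e4 := congrFun (congrFun h4 r4) c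
  have eω := congrFun (congrFun h4 P.ω) c
  rw [Matrix.add_apply, PS_apply, Matrix.vecMulVec_apply] at e4 eω
  have i4 : ((swap P.ω r1 * swap P.ω r3)⁻¹ : Perm R) r4 = r4 := by
    apply hinv
    rw [Perm.mul_apply, swap_apply_of_ne_of_ne hr4ω hr43, swap_apply_of_ne_of_ne hr4ω hr41]
  have iω : ((swap P.ω r1 * swap P.ω r3)⁻¹ : Perm R) P.ω = r1 := by
    apply hinv
    rw [Perm.mul_apply, swap_apply_of_ne_of_ne hr1ω (Ne.symm hr31), swap_apply_right]
  rw [i4] at e4
  rw [iω, hr1, P.h5] at eω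
  simp only [onev, one_mul] at e4 eω
  have ht : ((onev R + Pi.single P.ω 1) ᵥ* (Pσ (swap P.ω r1 * swap P.ω r3) * P.S)) c = 0 := by
    have : ∀ a t : K, a = a + t → t = 0 := by decide
    exact this _ _ e4
  rw [ht] at eω
  revert eω
  decide

end Framework

section Reindex

variable {R C R' C' : Type} [Fintype R] [DecidableEq R] [Fintype C] [DecidableEq C]
  [Fintype R'] [DecidableEq R'] [Fintype C'] [DecidableEq C']

theorem wt_comp_equiv (y : R → K) (e : R' ≃ R) : wt (y ∘ e) = wt y := by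
  unfold wt
  exact Finset.card_equiv e (by intro i; simp)

theorem submatrix_mulVec_symm (A : Matrix R C K) (e : R ≃ R') (f : C ≃ C') (v : C' → K) :
    A.submatrix e.symm f.symm *ᵥ v = (A *ᵥ (v ∘ f)) ∘ e.symm := by
  funext x
  simp only [Matrix.mulVec, dotProduct, Matrix.submatrix_apply, Function.comp_apply]
  exact (Equiv.sum_comp f (fun c' => A (e.symm x) (f.symm c') * v c')).symm.trans (by simp)

/-- Transport a pack along bijections of the row and column index types. -/
def Pack.reindex {Qc : (C → K) → K} (P : Pack R C Qc) (e : R ≃ R') (f : C ≃ C') :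
    Pack R' C' (fun v => Qc (v ∘ f)) where
  S := P.S.submatrix e.symm f.symm
  Pm := P.Pm.submatrix f.symm e.symm
  ω := e P.ω
  h1 := by rw [Matrix.submatrix_mul_equiv, P.h1, Matrix.submatrix_one_equiv]
  h2 := by
    rw [Matrix.submatrix_mul_equiv, P.h2]
    ext x y
    simp only [Matrix.submatrix_apply, Matrix.add_apply, Matrix.one_apply, Matrix.vecMulVec_apply,
      onev, Pi.add_apply, Pi.single_apply, e.symm_apply_eq, Equiv.apply_symm_apply]
  h3 := by
    funext c
    have h := congrFun P.h3 (f.symm c)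
    simp only [Matrix.vecMul, dotProduct, onev, one_mul, Pi.zero_apply, Matrix.submatrix_apply]
      at h ⊢
    rw [← h]
    exact Equiv.sum_comp e.symm (fun r => P.S r (f.symm c))
  h4 := by
    funext c
    have h := congrFun P.h4 (f.symm c)
    simp only [Matrix.mulVec, dotProduct, onev, mul_one, Pi.zero_apply, Matrix.submatrix_apply]
      at h ⊢
    rw [← h]
    exact Equiv.sum_comp e.symm (fun r => P.Pm (f.symm c) r)
  h5 := by
    intro c
    simp only [Matrix.submatrix_apply, Equiv.symm_apply_apply]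
    exact P.h5 _
  h6 := by
    intro c
    simp only [Matrix.submatrix_apply, Equiv.symm_apply_apply]
    exact P.h6 _
  key := by
    intro v
    rw [submatrix_mulVec_symm, wt_comp_equiv]
    exact P.key (v ∘ f)
  hcard := by
    rw [← Fintype.card_congr e]
    exact P.hcard

end Reindex


/-- index type of the four new hyperbolic pairs -/
abbrev N := Fin 4 ⊕ Fin 4

def ze0 : Fin 8 → K := ![1, 1, 1, 1, 0, 0, 0, 0]
def zf0 : Fin 8 → K := ![0, 0, 0, 1, 1, 1, 1, 0]
def ze1 : Fin 8 → K := ![1, 1, 0, 0, 1, 1, 0, 0]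
def zf1 : Fin 8 → K := ![1, 0, 1, 0, 1, 1, 0, 0]
def ze2 : Fin 8 → K := ![0, 1, 1, 0, 1, 0, 1, 0]
def zf2 : Fin 8 → K := ![0, 1, 1, 0, 0, 1, 1, 0]
def ze3 : Fin 8 → K := ![0, 0, 0, 0, 0, 0, 0, 0]
def zf3 : Fin 8 → K := ![1, 1, 1, 1, 1, 1, 1, 0]

/-- the new columns on the eight new rows -/
def Zmat : Matrix (Fin 8) N K := fun y c => Sum.elim ![ze0, ze1, ze2, ze3] ![zf0, zf1, zf2, zf3] c y
/-- the new coordinate rows on the eight new rows -/
def Zs : Matrix N (Fin 8) K := fun c y => Sum.elim ![zf0, zf1, zf2, zf3] ![ze0, ze1, ze2, ze3] c y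

def e3v : N → K := Pi.single (Sum.inl 3) 1
def f3v : N → K := Pi.single (Sum.inr 3) 1

theorem z1 : vecMulVec e3v e3v + vecMulVec e3v f3v + vecMulVec f3v f3v + Zs * Zmat = 1 := by decide
theorem z2 : Zmat * Zs = 1 + vecMulVec (onev (Fin 8)) (onev (Fin 8) + Pi.single 7 1) +
    vecMulVec (Pi.single 7 1) (onev (Fin 8)) := by decide
theorem z3 : e3v ᵥ* Zs = zf3 := by decide
theorem z4 : f3v ᵥ* Zs = 0 := by decide
theorem z5 : Zmat *ᵥ e3v = 0 := by decide
theorem z6 : Zmat *ᵥ f3v = zf3 := by decide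
theorem z7 : onev (Fin 8) + Pi.single 7 1 = zf3 := by decide
theorem z8 : onev (Fin 8) ᵥ* Zmat = f3v := by decide
theorem z9 : Zs *ᵥ onev (Fin 8) = e3v := by decide
theorem z10 : ∀ c, Zmat 7 c = 0 := by decide
theorem z11 : ∀ c, Zs c 7 = 0 := by decide

set_option maxRecDepth 100000 in
theorem ztable : ∀ w : N → K, ((wt (Zmat *ᵥ w) : ℕ) : ZMod 4) =
    2 * lift (Cfsg.quadFormPlus 4 K w + w (Sum.inl 3) * w (Sum.inr 3)) + 3 * lift (w (Sum.inr 3)) := by
  decide


section Weights

variable {R : Type} [Fintype R]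

theorem wt_eq_sum (y : R → K) : wt y = ∑ i, if y i = 1 then 1 else 0 := by
  unfold wt
  rw [Finset.card_filter]

theorem wt_sum_elim {R' : Type} [Fintype R'] (t : R → K) (b : R' → K) :
    wt (Sum.elim t b) = wt t + wt b := by
  rw [wt_eq_sum, wt_eq_sum, wt_eq_sum, Fintype.sum_sum_type]
  simp only [Sum.elim_inl, Sum.elim_inr]
  rfl

theorem wt_add_single [DecidableEq R] (u : R → K) (r : R) (hu : u r = 0) :
    wt (u + Pi.single r (1 : K)) = wt u + 1 := by
  unfold wt
  have h : (Finset.univ.filter fun i => (u + Pi.single r (1 : K) : R → K) i = 1) =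
      insert r (Finset.univ.filter fun i => u i = 1) := by
    ext i
    rw [Finset.mem_insert, Finset.mem_filter, Finset.mem_filter]
    simp only [Finset.mem_univ, true_and, Pi.add_apply, Pi.single_apply]
    by_cases hi : i = r
    · rw [if_pos hi, hi, hu]
      simp
    · rw [if_neg hi, add_zero]
      simp [hi]
  rw [h, Finset.card_insert_of_notMem]
  rw [Finset.mem_filter]
  rintro ⟨-, h1⟩
  rw [hu] at h1
  exact zero_ne_one h1

end Weights

section Step

variable {R C : Type} [Fintype R] [DecidableEq R] [Fintype C] [DecidableEq C]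

theorem onev_dot_onev (h : 4 ∣ Fintype.card R) : onev R ⬝ᵥ onev R = 0 := by
  simp only [dotProduct, onev, mul_one, Finset.sum_const, Finset.card_univ, nsmul_eq_mul]
  obtain ⟨d, hd⟩ := h
  rw [hd]
  push_cast
  have : (4 : K) = 0 := by decide
  rw [this, zero_mul]

theorem onev_sum (R R' : Type) : onev (R ⊕ R') = Sum.elim (onev R) (onev R') := by
  funext x
  rcases x with x | x <;> rfl

theorem single_inr {R' : Type} [DecidableEq R'] (r : R') :
    (Pi.single (Sum.inr r : R ⊕ R') (1 : K)) = Sum.elim (0 : R → K) (Pi.single r (1 : K)) := by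
  funext x
  rcases x with x | x
  · simp
  · simp [Pi.single_apply]

theorem vmv_elim {A B A' B' : Type} (a : A → K) (b : B → K) (c : A' → K) (d : B' → K) :
    vecMulVec (Sum.elim a b) (Sum.elim c d) =
      fromBlocks (vecMulVec a c) (vecMulVec a d) (vecMulVec b c) (vecMulVec b d) := by
  ext x y
  rcases x with x | x <;> rcases y with y | y <;> simp [vecMulVec_apply]

/-- the new columns on the old rows -/
def Xmat (ω : R) : Matrix R N K := vecMulVec (onev R) e3v + vecMulVec (Pi.single ω 1) f3v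
/-- the new coordinate rows on the old rows -/
def Ys (ω : R) : Matrix N R K := vecMulVec e3v (Pi.single ω 1) + vecMulVec f3v (onev R)

/-- orthogonal sum with four hyperbolic planes -/
def formSum (Qc : (C → K) → K) : (C ⊕ N → K) → K :=
  fun v => Qc (v ∘ Sum.inl) + Cfsg.quadFormPlus 4 K (v ∘ Sum.inr)

theorem finish_table : ∀ q s a b : K,
    (if a = 0 then (if b = 0 then (2 : ZMod 4) * lift q else 2 * lift q + 1)
      else (if b = 0 then 2 * lift q else -(2 * lift q + 1))) +
      (2 * lift (s + a * b) + 3 * lift b) = 2 * lift (q + s) := by decide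

variable {Qc : (C → K) → K} (P : Pack R C Qc)

theorem e3_dot_e3 : e3v ⬝ᵥ e3v = 1 := by decide
theorem e3_dot_f3 : e3v ⬝ᵥ f3v = 0 := by decide
theorem f3_dot_e3 : f3v ⬝ᵥ e3v = 0 := by decide
theorem f3_dot_f3 : f3v ⬝ᵥ f3v = 1 := by decide

theorem add_self_K {X : Type*} [AddCommGroup X] [Module K X] (x : X) : x + x = 0 := by
  rw [← two_smul K x]
  have : (2 : K) = 0 := by decide
  rw [this, zero_smul]

/-- Add a block of eight points. -/
def Pack.step : Pack (R ⊕ Fin 8) (C ⊕ N) (formSum Qc) where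
  S := fromBlocks P.S (Xmat P.ω) 0 Zmat
  Pm := fromBlocks P.Pm 0 (Ys P.ω) Zs
  ω := Sum.inr 7
  h1 := by
    rw [fromBlocks_multiply, P.h1]
    have hPX : P.Pm * Xmat P.ω = 0 := by
      unfold Xmat
      rw [Matrix.mul_add, mul_vecMulVec, mul_vecMulVec, P.h4, mulVec_single_one]
      have : P.Pm.col P.ω = 0 := by
        funext c
        exact P.h6 c
      rw [this, zero_vmv, zero_vmv, add_zero]
    have hYS : Ys P.ω * P.S = 0 := by
      unfold Ys
      rw [Matrix.add_mul, vecMulVec_mul, vecMulVec_mul, P.h3, single_one_vecMul]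
      have : P.S.row P.ω = 0 := by
        funext c
        exact P.h5 c
      rw [this, vmv_zero, vmv_zero, add_zero]
    have hYX : Ys P.ω * Xmat P.ω =
        vecMulVec e3v e3v + vecMulVec e3v f3v + vecMulVec f3v f3v := by
      unfold Ys Xmat
      rw [Matrix.add_mul, Matrix.mul_add, Matrix.mul_add, vecMulVec_mul_vecMulVec,
        vecMulVec_mul_vecMulVec, vecMulVec_mul_vecMulVec, vecMulVec_mul_vecMulVec,
        single_one_dotProduct, single_one_dotProduct, dotProduct_single_one,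
        onev_dot_onev P.hcard]
      simp only [onev, Pi.single_eq_same, one_smul, zero_smul, vmv_zero, add_zero, zero_add]
    rw [hPX, hYS, hYX]
    simp only [Matrix.mul_zero, Matrix.zero_mul, add_zero, zero_add]
    rw [z1, fromBlocks_one]
  h2 := by
    rw [fromBlocks_multiply, P.h2, onev_sum, single_inr, ← Sum.elim_add_add, vmv_elim, vmv_elim,
      ← fromBlocks_one, fromBlocks_add, fromBlocks_add]
    have hXY : Xmat P.ω * Ys P.ω =
        vecMulVec (onev R) (Pi.single P.ω 1) + vecMulVec (Pi.single P.ω 1) (onev R) := by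
      unfold Ys Xmat
      rw [Matrix.add_mul, Matrix.mul_add, Matrix.mul_add, vecMulVec_mul_vecMulVec,
        vecMulVec_mul_vecMulVec, vecMulVec_mul_vecMulVec, vecMulVec_mul_vecMulVec,
        e3_dot_e3, e3_dot_f3, f3_dot_e3, f3_dot_f3]
      simp only [one_smul, zero_smul, vmv_zero, add_zero, zero_add]
    have hXZ : Xmat P.ω * Zs = vecMulVec (onev R) zf3 := by
      unfold Xmat
      rw [Matrix.add_mul, vecMulVec_mul, vecMulVec_mul, z3, z4, vmv_zero, add_zero]
    have hZY : Zmat * Ys P.ω = vecMulVec zf3 (onev R) := by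
      unfold Ys
      rw [Matrix.mul_add, mul_vecMulVec, mul_vecMulVec, z5, z6, zero_vmv, zero_add]
    rw [hXY, hXZ, hZY, z2, z7]
    congr 1
    · -- top left
      rw [vecMulVec_add (onev R), zero_vmv, add_zero, add_zero]
      have : ∀ a b c : Matrix R R K, 1 + (a + b) + c + (b + c) = 1 + a := by
        intro a b c
        have hb := add_self_K b
        have hc := add_self_K c
        calc 1 + (a + b) + c + (b + c) = 1 + a + (b + b) + (c + c) := by abel
          _ = 1 + a := by rw [hb, hc, add_zero, add_zero]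
      exact this _ _ _
    · simp only [Matrix.mul_zero, Matrix.zero_mul, zero_add, add_zero, zero_vmv, vmv_zero]
    · simp only [Matrix.mul_zero, Matrix.zero_mul, zero_add, add_zero, zero_vmv, vmv_zero]
      rw [← add_vecMulVec, z7]
    · simp only [Matrix.mul_zero, Matrix.zero_mul, zero_add, add_zero, zero_vmv, vmv_zero]
  h3 := by
    rw [onev_sum, vecMul_fromBlocks]
    simp only [Sum.elim_comp_inl, Sum.elim_comp_inr]
    rw [P.h3, vecMul_zero, add_zero, z8]
    unfold Xmat
    rw [vecMul_add, vecMul_vecMulVec, vecMul_vecMulVec, onev_dot_onev P.hcard, zero_smul, zero_add,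
      dotProduct_single_one]
    simp only [onev, one_smul]
    rw [add_self_K]
    funext x
    rcases x with x | x <;> rfl
  h4 := by
    rw [onev_sum, fromBlocks_mulVec]
    simp only [Sum.elim_comp_inl, Sum.elim_comp_inr]
    rw [P.h4, zero_mulVec, add_zero, z9]
    unfold Ys
    rw [add_mulVec, vecMulVec_mulVec, vecMulVec_mulVec, onev_dot_onev P.hcard,
      single_one_dotProduct]
    simp only [onev, op_smul_eq_smul, one_smul, zero_smul, add_zero]
    rw [add_self_K]
    funext x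
    rcases x with x | x <;> rfl
  h5 := by
    intro c
    rcases c with c | c
    · rfl
    · exact z10 c
  h6 := by
    intro c
    rcases c with c | c
    · rfl
    · exact z11 c
  key := by
    intro v
    rw [fromBlocks_mulVec, wt_sum_elim, zero_mulVec, zero_add, Nat.cast_add, ztable]
    have hX : Xmat P.ω *ᵥ (v ∘ Sum.inr) =
        (v (Sum.inr (Sum.inl 3))) • onev R + (v (Sum.inr (Sum.inr 3))) • Pi.single P.ω 1 := by
      unfold Xmat e3v f3v
      rw [add_mulVec, vecMulVec_mulVec, vecMulVec_mulVec, single_one_dotProduct,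
        single_one_dotProduct]
      simp only [op_smul_eq_smul, Function.comp_apply]
    have huω : (P.S *ᵥ (v ∘ Sum.inl)) P.ω = 0 := by
      simp only [Matrix.mulVec, dotProduct]
      apply Finset.sum_eq_zero
      intro c _
      rw [P.h5, zero_mul]
    have hk := P.key (v ∘ Sum.inl)
    have hle := wt_le ((P.S *ᵥ (v ∘ Sum.inl)) + Pi.single P.ω 1)
    rw [wt_add_single _ _ huω] at hle
    have hcard0 : ((Fintype.card R : ℕ) : ZMod 4) = 0 :=
      (ZMod.natCast_eq_zero_iff _ 4).2 P.hcard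
    have htop : ((wt (P.S *ᵥ (v ∘ Sum.inl) + Xmat P.ω *ᵥ (v ∘ Sum.inr)) : ℕ) : ZMod 4) =
        (if v (Sum.inr (Sum.inl 3)) = 0 then
          (if v (Sum.inr (Sum.inr 3)) = 0 then (2 : ZMod 4) * lift (Qc (v ∘ Sum.inl))
            else 2 * lift (Qc (v ∘ Sum.inl)) + 1)
          else (if v (Sum.inr (Sum.inr 3)) = 0 then 2 * lift (Qc (v ∘ Sum.inl))
            else -(2 * lift (Qc (v ∘ Sum.inl)) + 1))) := by
      rw [hX]
      rcases scalar_cases (v (Sum.inr (Sum.inl 3))) with ha | ha <;>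
        rcases scalar_cases (v (Sum.inr (Sum.inr 3))) with hb | hb
      · rw [ha, hb, zero_smul, zero_smul, add_zero, add_zero, if_pos rfl, if_pos rfl, hk]
      · rw [ha, hb, zero_smul, one_smul, zero_add, if_pos rfl, if_neg one_ne_zero,
          wt_add_single _ _ huω, Nat.cast_add, hk, Nat.cast_one]
      · rw [ha, hb, zero_smul, one_smul, add_zero, if_neg one_ne_zero, if_pos rfl, wt_add_one]
        exact cast_sub_wt _ _ P.hcard (wt_le _) _ hk
      · rw [ha, hb, one_smul, one_smul, if_neg one_ne_zero, if_neg one_ne_zero,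
          add_comm (onev R), ← add_assoc, wt_add_one, wt_add_single _ _ huω, Nat.cast_sub hle,
          hcard0, zero_sub, Nat.cast_add, hk, Nat.cast_one]
    rw [htop]
    exact finish_table _ _ _ _
  hcard := by
    rw [Fintype.card_sum, Fintype.card_fin]
    exact Dvd.dvd.add P.hcard (by norm_num)

end Step


def be0 : Fin 8 → K := ![1, 1, 1, 1, 0, 0, 0, 0]
def bf0 : Fin 8 → K := ![0, 0, 0, 1, 1, 1, 1, 0]
def be1 : Fin 8 → K := ![1, 1, 0, 0, 1, 1, 0, 0]
def bf1 : Fin 8 → K := ![1, 0, 1, 0, 1, 1, 0, 0]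
def be2 : Fin 8 → K := ![0, 1, 1, 0, 1, 0, 1, 0]
def bf2 : Fin 8 → K := ![0, 1, 1, 0, 0, 1, 1, 0]

def Bmat : Matrix (Fin 8) (Fin 3 ⊕ Fin 3) K :=
  fun y c => Sum.elim ![be0, be1, be2] ![bf0, bf1, bf2] c y
def Bs : Matrix (Fin 3 ⊕ Fin 3) (Fin 8) K :=
  fun c y => Sum.elim ![bf0, bf1, bf2] ![be0, be1, be2] c y

set_option maxRecDepth 100000 in
/-- the base pack for plus type: eight points -/
def basePlus : Pack (Fin 8) (Fin 3 ⊕ Fin 3) (Cfsg.quadFormPlus 3 K) where
  S := Bmat
  Pm := Bs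
  ω := 7
  h1 := by decide
  h2 := by decide
  h3 := by decide
  h4 := by decide
  h5 := by decide
  h6 := by decide
  key := by decide
  hcard := by decide

def mp : Fin 4 → K := ![1, 1, 0, 0]
def mr : Fin 4 → K := ![1, 0, 1, 0]

def Cmat : Matrix (Fin 4) ((Fin 0 ⊕ Fin 0) ⊕ Fin 2) K :=
  fun y c => Sum.elim (fun _ => 0) ![mp, mr] c y
def Cs : Matrix ((Fin 0 ⊕ Fin 0) ⊕ Fin 2) (Fin 4) K :=
  fun c y => Sum.elim (fun _ => 0) ![mr, mp] c y

set_option maxRecDepth 100000 in
/-- the base pack for minus type: four points -/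
def baseMinus : Pack (Fin 4) ((Fin 0 ⊕ Fin 0) ⊕ Fin 2) (Cfsg.quadFormMinus 0 K 1 1) where
  S := Cmat
  Pm := Cs
  ω := 3
  h1 := by decide
  h2 := by decide
  h3 := by decide
  h4 := by decide
  h5 := by decide
  h6 := by decide
  key := by decide
  hcard := by decide


section Compat

/-- regroup the coordinates after adding four hyperbolic pairs (plus type) -/
def plusEquiv (a : ℕ) : (Fin a ⊕ Fin a) ⊕ N ≃ Fin (a + 4) ⊕ Fin (a + 4) :=
  (Equiv.sumSumSumComm _ _ _ _).trans (Equiv.sumCongr finSumFinEquiv finSumFinEquiv)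

theorem plus_compat (a : ℕ) (v : Fin (a + 4) ⊕ Fin (a + 4) → K) :
    formSum (Cfsg.quadFormPlus a K) (v ∘ plusEquiv a) = Cfsg.quadFormPlus (a + 4) K v := by
  unfold formSum Cfsg.quadFormPlus
  rw [Fin.sum_univ_add]
  rfl

theorem qfp_cast {b b' : ℕ} (h : b = b') (v : Fin b' ⊕ Fin b' → K) :
    Cfsg.quadFormPlus b K (v ∘ Equiv.sumCongr (finCongr h) (finCongr h)) =
      Cfsg.quadFormPlus b' K v := by
  subst h
  rfl

/-- regroup the coordinates after adding four hyperbolic pairs (minus type) -/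
def minusEquiv (a : ℕ) :
    ((Fin a ⊕ Fin a) ⊕ Fin 2) ⊕ N ≃ (Fin (a + 4) ⊕ Fin (a + 4)) ⊕ Fin 2 :=
  ((Equiv.sumAssoc _ _ _).trans ((Equiv.sumCongr (Equiv.refl _) (Equiv.sumComm _ _)).trans
    (Equiv.sumAssoc _ _ _).symm)).trans (Equiv.sumCongr (plusEquiv a) (Equiv.refl _))

theorem minus_compat (a : ℕ) (v : (Fin (a + 4) ⊕ Fin (a + 4)) ⊕ Fin 2 → K) :
    formSum (Cfsg.quadFormMinus a K 1 1) (v ∘ minusEquiv a) =
      Cfsg.quadFormMinus (a + 4) K 1 1 v := by
  unfold formSum Cfsg.quadFormMinus Cfsg.quadFormPlus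
  rw [Fin.sum_univ_add]
  have : ∀ x y z : K, x + z + y = x + y + z := fun x y z => by ring
  rw [this]
  rfl

theorem qfm_cast {b b' : ℕ} (h : b = b') (v : (Fin b' ⊕ Fin b') ⊕ Fin 2 → K) :
    Cfsg.quadFormMinus b K 1 1
      (v ∘ Equiv.sumCongr (Equiv.sumCongr (finCongr h) (finCongr h)) (Equiv.refl _)) =
      Cfsg.quadFormMinus b' K 1 1 v := by
  subst h
  rfl

end Compat


section Induction

/-- change the form along a pointwise equality -/
def Pack.congr {R C : Type} [Fintype R] [DecidableEq R] [Fintype C] [DecidableEq C]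
    {Qc Qc' : (C → K) → K} (P : Pack R C Qc) (h : ∀ v, Qc v = Qc' v) : Pack R C Qc' :=
  { P with key := fun v => by rw [← h v]; exact P.key v }

theorem pack_plus (l : ℕ) : ∀ n m : ℕ, n = 8 * l + 8 → m = 4 * l + 3 →
    Nonempty (Pack (Fin n) (Fin m ⊕ Fin m) (Cfsg.quadFormPlus m K)) := by
  induction l with
  | zero =>
    intro n m hn hm
    subst hn hm
    exact ⟨basePlus⟩
  | succ l ih =>
    intro n m hn hm
    obtain ⟨P⟩ := ih (8 * l + 8) (4 * l + 3) rfl rfl
    have hm' : 4 * l + 3 + 4 = m := by omega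
    have hn' : 8 * l + 8 + 8 = n := by omega
    refine ⟨(P.step.reindex (finSumFinEquiv.trans (finCongr hn'))
      ((plusEquiv (4 * l + 3)).trans
        (Equiv.sumCongr (finCongr hm') (finCongr hm')))).congr ?_⟩
    intro v
    show formSum (Cfsg.quadFormPlus (4 * l + 3) K)
      ((v ∘ Equiv.sumCongr (finCongr hm') (finCongr hm')) ∘ plusEquiv (4 * l + 3)) = _
    rw [plus_compat, qfp_cast]

theorem pack_minus (l : ℕ) : ∀ n m : ℕ, n = 8 * l + 4 → m = 4 * l →
    Nonempty (Pack (Fin n) ((Fin m ⊕ Fin m) ⊕ Fin 2) (Cfsg.quadFormMinus m K 1 1)) := by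
  induction l with
  | zero =>
    intro n m hn hm
    subst hn hm
    exact ⟨baseMinus⟩
  | succ l ih =>
    intro n m hn hm
    obtain ⟨P⟩ := ih (8 * l + 4) (4 * l) rfl rfl
    have hm' : 4 * l + 4 = m := by omega
    have hn' : 8 * l + 4 + 8 = n := by omega
    refine ⟨(P.step.reindex (finSumFinEquiv.trans (finCongr hn'))
      ((minusEquiv (4 * l)).trans
        (Equiv.sumCongr (Equiv.sumCongr (finCongr hm') (finCongr hm')) (Equiv.refl _)))).congr ?_⟩
    intro v
    show formSum (Cfsg.quadFormMinus (4 * l) K 1 1)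
      ((v ∘ Equiv.sumCongr (Equiv.sumCongr (finCongr hm') (finCongr hm')) (Equiv.refl _)) ∘
        minusEquiv (4 * l)) = _
    rw [minus_compat, qfm_cast]

/-- `S_{8l+8}` embeds in `O⁺_{8l+6}(2)`. -/
theorem exists_hom_plus (n m l : ℕ) (hn : n = 8 * l + 8) (hm : m = 4 * l + 3) :
    ∃ φ : Perm (Fin n) →* ↥(Cfsg.isometryGroup K (Cfsg.quadFormPlus m K)),
      Function.Injective φ := by
  obtain ⟨P⟩ := pack_plus l n m hn hm
  have : Nonempty (Fin m ⊕ Fin m) := ⟨Sum.inl ⟨0, by omega⟩⟩
  exact ⟨toO P, toO_injective P (by rw [Fintype.card_fin]; omega)⟩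

/-- `S_{8l+4}` embeds in `O⁻_{8l+2}(2)`, `l ≥ 1`. -/
theorem exists_hom_minus (n m l : ℕ) (hl : 1 ≤ l) (hn : n = 8 * l + 4) (hm : m = 4 * l) :
    ∃ φ : Perm (Fin n) →* ↥(Cfsg.isometryGroup K (Cfsg.quadFormMinus m K 1 1)),
      Function.Injective φ := by
  obtain ⟨P⟩ := pack_minus l n m hn hm
  have : Nonempty ((Fin m ⊕ Fin m) ⊕ Fin 2) := ⟨Sum.inr 0⟩
  exact ⟨toO P, toO_injective P (by rw [Fintype.card_fin]; omega)⟩

end Induction

end Cfsg.Agent.Helper43.SymOrth
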